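import Mathlib
import Cfsg.Agent.Loc.TCKL2
import Cfsg.Agent.S1728
import Cfsg.Agent.S1787
import Cfsg.Agent.S0282

/-!
Thompson's core killing theorem for simple groups, from the classification of simple groups with
a proper 2-generated core.
-/

set_option autoImplicit false

namespace Cfsg.Agent.Loc.TCK

open Subgroup Cfsg.Agent.GT Cfsg.Agent.Inv.CS

universe u

theorem simpleCase : SimpleCase.{u} := by
  intro G _ _ _ hna S W h
  by_contra hW
  obtain ⟨V, hVS, hV⟩ := exists_four_le hna S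
  have hc : HasProperTwoGeneratedCore G := by
    refine ⟨fun h1 => hV.not_rank_one hVS ((PG.pRankLE_sylow_iff S).2 h1), S, fun e => ?_⟩
    exact normalizer_ne_top hna h.odd hW (top_le_iff.1 (e.ge.trans h.genCore_le))
  have key : IsLieTypeChar 2 G → False := fun hL =>
    hW (h.eq_bot_of_cores hV hVS (S1787.result hna (Or.inl hL)).2)
  rcases S1728.result hna hc with ⟨F, _, _, -, ⟨e⟩⟩ | h1 | ⟨F, _, _, n, hn, hF, ⟨e⟩⟩ | h1 | h1
  · exact hW (h.eq_bot_of_UI hna ((ui_psl F).of_equiv e))
  · exact key (by unfold IsLieTypeChar; simp [h1])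
  · have hch : CharP F 2 := by
      obtain ⟨p, hp⟩ := CharP.exists F
      obtain ⟨k, hpp, hk⟩ := FiniteField.card F p
      have : 2 ∣ p ^ (k : ℕ) := by
        rw [← hk, hF]
        exact dvd_pow (dvd_pow_self 2 (by omega)) two_ne_zero
      rwa [← (Nat.prime_dvd_prime_iff_eq Nat.prime_two hpp).1
        (Nat.prime_two.dvd_of_dvd_pow this)] at hp
    by_cases h2 : 2 ^ n = 2
    · rw [h2] at hF e
      have h3 := (S0282.result hF).2
      have : Group.IsSolvable G := solvable_of_solvable_injective (f := e.toMonoidHom) e.injective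
      exact hna ⟨⟨IsSimpleGroup.comm_iff_isSolvable.2 this⟩⟩
    · exact key (Or.inr (Or.inr (Or.inl ⟨F, _, _, hch, 3, 2 ^ n, hF, le_rfl,
        fun h3 => h2 h3.2, ⟨e⟩⟩)))
  · exact hW (h.eq_bot_of_cores hV hVS (cores_M11 h1))
  · exact hW (h.eq_bot_of_cores hV hVS (cores_J1 h1))

end Cfsg.Agent.Loc.TCK
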