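import Mathlib
import Cfsg.Agent.Loc.PUAm4

/-! The Chermak-Delgado lattice of a subgroup, inside an ambient group. -/

namespace Cfsg.Agent.Loc.PU

open Cfsg Cfsg.Agent.GT Cfsg.Agent.Loc.Mss Subgroup
open scoped commutatorElement Pointwise

variable {G : Type*} [Group G] {G' : Type*} [Group G']

/-- the measure of `X` relative to `S` -/
noncomputable def cdm (S X : Subgroup G) : ℕ := Nat.card X * Nat.card ↥(S ⊓ 𝐂[X])

/-- members of the Chermak-Delgado lattice of `S` -/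
def CD (S X : Subgroup G) : Prop := X ≤ S ∧ ∀ R ≤ S, cdm S R ≤ cdm S X

/-- self-dual members -/
structure SA (S A : Subgroup G) : Prop where
  cd : CD S A
  cent : S ⊓ 𝐂[A] = A

theorem cdm_map {f : G →* G'} (hf : Function.Injective f) (S X : Subgroup G) :
    cdm (S.map f) (X.map f) = cdm S X := by
  unfold cdm
  rw [card_map_of_injective hf, ← card_map_of_injective hf (K := S ⊓ 𝐂[X])]
  congr 3
  refine le_antisymm ?_ (le_inf (map_mono inf_le_left) (map_cent_le f inf_le_right))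
  rintro _ ⟨⟨s, hs, rfl⟩, h⟩
  refine ⟨s, ⟨hs, mem_cent.2 fun x hx => hf ?_⟩, rfl⟩
  rw [map_mul, map_mul]
  exact mem_cent.1 h _ (mem_map_of_mem f hx)

theorem cd_map_iff {f : G →* G'} (hf : Function.Injective f) {S X : Subgroup G} :
    CD (S.map f) (X.map f) ↔ CD S X := by
  refine and_congr (map_le_map_iff_of_injective hf) ⟨fun h R hR => ?_, fun h R hR => ?_⟩
  · simpa only [cdm_map hf] using h _ (map_mono hR)
  · obtain ⟨E, hE, rfl⟩ := exists_map_eq_of_le hR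
    simpa only [cdm_map hf] using h _ hE

theorem CD.cj {S X : Subgroup G} (h : CD S X) (g : G) : CD cj(g, S) cj(g, X) :=
  (cd_map_iff (cj_inj g)).2 h

theorem CD.cj_norm {S X : Subgroup G} (h : CD S X) {g : G} (hg : g ∈ 𝐍[S]) : CD S cj(g, X) :=
  cj_of_norm hg ▸ h.cj g

theorem SA.cj {S A : Subgroup G} (h : SA S A) (g : G) : SA cj(g, S) cj(g, A) :=
  ⟨h.cd.cj g, by rw [← cj_cent, ← cj_inf, h.cent]⟩

theorem SA.le {S A : Subgroup G} (h : SA S A) : A ≤ S := h.cd.1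

theorem SA.ab {S A : Subgroup G} (h : SA S A) : A ≤ 𝐂[A] := h.cent.ge.trans inf_le_right

theorem SA.mem {S A : Subgroup G} (h : SA S A) {x : G} (hx : x ∈ S) (hc : x ∈ 𝐂[A]) : x ∈ A :=
  h.cent.le ⟨hx, hc⟩

theorem SA.Z_le {S A : Subgroup G} (h : SA S A) : 𝐙[S] ≤ A :=
  (inf_le_inf_left _ (cent_anti h.le)).trans h.cent.le

theorem CD.of_le {S X Y : Subgroup G} (h : CD S X) (hY : Y ≤ S) (e : cdm S X ≤ cdm S Y) : CD S Y :=
  ⟨hY, fun R hR => (h.2 R hR).trans e⟩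

variable [Finite G]

theorem cd_top {R : Subgroup G} : CD ⊤ R ↔ IsCentralizerLarge R := by
  have e : ∀ R : Subgroup G, cdm ⊤ R = cdMeasure R := fun R => by
    unfold cdm cdMeasure; rw [top_inf_eq]
  refine ⟨fun h => isCentralizerLarge_of_le ?_, fun h => ⟨le_top, fun R _ => ?_⟩⟩
  · obtain ⟨Q, hQ⟩ := exists_isCentralizerLarge G
    rw [← isCentralizerLarge_iff.1 hQ, ← e, ← e]
    exact h.2 Q le_top
  · rw [e, e, isCentralizerLarge_iff.1 h]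
    exact cdMeasure_le_max R

theorem cd_sub {S : Subgroup G} {R : Subgroup S} : CD S (R.map S.subtype) ↔ IsCentralizerLarge R := by
  rw [← cd_top, ← cd_map_iff S.subtype_injective, map_subtype_top]

namespace CD
variable {S X Y : Subgroup G}

theorem sup (h : CD S X) (h' : CD S Y) : CD S (X ⊔ Y) := by
  obtain ⟨X, rfl⟩ := lift_sub h.1
  obtain ⟨Y, rfl⟩ := lift_sub h'.1
  rw [← Subgroup.map_sup]
  exact cd_sub.2 (cd_sup (cd_sub.1 h) (cd_sub.1 h'))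

theorem inf (h : CD S X) (h' : CD S Y) : CD S (X ⊓ Y) := by
  obtain ⟨X, rfl⟩ := lift_sub h.1
  obtain ⟨Y, rfl⟩ := lift_sub h'.1
  rw [← Subgroup.map_inf _ _ _ S.subtype_injective]
  exact cd_sub.2 (cd_inf (cd_sub.1 h) (cd_sub.1 h'))

theorem cent (h : CD S X) : CD S (S ⊓ 𝐂[X]) := by
  obtain ⟨X, rfl⟩ := lift_sub h.1
  rw [← map_subtype_cent]
  exact cd_sub.2 (cd_centralizer (cd_sub.1 h))

theorem cent_cent (h : CD S X) : S ⊓ 𝐂[S ⊓ 𝐂[X]] = X := by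
  obtain ⟨X, rfl⟩ := lift_sub h.1
  rw [← map_subtype_cent, ← map_subtype_cent, cd_centralizer_centralizer (cd_sub.1 h)]

theorem cent_inf (h : CD S X) (h' : CD S Y) : S ⊓ 𝐂[X ⊓ Y] = (S ⊓ 𝐂[X]) ⊔ (S ⊓ 𝐂[Y]) := by
  obtain ⟨X, rfl⟩ := lift_sub h.1
  obtain ⟨Y, rfl⟩ := lift_sub h'.1
  rw [← Subgroup.map_inf _ _ _ S.subtype_injective, ← map_subtype_cent, ← map_subtype_cent,
    ← map_subtype_cent, cd_centralizer_inf (cd_sub.1 h) (cd_sub.1 h'), Subgroup.map_sup]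

theorem mem_sup (h : CD S X) (h' : CD S Y) {x : G} (hx : x ∈ X ⊔ Y) :
    ∃ a ∈ X, ∃ b ∈ Y, a * b = x := by
  obtain ⟨X, rfl⟩ := lift_sub h.1
  obtain ⟨Y, rfl⟩ := lift_sub h'.1
  rw [← Subgroup.map_sup] at hx
  obtain ⟨x, hx, rfl⟩ := hx
  obtain ⟨a, ha, b, hb, rfl⟩ := (cd_coe_sup (cd_sub.1 h) (cd_sub.1 h')).le hx
  exact ⟨a, mem_map_of_mem _ ha, b, mem_map_of_mem _ hb, rfl⟩

/-- duality -/
theorem ge (h : CD S Y) (hX : X ≤ S) (e : S ⊓ 𝐂[Y] ≤ 𝐂[X]) : X ≤ Y :=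
  (le_inf hX (cent_comm e)).trans h.cent_cent.le

theorem Z_le (h : CD S X) : 𝐙[S] ≤ X :=
  h.ge inf_le_left (inf_le_left.trans (le_cent_Z S))

theorem ncl (h : CD S X) {N : Subgroup G} (hN : N ≤ 𝐍[S]) : CD S (ncl N X) := by
  unfold Mss.ncl
  rw [iSup]
  refine sSup_induction_of_nonempty (p := CD S) (fun A B => sup) ⟨_, 1, rfl⟩ ?_
  rintro _ ⟨g, rfl⟩
  exact h.cj_norm (hN g.2)

theorem sSup {s : Set (Subgroup G)} (hs : s.Nonempty) (h : ∀ X ∈ s, CD S X) : CD S (sSup s) :=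
  sSup_induction_of_nonempty (p := CD S) (fun _ _ => sup) hs h

variable {T : Subgroup G} (hT : CD S T) (hc : S ⊓ 𝐂[T] ≤ T)
include hT hc

theorem cent_T : S ⊓ 𝐂[T] = 𝐙[T] :=
  le_antisymm (le_inf hc inf_le_right) (inf_le_inf_right _ hT.1)

theorem cd_Z : CD S 𝐙[T] := hT.cent_T hc ▸ hT.cent

theorem cent_Z : S ⊓ 𝐂[𝐙[T]] = T := by rw [← hT.cent_T hc, hT.cent_cent]

theorem cent_eq (h : 𝐙[T] ≤ X) : S ⊓ 𝐂[X] = T ⊓ 𝐂[X] :=
  le_antisymm (le_inf ((inf_le_inf_left _ (cent_anti h)).trans (hT.cent_Z hc).le) inf_le_right)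
    (inf_le_inf_right _ hT.1)

theorem cdm_eq (h : 𝐙[T] ≤ X) : cdm S X = cdm T X := by
  unfold cdm; rw [hT.cent_eq hc h]

theorem up (h : CD T X) : CD S X := hT.of_le (h.1.trans hT.1) (by
  rw [hT.cdm_eq hc h.Z_le, hT.cdm_eq hc inf_le_left]
  exact h.2 T le_rfl)

theorem down (h : CD S X) (h1 : 𝐙[T] ≤ X) (h2 : X ≤ T) : CD T X := ⟨h2, fun R hR => by
  rw [← hT.cdm_eq hc h1]
  exact (Nat.mul_le_mul_left _ (card_le_of_le (inf_le_inf_right _ hT.1))).trans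
    (h.2 R (hR.trans hT.1))⟩

theorem sa_up {A : Subgroup G} (h : SA T A) : SA S A :=
  ⟨hT.up hc h.cd, by rw [hT.cent_eq hc h.Z_le, h.cent]⟩

end CD

end Cfsg.Agent.Loc.PU
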