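import Mathlib
import Cfsg.Agent.Loc.GNCD

/-! A pushing-up vertex whose Sylow subgroup is the top of its Chermak-Delgado lattice. -/

namespace Cfsg.Agent.Loc.PU

open Cfsg Cfsg.Agent.GT Cfsg.Agent.Loc.Mss Subgroup Matrix
open scoped commutatorElement MatrixGroups

set_option linter.unusedSectionVars false

universe u
variable {p : ℕ}

section gen
variable {G : Type*} [Group G]

/-- the elements fixing the coset `U x` -/
def cme (x : G) (U : Subgroup G) : Subgroup G where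
  carrier := {g | g ∈ 𝐍[U] ∧ ⁅g, x⁆ ∈ U}
  one_mem' := ⟨one_mem _, by simp⟩
  mul_mem' := by
    rintro a b ⟨ha, ha'⟩ ⟨hb, hb'⟩
    refine ⟨mul_mem ha hb, ?_⟩
    rw [commutatorElement_mul_left_eq_conj_mul]
    exact mul_mem (conj_mem_of_norm ha hb') ha'
  inv_mem' := by
    rintro a ⟨ha, ha'⟩
    refine ⟨inv_mem ha, ?_⟩
    convert conj_mem_of_norm' ha (inv_mem ha') using 1
    simp only [commutatorElement_def]; group

theorem ce_mem {A B : Subgroup G} {a b : G} (ha : a ∈ A) (hb : b ∈ B) : ⁅a, b⁆ ∈ ⁅A, B⁆ :=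
  commutator_mem_commutator ha hb

theorem ce_mem' {A B : Subgroup G} {a b : G} (ha : a ∈ A) (hb : b ∈ B) : ⁅b, a⁆ ∈ ⁅A, B⁆ :=
  commutator_comm B A ▸ commutator_mem_commutator hb ha

theorem ce_symm {U : Subgroup G} {a b : G} (h : ⁅a, b⁆ ∈ U) : ⁅b, a⁆ ∈ U :=
  commutatorElement_inv a b ▸ inv_mem h

theorem ce_one {A : Subgroup G} {a b : G} (ha : a ∈ A) (hb : b ∈ 𝐂[A]) : ⁅a, b⁆ = 1 :=
  commutatorElement_eq_one_iff_mul_comm.2 (mem_cent.1 hb a ha)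

theorem ce_one' {A : Subgroup G} {a b : G} (ha : a ∈ A) (hb : b ∈ 𝐂[A]) : ⁅b, a⁆ = 1 :=
  commutatorElement_eq_one_iff_mul_comm.2 (mem_cent.1 hb a ha).symm

theorem ce_mul_left {a b c : G} (h : ⁅b, c⁆ = 1) : ⁅a * b, c⁆ = ⁅a, c⁆ := by
  rw [commutatorElement_mul_left_eq_conj_mul, h]; group

theorem ce_mul_right {a b c : G} (h : ⁅a, c⁆ = 1) : ⁅a, b * c⁆ = ⁅a, b⁆ := by
  rw [commutatorElement_mul_right_eq_mul_conj, h]; group

theorem ce_mul_right' {a b c : G} (h : ⁅a, b⁆ = 1) : ⁅a, b * c⁆ = b * ⁅a, c⁆ * b⁻¹ := by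
  rw [commutatorElement_mul_right_eq_mul_conj, h]; group

theorem ce_conj (g a b : G) : g * ⁅a, b⁆ * g⁻¹ = ⁅g * a * g⁻¹, g * b * g⁻¹⁆ := by
  simp only [commutatorElement_def]; group

theorem conj_of_ce {g a : G} (h : ⁅g, a⁆ = 1) : g * a * g⁻¹ = a := by
  rw [commutatorElement_eq_one_iff_mul_comm.1 h]; group

theorem le_of_cmod_le [Finite G] [Fact p.Prime] {E N : Subgroup G} (hE : IsPGroup p E)
    (hn : E ≤ 𝐍[N]) (h : E ⊓ cmod E N ≤ N) : E ≤ N := by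
  by_contra h1
  obtain ⟨n, h2⟩ := PG.exists_iterCommutator_eq_bot_of_isPGroup hE hE le_normalizer
  obtain ⟨x, hx, h3, h4⟩ := PG.exists_notMem_commutator_mem_of_iterCommutator h2 le_normalizer h1
  exact h3 (h ⟨hx, hn hx, fun v hv => ce_symm (h4 v hv)⟩)

end gen

variable {G : Type u} [Group G]

/-- a vertex with a Sylow subgroup that is the top of its Chermak-Delgado lattice -/
structure VS (p : ℕ) (L S : Subgroup G) : Prop where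
  ex : ∃ q M, PUD p q L S M ∧ ∃ (K : Type u) (_ : Field K) (ρ : G → SL(2, K))
    (φ : G → Fin 2 → K), FFD p q L S ρ φ
  top : CD S S

variable [Finite G] [Fact p.Prime]

theorem FFD.cj_mem {q : ℕ} {L S : Subgroup G} {K : Type*} [Field K] {ρ : G → SL(2, K)}
    {φ : G → Fin 2 → K} (D : FFD p q L S ρ φ) {g : G} (hg : g ∈ L) :
    FFD p q L cj(g, S) (fun x => ρ (g⁻¹ * x * g)) (fun x => φ (g⁻¹ * x * g)) := by
  have := D.nat.cj g
  rw [cj_of_mem hg, cj_of_norm (le_norm_V L hg), cj_Z, cj_Z, cj_of_mem hg] at this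
  refine ⟨this, fun s hs => (D.ker _ (mem_cj.1 hs)).trans ?_, D.card⟩
  rw [← mem_cj, cj_of_norm (le_norm_core L hg)]

namespace VS
variable {L S : Subgroup G} (h : VS p L S)
include h

local notation "T" => 𝐎[p, L]
local notation "V" => 𝐕[p, L]

theorem cj_mem {g : G} (hg : g ∈ L) : VS p L cj(g, S) := by
  obtain ⟨q, M, P, K, _, ρ, φ, D⟩ := h.ex
  have := P.cj g
  rw [cj_of_mem hg] at this
  exact ⟨⟨q, _, this, K, _, _, _, D.cj_mem hg⟩, h.top.cj g⟩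

omit [Finite G] [Fact p.Prime] in
theorem syl : Syl p S L := let ⟨_, _, P, _⟩ := h.ex; P.syl

omit [Finite G] [Fact p.Prime] in
theorem le : S ≤ L := h.syl.le

theorem TS : T ≤ S := h.syl.core_le

theorem VS' : V ≤ S := (V_le_core L).trans h.TS

omit [Finite G] [Fact p.Prime] in
theorem centT : S ⊓ 𝐂[T] ≤ T :=
  let ⟨_, _, P, _⟩ := h.ex
  P.chp.le_core (inf_le_left.trans P.syl.le) inf_le_right

theorem cdT : CD S T := by
  obtain ⟨q, M, P, K, _, ρ, φ, D⟩ := h.ex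
  refine h.top.of_le h.TS (le_of_eq ?_)
  unfold cdm
  rw [show S ⊓ 𝐂[T] = V from le_antisymm (le_inf h.centT inf_le_right) (inf_le_inf_right _ h.TS),
    D.card_V, P.card]
  ring

theorem cdV : CD S V := h.cdT.cd_Z h.centT

theorem cent_V : S ⊓ 𝐂[V] = T := h.cdT.cent_Z h.centT

theorem cent_T : S ⊓ 𝐂[T] = V := h.cdT.cent_T h.centT

theorem up {X : Subgroup G} (hX : CD T X) : CD S X := h.cdT.up h.centT hX

theorem down {X : Subgroup G} (hX : CD S X) (h1 : V ≤ X) (h2 : X ≤ T) : CD T X :=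
  h.cdT.down h.centT hX h1 h2

theorem topT : CD T T := h.down h.cdT (V_le_core L) le_rfl

theorem Z_le : 𝐙[S] ≤ V := let ⟨_, _, P, _⟩ := h.ex; P.Z_le

theorem ZL_le : 𝐙[L] ≤ 𝐙[S] := let ⟨_, _, P, _⟩ := h.ex; P.ZL_le

omit [Finite G] [Fact p.Prime] in
theorem ab : ⁅S, S⁆ ≤ T := let ⟨_, _, P, _⟩ := h.ex; P.ab

theorem pow_mem {s : G} (hs : s ∈ S) : s ^ p ∈ T :=
  let ⟨_, _, _, _, _, _, _, D⟩ := h.ex; D.pow_mem_core hs

omit [Finite G] [Fact p.Prime] in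
theorem comm_le : ⁅V, S⁆ ≤ 𝐙[S] := let ⟨_, _, _, _, _, _, _, D⟩ := h.ex; D.nat.comm_le_X

theorem memZ {s v : G} (hs : s ∈ S) (hT : s ∉ T) (hv : v ∈ V) (e : ⁅s, v⁆ ∈ 𝐙[L]) : v ∈ 𝐙[S] :=
  let ⟨_, _, _, _, _, _, _, D⟩ := h.ex; D.mem_Z_of_comm hs hT hv e

theorem inf_V {X : Subgroup G} (hX : X ≤ S) (hT : ¬ X ≤ T) : V ⊓ 𝐂[X] ≤ 𝐙[S] :=
  let ⟨_, _, _, _, _, _, _, D⟩ := h.ex; D.inf_cent_le hX hT

theorem res_le {Y N : Subgroup G} (hY : Y ≤ S) (h0 : ¬ Y ≤ T) (hN : Y ≤ N) (hn : L ≤ 𝐍[N]) :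
    𝐑[p, L] ≤ N := let ⟨_, _, P, _⟩ := h.ex; P.res_le hY h0 hN hn

theorem ZL {X : Subgroup G} (h1 : X ≤ 𝐙[S]) (h2 : X ≤ 𝐂[𝐑[p, L]]) : X ≤ 𝐙[L] :=
  le_inf ((h1.trans inf_le_left).trans h.le) (cent_comm (h.syl.le_of_res_le (cent_comm h2)
    (cent_comm (h1.trans inf_le_right))))

theorem powV (hZ : ∀ z ∈ 𝐙[S], z ^ p = 1) {v : G} (hv : v ∈ V) : v ^ p = 1 := by
  obtain ⟨q, M, P, K, _, ρ, φ, D⟩ := h.ex
  obtain ⟨z, hz, e⟩ := D.mho_V_le P hv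
  rw [← e, hZ z hz]

theorem sup_T {X : Subgroup G} (hX : CD S X) (hT : ¬ X ≤ T) : X ⊔ T = S :=
  le_antisymm (sup_le hX.1 h.TS) ((hX.sup h.cdT).ge le_rfl (by
    rw [cent_sup, inf_comm 𝐂[X], ← inf_assoc, h.cent_T]
    exact (h.inf_V hX.1 hT).trans inf_le_right))

theorem V_eq {S' : Subgroup G} (h' : VS p L S') (e : L ≤ S ⊔ S') : 𝐙[S] ⊔ 𝐙[S'] = V := by
  obtain ⟨q, M, P, K, _, ρ, φ, D⟩ := h.ex
  have h1 := sup_le h.Z_le h'.Z_le
  refine (D.nat.irred (h.ZL_le.trans le_sup_left) h1 (e.trans (sup_le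
    (norm_of_comm_le h1 (h.comm_le.trans le_sup_left))
    (norm_of_comm_le h1 (h'.comm_le.trans le_sup_right))))).resolve_left fun e => ?_
  exact D.nat.not_X_le (le_sup_left.trans e.le)

variable {A : Subgroup G} (hA : SA S A)
include hA

omit [Finite G] [Fact p.Prime] in
theorem A_norm_V : A ≤ 𝐍[V] := (hA.le.trans h.le).trans (le_norm_V L)

theorem cent_AT : S ⊓ 𝐂[A ⊓ T] = A ⊔ V := by rw [hA.cd.cent_inf h.cdT, hA.cent, h.cent_T]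

omit [Finite G] [Fact p.Prime] in
theorem AV_inf : (A ⊔ V) ⊓ T = (A ⊓ T) ⊔ V := by
  rw [sup_comm, dedekind (h.A_norm_V hA) (V_le_core L), sup_comm]

theorem star : SA T ((A ⊓ T) ⊔ V) := by
  refine ⟨h.down ((hA.cd.inf h.cdT).sup h.cdV) le_sup_right (sup_le inf_le_right (V_le_core L)), ?_⟩
  rw [cent_sup, ← h.AV_inf hA, ← h.cent_AT hA]
  exact le_antisymm (le_inf (le_inf (inf_le_left.trans h.TS) (inf_le_right.trans inf_le_left))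
    inf_le_left) (le_inf inf_le_right (le_inf (inf_le_left.trans inf_le_right)
      (inf_le_right.trans (core_le_cent_V L))))

theorem star' : SA S ((A ⊓ T) ⊔ V) := h.cdT.sa_up h.centT (h.star hA)

omit [Finite G] [Fact p.Prime] in
theorem mem_star {b : G} (hb : b ∈ (A ⊓ T) ⊔ V) : ∃ d ∈ A ⊓ T, ∃ v ∈ V, d * v = b :=
  (mem_sup_norm' (inf_le_left.trans (h.A_norm_V hA))).1 hb

theorem ce_star {a b : G} (ha : a ∈ A) (hb : b ∈ (A ⊓ T) ⊔ V) : ∃ v ∈ V, ⁅a, b⁆ = ⁅a, v⁆ ∧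
    (v ∈ 𝐙[S] → b ∈ A) := by
  obtain ⟨d, hd, v, hv, rfl⟩ := h.mem_star hA hb
  refine ⟨v, hv, ?_, fun h1 => mul_mem hd.1 (hA.Z_le h1)⟩
  rw [ce_mul_right' (ce_one ha (hA.ab hd.1)),
    conj_of_ce (ce_one (h.TS hd.2) (h.comm_le (ce_mem' hv (hA.le ha))).2)]

theorem ce_mem_Z {a b : G} (ha : a ∈ A) (hb : b ∈ (A ⊓ T) ⊔ V) : ⁅a, b⁆ ∈ 𝐙[S] := by
  obtain ⟨v, hv, e, -⟩ := h.ce_star hA ha hb
  exact e ▸ h.comm_le (ce_mem' hv (hA.le ha))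

theorem memA {a b : G} (ha : a ∈ A) (hT : a ∉ T) (hb : b ∈ (A ⊓ T) ⊔ V) (e : ⁅a, b⁆ ∈ 𝐙[L]) :
    b ∈ A := by
  obtain ⟨v, hv, e1, h1⟩ := h.ce_star hA ha hb
  exact h1 (h.memZ (hA.le ha) hT hv (e1 ▸ e))

theorem V_inf_A (hT : ¬ A ≤ T) : V ⊓ A ≤ 𝐙[S] :=
  (inf_le_inf_left _ hA.ab).trans (h.inf_V hA.le hT)

end VS

end Cfsg.Agent.Loc.PU
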