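import Mathlib
import Cfsg.Agent.Loc.GNVs

/-! Two conjugate large abelian subgroups generating a pushing-up vertex modulo its core. -/

namespace Cfsg.Agent.Loc.PU

open Cfsg Cfsg.Agent.GT Cfsg.Agent.Loc.Mss Subgroup Matrix
open scoped commutatorElement MatrixGroups

set_option linter.unusedSectionVars false
set_option linter.unusedVariables false

universe u
variable {p : ℕ} {G : Type u} [Group G]

structure Pr (p : ℕ) (L S A B S' A' B' D₀ D E L₀ : Subgroup G) : Prop where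
  v : VS p L S
  v' : VS p L S'
  sa : SA S A
  sa' : SA S' A'
  nle : ¬ A ≤ 𝐎[p, L]
  nle' : ¬ A' ≤ 𝐎[p, L]
  hB : (A ⊓ 𝐎[p, L]) ⊔ 𝐕[p, L] = B
  hB' : (A' ⊓ 𝐎[p, L]) ⊔ 𝐕[p, L] = B'
  hD₀ : A ⊓ A' = D₀
  hD : B ⊓ B' = D
  hE : B ⊔ B' = E
  hL₀ : A ⊔ A' = L₀
  gen : ∀ a ∈ A, a ∉ 𝐎[p, L] → L₀ ≤ zpowers a ⊔ A'
  gen' : ∀ a ∈ A', a ∉ 𝐎[p, L] → L₀ ≤ zpowers a ⊔ A
  sup : L₀ ⊔ 𝐎[p, L] = L
  conj : ∃ g ∈ L₀, cj(g, A) = A'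

variable [Finite G] [Fact p.Prime]

theorem VS.exists_pr {L S A : Subgroup G} (h : VS p L S) (hA : SA S A) (hT : ¬ A ≤ 𝐎[p, L]) :
    ∃ S' A' B' D₀ D E L₀, Pr p L S A ((A ⊓ 𝐎[p, L]) ⊔ 𝐕[p, L]) S' A' B' D₀ D E L₀ := by
  obtain ⟨q, M, P, -⟩ := h.ex
  obtain ⟨g₀, hg₀, hM₀, -⟩ := P.exists_gen
  obtain ⟨g₁, ⟨hg₁, hM₁⟩, hmin⟩ := Set.exists_min_image {g | g ∈ L ∧ g ∉ M}
    (fun g => Nat.card ↥(A ⊔ cj(g, A))) (Set.toFinite _) ⟨g₀, hg₀, hM₀⟩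
  have hAL := hA.le.trans h.le
  have sup : ∀ g ∈ L, g ∉ M → A ⊔ cj(g, A) ⊔ 𝐎[p, L] = L := fun g hg hM => by
    have e := h.sup_T hA.cd hT
    refine le_antisymm (sup_le (sup_le hAL (cj_le_of_mem hAL hg)) (h.TS.trans h.le))
      ((P.umax.sup_cj P.gen hg hM).ge.trans (sup_le (e.ge.trans
        (sup_le_sup_right le_sup_left _)) ?_))
    rw [← e, cj_sup, cj_of_norm (le_norm_core L hg)]
    exact sup_le_sup_right le_sup_right _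
  have key : ∀ x ∈ A ⊔ cj(g₁, A), x ∉ M → A ⊔ cj(x, A) = A ⊔ cj(g₁, A) := fun x hx hM => by
    have h1 : A ⊔ cj(x, A) ≤ A ⊔ cj(g₁, A) := sup_le le_sup_left (cj_le_of_mem le_sup_left hx)
    exact eq_of_le_of_card_ge h1 (hmin x ⟨sup_le hAL (cj_le_of_mem hAL hg₁) hx, hM⟩)
  obtain ⟨g, hg, hM⟩ : ∃ g ∈ A ⊔ cj(g₁, A), g ∉ M := by
    by_contra! h1
    exact P.umax.2.1.not_ge ((sup g₁ hg₁ hM₁).ge.trans (sup_le h1 (h.TS.trans P.umax.1)))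
  have hgL : g ∈ L := sup_le hAL (cj_le_of_mem hAL hg₁) hg
  have e0 := key g hg hM
  rw [← e0] at key hg
  have key' : ∀ x ∈ A ⊔ cj(g, A), x ∉ M → A ⊔ cj(g, A) ≤ zpowers x ⊔ A := fun x hx hM =>
    (key x hx hM).ge.trans (sup_le le_sup_right
      (cj_le_of_mem le_sup_right (mem_sup_left (mem_zpowers x))))
  refine ⟨_, _, _, _, _, _, _, h, h.cj_mem hgL, hA, hA.cj g, hT, fun h1 => hT ?_, rfl, rfl, rfl, rfl,
    rfl, rfl, fun a ha haT => ?_, fun a ha haT => key' a (mem_sup_right ha) fun h1 => haT ?_,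
    sup g hgL hM, g, hg, rfl⟩
  · rwa [← cj_of_norm (le_norm_core (p := p) L hgL), cj_le_cj] at h1
  · have := cj_mono g (key' (g⁻¹ * a * g) (mul_mem (mul_mem (inv_mem hg) (mem_sup_left ha)) hg)
      fun h1 => haT (P.ti g hgL hM a (hA.le ha) h1))
    rwa [cj_of_mem hg, cj_sup, MonoidHom.map_zpowers, show (MulEquiv.toMonoidHom (MulAut.conj g))
      (g⁻¹ * a * g) = a by simp [mul_assoc]] at this
  · have := P.ti g⁻¹ (inv_mem hgL) (fun h2 => hM (inv_mem_iff.1 h2)) _ (hA.le (mem_cj.1 ha))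
      (by simpa [mul_assoc] using h1)
    simpa [mul_assoc] using conj_mem_of_norm (le_norm_core L hgL) this

namespace Pr
variable {L S A B S' A' B' D₀ D E L₀ : Subgroup G} (h : Pr p L S A B S' A' B' D₀ D E L₀)
include h

local notation "T" => 𝐎[p, L]
local notation "V" => 𝐕[p, L]

theorem symm : Pr p L S' A' B' S A B D₀ D E L₀ :=
  ⟨h.v', h.v, h.sa', h.sa, h.nle', h.nle, h.hB', h.hB, by rw [inf_comm, h.hD₀],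
    by rw [inf_comm, h.hD], by rw [sup_comm, h.hE], by rw [sup_comm, h.hL₀], h.gen', h.gen, h.sup,
    let ⟨g, h1, h2⟩ := h.conj; ⟨g⁻¹, inv_mem h1, by rw [← h2, cj_inv_cj]⟩⟩

theorem saB : SA T B := h.hB ▸ h.v.star h.sa

theorem BT : B ≤ T := h.saB.le

theorem VB : V ≤ B := le_sup_right.trans h.hB.le

theorem ATB : A ⊓ T ≤ B := le_sup_left.trans h.hB.le

theorem abB : B ≤ 𝐂[B] := h.saB.ab

theorem AL₀ : A ≤ L₀ := le_sup_left.trans h.hL₀.le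

theorem L₀L : L₀ ≤ L := le_sup_left.trans h.sup.le

theorem L₀_le {X : Subgroup G} (h1 : A ≤ X) (h2 : A' ≤ X) : L₀ ≤ X := h.hL₀.ge.trans (sup_le h1 h2)

theorem L_le {X : Subgroup G} (h1 : L₀ ≤ X) (h2 : T ≤ X) : L ≤ X := h.sup.ge.trans (sup_le h1 h2)

theorem E_le {X : Subgroup G} (h1 : B ≤ X) (h2 : B' ≤ X) : E ≤ X := h.hE.ge.trans (sup_le h1 h2)

theorem BE : B ≤ E := le_sup_left.trans h.hE.le

theorem ET : E ≤ T := h.E_le h.BT h.symm.BT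

theorem DB : D ≤ B := h.hD.ge.trans inf_le_left

theorem le_D {X : Subgroup G} (h1 : X ≤ B) (h2 : X ≤ B') : X ≤ D := (le_inf h1 h2).trans h.hD.le

theorem VD : V ≤ D := h.le_D h.VB h.symm.VB

theorem DE : D ≤ E := h.DB.trans h.BE

theorem D₀A : D₀ ≤ A := h.hD₀.ge.trans inf_le_left

theorem le_D₀ {X : Subgroup G} (h1 : X ≤ A) (h2 : X ≤ A') : X ≤ D₀ :=
  (le_inf h1 h2).trans h.hD₀.le

theorem AT : A ⊔ T = S := h.v.sup_T h.sa.cd h.nle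

theorem le_SS : L ≤ S ⊔ S' := h.L_le (h.L₀_le (h.sa.le.trans le_sup_left)
  (h.sa'.le.trans le_sup_right)) (h.v.TS.trans le_sup_left)

theorem V_eq : 𝐙[S] ⊔ 𝐙[S'] = V := h.v.V_eq h.v' h.le_SS

theorem ZA' : 𝐙[S] ⊓ A' ≤ 𝐙[L] := fun _ hx =>
  ⟨h.v.le hx.1.1, cent_anti h.le_SS (cent_sup S S' ▸
    ⟨hx.1.2, (h.v'.V_inf_A h.sa' h.nle' ⟨h.v.Z_le hx.1, hx.2⟩).2⟩)⟩

theorem ZL_D₀ : 𝐙[L] ≤ D₀ :=
  h.le_D₀ (h.v.ZL_le.trans h.sa.Z_le) (h.v'.ZL_le.trans h.sa'.Z_le)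

theorem ceZ {a b : G} (ha : a ∈ A) (hb : b ∈ B) : ⁅a, b⁆ ∈ 𝐙[S] :=
  h.v.ce_mem_Z h.sa ha (h.hB.ge hb)

theorem memA {a b : G} (ha : a ∈ A) (hT : a ∉ T) (hb : b ∈ B) (e : ⁅a, b⁆ ∈ A') : b ∈ A :=
  h.v.memA h.sa ha hT (h.hB.ge hb) (h.ZA' ⟨h.ceZ ha hb, e⟩)

theorem memB {b : G} (hb : b ∈ B) : ∃ d ∈ A ⊓ T, ∃ v ∈ V, d * v = b :=
  h.v.mem_star h.sa (h.hB.ge hb)

theorem memE {x : G} (hx : x ∈ E) : ∃ b ∈ B, ∃ b' ∈ B', b * b' = x :=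
  h.saB.cd.mem_sup h.symm.saB.cd (h.hE.ge hx)

theorem exists_a : ∃ a ∈ A, a ∉ T := SetLike.not_le_iff_exists.1 h.nle

theorem cent_D₀ : L₀ ≤ 𝐂[D₀] :=
  h.L₀_le (h.sa.ab.trans (cent_anti h.D₀A)) (h.sa'.ab.trans (cent_anti h.symm.D₀A))

theorem D₀T : D₀ ≤ T := fun d hd => by
  by_contra h1
  have h2 : L ≤ S' := h.L_le ((h.gen d (h.D₀A hd) h1).trans
    ((sup_le (zpowers_le.2 (h.symm.D₀A hd)) le_rfl).trans h.sa'.le)) h.v'.TS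
  exact h.nle (h.sa.le.trans (h.v.le.trans (le_core_of_subnormal (SubnormalIn.refl L)
    (h.v'.syl.pg.to_le h2))))

theorem D₀D : D₀ ≤ D :=
  h.le_D ((le_inf h.D₀A h.D₀T).trans h.ATB) ((le_inf h.symm.D₀A h.D₀T).trans h.symm.ATB)

theorem D_eq : V ⊔ D₀ = D := by
  refine le_antisymm (sup_le h.VD h.D₀D) fun x hx => ?_
  obtain ⟨d, hd, v, hv, rfl⟩ := h.memB (h.DB hx)
  obtain ⟨d', hd', v', hv', e⟩ := h.symm.memB (h.symm.DB hx)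
  obtain ⟨z, hz, z', hz', e'⟩ := (mem_sup_norm (h.v'.Z_le.trans
    (h.v.VS'.trans (norm_Z le_normalizer)))).1 (h.V_eq.ge (mul_mem hv (inv_mem hv')))
  have h1 : d * z ∈ D₀ := h.hD₀.le ⟨mul_mem hd.1 (h.sa.Z_le hz), by
    rw [show d * z = d' * z'⁻¹ by
      rw [eq_mul_inv_iff_mul_eq, mul_assoc, e', ← mul_assoc, ← e, mul_inv_cancel_right]]
    exact A'.mul_mem hd'.1 (inv_mem (h.sa'.Z_le hz'))⟩
  rw [show d * v = d * z * (z⁻¹ * v) by group]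
  exact mul_mem (mem_sup_right h1) (mem_sup_left (mul_mem (inv_mem (h.v.Z_le hz)) hv))

theorem cdD : CD T D := h.hD ▸ h.saB.cd.inf h.symm.saB.cd

theorem cdE : CD T E := h.hE ▸ h.saB.cd.sup h.symm.saB.cd

theorem cent_D : T ⊓ 𝐂[D] = E := by
  rw [← h.hD, h.saB.cd.cent_inf h.symm.saB.cd, h.saB.cent, h.symm.saB.cent, h.hE]

theorem E_cent_D : E ≤ 𝐂[D] := h.cent_D.ge.trans inf_le_right

theorem cent_D₀' : T ⊓ 𝐂[D₀] = E := by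
  rw [← h.cent_D, ← h.D_eq, cent_sup, ← inf_assoc, inf_eq_left.2 (core_le_cent_V L)]

theorem norm_of_le_D {X : Subgroup G} (h1 : V ≤ X) (h2 : X ≤ D) : L₀ ≤ 𝐍[X] := by
  refine norm_of_comm_le h2 (le_trans ?_ h1)
  rw [← h.D_eq, sup_cent_comm ((h.D₀A.trans h.AL₀).trans (h.L₀L.trans (le_norm_V L)))
    (cent_comm h.cent_D₀)]
  exact comm_le_left (h.L₀L.trans (le_norm_V L))

theorem norm_D : L₀ ≤ 𝐍[D] := h.norm_of_le_D h.VD le_rfl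

theorem norm_T : L₀ ≤ 𝐍[T] := h.L₀L.trans (le_norm_core L)

theorem norm_E : L₀ ≤ 𝐍[E] := h.cent_D ▸ norm_inf h.norm_T (norm_cent h.norm_D)

theorem E_norm_D : E ≤ 𝐍[D] := norm_of_cent h.E_cent_D

theorem conjB : ∃ g ∈ L₀, cj(g, A) = A' ∧ cj(g, B) = B' := by
  obtain ⟨g, h1, h2⟩ := h.conj
  exact ⟨g, h1, h2, by rw [← h.hB, ← h.hB', cj_sup, cj_inf, h2, cj_of_norm (h.norm_T h1),
    cj_of_norm (le_norm_V L (h.L₀L h1))]⟩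

theorem fix₀ {x : G} (hx : x ∈ B') (h1 : L₀ ≤ cme x D) : x ∈ D := by
  obtain ⟨g, hg, -, e⟩ := h.conjB
  refine h.hD.le ⟨?_, hx⟩
  have := mul_mem (inv_mem (h.DB (h1 (inv_mem hg)).2)) (mem_cj.1 (e.ge hx))
  simpa [commutatorElement_def, mul_assoc] using this

theorem fix {a x : G} (ha : a ∈ A) (hT : a ∉ T) (hx : x ∈ B') (e : ⁅a, x⁆ ∈ D) : x ∈ D :=
  h.fix₀ hx ((h.gen a ha hT).trans (sup_le (zpowers_le.2 ⟨h.norm_D (h.AL₀ ha), e⟩) fun _ ha' =>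
    ⟨h.norm_D (h.symm.AL₀ ha'), h.VD (h.v'.Z_le (h.symm.ceZ ha' hx))⟩))

theorem fixE {a x : G} (ha : a ∈ A) (hT : a ∉ T) (hx : x ∈ E) (e : ⁅a, x⁆ ∈ D) : x ∈ B := by
  obtain ⟨b, hb, b', hb', rfl⟩ := h.memE hx
  refine mul_mem hb (h.DB (h.fix ha hT hb' ?_))
  rw [commutatorElement_mul_right_eq_mul_conj] at e
  have := conj_mem_of_norm' (h.E_norm_D (h.BE hb))
    (mul_mem (inv_mem (h.VD (h.v.Z_le (h.ceZ ha hb)))) e)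
  convert this using 1
  group

section step
variable {N₀ P N : Subgroup G} (h0 : N₀ ≤ P) (hP : P ≤ N) (c : ⁅N, E⁆ ≤ N₀)
  (iii : ∀ n ∈ P, ∀ a ∈ A', a ∉ 𝐎[p, L] → ⁅a, n⁆ ∈ P → n ∈ N₀)
include iii

theorem good {x : G} (hx : x ∈ B') (hg : ∀ b ∈ B, ⁅b, x⁆ ∈ P) {b : G} (hb : b ∈ B) :
    ⁅b, x⁆ ∈ N₀ := by
  obtain ⟨a, ha, hT⟩ := h.symm.exists_a
  refine iii _ (hg b hb) a ha hT ?_
  obtain ⟨b₂, h2, b₂', h3, e⟩ := h.memE (conj_mem_of_norm (h.norm_E (h.symm.AL₀ ha)) (h.BE hb))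
  have h4 := h.v'.Z_le (h.symm.ceZ ha hx)
  rw [commutatorElement_def a, ce_conj, ← e, show a * x * a⁻¹ = ⁅a, x⁆ * x by
    simp [commutatorElement_def], ce_mul_right' (ce_one (mul_mem (h.BT h2) (h.symm.BT h3)) h4.2),
    ce_mul_left (ce_one h3 (h.symm.abB hx)),
    conj_of_ce (ce_one' (comm_le_left le_normalizer (ce_mem (h.BT h2) (h.symm.BT hx))) h4.2)]
  exact mul_mem (hg _ h2) (inv_mem (hg b hb))

include h0 hP c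

theorem step (i : ∀ n ∈ N, ∀ a ∈ A, ⁅a, n⁆ ∈ P)
    (ii : ∀ n ∈ N, ∀ a ∈ A, a ∉ 𝐎[p, L] → ⁅a, n⁆ ∈ N₀ → n ∈ P)
    {x : G} (hx : x ∈ B') (hg : ∀ b ∈ B, ⁅b, x⁆ ∈ N) {b : G} (hb : b ∈ B) : ⁅b, x⁆ ∈ N₀ := by
  obtain ⟨a, ha, hT⟩ := h.exists_a
  have red : ∀ {y : G} {Q : Subgroup G}, y ∈ T → (∀ d ∈ A ⊓ T, ⁅d, y⁆ ∈ Q) → ∀ b ∈ B, ⁅b, y⁆ ∈ Q :=
    fun hy h1 b hb => by
      obtain ⟨d, hd, v, hv, rfl⟩ := h.memB hb
      rw [ce_mul_left (ce_one' hy hv.2)]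
      exact h1 d hd
  have hm : ⁅a, x⁆ ∈ E := comm_le_right h.norm_E (ce_mem (h.AL₀ ha) (h.symm.BE hx))
  have e : ∀ d ∈ A ⊓ T, ⁅d, ⁅a, x⁆⁆ = ⁅a, ⁅d, x⁆⁆ * ⁅⁅d, x⁆, ⁅a, x⁆⁆ := fun d hd => by
    have h1 := mem_cent.1 (h.sa.ab hd.1) a ha
    have h2 : d⁻¹ * a⁻¹ * d = a⁻¹ := by rw [← _root_.mul_inv_rev, h1]; group
    calc _ = d * a * x * a⁻¹ * (x⁻¹ * d⁻¹ * x * a * x⁻¹ * a⁻¹) := by
          simp only [commutatorElement_def]; group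
      _ = a * d * x * (d⁻¹ * a⁻¹ * d) * (x⁻¹ * d⁻¹ * x * a * x⁻¹ * a⁻¹) := by rw [h1, h2]
      _ = _ := by simp only [commutatorElement_def]; group
  obtain ⟨b₁, h1, m, h2, e1⟩ := h.memE hm
  have e2 : ∀ b ∈ B, ⁅b, ⁅a, x⁆⁆ = b₁ * ⁅b, m⁆ * b₁⁻¹ := fun b hb => by
    rw [← e1, ce_mul_right' (ce_one hb (h.abB h1))]
  have h3 : ∀ b ∈ B, ⁅b, m⁆ ∈ P := fun b hb => by
    have := red (Q := P) (h.ET hm) (fun d hd => e d hd ▸ mul_mem (i _ (hg d (h.ATB hd)) a ha)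
      (h0 (c (ce_mem (hg d (h.ATB hd)) hm)))) b hb
    rw [e2 b hb] at this
    simpa [mul_assoc] using conj_mem_of_norm' (norm_of_comm_le hP (c.trans h0) (h.BE h1)) this
  refine h.good iii hx (red (h.symm.BT hx) fun d hd => ii _ (hg d (h.ATB hd)) a ha hT ?_) hb
  have h4 := conj_mem_of_norm (norm_of_comm_le (h0.trans hP) c (h.BE h1))
    (h.good iii h2 h3 (h.ATB hd))
  rw [← e2 d (h.ATB hd), e d hd] at h4
  exact (mul_mem_cancel_right (c (ce_mem (hg d (h.ATB hd)) hm))).1 h4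

end step

theorem wrap {N₀ N : Subgroup G} (hn : E ≤ 𝐍[N]) (hn0 : E ≤ 𝐍[N₀])
    (s : ∀ x ∈ B', (∀ b ∈ B, ⁅b, x⁆ ∈ N) → ∀ b ∈ B, ⁅b, x⁆ ∈ N₀)
    (s' : ∀ x ∈ B, (∀ b ∈ B', ⁅b, x⁆ ∈ N) → ∀ b ∈ B', ⁅b, x⁆ ∈ N₀) :
    E ⊓ cmod E N ≤ cmod E N₀ := by
  rintro x ⟨hx, hx'⟩
  obtain ⟨b, hb, b', hb', rfl⟩ := h.memE hx
  refine mul_mem ⟨hn0 (h.BE hb), fun e he => ?_⟩ ⟨hn0 (h.symm.BE hb'), fun e he => ?_⟩
  · obtain ⟨c', hc', c, hc, rfl⟩ := h.symm.memE he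
    rw [ce_mul_left (ce_one hc (h.abB hb))]
    refine s' b hb (fun d hd => ?_) c' hc'
    rw [← ce_mul_right (ce_one hd (h.symm.abB hb'))]
    exact hx'.2 d (h.symm.BE hd)
  · obtain ⟨c, hc, c', hc', rfl⟩ := h.memE he
    rw [ce_mul_left (ce_one hc' (h.symm.abB hb'))]
    refine s b' hb' (fun d hd => ?_) c hc
    have := hx'.2 d (h.BE hd)
    rw [ce_mul_right' (ce_one hd (h.abB hb))] at this
    simpa [mul_assoc] using conj_mem_of_norm' (hn (h.BE hb)) this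

theorem step1 {x : G} (hx : x ∈ B') (hg : ∀ b ∈ B, ⁅b, x⁆ ∈ D) {b : G} (hb : b ∈ B) :
    ⁅b, x⁆ ∈ D₀ :=
  h.step (P := D ⊓ A) (le_inf h.D₀D h.D₀A) inf_le_left
    ((comm_eq_bot_iff'.2 h.E_cent_D).le.trans bot_le)
    (fun n hn a ha hT e => h.hD₀.le ⟨hn.2, h.symm.memA ha hT (h.symm.DB hn.1) e.2⟩)
    (fun n hn a ha => ⟨h.VD (h.v.Z_le (h.ceZ ha (h.DB hn))), h.sa.Z_le (h.ceZ ha (h.DB hn))⟩)
    (fun n hn a ha hT e => ⟨hn, h.memA ha hT (h.DB hn) (h.symm.D₀A e)⟩) hx hg hb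

theorem E_norm_D₀ : E ≤ 𝐍[D₀] := norm_of_cent (h.E_cent_D.trans (cent_anti h.D₀D))

theorem Z2_le : E ⊓ cmod E D ≤ cmod E D₀ :=
  h.wrap h.E_norm_D h.E_norm_D₀ (fun _ hx hg _ hb => h.step1 hx hg hb)
    fun _ hx hg _ hb => h.symm.step1 hx hg hb

theorem comm_le_B {X : Subgroup G} (hX : X ≤ T) (h1 : ⁅A ⊓ T, X⁆ ≤ A ⊓ T) : ⁅A, X⁆ ≤ B := by
  have h2 : X ≤ 𝐍[A ⊔ V] := h.v.cent_AT h.sa ▸ norm_inf (norm_of_le (hX.trans h.v.TS))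
    (norm_cent (norm_of_comm_le le_rfl h1))
  rw [← h.hB, ← h.v.AV_inf h.sa]
  exact le_inf ((commutator_mono le_sup_left le_rfl).trans (comm_le_left h2))
    ((commutator_mono le_rfl hX).trans (comm_le_right (h.AL₀.trans h.norm_T)))

theorem comm_Z2 : ⁅A, E ⊓ cmod E D⁆ ≤ B :=
  h.comm_le_B (inf_le_left.trans h.ET) ((commutator_mono (h.ATB.trans h.BE) h.Z2_le).trans
    ((comm_cmod_le _ _).trans (le_inf h.D₀A h.D₀T)))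

theorem step2 {x : G} (hx : x ∈ B') (hg : ∀ b ∈ B, ⁅b, x⁆ ∈ E ⊓ cmod E D) {b : G} (hb : b ∈ B) :
    ⁅b, x⁆ ∈ D :=
  have hn : L₀ ≤ 𝐍[E ⊓ cmod E D] := norm_inf h.norm_E (norm_cmod h.norm_E h.norm_D)
  h.step (P := (E ⊓ cmod E D) ⊓ B) (le_inf (le_inf h.DE (le_cmod_self h.E_norm_D)) h.DB) inf_le_left
    ((commutator_comm _ _).le.trans ((commutator_mono le_rfl inf_le_right).trans (comm_cmod_le _ _)))
    (fun n hn a ha hT e => h.symm.fix ha hT hn.2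
      (h.hD.le ⟨e.2, h.symm.comm_Z2 (ce_mem ha hn.1)⟩))
    (fun n hn' a ha => ⟨comm_le_right hn (ce_mem (h.AL₀ ha) hn'), h.comm_Z2 (ce_mem ha hn')⟩)
    (fun n hn a ha hT e => ⟨hn, h.fixE ha hT hn.1 e⟩) hx hg hb

theorem comm_E : ⁅E, E⁆ ≤ D₀ := by
  have hn : E ≤ 𝐍[E ⊓ cmod E D] := norm_inf le_normalizer (norm_cmod le_normalizer h.E_norm_D)
  have := le_of_cmod_le ((pg_core (p := p) L).to_le h.ET) hn (le_inf inf_le_left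
    (h.wrap hn h.E_norm_D (fun _ hx hg _ hb => h.step2 hx hg hb)
      fun _ hx hg _ hb => h.symm.step2 hx hg hb))
  exact (commutator_mono le_rfl (this.trans h.Z2_le)).trans (comm_cmod_le _ _)

theorem comm_AE : ⁅A, E⁆ ≤ B :=
  h.comm_le_B h.ET ((commutator_mono (h.ATB.trans h.BE) le_rfl).trans
    (h.comm_E.trans (le_inf h.D₀A h.D₀T)))

end Pr

end Cfsg.Agent.Loc.PU
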