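import Mathlib
import Cfsg.Agent.Loc.GNPr

/-! The action of the residual on the core of a vertex with a pair of large abelian subgroups. -/

namespace Cfsg.Agent.Loc.PU

open Cfsg Cfsg.Agent.GT Cfsg.Agent.Loc.Mss Subgroup Matrix
open scoped commutatorElement MatrixGroups

set_option linter.unusedSectionVars false
set_option linter.unusedVariables false

universe u
variable {p : ℕ} {G : Type u} [Group G]

/-- the centralizer of the residual in the core -/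
scoped notation:max "𝐂₀[" p ", " L "]" => 𝐎[p, L] ⊓ 𝐂[𝐑[p, L]]

theorem conj_Z {S : Subgroup G} {g z : G} (hg : g ∈ S) (hz : z ∈ 𝐙[S]) : g * z * g⁻¹ = z :=
  conj_of_ce (ce_one hg hz.2)

theorem norm_C₀ (L : Subgroup G) : L ≤ 𝐍[𝐂₀[p, L]] :=
  norm_inf (le_norm_core L) (norm_cent (le_norm_res L))

theorem norm_ZL (L : Subgroup G) : L ≤ 𝐍[𝐙[L]] := norm_Z le_normalizer

theorem norm_R (L : Subgroup G) : L ≤ 𝐍[⁅𝐎[p, L], 𝐑[p, L]⁆] :=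
  norm_comm (le_norm_core L) (le_norm_res L)

theorem R_le (L : Subgroup G) : ⁅𝐎[p, L], 𝐑[p, L]⁆ ≤ 𝐎[p, L] :=
  comm_le_left ((res_le L).trans (le_norm_core L))

theorem exists_pws {X N : Subgroup G} (hN : N ≤ X) (hX : ⁅X, X⁆ ≤ N) (n : ℕ) :
    ∃ P : Subgroup G, ∀ x, x ∈ P ↔ x ∈ X ∧ x ^ n ∈ N := by
  obtain ⟨W, _, π, r, D⟩ := exists_secD hN hX le_normalizer (norm_of_comm_le hN hX)
  have e : ∀ x ∈ X, x ^ n ∈ N ↔ n • π x = 0 := fun x hx => by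
    rw [← D.ker _ (pow_mem hx n), D.pow hx]
  refine ⟨⟨⟨⟨{x | x ∈ X ∧ x ^ n ∈ N}, fun {a b} ha hb => ⟨mul_mem ha.1 hb.1, ?_⟩⟩,
    one_mem _, by simp⟩, fun {a} ha => ⟨inv_mem ha.1, by simpa using ha.2⟩⟩, fun _ => Iff.rfl⟩
  rw [e _ (mul_mem ha.1 hb.1), D.mul _ ha.1 _ hb.1, smul_add, (e _ ha.1).1 ha.2, (e _ hb.1).1 hb.2,
    add_zero]

theorem pow_mem_of_sup {A B X N : Subgroup G} (hN : N ≤ X) (hX : ⁅X, X⁆ ≤ N) {n : ℕ}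
    (h : X = A ⊔ B) (hA : ∀ x ∈ A, x ^ n ∈ N) (hB : ∀ x ∈ B, x ^ n ∈ N) : ∀ x ∈ X, x ^ n ∈ N := by
  obtain ⟨P, hP⟩ := exists_pws hN hX n
  have : A ⊔ B ≤ P := sup_le (fun a ha => (hP a).2 ⟨h.ge (mem_sup_left ha), hA a ha⟩)
    fun a ha => (hP a).2 ⟨h.ge (mem_sup_right ha), hB a ha⟩
  exact fun x hx => ((hP x).1 (this (h.le hx))).2

variable [Finite G] [Fact p.Prime]

theorem ZL_le_C₀ {L : Subgroup G} (h : 𝐙[L] ≤ 𝐎[p, L]) : 𝐙[L] ≤ 𝐂₀[p, L] :=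
  le_inf h (inf_le_right.trans (cent_anti (res_le L)))

theorem le_C₀ {L X : Subgroup G} (hX : X ≤ 𝐎[p, L]) (h : ⁅𝐑[p, L], X⁆ ≤ 𝐂₀[p, L]) :
    X ≤ 𝐂₀[p, L] := by
  have hn := (res_le (p := p) L).trans (norm_C₀ (p := p) L)
  have h1 : 𝐑[p, L] ≤ 𝐂[𝐎[p, L] ⊓ cmod 𝐑[p, L] 𝐂₀[p, L]] := res_le_cent_of_two
    ((pg_core L).to_le inf_le_left)
    (norm_inf ((res_le L).trans (le_norm_core L)) (norm_cmod le_normalizer hn))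
    ((commutator_comm _ _).le.trans ((commutator_mono le_rfl inf_le_right).trans (comm_cmod_le _ _)))
    (cent_comm inf_le_right)
  exact le_inf hX ((le_inf hX (le_cmod.2 ⟨hX.trans ((pCoreOf_le L).trans (norm_C₀ L)), h⟩)).trans
    (cent_comm h1))

theorem ab_core {L : Subgroup G} (h : ⁅⁅𝐎[p, L], 𝐑[p, L]⁆, 𝐎[p, L]⁆ ≤ 𝐂₀[p, L]) :
    ⁅𝐎[p, L], 𝐎[p, L]⁆ ≤ 𝐂₀[p, L] := by
  have h1 := (pCoreOf_le (p := p) L).trans (norm_C₀ (p := p) L)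
  refine le_C₀ (comm_le_left le_normalizer) ((commutator_comm _ _).le.trans
    (three_subgroups h1 h1 ((res_le L).trans (norm_C₀ L)) h ?_))
  rwa [commutator_comm 𝐑[p, L]]

theorem pow_core {L : Subgroup G} (h : ⁅𝐎[p, L], 𝐎[p, L]⁆ ≤ 𝐂₀[p, L])
    (h' : ∀ x ∈ ⁅𝐎[p, L], 𝐑[p, L]⁆, x ^ p ∈ 𝐂₀[p, L]) {t : G} (ht : t ∈ 𝐎[p, L]) :
    t ^ p ∈ 𝐂₀[p, L] := by
  obtain ⟨W, _, π, r, D⟩ := exists_secD inf_le_left h (le_norm_core L) (norm_C₀ L)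
  have h1 : zpowers (t ^ p) ≤ cmod 𝐑[p, L] 𝐂₀[p, L] := zpowers_le.2
    ⟨norm_C₀ L (pCoreOf_le L (pow_mem ht p)), fun k hk => by
      have h2 := ce_mem' ht hk
      have h3 := (D.ker _ (pow_mem (R_le L h2) p)).2 (h' _ h2)
      rw [D.pow (R_le L h2), D.comm (le_norm_core L) ⟨k, res_le L hk⟩ ht] at h3
      rw [← D.ker _ (R_le L (ce_mem' (pow_mem ht p) hk)),
        D.comm (le_norm_core L) ⟨k, res_le L hk⟩ (pow_mem ht p), D.pow ht, map_nsmul, ← smul_sub, h3]⟩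
  exact le_C₀ (zpowers_le.2 (pow_mem ht p)) (le_cmod.1 h1).2 (mem_zpowers _)

namespace Pr
variable {L S A B S' A' B' D₀ D E L₀ : Subgroup G} (h : Pr p L S A B S' A' B' D₀ D E L₀)
include h

local notation "T" => 𝐎[p, L]
local notation "V" => 𝐕[p, L]
local notation "K" => 𝐑[p, L]
local notation "C₀" => 𝐂₀[p, L]

theorem cent_E : T ⊓ 𝐂[E] = D := by rw [← h.cent_D, h.cdD.cent_cent]

theorem comm_ncl {N : Subgroup G} (h1 : E ≤ N) (h2 : N ≤ T) (hn : L₀ ≤ 𝐍[N]) :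
    ⁅A, N⁆ ≤ ncl N E := by
  have cE : CD T (ncl N E) := h.cdE.ncl (norm_of_le h2)
  have nE : L₀ ≤ 𝐍[ncl N E] := norm_ncl hn h.norm_E
  have nE' := le_norm_ncl N E
  have hE := le_ncl N E
  generalize ncl N E = E₁ at *
  have cD := cE.cent
  have eD := cE.cent_cent
  have hD : T ⊓ 𝐂[E₁] ≤ D := (inf_le_inf_left _ (cent_anti hE)).trans h.cent_E.le
  have nD : N ≤ 𝐍[T ⊓ 𝐂[E₁]] := norm_inf (norm_of_le h2) (norm_cent nE')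
  have hc : T ⊓ 𝐂[E₁] ≤ 𝐂[E₁] := inf_le_right
  generalize T ⊓ 𝐂[E₁] = D₁ at *
  have cX : CD S (D₁ ⊓ A) := (h.v.up cD).inf h.sa.cd
  have eX : S ⊓ 𝐂[D₁ ⊓ A] = E₁ ⊔ A := by
    rw [(h.v.up cD).cent_inf h.sa.cd, h.sa.cent, h.v.cdT.cent_eq h.v.centT cD.Z_le, eD]
  have hNS := h2.trans h.v.TS
  have key : ∀ t ∈ N, ∀ d ∈ D₁ ⊓ D₀, t⁻¹ * d * t ∈ A := fun t ht d hd => by
    have hB : t⁻¹ * d * t ∈ B := h.DB (hD (conj_mem_of_norm' (nD ht) hd.1))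
    have cX' := cX.cj_norm (le_normalizer (hNS ht))
    have eI : S ⊓ 𝐂[(D₁ ⊓ A) ⊓ cj(t, D₁ ⊓ A)] = (S ⊓ 𝐂[D₁ ⊓ A]) ⊔ (S ⊓ 𝐂[cj(t, D₁ ⊓ A)]) :=
      cX.cent_inf cX'
    have e' : S ⊓ 𝐂[cj(t, D₁ ⊓ A)] = cj(t, E₁ ⊔ A) := by
      rw [← eX, cj_inf S, cj_cent, cj_of_mem (hNS ht)]
    have c1 : ∀ a ∈ A, ⁅d, t * a * t⁻¹⁆ = t * ⁅t⁻¹ * d * t, a⁆ * t⁻¹ := fun a ha => by
      simp only [commutatorElement_def]; group
    have k1 : ∀ e ∈ S ⊓ 𝐂[(D₁ ⊓ A) ⊓ cj(t, D₁ ⊓ A)], ⁅d, e⁆ ∈ 𝐙[S] := fun e he => by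
      obtain ⟨x, hx, y, hy, rfl⟩ := cX.cent.mem_sup cX'.cent (eI.le he)
      rw [ce_mul_right' (ce_one (show d ∈ D₁ ⊓ A from ⟨hd.1, h.D₀A hd.2⟩) hx.2)]
      refine conj_mem_of_norm (norm_ZL S hx.1) ?_
      obtain ⟨y, hy', rfl⟩ := e'.le hy
      obtain ⟨u, hu, a, ha, rfl⟩ := (mem_sup_norm (h.AL₀.trans nE)).1 hy'
      have h3 := conj_mem_of_norm (nE' ht) hu
      rw [show (MulEquiv.toMonoidHom (MulAut.conj t)) (u * a) = t * u * t⁻¹ * (t * a * t⁻¹) by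
        simp [mul_assoc], ce_mul_right' (ce_one' h3 (hc hd.1)), c1 a ha]
      exact conj_mem_of_norm (norm_ZL S (h.v.TS (cE.1 h3)))
        (conj_mem_of_norm (norm_ZL S (hNS ht)) (ce_symm (h.ceZ ha hB)))
    have nI : L₀ ≤ 𝐍[T ⊓ 𝐂[(D₁ ⊓ A) ⊓ cj(t, D₁ ⊓ A)]] := by
      have := norm_inf h.norm_T (norm_cent (h.norm_of_le_D (X := V ⊔ ((D₁ ⊓ A) ⊓ cj(t, D₁ ⊓ A)))
        le_sup_left (sup_le h.VD (inf_le_left.trans (inf_le_left.trans hD)))))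
      rwa [cent_sup, ← inf_assoc, inf_eq_left.2 (core_le_cent_V L)] at this
    obtain ⟨a, ha, hT⟩ := h.exists_a
    obtain ⟨a', ha', hT'⟩ := h.symm.exists_a
    have he : a⁻¹ * (t * a * t⁻¹) ∈ T ⊓ 𝐂[(D₁ ⊓ A) ⊓ cj(t, D₁ ⊓ A)] := by
      refine ⟨?_, mul_mem (cent_anti (inf_le_left.trans inf_le_right) (h.sa.ab (inv_mem ha)))
        (cent_anti inf_le_right ?_)⟩
      · simpa [mul_assoc] using mul_mem (conj_mem_of_norm' (h.norm_T (h.AL₀ ha)) (h2 ht))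
          (inv_mem (h2 ht))
      · rw [← cj_cent]
        exact conj_mem_cj (cent_anti inf_le_right (h.sa.ab ha))
    have z1 := k1 _ ⟨h.v.TS he.1, he.2⟩
    have he' := conj_mem_of_norm (nI (h.symm.AL₀ ha')) he
    have z2 := k1 _ ⟨h.v.TS he'.1, he'.2⟩
    nth_rw 1 [← conj_of_ce (ce_one ha' (h.sa'.ab (h.symm.D₀A hd.2))), ← ce_conj] at z2
    have z3 := h.ZA' ⟨z1, h.symm.memA ha' hT' (h.symm.VB (h.v.Z_le z1))
      (h.sa.Z_le (mul_mem z2 (inv_mem z1)))⟩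
    rw [ce_mul_right' (ce_one (h.D₀A hd.2) (h.sa.ab (inv_mem ha))), c1 a ha] at z3
    have z4 := conj_mem_of_norm' (norm_ZL L (h.v.le (hNS ht)))
      (conj_mem_of_norm' (norm_ZL L (inv_mem (h.v.le (h.sa.le ha)))) z3)
    refine h.memA ha hT hB (h.symm.D₀A (h.ZL_D₀ (ce_symm ?_)))
    simpa [mul_assoc] using z4
  have nX : N ≤ 𝐍[D₁ ⊓ A] := norm_of_forall_cj_le fun t ht => cj_le_iff.2 fun x hx => by
    refine ⟨conj_mem_of_norm (nD ht) hx.1, ?_⟩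
    obtain ⟨v, hv, d, hd, rfl⟩ := (mem_sup_norm ((h.D₀A.trans h.AL₀).trans
      (h.L₀L.trans (le_norm_V L)))).1 (h.D_eq.ge (hD hx.1))
    have h3 : v ∈ A := (mul_mem_cancel_right (h.D₀A hd)).1 hx.2
    have := mul_mem (h.sa.Z_le (conj_mem_of_norm (norm_ZL S (hNS ht)) (h.v.V_inf_A h.sa h.nle
      ⟨hv, h3⟩))) (key t⁻¹ (inv_mem ht) d ⟨(mul_mem_cancel_left (cD.Z_le hv)).1 hx.1, hd⟩)
    simpa [mul_assoc] using this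
  have nP : N ≤ 𝐍[E₁ ⊔ A] := eX ▸ norm_inf (norm_of_le hNS) (norm_cent nX)
  refine (le_inf ((commutator_mono le_sup_right le_rfl).trans (comm_le_left nP))
    ((commutator_mono le_rfl h2).trans (comm_le_right (h.AL₀.trans h.norm_T)))).trans ?_
  rw [dedekind (h.AL₀.trans nE) cE.1]
  exact sup_le le_rfl (h.ATB.trans (h.BE.trans hE))

theorem comm_ncl' {N : Subgroup G} (h1 : E ≤ N) (h2 : N ≤ T) (hn : L₀ ≤ 𝐍[N]) :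
    ⁅N, L₀⁆ ≤ ncl N E := by
  have nE : L₀ ≤ 𝐍[ncl N E] := norm_ncl hn h.norm_E
  rw [← h.hL₀]
  exact comm_sup_le (h.AL₀.trans nE) (h.symm.AL₀.trans nE)
    ((commutator_comm _ _).le.trans (h.comm_ncl h1 h2 hn))
    ((commutator_comm _ _).le.trans (h.symm.comm_ncl h1 h2 hn))

theorem comm_res₀ (N : Subgroup G) (h1 : E ≤ N) (h2 : N ≤ T) (hn : L₀ ≤ 𝐍[N]) :
    ⁅N, 𝐑[p, L₀]⁆ ≤ E := by
  induction N using WellFoundedLT.induction with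
  | _ N ih =>
  by_cases e : E = N
  · exact e ▸ comm_le_left ((res_le _).trans h.norm_E)
  obtain ⟨N', h3, h4, h5⟩ := (subnormalIn_of_isPGroup ((pg_core L).to_le h2) h1).exists_lt_normal e
  exact comm_res_le_of_le ((pg_core L).to_le h2) ((res_le _).trans hn)
    ((commutator_mono le_rfl (res_le _)).trans (h.comm_ncl' h1 h2 hn))
    (ih _ ((ncl_le h3.le h5).trans_lt h4) (le_ncl _ _) ((ncl_le_self h1).trans h2)
      (norm_ncl hn h.norm_E))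

theorem res_le_ncl : K ≤ ⁅T, 𝐑[p, L₀]⁆ ⊔ 𝐑[p, L₀] := by
  have n1 : T ≤ 𝐍[⁅T, 𝐑[p, L₀]⁆ ⊔ 𝐑[p, L₀]] := ncl_eq T 𝐑[p, L₀] ▸ le_norm_ncl _ _
  have n2 : L₀ ≤ 𝐍[⁅T, 𝐑[p, L₀]⁆ ⊔ 𝐑[p, L₀]] :=
    norm_sup (norm_comm h.norm_T (le_norm_res _)) (le_norm_res _)
  exact (res_le_res ((res_mono (h.L_le le_sup_right (le_sup_right.trans le_sup_left))).trans
    (res_sup_le' (norm_sup n2 h.norm_T) (le_sup_right.trans le_sup_left)))).trans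
    (res_sup_le n1 (pg_core L))

theorem R_le_E : ⁅T, K⁆ ≤ E :=
  ((commutator_mono le_rfl h.res_le_ncl).trans (comm_sup_le le_normalizer (norm_comm_right _ _)
    ((commutator_comm _ _).le.trans (comm_le_left (norm_comm_left _ _))) le_rfl)).trans
    (h.comm_res₀ T h.ET le_rfl h.norm_T)

theorem D₀_le : D₀ ≤ C₀ :=
  le_inf h.D₀T (cent_comm (h.res_le_ncl.trans (sup_le ((h.comm_res₀ T h.ET le_rfl h.norm_T).trans
    (h.E_cent_D.trans (cent_anti h.D₀D))) ((res_le _).trans h.cent_D₀))))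

theorem L₀_le_KAE : L₀ ≤ E ⊔ (K ⊔ A) := by
  have h1 : K ⊔ A ≤ L := sup_le (res_le L) (h.AL₀.trans h.L₀L)
  rw [← h.cent_D₀', ← dedekind' (h1.trans (le_norm_core L))
    (sup_le (cent_comm (h.D₀_le.trans inf_le_right)) (h.AL₀.trans h.cent_D₀))]
  refine le_inf (h.L₀L.trans (h.v.syl.le_of_res_le (le_sup_left.trans le_sup_right) ?_)) h.cent_D₀
  rw [← h.AT]
  exact sup_le (le_sup_right.trans le_sup_right) le_sup_left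

theorem surj {X : Subgroup G} (hX : X ≤ E) (hn : L₀ ≤ 𝐍[X]) {a b : G} (ha : a ∈ A) (hT : a ∉ T)
    (hb : b ∈ X ⊓ B) : ∃ y ∈ X ⊓ B', ⁅a, y⁆ * b⁻¹ ∈ D := by
  obtain ⟨W, _, π, r, H⟩ := exists_secD h.DE (h.comm_E.trans h.D₀D) h.norm_E h.norm_D
  obtain ⟨g, hg, -, e⟩ := h.conjB
  have hE' : X ⊓ B' ≤ E := inf_le_left.trans hX
  have m1 : ∀ y ∈ X ⊓ B, g * y * g⁻¹ ∈ X ⊓ B' := fun y hy =>
    ⟨conj_mem_of_norm (hn hg) hy.1, e.le (conj_mem_cj hy.2)⟩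
  have m2 : ∀ y ∈ X ⊓ B', ⁅a, y⁆ ∈ X ⊓ B := fun y hy =>
    ⟨comm_le_right hn (ce_mem (h.AL₀ ha) hy.1), h.comm_AE (ce_mem ha (hE' hy))⟩
  have inj : ∀ w w', r ⟨g, hg⟩ w = r ⟨g, hg⟩ w' → w = w' := fun w w' e => by
    have h1 : ∀ w, r ⟨g, hg⟩⁻¹ (r ⟨g, hg⟩ w) = w := fun w =>
      DFunLike.congr_fun (map_mul_eq_one r (inv_mul_cancel _)) w
    rw [← h1 w, e, h1]
  have bij := ((Set.toFinite (X ⊓ B' : Subgroup G).carrier).image π).injOn_iff_bijOn_of_mapsTo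
    (f := fun w => r ⟨g, hg⟩ (r ⟨a, h.AL₀ ha⟩ w - w)) (by
      rintro _ ⟨y, hy, rfl⟩
      exact ⟨_, m1 _ (m2 y hy), by
        beta_reduce
        rw [← H.comm h.norm_E _ (hE' hy), H.equiv _ _ (hX (m2 y hy).1)]⟩) |>.1 (by
      rintro _ ⟨y, hy, rfl⟩ _ ⟨y', hy', rfl⟩ e1
      have h1 := (X ⊓ B').mul_mem hy ((X ⊓ B').inv_mem hy')
      refine (H.eq_iff (hE' hy) (hE' hy')).2 (h.fix ha hT h1.2 ((H.ker _ (hX (m2 _ h1).1)).1 ?_))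
      rw [H.comm h.norm_E ⟨a, h.AL₀ ha⟩ (hE' h1), H.div (hE' hy) (hE' hy'), map_sub,
        sub_sub_sub_comm, inj _ _ e1, sub_self])
  obtain ⟨_, ⟨y, hy, rfl⟩, e1⟩ := bij.surjOn ⟨_, m1 b hb, rfl⟩
  refine ⟨y, hy, (H.eq_iff (hX (m2 y hy).1) (hX hb.1)).1 (inj _ _ ?_)⟩
  rw [H.comm h.norm_E ⟨a, h.AL₀ ha⟩ (hE' hy), H.equiv _ _ (hX hb.1)]
  exact e1

theorem B_le_RD : B ≤ ⁅T, K⁆ ⊔ D := fun b hb => by
  obtain ⟨a, ha, hT⟩ := h.exists_a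
  obtain ⟨y, hy, e⟩ := h.surj le_rfl h.norm_E ha hT ⟨h.BE hb, hb⟩
  have n1 : L₀ ≤ 𝐍[⁅T, K⁆ ⊔ D] := norm_sup (h.L₀L.trans (norm_R L)) h.norm_D
  have n2 : E ≤ 𝐍[⁅T, K⁆ ⊔ D] :=
    norm_sup (h.ET.trans ((pCoreOf_le L).trans (norm_R L))) h.E_norm_D
  have n3 : K ≤ 𝐍[⁅T, K⁆ ⊔ D] := norm_of_comm_le (sup_le (R_le L) (h.DE.trans h.ET)) le_sup_left
  have h1 : ⁅B', L₀⁆ ≤ ⁅T, K⁆ ⊔ D := (commutator_mono le_rfl h.symm.L₀_le_KAE).trans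
    (comm_sup_le n2 (sup_le n3 (h.symm.AL₀.trans n1))
      ((commutator_mono h.symm.BE le_rfl).trans (h.comm_E.trans (h.D₀D.trans le_sup_right)))
      (comm_sup_le n3 (h.symm.AL₀.trans n1) ((commutator_mono h.symm.BT le_rfl).trans le_sup_left)
        (commutator_le.2 fun x hx a' ha' => mem_sup_right
          (h.VD (h.v'.Z_le (ce_symm (h.symm.ceZ ha' hx)))))))
  convert mul_mem (inv_mem (mem_sup_right e)) (h1 (ce_mem' hy.2 (h.AL₀ ha))) using 1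
  group

theorem E_le_M : E ≤ ⁅T, K⁆ ⊔ V ⊔ C₀ := by
  have : ⁅T, K⁆ ⊔ D ≤ ⁅T, K⁆ ⊔ V ⊔ C₀ := by
    rw [← h.D_eq, ← sup_assoc]; exact sup_le_sup_left h.D₀_le _
  exact h.E_le (h.B_le_RD.trans this) (h.symm.B_le_RD.trans this)

theorem comm_ME : ⁅⁅T, K⁆ ⊔ V ⊔ C₀, E⁆ ≤ C₀ := by
  have n := (pCoreOf_le (p := p) L).trans (norm_C₀ (p := p) L)
  exact sup_comm_le ((sup_le (R_le L) (V_le_core L)).trans n) le_normalizer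
    (sup_comm_le ((R_le L).trans n) ((V_le_core L).trans n)
      ((commutator_mono h.R_le_E le_rfl).trans (h.comm_E.trans h.D₀_le))
      ((comm_eq_bot_iff'.2 (h.ET.trans (core_le_cent_V L))).le.trans bot_le))
    (comm_le_left (h.ET.trans n))

theorem comm_TL₀ : ⁅T, L₀⁆ ≤ ⁅T, K⁆ ⊔ V ⊔ C₀ :=
  (h.comm_ncl' h.ET le_rfl h.norm_T).trans (ncl_le h.E_le_M ((pCoreOf_le L).trans
    (norm_sup (norm_sup (norm_R L) (le_norm_V L)) (norm_C₀ L))))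

theorem key : ⁅⁅T, A ⊓ T⁆, A⁆ ≤ C₀ := by
  have n := h.L₀L.trans (norm_C₀ (p := p) L)
  refine three_subgroups ((pCoreOf_le L).trans (norm_C₀ L)) (inf_le_left.trans (h.AL₀.trans n))
    (h.AL₀.trans n) ?_ ((commutator_mono ((commutator_comm _ _).le.trans
      ((commutator_mono le_rfl h.AL₀).trans h.comm_TL₀)) (h.ATB.trans h.BE)).trans h.comm_ME)
  rw [comm_eq_bot_iff.2 (inf_le_left.trans h.sa.ab), commutator_bot_left]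
  exact bot_le

theorem ce_EC₀ {y a' : G} (hy : y ∈ E ⊓ C₀) (ha' : a' ∈ L₀) :
    ∃ e ∈ E, ∃ a ∈ A, ⁅a', y⁆ = e * ⁅a, y⁆ * e⁻¹ * ⁅e, y⁆ := by
  have n : L₀ ≤ 𝐍[E ⊓ C₀] := norm_inf h.norm_E (h.L₀L.trans (norm_C₀ L))
  obtain ⟨e, he, x, hx, rfl⟩ := (mem_sup_norm (sup_le (norm_of_comm_le h.ET h.R_le_E)
    (h.AL₀.trans h.norm_E))).1 (h.L₀_le_KAE ha')
  obtain ⟨k, hk, a, ha, rfl⟩ := (mem_sup_norm (h.AL₀.trans (h.L₀L.trans (le_norm_res L)))).1 hx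
  refine ⟨e, he, a, ha, ?_⟩
  rw [commutatorElement_mul_left_eq_conj_mul, commutatorElement_mul_left_eq_conj_mul,
    ce_one hk hy.2.2, conj_of_ce (ce_one hk (comm_le_right n (ce_mem (h.AL₀ ha) hy)).2.2), mul_one]

theorem EC₀_B' : E ⊓ C₀ ≤ B' := fun y hy => by
  obtain ⟨a', ha', hT⟩ := h.symm.exists_a
  obtain ⟨e, he, a, ha, e1⟩ := h.ce_EC₀ hy (h.symm.AL₀ ha')
  refine h.symm.fixE ha' hT hy.1 (h.hD.le ⟨?_, h.symm.comm_AE (ce_mem ha' hy.1)⟩)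
  rw [e1]
  exact mul_mem (conj_mem_of_norm (norm_of_comm_le h.BE (h.comm_E.trans (h.D₀D.trans h.DB)) he)
    (h.comm_AE (ce_mem ha hy.1))) (h.DB (h.D₀D (h.comm_E (ce_mem he hy.1))))

theorem EC₀_A' : E ⊓ C₀ ≤ A' := fun y hy => by
  obtain ⟨a', ha', hT⟩ := h.symm.exists_a
  obtain ⟨e, he, a, ha, e1⟩ := h.ce_EC₀ hy (h.symm.AL₀ ha')
  refine h.symm.memA ha' hT (h.EC₀_B' hy) ?_
  have h1 := h.ceZ ha (h.symm.EC₀_B' hy)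
  rw [e1, conj_Z (h.v.TS (h.ET he)) h1]
  exact mul_mem (h.sa.Z_le h1) (h.D₀A (h.comm_E (ce_mem he hy.1)))

theorem EC₀ : E ⊓ C₀ ≤ D₀ := h.le_D₀ h.symm.EC₀_A' h.EC₀_A'

end Pr

end Cfsg.Agent.Loc.PU
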