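import Mathlib
import Cfsg.Agent.Loc.GNRes
import Cfsg.Agent.GT.HallHigmanB

/-! For large primes a cubic action on the core of a vertex is quadratic. -/

namespace Cfsg.Agent.Loc.PU

open Cfsg Cfsg.Agent.GT Cfsg.Agent.Loc.Mss Subgroup Matrix
open scoped commutatorElement MatrixGroups

set_option linter.unusedSectionVars false
set_option linter.unusedVariables false

universe u
variable {p : ℕ}

section burau
variable {W : Type*} [AddCommGroup W] {a b : AddMonoid.End W} {P Q : AddSubgroup W}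

theorem burau_key' (hPQ : ∀ w ∈ Q, ∃ x ∈ P, ∃ y ∈ Q, b w = x + y) (ha : ∀ y ∈ Q, a y = y)
    (hb : ∀ x ∈ P, b x = x) (ha' : ∀ x ∈ P, a x = x → x = 0)
    (br : ∀ w, a (b (a w)) = b (a (b w))) {x x₁ : W} (hx : x ∈ P) (hx₁ : x₁ ∈ P)
    (e : a x - x₁ ∈ Q) : b (a x - x₁) + x₁ ∈ Q := by
  obtain ⟨x₂, h2, y₂, h3, e2⟩ := hPQ _ e
  have e3 : b (a x) = x₁ + x₂ + y₂ := by
    rw [map_sub, hb _ hx₁] at e2
    rw [add_assoc, ← e2]; abel
  have := br x
  rw [hb x hx, e3, map_add, ha _ h3, add_left_inj] at this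
  have := ha' _ (add_mem hx₁ h2) this
  rw [e2, add_right_comm, add_comm x₂, this, zero_add]
  exact h3

theorem burau' (hPQ : ∀ w ∈ Q, ∃ x ∈ P, ∃ y ∈ Q, b w = x + y)
    (hQP : ∀ w ∈ P, ∃ y ∈ Q, ∃ x ∈ P, a w = y + x) (hi : ∀ w ∈ P, w ∈ Q → w = 0)
    (ha : ∀ y ∈ Q, a y = y) (hb : ∀ x ∈ P, b x = x) (ha' : ∀ x ∈ P, a x = x → x = 0)
    (hb' : ∀ y ∈ Q, b y = y → y = 0) (br : a * b * a = b * a * b) {k : ℕ}
    (h4 : ((a * b * a) ^ 4) ^ k = 1)
    {x d : W} (hx : x ∈ P) (hd : d ∈ P) (h1 : a x - (x + d) ∈ Q) (h2 : a d - d ∈ Q) :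
    (k * 6) • d = 0 := by
  have br' : ∀ w, a (b (a w)) = b (a (b w)) := fun w => DFunLike.congr_fun br w
  have k1 := @burau_key' _ _ _ _ _ _ hPQ ha hb ha' br'
  have k2 := @burau_key' _ _ _ _ _ _ hQP hb ha hb' fun w => (br' w).symm
  have uq : ∀ {x y y'}, y ∈ P → y' ∈ P → a x - y ∈ Q → a x - y' ∈ Q → y = y' :=
    fun hy hy' e e' => sub_eq_zero.1 (hi _ (sub_mem hy hy') (by simpa using sub_mem e' e))
  have step : ∀ {x x₁ x₂ x₃}, x ∈ P → x₁ ∈ P → x₂ ∈ P → x₃ ∈ P → a x - x₁ ∈ Q → a x₁ - x₂ ∈ Q →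
      a x₂ - x₃ ∈ Q → (a * b * a) ((a * b * a) x) = -x₃ := by
    intro x x₁ x₂ x₃ hx h₁ h₂ h₃ e₁ e₂ e₃
    have q2 := k1 hx h₁ e₁
    have a1 := k2 e₁ q2 (by simpa using neg_mem h₁)
    have e4 : a x₁ - x₂ = b (a x - x₁) + x₁ := by
      rw [uq h₂ (neg_mem a1) e₂ (by simpa using q2)]; simp
    have q3 := k1 h₁ h₂ e₂
    have a2 := k2 e₂ q3 (by simpa using neg_mem h₂)
    have e5 := uq h₃ (neg_mem a2) e₃ (by simpa using q3)
    change a (b (a (a (b (a x))))) = _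
    rw [br' x, hb x hx, show b (a x) = a x₁ - x₂ by rw [e4, map_sub, hb _ h₁]; abel, ha _ e₂, e5,
      neg_neg, map_sub a (b _), ha _ q3, sub_add_cancel]
  have s1 := step hd hd hd hd h2 h2 h2
  have s2 := step hx (add_mem hx hd) (add_mem (add_mem hx hd) hd)
    (add_mem (add_mem (add_mem hx hd) hd) hd) h1
    (by convert add_mem h1 h2 using 1; rw [map_add]; abel)
    (by convert add_mem (add_mem h1 h2) h2 using 1; rw [map_add, map_add]; abel)
  generalize a * b * a = w at s1 s2 h4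
  have t1 : (w ^ 4) d = d := by
    change w (w (w (w d))) = d
    rw [s1, map_neg, map_neg, s1, neg_neg]
  have t2 : (w ^ 4) x = x + 6 • d := by
    change w (w (w (w x))) = _
    rw [s2]
    simp only [map_neg, map_add, s1, s2]
    module
  have t3 : ∀ k : ℕ, ((w ^ 4) ^ k) x = x + (k * 6) • d := fun k => by
    induction k with
    | zero => simp
    | succ k ih =>
      rw [pow_succ']
      change (w ^ 4) (((w ^ 4) ^ k) x) = _
      rw [ih, map_add, map_nsmul, t1, t2]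
      module
  have := t3 k
  rw [h4] at this
  exact left_eq_add.1 this

end burau

theorem eq_one_of_coprime {M : Type*} [Monoid M] {x : M} {m n : ℕ} (h : m.Coprime n)
    (h1 : x ^ m = 1) (h2 : x ^ n = 1) : x = 1 :=
  orderOf_eq_one_iff.1 (Nat.eq_one_of_dvd_coprimes h (orderOf_dvd_of_pow_eq_one h1)
    (orderOf_dvd_of_pow_eq_one h2))

variable [Fact p.Prime]

theorem hh_comm {L : Type*} [Group L] [Finite L] {W : Type*} [AddCommGroup W] [Finite W]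
    (hW : ∀ w : W, p • w = 0) (r : L →* AddMonoid.End W) (N : Subgroup L) [N.Normal]
    (hN : ∀ f ∈ N, ∃ m, m.Coprime p ∧ r f ^ m = 1) {x : L} (hx : r x ^ p = 1)
    (h3 : (r x - 1) ^ 3 = 0) (h5 : 5 ≤ p) {f : L} (hf : f ∈ N) : r f * r x = r x * r f := by
  obtain ⟨_⟩ : Nonempty (Module (ZMod p) W) := ⟨AddCommGroup.zmodModule hW⟩
  let ψ : AddMonoid.End W →+* Module.End (ZMod p) W :=
    { toFun := fun f => AddMonoidHom.toZModLinearMap p f
      map_one' := rfl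
      map_mul' := fun _ _ => rfl
      map_zero' := rfl
      map_add' := fun _ _ => rfl }
  have hψ : Function.Injective ψ := AddMonoidHom.toZModLinearMap_injective p
  let ρ : Representation (ZMod p) (L ⧸ r.ker) W :=
    (ψ : AddMonoid.End W →* _).comp (QuotientGroup.lift r.ker r le_rfl)
  have e : ∀ g : L, ρ g = ψ (r g) := fun _ => rfl
  have inj : Function.Injective ρ := (injective_iff_map_eq_one _).2 fun g hg => by
    induction g using QuotientGroup.induction_on with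
    | H g => exact (QuotientGroup.eq_one_iff g).2 (hψ ((e g).symm.trans (hg.trans (map_one ψ).symm)))
  have : (N.map (QuotientGroup.mk' r.ker)).Normal :=
    Normal.map inferInstance _ (QuotientGroup.mk'_surjective _)
  have hc : (Nat.card (N.map (QuotientGroup.mk' r.ker))).Coprime p :=
    coprime_of_forall_pg fun P hP hp => eq_bot_iff.2 fun y hy => by
      obtain ⟨f, hf, rfl⟩ := hP hy
      obtain ⟨m, h1, h2⟩ := hN f hf
      obtain ⟨k, hk⟩ := pg_iff.1 hp _ hy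
      exact eq_one_of_coprime (h1.pow_right k) (inj (by
        rw [map_pow, QuotientGroup.mk'_apply, e, ← map_pow, h2, map_one, map_one])) hk
  by_contra h0
  have := hallHigmanB ρ inj hc (x := (x : L ⧸ r.ker)) (norm_normal ⊤ _ (mem_top _)) (n := 0)
    (inj (by rw [map_pow, e, ← map_pow, zero_add, pow_one, hx, map_one, map_one]))
    (fun h1 => h0 (hψ (by
      have := congrArg ρ (mem_cent.1 h1 _ (mem_map_of_mem _ hf))
      simpa only [map_mul, pow_zero, pow_one, QuotientGroup.mk'_apply, e] using this)))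
    (r := 3) (by rw [e, ← map_one ψ, ← map_sub, ← map_pow, h3, map_zero])
  rcases this with h1 | ⟨n₀, q, m, h1, h2, -, -, -, -, h6⟩
  · simp only [zero_add, pow_one] at h1; omega
  · obtain rfl : n₀ = 1 := by omega
    simp only [zero_add, pow_one, Nat.sub_self, pow_zero, one_mul] at h6
    omega

variable {G : Type u} [Group G] [Finite G]

theorem FFD.pow_core {q : ℕ} {L S : Subgroup G} {K : Type*} [Field K] {ρ : G → SL(2, K)}
    {φ : G → Fin 2 → K} (D : FFD p q L S ρ φ) (hS : Syl p S L) {f : G} (hf : f ∈ L) (e : ρ f = 1) :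
    ∃ m, m.Coprime p ∧ f ^ m ∈ 𝐎[p, L] := by
  obtain ⟨k, m, h1, h2⟩ := Nat.exists_eq_pow_mul_and_not_dvd (orderOf_pos f).ne' p
    (Fact.out : p.Prime).ne_one
  refine ⟨m, ((Nat.Prime.coprime_iff_not_dvd Fact.out).2 h1).symm, ?_⟩
  obtain ⟨g, hg, h3⟩ := hS.conj_le (P := zpowers (f ^ m)) (pg_iff.2 fun x hx => by
    obtain ⟨i, rfl⟩ := mem_zpowers_iff.1 hx
    exact ⟨k, by rw [← zpow_natCast, ← _root_.zpow_mul, mul_comm, _root_.zpow_mul, zpow_natCast,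
      ← pow_mul, mul_comm, ← h2, pow_orderOf_eq_one, _root_.one_zpow]⟩)
    (zpowers_le.2 (L.pow_mem hf m))
  have := (D.ker _ (h3 (conj_mem_cj (mem_zpowers _)))).1 (by
    rw [D.nat.ρ_conj hg (L.pow_mem hf m), D.nat.ρ_pow hf, e]; simp)
  simpa [mul_assoc] using conj_mem_of_norm' (le_norm_core L hg) this

namespace Pr
variable {L S A B S' A' B' D₀ D E L₀ : Subgroup G} (h : Pr p L S A B S' A' B' D₀ D E L₀)
include h

local notation "T" => 𝐎[p, L]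
local notation "V" => 𝐕[p, L]
local notation "K" => 𝐑[p, L]
local notation "C₀" => 𝐂₀[p, L]

theorem memE' {x : G} (hx : x ∈ E) : ∃ y ∈ A ⊓ T, ∃ y' ∈ A' ⊓ T, y * y' = x := by
  have c1 : CD S (A ⊓ T) := h.sa.cd.inf h.v.cdT
  have n1 : E ≤ 𝐍[A ⊓ T] := norm_of_comm_le (h.ATB.trans h.BE)
    (h.comm_E.trans (le_inf h.D₀A h.D₀T))
  refine (mem_sup_norm ((h.symm.ATB.trans h.symm.BE).trans n1)).1 (h.E_le ?_ ?_ hx)
  · rw [← h.hB, ← h.V_eq]
    exact sup_le le_sup_left (sup_le_sup (le_inf h.sa.Z_le (h.v.Z_le.trans (V_le_core L)))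
      (le_inf h.sa'.Z_le (h.v'.Z_le.trans (V_le_core L))))
  · rw [← h.hB', ← h.V_eq]
    exact sup_le le_sup_right (sup_le_sup (le_inf h.sa.Z_le (h.v.Z_le.trans (V_le_core L)))
      (le_inf h.sa'.Z_le (h.v'.Z_le.trans (V_le_core L))))

theorem fixC {a x : G} (ha : a ∈ A) (hT : a ∉ T) (hx : x ∈ A' ⊓ T) (e : ⁅a, x⁆ ∈ C₀) : x ∈ C₀ := by
  have h1 := h.symm.ATB hx
  have h2 := h.EC₀ ⟨comm_le_right h.norm_E (ce_mem (h.AL₀ ha) (h.symm.BE h1)), e⟩
  exact h.D₀_le (h.hD₀.le ⟨h.memA ha hT (h.DB (h.fix ha hT h1 (h.D₀D h2))) (h.symm.D₀A h2), hx.1⟩)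

theorem conjS : ∃ g ∈ L₀, cj(g, A) = A' ∧ cj(g, S) = S' := by
  obtain ⟨g, h1, h2⟩ := h.conj
  exact ⟨g, h1, h2, by rw [← h.AT, ← h.symm.AT, cj_sup, h2, cj_of_norm (h.norm_T h1)]⟩

theorem quad (h5 : 5 ≤ p) (hab : ⁅T, T⁆ ≤ C₀) (hp : ∀ t ∈ T, t ^ p ∈ C₀)
    (h3 : ∀ s ∈ S, ∀ t ∈ T, ⁅s, ⁅s, ⁅s, t⁆⁆⁆ ∈ C₀) :
    ∃ x ∈ A, x ∉ T ∧ ∀ y ∈ A, ∀ t ∈ T, ⁅x, ⁅y, t⁆⁆ ∈ V → ⁅x, ⁅y, t⁆⁆ ∈ C₀ := by
  obtain ⟨q, M, P, F, _, ρ, φ, N⟩ := h.v.ex
  obtain ⟨W, _, π, r, H⟩ := exists_secD inf_le_left hab (le_norm_core L) (norm_C₀ L)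
  have nT := le_norm_core (p := p) L
  have : Finite W := Finite.of_surjective (fun t : T => π t) fun w =>
    let ⟨v, hv, e⟩ := H.surj w; ⟨⟨v, hv⟩, e⟩
  have hW : ∀ w : W, p • w = 0 := fun w => by
    obtain ⟨v, hv, rfl⟩ := H.surj w
    rw [← H.pow hv, H.ker _ (pow_mem hv p)]
    exact hp v hv
  have cm : ∀ (g : L) {v}, v ∈ T → (r g (π v) = π v ↔ ⁅(g : G), v⁆ ∈ C₀) := fun g v hv => by
    rw [← H.ker _ (comm_le_right nT (ce_mem g.2 hv)), H.comm nT g hv, sub_eq_zero]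
  have rT : ∀ g : L, (g : G) ∈ T → r g = 1 := fun g hg => AddMonoidHom.ext fun w => by
    obtain ⟨v, hv, rfl⟩ := H.surj w
    exact (cm g hv).2 (hab (ce_mem hg hv))
  have hN : ∀ f ∈ N.nat.hom.ker, ∃ m, m.Coprime p ∧ r f ^ m = 1 := fun f hf =>
    let ⟨m, h1, h2⟩ := N.pow_core h.v.syl f.2 hf
    ⟨m, h1, by rw [← map_pow, rT _ h2]⟩
  have rp : ∀ s : L, (s : G) ∈ S → r s ^ p = 1 := fun s hs => by
    rw [← map_pow, rT _ (h.v.pow_mem hs)]
  have cN : ∀ s : L, (s : G) ∈ S → ∀ f ∈ N.nat.hom.ker, r f * r s = r s * r f := fun s hs f hf =>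
    hh_comm hW r _ hN (rp s hs) (AddMonoidHom.ext fun w => by
      obtain ⟨v, hv, rfl⟩ := H.surj w
      have m1 := comm_le_right nT (ce_mem s.2 hv)
      have m2 := comm_le_right nT (ce_mem s.2 m1)
      have := (H.ker _ (comm_le_right nT (ce_mem s.2 m2))).2 (h3 s hs v hv)
      rw [H.comm nT s m2, H.comm nT s m1, H.comm nT s hv] at this
      exact this) h5 hf
  have key : ∀ g s g' s' : L, (s : G) ∈ S → (s' : G) ∈ S →
      N.nat.hom (g * s * g⁻¹) = N.nat.hom (g' * s' * g'⁻¹) →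
      r (g * s * g⁻¹) = r (g' * s' * g'⁻¹) := fun g s g' s' hs hs' e => by
    have hf : g' * s' * g'⁻¹ * (g * s * g⁻¹)⁻¹ ∈ N.nat.hom.ker := by
      rw [MonoidHom.mem_ker, map_mul, ← e, map_inv, mul_inv_cancel]
    generalize hx : g' * s' * g'⁻¹ * (g * s * g⁻¹)⁻¹ = f at hf
    have e1 : g' * s' * g'⁻¹ = f * (g * s * g⁻¹) := by rw [← hx]; group
    have c : Commute (r f) (r (g * s * g⁻¹)) := by
      have := cN s hs (g⁻¹ * f * g) (by simpa using N.nat.hom.normal_ker.conj_mem f hf g⁻¹)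
      rw [← map_mul, ← map_mul] at this
      change _ * _ = _ * _
      rw [← map_mul, ← map_mul, show f * (g * s * g⁻¹) = g * (g⁻¹ * f * g * s) * g⁻¹ by group,
        map_mul, map_mul, this, ← map_mul, ← map_mul]
      congr 1; group
    have e2 : ∀ g s : L, (s : G) ∈ S → r (g * s * g⁻¹) ^ p = 1 := fun g s hs => by
      rw [← map_pow, conj_pow, map_mul, map_mul, map_pow, rp s hs, mul_one, ← map_mul,
        mul_inv_cancel, map_one]
    have e3 := e2 g' s' hs'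
    rw [e1, map_mul, c.mul_pow, e2 g s hs, mul_one] at e3
    obtain ⟨m, h1, h2⟩ := hN f hf
    rw [e1, map_mul r f, eq_one_of_coprime h1 h2 e3, one_mul]
  have up : ∀ t, ∃ a ∈ A, ρ a = slUp t := fun t => by
    obtain ⟨s, hs, e⟩ := N.nat.up_surj t
    obtain ⟨a, ha, u, hu, rfl⟩ := (mem_sup_norm' (h.AL₀.trans h.norm_T)).1 (h.AT.ge hs)
    rw [N.nat.ρ_mul _ (h.v.le (h.sa.le ha)) _ (h.v.le (h.v.TS hu)), (N.ker _ (h.v.TS hu)).2 hu,
      mul_one] at e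
    exact ⟨a, ha, e⟩
  obtain ⟨g, hg₀, eA, eS⟩ := h.conjS
  have hg := h.L₀L hg₀
  obtain ⟨t, ht, b1, b2⟩ := braid_sl (ρ g) fun e => N.nat.not_le_X (by
    rw [← h.V_eq, ← eS, ← cj_Z, cj_of_norm ((N.nat.mem_norm_X hg).2 e), sup_idem])
  obtain ⟨x, hx, ex⟩ := up 1
  obtain ⟨s, hs, es⟩ := up t
  have hxT : x ∉ T := fun h1 => one_ne_zero (slUp_eq_one_iff.1 (ex ▸ (N.ker x (h.sa.le hx)).2 h1))
  have hy : g * s * g⁻¹ ∈ A' := eA ▸ conj_mem_cj hs
  have ey := N.nat.ρ_conj hg (h.v.le (h.sa.le hs))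
  have hyT : g * s * g⁻¹ ∉ T := fun h1 => ht (slUp_eq_one_iff.1 (es ▸ (N.ker s (h.sa.le hs)).2
    (by simpa [mul_assoc] using conj_mem_of_norm' (nT hg) h1)))
  rw [es] at ey
  rw [← ey, ← ex] at b1 b2
  lift x to L using h.v.le (h.sa.le hx)
  lift s to L using h.v.le (h.sa.le hs)
  lift g to L using hg
  rw [← coe_inv, ← coe_mul, ← coe_mul] at hy hyT b1 b2
  rw [← N.nat.hom_apply, ← N.nat.hom_apply] at b1 b2
  have br := key (x * g) s (g * s * g⁻¹)⁻¹ x (h.sa.le hs) (h.sa.le hx) (by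
    rw [show x * g * s * (x * g)⁻¹ = x * (g * s * g⁻¹) * x⁻¹ by group, inv_inv]
    generalize g * s * g⁻¹ = y at b1
    simp only [map_mul, map_inv]
    rw [mul_inv_eq_iff_eq_mul, mul_assoc, mul_assoc, eq_inv_mul_iff_mul_eq, ← mul_assoc, ← b1,
      mul_assoc])
  rw [show x * g * s * (x * g)⁻¹ = x * (g * s * g⁻¹) * x⁻¹ by group, inv_inv] at br
  generalize g * s * g⁻¹ = y at hy hyT b1 b2 br
  replace br : r x * r y * r x = r y * r x * r y := by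
    have := congrArg (fun u => r y * u * r x) br
    simp only [← map_mul] at this ⊢
    convert this.symm using 2 <;> group
  rw [← map_mul, ← map_mul, ← map_pow] at b2
  obtain ⟨k, hk, h4⟩ := hN ((x * y * x) ^ 4) (by
    rw [MonoidHom.mem_ker, show 4 = 2 * 2 from rfl, pow_mul, map_pow, b2]; simp)
  rw [map_pow, map_mul, map_mul] at h4
  have dec : ∀ e ∈ E, ∃ u ∈ H.sub (A ⊓ T) inf_le_right, ∃ v ∈ H.sub (A' ⊓ T) inf_le_right,
      π e = u + v := fun e he => by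
    obtain ⟨u, hu, v, hv, rfl⟩ := h.memE' he
    exact ⟨_, ⟨u, hu, rfl⟩, _, ⟨v, hv, rfl⟩, H.mul _ hu.2 _ hv.2⟩
  have fx : ∀ a : L, (a : G) ∈ A → ∀ w ∈ H.sub (A ⊓ T) inf_le_right, r a w = w := by
    rintro a ha _ ⟨v, hv, rfl⟩
    exact (cm a hv.2).2 (ce_one ha (h.sa.ab hv.1) ▸ one_mem _)
  have q1 : ∀ w ∈ H.sub (A' ⊓ T) inf_le_right, r x w - w ∈ H.sub (A ⊓ T) inf_le_right := by
    rintro _ ⟨u, hu, rfl⟩
    obtain ⟨d, hd, v, hv, e⟩ := h.memB (h.comm_AE (ce_mem hx (h.symm.BE (h.symm.ATB hu))))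
    obtain ⟨z, hz, z', hz', rfl⟩ := (mem_sup_norm (h.v'.Z_le.trans
      (h.v.VS'.trans (norm_Z le_normalizer)))).1 (h.V_eq.ge hv)
    have hzT := (h.v.Z_le hz).1
    have hzT' := (h.v'.Z_le hz').1
    have e1 : r x (π u) - (π u + π z') = π (d * z) := by
      rw [← sub_sub, ← H.comm nT x hu.2, ← e, ← mul_assoc, H.mul _ (mul_mem hd.2 hzT) _ hzT',
        add_sub_cancel_right]
    have m1 : π (d * z) ∈ H.sub (A ⊓ T) inf_le_right :=
      ⟨_, mul_mem hd ⟨h.sa.Z_le hz, hzT⟩, rfl⟩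
    have h6 := burau' (a := r x) (b := r y) (P := H.sub (A' ⊓ T) inf_le_right)
      (Q := H.sub (A ⊓ T) inf_le_right)
      (by
        rintro _ ⟨v, hv, rfl⟩
        obtain ⟨a, ha, b, hb, e⟩ := dec _ (conj_mem_of_norm (h.norm_E (h.symm.AL₀ hy))
          (h.BE (h.ATB hv)))
        exact ⟨b, hb, a, ha, by rw [H.equiv _ _ hv.2, e, add_comm]⟩)
      (by
        rintro _ ⟨v, hv, rfl⟩
        obtain ⟨a, ha, b, hb, e⟩ := dec _ (conj_mem_of_norm (h.norm_E (h.AL₀ hx))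
          (h.symm.BE (h.symm.ATB hv)))
        exact ⟨a, ha, b, hb, by rw [H.equiv _ _ hv.2, e]⟩)
      (by
        rintro _ ⟨v, hv, rfl⟩ ⟨v', hv', e⟩
        have h1 := h.D₀A (h.EC₀ ⟨E.mul_mem (h.BE (h.ATB hv'))
          (E.inv_mem (h.symm.BE (h.symm.ATB hv))), (H.eq_iff hv'.2 hv.2).1 e⟩)
        rw [A.mul_mem_cancel_left hv'.1, inv_mem_iff] at h1
        exact (H.ker _ hv.2).2 (h.D₀_le (h.hD₀.le ⟨h1, hv.1⟩)))
      (fx x hx)
      (by
        rintro _ ⟨v, hv, rfl⟩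
        exact (cm y hv.2).2 (ce_one hy (h.sa'.ab hv.1) ▸ one_mem _))
      (by
        rintro _ ⟨v, hv, rfl⟩ h1
        exact (H.ker _ hv.2).2 (h.fixC hx hxT hv ((cm x hv.2).1 h1)))
      (by
        rintro _ ⟨v, hv, rfl⟩ h1
        exact (H.ker _ hv.2).2 (h.symm.fixC hy hyT hv ((cm y hv.2).1 h1)))
      br h4 (x := π u) (d := π z') ⟨u, hu, rfl⟩ ⟨z', ⟨h.sa'.Z_le hz', hzT'⟩, rfl⟩ (e1 ▸ m1)
      (by
        have := h.v.comm_le (ce_mem' (h.v'.Z_le hz') (h.sa.le hx))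
        exact ⟨_, ⟨h.sa.Z_le this, (h.v.Z_le this).1⟩, H.comm nT x hzT'⟩)
    have hp : p.Prime := Fact.out
    have h7 : Nat.Coprime p (k * 6) := hk.symm.mul_right (Nat.Coprime.mul_right (m := 2) (n := 3)
      ((Nat.coprime_primes hp Nat.prime_two).2 (by omega))
      ((Nat.coprime_primes hp Nat.prime_three).2 (by omega)))
    have h8 : π z' = 0 := AddMonoid.addOrderOf_eq_one_iff.1 (Nat.eq_one_of_dvd_coprimes h7
      (addOrderOf_dvd_of_nsmul_eq_zero (hW _)) (addOrderOf_dvd_of_nsmul_eq_zero h6))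
    rw [h8, add_zero] at e1
    exact e1 ▸ m1
  refine ⟨x, hx, hxT, fun a ha t ht hc => ?_⟩
  lift a to L using h.v.le (h.sa.le ha)
  generalize hz : (x * y * x) ^ 2 = z at b2
  have hz₀ : (z : G) ∈ L₀ := by
    rw [← hz]
    exact pow_mem (mul_mem (mul_mem (h.AL₀ hx) (h.symm.AL₀ hy)) (h.AL₀ hx)) 2
  have cz : ∀ s : L, (s : G) ∈ A → ∀ w, r z (r s w) = r s (r z w) := fun s hs w => by
    have := key z s 1 s (h.sa.le hs) (h.sa.le hs) (by simp [b2])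
    rw [one_mul, inv_one, mul_one] at this
    change (r z * r s) w = (r s * r z) w
    nth_rw 2 [← this]
    rw [← map_mul, ← map_mul, inv_mul_cancel_right]
  have ca : ∀ w, r x (r a w) = r a (r x w) := fun w => by
    change (r x * r a) w = (r a * r x) w
    rw [← map_mul, ← map_mul, show x * a = a * x from Subtype.ext (mem_cent.1 (h.sa.ab ha) x hx)]
  have m1 := comm_le_right nT (ce_mem a.2 ht)
  have ec := H.comm nT x m1
  rw [H.comm nT a ht] at ec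
  have i1 : r z (π ⁅(x : G), ⁅(a : G), t⁆⁆) + π ⁅(x : G), ⁅(a : G), t⁆⁆ = 0 := by
    have h1 := N.nat.conj_mem z.2 hc
    rw [H.equiv _ _ hc.1, ← H.mul _ h1.1 _ hc.1, H.ker _ (mul_mem h1 hc).1]
    refine ZL_le_C₀ (h.ZL_D₀.trans h.D₀T) ((N.nat.φ_ker _ (mul_mem h1 hc)).1 ?_)
    rw [N.nat.φ_mul _ h1 _ hc, N.nat.equiv _ z.2 _ hc, ← N.nat.hom_apply, b2, mv_neg_one,
      neg_add_cancel]
  obtain ⟨e, he, c, hc', e1⟩ := (mem_sup_norm' (h.ET.trans ((pCoreOf_le L).trans (norm_C₀ L)))).1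
    (sup_le_sup_right (sup_le h.R_le_E (h.VB.trans h.BE)) _ (h.comm_TL₀ (ce_mem' ht hz₀)))
  obtain ⟨u, hu, v, hv, e2⟩ := dec e he
  have e3 : r z (π t) = π t + (u + v) := by
    rw [← e2, ← sub_eq_iff_eq_add', ← H.comm nT z ht, ← e1, H.mul _ (h.ET he) _ hc'.1,
      (H.ker _ hc'.1).2 hc', add_zero]
  have e4 := fx a ha _ (q1 v hv)
  rw [← H.ker _ hc.1]
  have e5 : r z (π ⁅(x : G), ⁅(a : G), t⁆⁆) = π ⁅(x : G), ⁅(a : G), t⁆⁆ := by
    rw [ec]
    simp only [map_sub, cz x hx, cz a ha, e3, map_add, fx x hx u hu, fx a ha u hu] at e4 ⊢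
    rw [ca v]
    linear_combination (norm := abel) e4
  rw [e5, ← two_nsmul] at i1
  exact AddMonoid.addOrderOf_eq_one_iff.1 (Nat.eq_one_of_dvd_coprimes
    ((Nat.coprime_primes Fact.out Nat.prime_two).2 (by omega))
    (addOrderOf_dvd_of_nsmul_eq_zero (hW _)) (addOrderOf_dvd_of_nsmul_eq_zero i1))

end Pr

end Cfsg.Agent.Loc.PU
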