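import Mathlib
import Cfsg.Agent.Loc.GNQuad

/-! Two pushing-up vertices on a common Sylow subgroup. -/

namespace Cfsg.Agent.Loc.PU

open Cfsg Cfsg.Agent.GT Cfsg.Agent.Loc.Mss Subgroup Matrix
open scoped commutatorElement MatrixGroups

set_option linter.unusedSectionVars false
set_option linter.unusedVariables false

universe u
variable {p : ℕ}

/-- the characteristic subgroup measuring the distance from the exceptional case -/
def S0 {G : Type*} [Group G] (p : ℕ) (S : Subgroup G) : Subgroup G :=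
  if p = 2 then ⁅Φ[S], S⁆ ⊔ Φ[Φ[S]] else if p = 3 then ⁅⁅Φ[S], S⁆, S⁆ ⊔ Φ[Φ[S]]
  else ⁅Φ[S], S⁆ ⊔ powerClosure p 1 S

variable {G : Type u} [Group G] [Finite G] [Fact p.Prime]

theorem S0_le {S Y C : Subgroup G} (hS : IsPGroup p S) (h1 : Φ[S] ≤ Y) (h2 : ⁅Y, Y⁆ ≤ C)
    (h3 : ∀ y ∈ Y, y ^ p ∈ C) (h4 : p ≠ 3 → ⁅Y, S⁆ ≤ C) (h5 : ⁅⁅Y, S⁆, S⁆ ≤ C)
    (h6 : p ≠ 2 → p ≠ 3 → ∀ s ∈ S, s ^ p ∈ C) : S0 p S ≤ C := by
  have h7 : Φ[Φ[S]] ≤ C := (frat_le_iff (hS.to_le (map_subtype_le _))).2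
    ⟨(commutator_mono h1 h1).trans h2, fun a ha => h3 a (h1 ha)⟩
  unfold S0
  split_ifs with e2 e3
  · exact sup_le ((commutator_mono h1 le_rfl).trans (h4 (by omega))) h7
  · exact sup_le ((commutator_mono (commutator_mono h1 le_rfl) le_rfl).trans h5) h7
  · exact sup_le ((commutator_mono h1 le_rfl).trans (h4 e3))
      (PG.powerClosure_one_le_iff.2 (h6 e2 e3))

section
variable {L L' S : Subgroup G}

local notation "T" => 𝐎[p, L]
local notation "V" => 𝐕[p, L]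
local notation "K" => 𝐑[p, L]
local notation "C₀" => 𝐂₀[p, L]
local notation "T'" => 𝐎[p, L']
local notation "V'" => 𝐕[p, L']
local notation "K'" => 𝐑[p, L']
local notation "C₀'" => 𝐂₀[p, L']

namespace VS
variable (h : VS p L S)
include h

theorem norm_C : S ≤ 𝐍[C₀] := h.le.trans (norm_C₀ L)

theorem ZT : 𝐙[S] ≤ T := h.Z_le.trans (V_le_core L)

theorem ZL_C : 𝐙[L] ≤ C₀ := ZL_le_C₀ (h.ZL_le.trans h.ZT)

theorem comm_ZC : ⁅𝐙[S] ⊔ C₀, S⁆ ≤ C₀ :=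
  sup_comm_le (inf_le_left.trans h.norm_C) le_normalizer
    ((comm_eq_bot_iff.2 inf_le_right).le.trans bot_le) (comm_le_left h.norm_C)

theorem memZ' {s v : G} (hs : s ∈ S) (hT : s ∉ T) (hv : v ∈ V) (e : ⁅s, v⁆ ∈ C₀) : v ∈ 𝐙[S] :=
  h.memZ hs hT hv (h.ZL (X := 𝐙[S] ⊓ C₀) inf_le_left (inf_le_right.trans inf_le_right)
    ⟨h.comm_le (ce_mem' hv hs), e⟩)

theorem R_le_of {X Y : Subgroup G} (hX : X ≤ S) (hT : ¬ X ≤ T) (hn : L ≤ 𝐍[Y]) (e : ⁅T, X⁆ ≤ Y) :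
    ⁅T, K⁆ ≤ Y :=
  (le_cmod.1 (h.res_le hX hT (le_cmod.2 ⟨(hX.trans h.le).trans hn, e⟩)
    (norm_cmod (le_norm_core L) hn))).2

variable (h' : VS p L' S)
include h'

theorem V_le_symm (h1 : V ≤ T') : V' ≤ T :=
  (le_inf h'.VS' (cent_comm (h1.trans (core_le_cent_V L')))).trans h.cent_V.le

theorem T_eq {X : Subgroup G} (hX : CD S X) (h1 : X ≤ T) (h2 : ¬ X ≤ T') (hn : S ≤ 𝐍[X]) :
    X ⊔ (T' ⊓ T) = T := by
  rw [← dedekind (h'.TS.trans hn) h1, h'.sup_T hX h2, inf_eq_right.2 h.TS]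

theorem one (hZ : ∀ z ∈ 𝐙[S], z ^ p = 1) (h1 : ¬ V' ≤ T) : S0 p S ≤ C₀ := by
  have e1 := h.sup_T h'.cdV h1
  have nV := h.le.trans (le_norm_V (p := p) L)
  have e3 := h.T_eq h' h.cdV (V_le_core L) (fun h2 => h1 (h.V_le_symm h' h2)) nV
  have hR : ⁅T, K⁆ ≤ V := h.R_le_of h'.VS' h1 (le_norm_V L) (by
    nth_rw 1 [← e3]
    rw [sup_cent_comm (inf_le_left.trans (h'.TS.trans nV)) (inf_le_left.trans (core_le_cent_V L'))]
    exact comm_le_left (h'.VS'.trans nV))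
  have hab : ⁅T, T⁆ ≤ C₀ := ab_core ((commutator_mono hR le_rfl).trans
    ((comm_eq_bot_iff.2 inf_le_right).le.trans bot_le))
  have hp : ∀ t ∈ T, t ^ p ∈ C₀ := fun t ht =>
    pow_core hab (fun x hx => h.powV hZ (hR hx) ▸ one_mem _) ht
  have hY : 𝐙[S] ⊔ C₀ ≤ T := sup_le h.ZT inf_le_left
  have nY : S ≤ 𝐍[𝐙[S] ⊔ C₀] := norm_sup (norm_ZL S) h.norm_C
  have c1 : ⁅S, S⁆ ≤ 𝐙[S] ⊔ C₀ := by
    nth_rw 1 [← e1]
    refine sup_comm_le (h'.VS'.trans nY) (h.TS.trans nY) (h'.comm_le.trans le_sup_left) ?_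
    nth_rw 1 [← e1]
    exact comm_sup_le (h'.VS'.trans nY) (h.TS.trans nY) ((commutator_comm _ _).le.trans
      ((commutator_mono le_rfl h.TS).trans (h'.comm_le.trans le_sup_left))) (hab.trans le_sup_right)
  refine S0_le h.syl.pg ((frat_le_iff h.syl.pg).2 ⟨c1, pow_mem_of_sup (hY.trans h.TS) c1 e1.symm
    (fun x hx => h'.powV hZ hx ▸ one_mem _) fun x hx => mem_sup_right (hp x hx)⟩)
    ((commutator_mono hY hY).trans hab) (fun y hy => hp y (hY hy)) (fun _ => h.comm_ZC)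
    ((commutator_mono h.comm_ZC le_rfl).trans (comm_le_left h.norm_C)) fun h2 h3 s hs => ?_
  obtain ⟨v, hv, t, ht, rfl⟩ := (mem_sup_norm (h.TS.trans (h'.le.trans (le_norm_V L')))).1 (e1.ge hs)
  have h4 := h'.comm_le (ce_mem' hv (h.TS ht))
  obtain ⟨k, hk⟩ := (Fact.out : p.Prime).dvd_choose_self two_ne_zero
    (lt_of_le_of_ne (Fact.out : p.Prime).two_le (Ne.symm h2))
  rw [CopAct.mul_pow_of_commute_commutatorElement (mem_cent.1 h4.2 v (h'.VS' hv))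
    (mem_cent.1 h4.2 t (h.TS ht)), h'.powV hZ hv, hk, pow_mul, hZ _ h4, one_pow, one_mul, mul_one]
  exact hp t ht

theorem exists_A (h1 : V' ≤ T) {A : Subgroup G} (hA : SA S A) (hT : ¬ A ≤ T) :
    ∃ A, SA S A ∧ ¬ A ≤ T ∧ V' ≤ (A ⊓ T) ⊔ V := by
  have key : ∀ A, SA S A → A ⊓ T ≤ T' → V' ≤ (A ⊓ T) ⊔ V := fun A hA h2 =>
    (le_inf h1 (le_cent_sup (cent_comm (h2.trans (core_le_cent_V L')))
      (h1.trans (core_le_cent_V L)))).trans (h.star hA).cent.le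
  by_cases h2 : A ⊓ T ≤ T'
  · exact ⟨A, hA, hT, key A hA h2⟩
  refine ⟨_, h'.star' hA, fun h3 => hT ?_,
    key _ (h'.star' hA) (inf_le_left.trans (sup_le inf_le_right (V_le_core L')))⟩
  have := dedekind' (N := T') (H := A ⊓ T) (M := A)
    (inf_le_right.trans (h.TS.trans (h'.le.trans (le_norm_core L')))) inf_le_left
  rw [sup_comm, h'.sup_T (hA.cd.inf h.cdT) h2, inf_eq_right.2 hA.le] at this
  exact this.le.trans (sup_le ((inf_comm _ _).le.trans (le_sup_left.trans h3)) inf_le_right)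

theorem norm_U : S ≤ 𝐍[V ⊔ V'] :=
  norm_sup (h.le.trans (le_norm_V L)) (h'.le.trans (le_norm_V L'))

end VS

namespace Pr
variable {A B S' A' B' D₀ D E L₀ : Subgroup G} (h : Pr p L S A B S' A' B' D₀ D E L₀)
  (h' : VS p L' S)
include h h'

theorem side (hZ : ∀ z ∈ 𝐙[S], z ^ p = 1) (h1 : V' ≤ B) (h2 : ¬ V' ≤ B') :
    ¬ B' ≤ T' ∧ A ≤ T' ∧ ∃ X, X ≤ E ∧ L ≤ 𝐍[X] ∧ V ≤ X ∧ ⁅X, T⁆ ≤ 𝐙[L] ∧ (∀ x ∈ X, x ^ p ∈ 𝐙[L]) ∧
      CD S X ∧ ∀ a ∈ A, a ∉ T → ∃ n ∈ V', n ∉ B' ∧ ∃ y ∈ X ⊓ B', ∃ d ∈ D, ⁅a, y⁆ = d * n := by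
  have hT := h1.trans h.BT
  have h3 : ¬ B' ≤ T' := fun h3 => h2 ((le_inf hT (cent_comm (h3.trans (core_le_cent_V L')))).trans
    h.symm.saB.cent.le)
  have hB'S := h.symm.BT.trans h.v.TS
  have h4 : ⁅V', S⁆ ≤ 𝐙[L] := by
    refine (le_inf h'.comm_le (commutator_le.2 fun v hv s hs => ?_)).trans h.ZA'
    obtain ⟨b, hb, t, ht, rfl⟩ := (mem_sup_norm' (hB'S.trans (h'.le.trans (le_norm_core L')))).1
      ((h'.sup_T (h.v.up h.symm.saB.cd) h3).ge hs)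
    rw [ce_mul_right (ce_one' ht hv.2)]
    exact h.symm.D₀A (h.comm_E (ce_mem (h.BE (h1 hv)) (h.symm.BE hb)))
  obtain ⟨a, ha, haT⟩ := h.exists_a
  have h5 : V' ≤ A := fun v hv =>
    h.memA ha haT (h1 hv) (h.symm.D₀A (h.ZL_D₀ (h4 (ce_mem' hv (h.sa.le ha)))))
  have hU : V ⊔ V' ≤ T := sup_le (V_le_core L) hT
  have nT := le_norm_core (p := p) L
  have c1 : ⁅ncl L (V ⊔ V'), T⁆ ≤ 𝐙[L] := (commutator_comm _ _).le.trans (le_cmod.1 (ncl_le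
    (le_cmod.2 ⟨hU.trans ((pCoreOf_le L).trans (norm_ZL L)), comm_sup_le
      ((V_le_core L).trans ((pCoreOf_le L).trans (norm_ZL L)))
      (hT.trans ((pCoreOf_le L).trans (norm_ZL L)))
      ((comm_eq_bot_iff.2 (core_le_cent_V L)).le.trans bot_le)
      ((commutator_comm _ _).le.trans ((commutator_mono le_rfl h.v.TS).trans h4))⟩)
    (norm_cmod nT (norm_ZL L)))).2
  have hX : ncl L (V ⊔ V') ≤ E := (ncl_le_of_mul fun g hg => by
    obtain ⟨k, hk, t, ht, rfl⟩ := (mem_sup_norm' h.norm_T).1 (h.sup.ge hg)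
    exact ⟨k, hk, t, h.v.norm_U h' (h.v.TS ht), rfl⟩).trans
    (ncl_le (sup_le (h.VB.trans h.BE) (h1.trans h.BE)) h.norm_E)
  have hV : V ≤ ncl L (V ⊔ V') := le_sup_left.trans (le_ncl _ _)
  refine ⟨h3, (le_inf h.sa.le (cent_comm (h5.trans h.sa.ab))).trans h'.cent_V.le, _, hX,
    le_norm_ncl _ _, hV, c1, ?_, h.v.up ((h.v.down (h.v.cdV.sup h'.cdV) le_sup_left hU).ncl nT),
    fun a ha haT => ?_⟩
  · obtain ⟨P, hP⟩ := exists_pws (h.v.ZL_le.trans (h.v.Z_le.trans hV))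
      ((commutator_mono le_rfl (hX.trans h.ET)).trans c1) p
    have : ncl L (V ⊔ V') ≤ P := ncl_le_iff.2 fun g hg => cj_le_iff.2 fun u hu =>
      (hP _).2 ⟨cj_le_ncl _ hg (conj_mem_cj hu), by
        obtain ⟨v, hv, v', hv', rfl⟩ := (mem_sup_norm (h'.VS'.trans (h.v.le.trans
          (le_norm_V L)))).1 hu
        rw [conj_pow, Commute.mul_pow (mem_cent.1 hv.2 v' (hT hv')).symm, h.v.powV hZ hv,
          h'.powV hZ hv', one_mul, mul_one, mul_inv_cancel]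
        exact one_mem _⟩
    exact fun x hx => ((hP x).1 (this hx)).2
  · obtain ⟨n, hn, hn'⟩ := SetLike.not_le_iff_exists.1 h2
    obtain ⟨y, hy, e⟩ := h.surj hX (h.L₀L.trans (le_norm_ncl _ _)) ha haT
      ⟨le_ncl _ _ (mem_sup_right hn), h1 hn⟩
    exact ⟨n, hn, hn', y, hy, _, e, by group⟩

theorem norm_U (h1 : V' ≤ B) (h2 : V' ≤ B') : L ≤ 𝐍[V ⊔ V'] :=
  h.L_le (h.norm_of_le_D le_sup_left (sup_le h.VD (h.le_D h1 h2))) (h.v.TS.trans (h.v.norm_U h'))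

theorem two (hZ : ∀ z ∈ 𝐙[S], z ^ p = 1) (hV : V ≤ T') (h1 : V' ≤ B) (h2 : ¬ V' ≤ B') :
    S0 p S ≤ C₀' := by
  obtain ⟨h3, h4, X, hXE, nX, hVX, cX, pX, cd, ex⟩ := h.side h' hZ h1 h2
  obtain ⟨a, ha, haT⟩ := h.exists_a
  obtain ⟨n, hn, hn', y, hy, d, hd, e⟩ := ex a ha haT
  have sa₁ : SA S B' := h.v.cdT.sa_up h.v.centT h.symm.saB
  obtain ⟨S₁, A₁, B₁, D₀₁, D₁, E₁, L₁, P⟩ := h'.exists_pr sa₁ h3
  have hXT := hXE.trans h.ET
  have hXS := hXT.trans h.v.TS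
  have nT' := le_norm_core (p := p) L'
  have hZS := h.v.ZL_le
  have fin : ∀ x ∈ B', x ∉ T' → ⁅x, ⁅a, y⁆⁆ ∉ C₀' := fun x hx hx' h5 => by
    rw [e, ce_mul_right' (ce_one hx (h.symm.abB (h.symm.DB hd))),
      conj_Z (h.v.TS (h.BT (h.DB hd))) (h'.comm_le (ce_mem' hn (sa₁.le hx)))] at h5
    exact hn' (h.symm.VB (h.v.Z_le (h'.memZ' (sa₁.le hx) hx' hn h5)))
  have hyT : y ∉ T' := fun h5 => by
    obtain ⟨x, hx, hx'⟩ := P.exists_a
    exact fin x hx hx' (P.key (ce_mem' (ce_mem (h4 ha) ⟨hy.2, h5⟩) hx))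
  have hX' : ¬ X ≤ T' := fun h5 => hyT (h5 hy.1)
  have eS := h'.sup_T cd hX'
  have cXX : ⁅X, X⁆ ≤ 𝐙[S] := (commutator_mono le_rfl hXT).trans (cX.trans hZS)
  have hZD : 𝐙[S] ≤ D₁ := h'.Z_le.trans P.VD
  have hVB : V ≤ (B' ⊓ T') ⊔ V' := (le_inf h.symm.VB hV).trans le_sup_left
  have nC := (pCoreOf_le (p := p) L').trans (norm_C₀ (p := p) L')
  have main : ⁅⁅T', K'⁆, T'⁆ ≤ C₀' ∧ ∀ x ∈ ⁅T', K'⁆, x ^ p ∈ C₀' := by
    by_cases h5 : V ≤ B₁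
    · have h6 : E₁ ≤ T := (le_inf (P.ET.trans h'.TS) (P.E_le (cent_comm (hVB.trans P.abB))
        (cent_comm (h5.trans P.symm.abB)))).trans h.v.cent_V.le
      have h7 : B₁ ≤ D₁ := fun b hb => P.fix hy.2 hyT hb
        (hZD (hZS (cX (ce_mem hy.1 (h6 (P.symm.BE hb))))))
      obtain ⟨g, hg, -, eg⟩ := P.conjB
      have h8 : E₁ ≤ V' ⊔ C₀' := by
        refine (P.E_le ?_ h7).trans (P.D_eq.ge.trans (sup_le_sup_left P.D₀_le _))
        rw [← cj_le_cj (g := g), eg, cj_of_norm (P.norm_D hg)]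
        exact h7
      have h9 := P.R_le_E.trans h8
      refine ⟨(commutator_mono h9 le_rfl).trans (sup_comm_le ((V_le_core L').trans nC) le_normalizer
        ((comm_eq_bot_iff.2 inf_le_right).le.trans bot_le) (comm_le_left nC)), fun x hx => ?_⟩
      obtain ⟨v, hv, c, hc, rfl⟩ := (mem_sup_norm' ((V_le_core L').trans nC)).1 (h9 hx)
      rw [Commute.mul_pow (mem_cent.1 hv.2 c hc.1).symm, h'.powV hZ hv, one_mul]
      exact pow_mem hc p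
    · obtain ⟨-, -, X', hXE', nX', hVX', cX', pX', cd', ex'⟩ := P.side h.v hZ hVB h5
      have h6 : ¬ X' ≤ T := fun h6 => by
        obtain ⟨m, hm, hm', z, hz, d', hd', e'⟩ := ex' y hy.2 hyT
        have := hZD (hZS (cX (ce_mem hy.1 (h6 hz.1))))
        rw [e', mul_mem_cancel_left hd'] at this
        exact hm' (P.symm.DB this)
      have e1 := h'.T_eq h.v cd' (hXE'.trans P.ET) h6 (h'.le.trans nX')
      have h7 : ⁅T', K'⁆ ≤ X' := h'.R_le_of hXS hX' nX' (by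
        rw [← e1]
        exact sup_comm_le le_normalizer (inf_le_left.trans (h.v.TS.trans (h'.le.trans nX')))
          (comm_le_left (hXS.trans (h'.le.trans nX'))) ((commutator_comm _ _).le.trans
            ((commutator_mono le_rfl inf_le_left).trans
              (cX.trans (hZS.trans (h'.Z_le.trans hVX'))))))
      exact ⟨(commutator_mono h7 le_rfl).trans (cX'.trans h'.ZL_C),
        fun x hx => h'.ZL_C (pX' x (h7 hx))⟩
  have hab := ab_core main.1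
  have hp : ∀ t ∈ T', t ^ p ∈ C₀' := fun t ht => pow_core hab main.2 ht
  have cTX : ⁅T', X⁆ ≤ X := comm_le_right (h'.TS.trans (h.v.le.trans nX))
  have nY : S ≤ 𝐍[⁅T', X⁆] := norm_comm (h'.le.trans nT') (h.v.le.trans nX)
  have nZC : S ≤ 𝐍[𝐙[S] ⊔ C₀'] := norm_sup (norm_ZL S) h'.norm_C
  have hY : ⁅T', X⁆ ⊔ (𝐙[S] ⊔ C₀') ≤ T' :=
    sup_le (comm_le_left (hXS.trans (h'.le.trans nT'))) (sup_le h'.ZT inf_le_left)
  have nY' := norm_sup nY nZC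
  have c1 : ⁅T', S⁆ ≤ ⁅T', X⁆ ⊔ (𝐙[S] ⊔ C₀') := by
    nth_rw 1 [← eS]
    exact comm_sup_le (hXS.trans nY') (h'.TS.trans nY') le_sup_left
      (hab.trans (le_sup_right.trans le_sup_right))
  have c2 : ⁅⁅T', X⁆ ⊔ (𝐙[S] ⊔ C₀'), S⁆ ≤ 𝐙[S] ⊔ C₀' := by
    refine sup_comm_le ((le_sup_left.trans hY).trans (h'.TS.trans nZC)) le_normalizer ?_
      (comm_le_left nZC)
    nth_rw 1 [← eS]
    exact comm_sup_le (hXS.trans nZC) (h'.TS.trans nZC)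
      ((commutator_mono cTX le_rfl).trans (cXX.trans le_sup_left))
      ((commutator_mono (le_sup_left.trans hY) le_rfl).trans (hab.trans le_sup_right))
  by_cases p3 : p = 3
  · have c3 : ⁅S, S⁆ ≤ ⁅T', X⁆ ⊔ (𝐙[S] ⊔ C₀') := by
      nth_rw 1 [← eS]
      refine sup_comm_le (hXS.trans nY') (h'.TS.trans nY') ?_ c1
      nth_rw 1 [← eS]
      exact comm_sup_le (hXS.trans nY') (h'.TS.trans nY')
        (cXX.trans (le_sup_left.trans le_sup_right)) ((commutator_comm _ _).le.trans le_sup_left)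
    exact S0_le h'.syl.pg ((frat_le_iff h'.syl.pg).2 ⟨c3, pow_mem_of_sup (hY.trans h'.TS) c3 eS.symm
      (fun x hx => mem_sup_right (mem_sup_left (hZS (pX x hx))))
      fun x hx => mem_sup_right (mem_sup_right (hp x hx))⟩)
      ((commutator_mono hY hY).trans hab) (fun y hy => hp y (hY hy)) (fun h5 => absurd p3 h5)
      ((commutator_mono c2 le_rfl).trans h'.comm_ZC) fun _ h5 => absurd p3 h5
  exfalso
  have hay : ⁅a, y⁆ ∈ T' := hY (mem_sup_left (ce_mem (h4 ha) hy.1))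
  by_cases p2 : p = 2
  · subst p2
    refine fin y hy.2 hyT ?_
    have h5 := (mem_cent.1 (hZS (pX y hy.1)).2 a (h.sa.le ha))
    have h6 : ⁅y, ⁅a, y⁆⁆ = (⁅a, y⁆ ^ 2)⁻¹ := by
      calc _ = y * a * y * (y ^ 2 * a)⁻¹ * ⁅a, y⁆⁻¹ := by simp only [commutatorElement_def]; group
        _ = _ := by rw [← h5]; simp only [commutatorElement_def, pow_two]; group
    rw [h6]
    exact inv_mem (hp _ hay)
  have h5 : 5 ≤ p := (Fact.out : p.Prime).five_le_of_ne_two_of_ne_three p2 p3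
  obtain ⟨x, hx, hx', q⟩ := P.quad h5 hab hp fun s hs t ht =>
    h'.comm_ZC (ce_mem' (c2 (ce_mem' (c1 (ce_mem' ht hs)) hs)) hs)
  have h6 : ⁅x, ⁅y, a⁆⁆ ∈ 𝐙[S] := hZS (cX (ce_mem' (cTX (ce_mem' (h4 ha) hy.1)) (h.symm.BT hx)))
  have h7 := q y hy.2 a (h4 ha) (h'.Z_le h6)
  refine fin x hx hx' ?_
  convert conj_mem_of_norm' (nC (ce_symm hay)) (inv_mem h7) using 1
  simp only [commutatorElement_def]; group

end Pr

/-- The pair theorem. -/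
theorem VS.pair (h : VS p L S) (h' : VS p L' S) (hZ : ∀ z ∈ 𝐙[S], z ^ p = 1) {A : Subgroup G}
    (hA : SA S A) (hT : ¬ A ≤ T) (h0 : ¬ S0 p S ≤ C₀) (h0' : ¬ S0 p S ≤ C₀') :
    V' ≤ T ∧ L ≤ 𝐍[V ⊔ V'] := by
  have h1 : V' ≤ T := by_contra fun h1 => h0 (h.one h' hZ h1)
  obtain ⟨A, hA, hT, h2⟩ := h.exists_A h' h1 hA hT
  obtain ⟨S', A', B', D₀, D, E, L₀, P⟩ := h.exists_pr hA hT
  exact ⟨h1, P.norm_U h' h2 (by_contra fun h3 => h0' (P.two h' hZ (h'.V_le_symm h h1) h2 h3))⟩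

end

end Cfsg.Agent.Loc.PU
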