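import Mathlib
import Cfsg.Agent.Rec.Pres
import Cfsg.Agent.Rec.B5
import Cfsg.Agent.Rec.B10

/-! Generated by tools/rec: letters and presentations around the Sylow subgroup of L3(4) -/

set_option autoImplicit false
set_option maxRecDepth 100000
set_option linter.unusedVariables false
set_option exponentiation.threshold 100000

namespace Cfsg.Agent.Loc.GC3

open Cfsg.Agent.Spor Cfsg.Agent.Rec

universe u

noncomputable def cN : List ℕ := [(nat_lit 0x8014038040080100200400811), (nat_lit 0x8016028040080100200404801), (nat_lit 0x8010020040880100280700801), (nat_lit 0x80100202400801002c0500801), (nat_lit 0x80100a0040080100201400801), (nat_lit 0x8030020040080100600400801), (nat_lit 0x8018040060100100300800c02), (nat_lit 0x8008060020180100100c00403), (nat_lit 0x8010060040180100200c00803), (nat_lit 0x400801002006004008010020)]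

noncomputable def cV : List ℕ := [(nat_lit 0x1041051), (nat_lit 0x1041241), (nat_lit 0x1051c41), (nat_lit 0x1059441), (nat_lit 0x1045041), (nat_lit 0x10c1041), (nat_lit 0x1062062), (nat_lit 0x1023023), (nat_lit 0x1043043), (nat_lit 0x1010504)]

noncomputable def cP : List ℕ := [(nat_lit 0x1051c41), (nat_lit 0x1059441), (nat_lit 0x1041051), (nat_lit 0x1041241), (nat_lit 0x1045041), (nat_lit 0x10c1041), (nat_lit 0x1043043), (nat_lit 0x101984a)]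

noncomputable def cX : List ℕ := cN.take 8

noncomputable def cF : List ℕ := cN.take 9

noncomputable def cG : List ℕ := [0, 1, 2, 3, 4, 5, 6, 7, 9].map (nth B10.A.one cN)

def relB : List (List ℕ) :=
  [[0, 0],
   [1, 1],
   [2, 2],
   [3, 3],
   [4, 4],
   [5, 5],
   [0, 1, 0, 1],
   [2, 3, 2, 3],
   [4, 5, 4, 5],
   [0, 4, 0, 4],
   [0, 5, 0, 5],
   [1, 4, 1, 4],
   [1, 5, 1, 5],
   [2, 4, 2, 4],
   [2, 5, 2, 5],
   [3, 4, 3, 4],
   [3, 5, 3, 5],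
   [0, 2, 0, 2, 4],
   [1, 3, 1, 3, 5],
   [0, 3, 0, 3, 4, 5],
   [1, 2, 1, 2, 4, 5]]

def exX : List (List ℕ) :=
  [[6, 7],
   [7, 6],
   [6, 6, 6],
   [6, 0, 7, 1],
   [6, 1, 7, 0, 1],
   [6, 2, 7, 3],
   [6, 3, 7, 2, 3],
   [6, 4, 7, 5],
   [6, 5, 7, 4, 5]]

def exF : List (List ℕ) :=
  [[8, 8],
   [8, 0, 8, 0],
   [8, 1, 8, 0, 1],
   [8, 2, 8, 2],
   [8, 3, 8, 2, 3],
   [8, 4, 8, 4],
   [8, 5, 8, 4, 5],
   [8, 6, 8, 6]]

def exG : List (List ℕ) :=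
  [[8, 8],
   [8, 6, 8, 7],
   [8, 0, 8, 2],
   [8, 1, 8, 3],
   [8, 4, 8, 4],
   [8, 5, 8, 5]]

def exD : List (List ℕ) :=
  [[8, 8],
   [8, 6, 8, 6],
   [8, 0, 8, 2],
   [8, 1, 8, 2, 3],
   [8, 4, 8, 4],
   [8, 5, 8, 4, 5]]

def exFG : List (List ℕ) :=
  [[9, 9],
   [9, 6, 9, 7],
   [9, 0, 9, 2],
   [9, 1, 9, 3],
   [9, 4, 9, 4],
   [9, 5, 9, 5],
   [9, 8, 9, 8]]

def exT : List (List ℕ) :=
  [[9, 9],
   [9, 6, 9, 7],
   [9, 8, 9, 8],
   [9, 4, 9, 0],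
   [9, 5, 9, 1],
   [9, 8, 2, 9, 8, 2, 9, 8, 2]]

def exS : List (List ℕ) :=
  [[6, 6],
   [6, 0, 6, 0],
   [6, 1, 6, 0, 1],
   [6, 2, 6, 2],
   [6, 3, 6, 2, 3],
   [6, 4, 6, 4],
   [6, 5, 6, 4, 5]]

def exP : List (List ℕ) :=
  [[7, 7],
   [7, 4, 7, 4],
   [7, 5, 7, 2],
   [7, 3, 7, 2, 3, 4, 5],
   [7, 0, 7, 6],
   [7, 1, 7, 1, 7, 1]]

def relX : List (List ℕ) := relB ++ exX

def relF : List (List ℕ) := relX ++ exF

def relG : List (List ℕ) := relX ++ exG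

def relD : List (List ℕ) := relX ++ exD

def relFG : List (List ℕ) := relF ++ exFG

def relT : List (List ℕ) := relF ++ exT

def relS : List (List ℕ) := relB ++ exS

def relP : List (List ℕ) := relS ++ exP

noncomputable def tB_rels : LT :=
(.node (.node (.node (.node (.node (.leaf [])
 (.leaf [nat_lit 3,nat_lit 4,nat_lit 3,nat_lit 4])
) (.leaf [nat_lit 2,nat_lit 3,nat_lit 2,nat_lit 3])
) (.node (.node (.leaf [nat_lit 3,nat_lit 3])
 (.leaf [nat_lit 0,nat_lit 3,nat_lit 0,nat_lit 3,nat_lit 4,nat_lit 5])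
) (.leaf [nat_lit 1,nat_lit 4,nat_lit 1,nat_lit 4])
)) (.node (.node (.node (.leaf [nat_lit 1,nat_lit 1])
 (.leaf [nat_lit 0,nat_lit 2,nat_lit 0,nat_lit 2,nat_lit 4])
) (.leaf [nat_lit 0,nat_lit 4,nat_lit 0,nat_lit 4])
) (.node (.leaf [nat_lit 5,nat_lit 5])
 (.leaf [nat_lit 2,nat_lit 4,nat_lit 2,nat_lit 4])
))) (.node (.node (.node (.node (.leaf [nat_lit 0,nat_lit 0])
 (.leaf [nat_lit 3,nat_lit 5,nat_lit 3,nat_lit 5])
) (.leaf [nat_lit 4,nat_lit 5,nat_lit 4,nat_lit 5])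
) (.node (.node (.leaf [nat_lit 4,nat_lit 4])
 (.leaf [nat_lit 1,nat_lit 2,nat_lit 1,nat_lit 2,nat_lit 4,nat_lit 5])
) (.leaf [nat_lit 1,nat_lit 5,nat_lit 1,nat_lit 5])
)) (.node (.node (.node (.leaf [nat_lit 2,nat_lit 2])
 (.leaf [nat_lit 1,nat_lit 3,nat_lit 1,nat_lit 3,nat_lit 5])
) (.leaf [nat_lit 0,nat_lit 5,nat_lit 0,nat_lit 5])
) (.node (.leaf [nat_lit 0,nat_lit 1,nat_lit 0,nat_lit 1])
 (.leaf [nat_lit 2,nat_lit 5,nat_lit 2,nat_lit 5])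
))))
noncomputable def tB_hws : LT :=
(.leaf [])

noncomputable def tB_inv : ℕ → ℕ := getP (nat_lit 8) (nat_lit 255) (nat_lit 0x50403020100)

noncomputable def tB_t : BT :=
(.node (.node (.node (.leaf (nat_lit 0x7097c50e12e0bc025798c24ad330894c5b0928ce0124e0d800a3ba7092a68012345822440f80095b70015b78001ea480057de8447614001717c011b44400535d8246522000c31a1117878122c0d000bebf008a2400012e3022248c84444170487e3000196b0001bc480051a7001116a0017aa82218078242d0e001397200162a40024d28003fa3000894800236d8000fc200076b00483610021e8c80036d70001483000613a000b6700430958084b260881a0c0902c14041b908001b930080e04000362c0005c50081f1501028200001e1c0000400080001))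
 (.leaf (nat_lit 0x5497878a92d8d522581d000bcbf2894a3a002c2f4004d4b3e499315492664912386c005b5f000839200105500024edc004cdc1447520648e63e911b878a23487800648d000c7445117444002bc62a48233000a9283113468a2240594443150007d129118cac001d4c00075b0000e75e001bab80052dd8002c870011d6c0013698a214831443a21000470802268e40021d2144542700035060220cd0002ed50c41608000d35a00042080432160085729000914a0002a04041f1180016900105838000a6640002400082317010342602040380405050080405))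
) (.node (.leaf (nat_lit 0x17544002d28632599b0e4ab2b249503c392846c824f188009696001232a002cef492450c10485175090258291ec90004f5c92478251c8e446c11bc7492358880081b30015778491803c822d070e4560d508a4322913070003c580007bb2000e55e022e8fc045a1f124360b1c86812002a2ec0037d70004ca60014374000aa1c0029538008ab50010b6802258e004489b9241e06208380a39064100035d68a4150a000c1540016aa4002b540000e820006d400005640001a4f800088101054340007a50000e498001992000050002038300404040080203))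
 (.leaf (nat_lit 0x7ff0000ffe0001ffc0003ff80007ff0000ffe0001ffc0003ff80007ff0000ffe0001ffc0003ff80007ff0000ffe0001ffc0003ff80007ff0000ffe0001ffc0003ff80007ff0000ffe0001ffc0003ff80007ff0000ffe0001ffc0003ff80007ff0000ffe0001ffc0003ff80007ff0000ffe0001ffc0003ff80007ff0000ffe0001ffc0003ff80007ff0000ffe0001ffc0003ff80007ff0000ffe0001ffc0003ff80007ff0000ffe0001ffc0003ff80007ff0000ffe0001ffc0003ff80007ff0000ffe0001ffc0003ff80007ff0000ffe0001ffc0003ff80))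
)) (.node (.node (.leaf (nat_lit 0x9097e6f212e4e000574fc44ac321094e4b11288bc324e8b800b9be0017f7e00232544244988648428000fd24002b2f00044da884771a0014574001b24042350c86466215c8c4462117c4c322c8a00084b4000a1182113c800053dd884451b000c556000ee240033560004fa60115c7a000ca204218858642e0a0008b48001dec0003556884260d0013b72000821004461b00059a9000bf54021f8cc000bc18086c2e108260c190441400134c0085027000633a000ba70041d91008321e0000d020004e3c0008c700820160102e2200006000403038080102))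
 (.leaf (nat_lit 0x7897a74f12dcd1b2589e000b1bd0014938002f6fe024d963c49828789285ed923cac0043c9000b7be3090062891f47c0040598007490001296e791c0680034470009bb90011f6c0017231622d8880098b83c8a6260013a780023c500042894c8822a610f46d121c8b8003588000fb6479138980017c3808a43b0007b44001c2b80014428002584000734261088340020d18001d83000a74e0221cd4002dd480874300002504021a0b400114b0085c2a00019020211c9404211200835200105e3a000160004140c80825180103a28020483c0406058080506))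
) (.node (.leaf (nat_lit 0x749765ce92d49da25913000aa9e38952560028268d24f96ba4972a7492460d124070e2458a1a486132c8fe52811f080003cc880092b7000e320002eefc004fdc9a4670e00153760025ee0003fd9800558c0016b7c002caf4e2250a9c4460b3488014590f075021c0c8007cb20006710022a8f0001e5100090b6000570e02280e8001c509c42706348480a590843c0025528008bb50010d68000620c043c98808712f000432c0019eb00007c100855280008d48001028c0004c0808331f01056360009e6000124b800038001030240203c340404848080304))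
 (.leaf (nat_lit 0x40244008048401004f802019e0040538008066800c10b0018116003022a006025400c14900182120030124006004800c0c880182900030320006024000c147001820d003001a0060a3000c106001818c0030118006003000c14500182890030412006022400c00480182880030310006022000c1438018207003030e006041c00814280102840020408004021000800200102830020406004060c0080418010003002050400408080080c10010102002050200408040080c0801010100201020020a000041000008180001020000202000040000000000))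
)))

noncomputable def tB_rules : LT :=
(.node (.node (.node (.node (.node (.node (.leaf [nat_lit 7,nat_lit 1,nat_lit 1,nat_lit 0,nat_lit 1,nat_lit 0,nat_lit 1])
 (.leaf [nat_lit 9,nat_lit 2,nat_lit 1,nat_lit 5,nat_lit 4,nat_lit 5,nat_lit 4])
) (.leaf [nat_lit 20,nat_lit 2,nat_lit 1,nat_lit 3,nat_lit 0,nat_lit 3,nat_lit 0,nat_lit 5,nat_lit 4])
) (.node (.leaf [nat_lit 14,nat_lit 1,nat_lit 1,nat_lit 2,nat_lit 4,nat_lit 2,nat_lit 4])
 (.leaf [nat_lit 21,nat_lit 1,nat_lit 0,nat_lit 2,nat_lit 1,nat_lit 2,nat_lit 4,nat_lit 5,nat_lit 1])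
)) (.node (.node (.node (.leaf [nat_lit 13,nat_lit 1,nat_lit 1,nat_lit 1,nat_lit 5,nat_lit 1,nat_lit 5])
 (.leaf [nat_lit 21,nat_lit 3,nat_lit 1,nat_lit 1,nat_lit 2,nat_lit 1,nat_lit 5,nat_lit 4,nat_lit 2])
) (.leaf [nat_lit 21,nat_lit 2,nat_lit 1,nat_lit 2,nat_lit 1,nat_lit 2,nat_lit 1,nat_lit 5,nat_lit 4])
) (.node (.leaf [nat_lit 19,nat_lit 4,nat_lit 0,nat_lit 5,nat_lit 1,nat_lit 3,nat_lit 1,nat_lit 3])
 (.leaf [nat_lit 18,nat_lit 2,nat_lit 1,nat_lit 0,nat_lit 2,nat_lit 0,nat_lit 4,nat_lit 2])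
))) (.node (.node (.node (.node (.leaf [nat_lit 11,nat_lit 1,nat_lit 1,nat_lit 0,nat_lit 5,nat_lit 0,nat_lit 5])
 (.leaf [nat_lit 19,nat_lit 2,nat_lit 1,nat_lit 1,nat_lit 3,nat_lit 1,nat_lit 5,nat_lit 3])
) (.leaf [nat_lit 12,nat_lit 0,nat_lit 1,nat_lit 4,nat_lit 1,nat_lit 4,nat_lit 1])
) (.node (.leaf [nat_lit 9,nat_lit 1,nat_lit 1,nat_lit 4,nat_lit 5,nat_lit 4,nat_lit 5])
 (.leaf [nat_lit 19,nat_lit 3,nat_lit 1,nat_lit 3,nat_lit 1,nat_lit 5,nat_lit 3,nat_lit 1])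
)) (.node (.node (.leaf [nat_lit 18,nat_lit 4,nat_lit 0,nat_lit 4,nat_lit 0,nat_lit 2,nat_lit 0,nat_lit 2])
 (.leaf [nat_lit 21,nat_lit 0,nat_lit 1,nat_lit 5,nat_lit 4,nat_lit 2,nat_lit 1,nat_lit 2,nat_lit 1])
) (.node (.leaf [nat_lit 17,nat_lit 1,nat_lit 1,nat_lit 3,nat_lit 5,nat_lit 3,nat_lit 5])
 (.leaf [nat_lit 15,nat_lit 2,nat_lit 1,nat_lit 5,nat_lit 2,nat_lit 5,nat_lit 2])
)))) (.node (.node (.node (.node (.node (.leaf [nat_lit 10,nat_lit 1,nat_lit 1,nat_lit 0,nat_lit 4,nat_lit 0,nat_lit 4])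
 (.leaf [nat_lit 20,nat_lit 3,nat_lit 1,nat_lit 0,nat_lit 3,nat_lit 0,nat_lit 5,nat_lit 4,nat_lit 3])
) (.leaf [nat_lit 20,nat_lit 5,nat_lit 0,nat_lit 5,nat_lit 0,nat_lit 3,nat_lit 0,nat_lit 3,nat_lit 4])
) (.node (.leaf [nat_lit 15,nat_lit 1,nat_lit 1,nat_lit 2,nat_lit 5,nat_lit 2,nat_lit 5])
 (.leaf [nat_lit 16,nat_lit 2,nat_lit 1,nat_lit 4,nat_lit 3,nat_lit 4,nat_lit 3])
)) (.node (.node (.leaf [nat_lit 18,nat_lit 1,nat_lit 1,nat_lit 2,nat_lit 0,nat_lit 2,nat_lit 0,nat_lit 4])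
 (.leaf [nat_lit 14,nat_lit 0,nat_lit 1,nat_lit 4,nat_lit 2,nat_lit 4,nat_lit 2])
) (.node (.leaf [nat_lit 16,nat_lit 1,nat_lit 1,nat_lit 3,nat_lit 4,nat_lit 3,nat_lit 4])
 (.leaf [nat_lit 8,nat_lit 2,nat_lit 1,nat_lit 3,nat_lit 2,nat_lit 3,nat_lit 2])
))) (.node (.node (.node (.node (.leaf [nat_lit 12,nat_lit 1,nat_lit 1,nat_lit 1,nat_lit 4,nat_lit 1,nat_lit 4])
 (.leaf [nat_lit 21,nat_lit 4,nat_lit 1,nat_lit 2,nat_lit 1,nat_lit 5,nat_lit 4,nat_lit 2,nat_lit 1])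
) (.leaf [nat_lit 20,nat_lit 0,nat_lit 1,nat_lit 5,nat_lit 4,nat_lit 3,nat_lit 0,nat_lit 3,nat_lit 0])
) (.node (.leaf [nat_lit 19,nat_lit 1,nat_lit 1,nat_lit 3,nat_lit 1,nat_lit 3,nat_lit 1,nat_lit 5])
 (.leaf [nat_lit 13,nat_lit 2,nat_lit 1,nat_lit 5,nat_lit 1,nat_lit 5,nat_lit 1])
)) (.node (.node (.leaf [nat_lit 8,nat_lit 1,nat_lit 1,nat_lit 2,nat_lit 3,nat_lit 2,nat_lit 3])
 (.leaf [nat_lit 7,nat_lit 2,nat_lit 1,nat_lit 1,nat_lit 0,nat_lit 1,nat_lit 0])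
) (.node (.leaf [nat_lit 21,nat_lit 5,nat_lit 0,nat_lit 5,nat_lit 1,nat_lit 2,nat_lit 1,nat_lit 2,nat_lit 4])
 (.leaf [nat_lit 21,nat_lit 1,nat_lit 1,nat_lit 4,nat_lit 2,nat_lit 1,nat_lit 2,nat_lit 1,nat_lit 5])
)))))

noncomputable def tB_subs : LT :=
(.leaf [nat_lit 0,nat_lit 0,nat_lit 0,nat_lit 6])


noncomputable def tB : TC :=
  ⟨fun x c => Nat.shiftRight (BT.get tB_t x) (Nat.mul (nat_lit 27) c),
  (nat_lit 7), (nat_lit 127), (nat_lit 262143), (nat_lit 18), (nat_lit 511), (nat_lit 262016), (nat_lit 64), (nat_lit 64), (nat_lit 6), (nat_lit 0), (nat_lit 6), (nat_lit 7), tB_inv, tB_rules, tB_subs⟩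

theorem tB_c1 : tB.rules.all (ruleOK tB.m tB.inv tB_rels) = true := by decide +kernel
theorem tB_c2 : tB.subs.all (subOK tB.m tB.inv tB_hws) = true := by decide +kernel
theorem tB_c3 : tB.base = true := by decide +kernel

theorem tB_s0 : tB.slots (nat_lit 0) (nat_lit 64) = true := by decide +kernel

theorem tB_c4 : tB.Upto tB.N := ((TC.upto_zero tB).step _ tB_s0)
theorem tB_c5 : tB.UptoE tB.N := (TC.uptoE_n tB)
theorem tB_bound {G : Type*} [Group G] {g : ℕ → G} {H : Subgroup G} (hinv : ∀ x < 6, g x * g (tB_inv x) = 1)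
    (hrels : ∀ i, evalW g (tB_rels.get i) = 1) (hH : ∀ x < 0, g x ∈ H) (hhws : ∀ i, evalW g (tB_hws.get i) ∈ H) :
    H.relIndex (genLt g 6) ≠ 0 ∧ H.relIndex (genLt g 6) ≤ 64 :=
  TC.relIndex_le (T := tB) hinv hrels hH hhws tB_c1 tB_c2 tB_c3 tB_c4 tB_c5

theorem tB_bd : Bound.{u} relB 0 6 64 := fun _ _ _ _ hs hH =>
  tB_bound (hs.hinv (by decide +kernel)) (hs.tree (by decide +kernel)) hH (leaf_nil_mem' _ _ (by decide +kernel))

noncomputable def tX_rels : LT :=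
(.node (.node (.node (.node (.node (.leaf [])
 (.leaf [nat_lit 2,nat_lit 4,nat_lit 2,nat_lit 4])
) (.node (.leaf [nat_lit 7,nat_lit 6])
 (.leaf [nat_lit 6,nat_lit 6,nat_lit 6])
)) (.node (.node (.leaf [nat_lit 3,nat_lit 3])
 (.leaf [nat_lit 0,nat_lit 2,nat_lit 0,nat_lit 2,nat_lit 4])
) (.node (.leaf [nat_lit 0,nat_lit 4,nat_lit 0,nat_lit 4])
 (.leaf [nat_lit 6,nat_lit 3,nat_lit 7,nat_lit 2,nat_lit 3])
))) (.node (.node (.node (.leaf [nat_lit 1,nat_lit 1])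
 (.leaf [nat_lit 3,nat_lit 4,nat_lit 3,nat_lit 4])
) (.node (.leaf [nat_lit 2,nat_lit 3,nat_lit 2,nat_lit 3])
 (.leaf [nat_lit 6,nat_lit 1,nat_lit 7,nat_lit 0,nat_lit 1])
)) (.node (.node (.leaf [nat_lit 5,nat_lit 5])
 (.leaf [nat_lit 0,nat_lit 3,nat_lit 0,nat_lit 3,nat_lit 4,nat_lit 5])
) (.node (.leaf [nat_lit 1,nat_lit 4,nat_lit 1,nat_lit 4])
 (.leaf [nat_lit 6,nat_lit 5,nat_lit 7,nat_lit 4,nat_lit 5])
)))) (.node (.node (.node (.node (.leaf [nat_lit 0,nat_lit 0])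
 (.leaf [nat_lit 2,nat_lit 5,nat_lit 2,nat_lit 5])
) (.node (.leaf [nat_lit 0,nat_lit 1,nat_lit 0,nat_lit 1])
 (.leaf [nat_lit 6,nat_lit 0,nat_lit 7,nat_lit 1])
)) (.node (.node (.leaf [nat_lit 4,nat_lit 4])
 (.leaf [nat_lit 1,nat_lit 3,nat_lit 1,nat_lit 3,nat_lit 5])
) (.node (.leaf [nat_lit 0,nat_lit 5,nat_lit 0,nat_lit 5])
 (.leaf [nat_lit 6,nat_lit 4,nat_lit 7,nat_lit 5])
))) (.node (.node (.node (.leaf [nat_lit 2,nat_lit 2])
 (.leaf [nat_lit 3,nat_lit 5,nat_lit 3,nat_lit 5])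
) (.node (.leaf [nat_lit 4,nat_lit 5,nat_lit 4,nat_lit 5])
 (.leaf [nat_lit 6,nat_lit 2,nat_lit 7,nat_lit 3])
)) (.node (.node (.leaf [nat_lit 6,nat_lit 7])
 (.leaf [nat_lit 1,nat_lit 2,nat_lit 1,nat_lit 2,nat_lit 4,nat_lit 5])
) (.leaf [nat_lit 1,nat_lit 5,nat_lit 1,nat_lit 5])
))))
noncomputable def tX_hws : LT :=
(.leaf [])

noncomputable def tX_inv : ℕ → ℕ := getP (nat_lit 8) (nat_lit 255) (nat_lit 0x607050403020100)

noncomputable def tX_t : BT :=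
(.node (.node (.node (.node (.leaf (nat_lit 0x62152020810e000))
 (.leaf (nat_lit 0x1ff001ff001ff0))
) (.leaf (nat_lit 0xa2172420a10e040))
) (.node (.leaf (nat_lit 0x82162220910e020))
 (.leaf (nat_lit 0xf00011204061))
)) (.node (.node (.node (.leaf (nat_lit 0x72122120b10e010))
 (.leaf (nat_lit 0x10700106000000))
) (.leaf (nat_lit 0xb2142520d10e050))
) (.node (.leaf (nat_lit 0x92132320c10e030))
 (.leaf (nat_lit 0xc210100070040e2))
)))

noncomputable def tX_rules : LT :=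
(.node (.node (.node (.node (.leaf [nat_lit 25,nat_lit 2,nat_lit 1,nat_lit 0,nat_lit 7,nat_lit 1,nat_lit 6])
 (.leaf [nat_lit 28,nat_lit 1,nat_lit 1,nat_lit 2,nat_lit 6,nat_lit 3,nat_lit 7,nat_lit 3])
) (.node (.leaf [nat_lit 29,nat_lit 2,nat_lit 1,nat_lit 4,nat_lit 7,nat_lit 5,nat_lit 6])
 (.leaf [nat_lit 24,nat_lit 1,nat_lit 0,nat_lit 7,nat_lit 6,nat_lit 6])
)) (.node (.node (.leaf [nat_lit 27,nat_lit 2,nat_lit 1,nat_lit 2,nat_lit 7,nat_lit 3,nat_lit 6])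
 (.leaf [nat_lit 30,nat_lit 1,nat_lit 1,nat_lit 4,nat_lit 6,nat_lit 5,nat_lit 7,nat_lit 5])
) (.leaf [nat_lit 26,nat_lit 1,nat_lit 1,nat_lit 0,nat_lit 6,nat_lit 1,nat_lit 7,nat_lit 1])
)) (.node (.node (.node (.leaf [nat_lit 26,nat_lit 3,nat_lit 1,nat_lit 1,nat_lit 7,nat_lit 1,nat_lit 0,nat_lit 6])
 (.leaf [nat_lit 27,nat_lit 0,nat_lit 1,nat_lit 3,nat_lit 6,nat_lit 2,nat_lit 7])
) (.leaf [nat_lit 30,nat_lit 3,nat_lit 1,nat_lit 5,nat_lit 7,nat_lit 5,nat_lit 4,nat_lit 6])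
) (.node (.node (.leaf [nat_lit 28,nat_lit 3,nat_lit 1,nat_lit 3,nat_lit 7,nat_lit 3,nat_lit 2,nat_lit 6])
 (.leaf [nat_lit 29,nat_lit 0,nat_lit 1,nat_lit 5,nat_lit 6,nat_lit 4,nat_lit 7])
) (.leaf [nat_lit 25,nat_lit 0,nat_lit 1,nat_lit 1,nat_lit 6,nat_lit 0,nat_lit 7])
)))

noncomputable def tX_subs : LT :=
(.leaf [nat_lit 0,nat_lit 0,nat_lit 0,nat_lit 8])


noncomputable def tX : TC :=
  ⟨fun x c => Nat.shiftRight (BT.get tX_t x) (Nat.mul (nat_lit 20) c),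
  (nat_lit 4), (nat_lit 15), (nat_lit 8191), (nat_lit 13), (nat_lit 127), (nat_lit 8176), (nat_lit 3), (nat_lit 3), (nat_lit 8), (nat_lit 6), (nat_lit 8), (nat_lit 9), tX_inv, tX_rules, tX_subs⟩

theorem tX_c1 : tX.rules.all (ruleOK tX.m tX.inv tX_rels) = true := by decide +kernel
theorem tX_c2 : tX.subs.all (subOK tX.m tX.inv tX_hws) = true := by decide +kernel
theorem tX_c3 : tX.base = true := by decide +kernel

theorem tX_s0 : tX.slots (nat_lit 0) (nat_lit 3) = true := by decide +kernel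

theorem tX_c4 : tX.Upto tX.N := ((TC.upto_zero tX).step _ tX_s0)
theorem tX_c5 : tX.UptoE tX.N := (TC.uptoE_n tX)
theorem tX_bound {G : Type*} [Group G] {g : ℕ → G} {H : Subgroup G} (hinv : ∀ x < 8, g x * g (tX_inv x) = 1)
    (hrels : ∀ i, evalW g (tX_rels.get i) = 1) (hH : ∀ x < 6, g x ∈ H) (hhws : ∀ i, evalW g (tX_hws.get i) ∈ H) :
    H.relIndex (genLt g 8) ≠ 0 ∧ H.relIndex (genLt g 8) ≤ 3 :=
  TC.relIndex_le (T := tX) hinv hrels hH hhws tX_c1 tX_c2 tX_c3 tX_c4 tX_c5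

theorem tX_bd : Bound.{u} relX 6 8 3 := fun _ _ _ _ hs hH =>
  tX_bound (hs.hinv (by decide +kernel)) (hs.tree (by decide +kernel)) hH (leaf_nil_mem' _ _ (by decide +kernel))

noncomputable def tF_rels : LT :=
(.node (.node (.node (.node (.node (.node (.leaf [])
 (.leaf [nat_lit 8,nat_lit 0,nat_lit 8,nat_lit 0])
) (.leaf [nat_lit 1,nat_lit 5,nat_lit 1,nat_lit 5])
) (.node (.leaf [nat_lit 7,nat_lit 6])
 (.leaf [nat_lit 1,nat_lit 2,nat_lit 1,nat_lit 2,nat_lit 4,nat_lit 5])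
)) (.node (.node (.node (.leaf [nat_lit 3,nat_lit 3])
 (.leaf [nat_lit 8,nat_lit 4,nat_lit 8,nat_lit 4])
) (.leaf [nat_lit 3,nat_lit 5,nat_lit 3,nat_lit 5])
) (.node (.leaf [nat_lit 4,nat_lit 5,nat_lit 4,nat_lit 5])
 (.leaf [nat_lit 6,nat_lit 2,nat_lit 7,nat_lit 3])
))) (.node (.node (.node (.node (.leaf [nat_lit 1,nat_lit 1])
 (.leaf [nat_lit 8,nat_lit 2,nat_lit 8,nat_lit 2])
) (.leaf [nat_lit 2,nat_lit 5,nat_lit 2,nat_lit 5])
) (.node (.leaf [nat_lit 0,nat_lit 1,nat_lit 0,nat_lit 1])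
 (.leaf [nat_lit 6,nat_lit 0,nat_lit 7,nat_lit 1])
)) (.node (.node (.node (.leaf [nat_lit 5,nat_lit 5])
 (.leaf [nat_lit 8,nat_lit 6,nat_lit 8,nat_lit 6])
) (.leaf [nat_lit 1,nat_lit 3,nat_lit 1,nat_lit 3,nat_lit 5])
) (.node (.leaf [nat_lit 0,nat_lit 5,nat_lit 0,nat_lit 5])
 (.leaf [nat_lit 6,nat_lit 4,nat_lit 7,nat_lit 5])
)))) (.node (.node (.node (.node (.node (.leaf [nat_lit 0,nat_lit 0])
 (.leaf [nat_lit 8,nat_lit 1,nat_lit 8,nat_lit 0,nat_lit 1])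
) (.leaf [nat_lit 2,nat_lit 4,nat_lit 2,nat_lit 4])
) (.node (.leaf [nat_lit 8,nat_lit 8])
 (.leaf [nat_lit 6,nat_lit 6,nat_lit 6])
)) (.node (.node (.node (.leaf [nat_lit 4,nat_lit 4])
 (.leaf [nat_lit 8,nat_lit 5,nat_lit 8,nat_lit 4,nat_lit 5])
) (.leaf [nat_lit 0,nat_lit 2,nat_lit 0,nat_lit 2,nat_lit 4])
) (.node (.leaf [nat_lit 0,nat_lit 4,nat_lit 0,nat_lit 4])
 (.leaf [nat_lit 6,nat_lit 3,nat_lit 7,nat_lit 2,nat_lit 3])
))) (.node (.node (.node (.node (.leaf [nat_lit 2,nat_lit 2])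
 (.leaf [nat_lit 8,nat_lit 3,nat_lit 8,nat_lit 2,nat_lit 3])
) (.leaf [nat_lit 3,nat_lit 4,nat_lit 3,nat_lit 4])
) (.node (.leaf [nat_lit 2,nat_lit 3,nat_lit 2,nat_lit 3])
 (.leaf [nat_lit 6,nat_lit 1,nat_lit 7,nat_lit 0,nat_lit 1])
)) (.node (.node (.leaf [nat_lit 6,nat_lit 7])
 (.leaf [nat_lit 0,nat_lit 3,nat_lit 0,nat_lit 3,nat_lit 4,nat_lit 5])
) (.node (.leaf [nat_lit 1,nat_lit 4,nat_lit 1,nat_lit 4])
 (.leaf [nat_lit 6,nat_lit 5,nat_lit 7,nat_lit 4,nat_lit 5])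
)))))
noncomputable def tF_hws : LT :=
(.leaf [])

noncomputable def tF_inv : ℕ → ℕ := getP (nat_lit 8) (nat_lit 255) (nat_lit 0x80607050403020100)

noncomputable def tF_t : BT :=
(.node (.node (.node (.node (.leaf (nat_lit 0x41447000))
 (.leaf (nat_lit 0x1202041))
) (.leaf (nat_lit 0x841847020))
) (.node (.node (.leaf (nat_lit 0x441647010))
 (.leaf (nat_lit 0x21000000))
) (.leaf (nat_lit 0xc41a47030))
)) (.node (.node (.node (.leaf (nat_lit 0x241e47008))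
 (.leaf (nat_lit 0x3fe00ff8))
) (.leaf (nat_lit 0xa42247028))
) (.node (.leaf (nat_lit 0x642047018))
 (.leaf (nat_lit 0x1c47038))
)))

noncomputable def tF_rules : LT :=
(.node (.node (.node (.leaf [nat_lit 32,nat_lit 2,nat_lit 1,nat_lit 0,nat_lit 8,nat_lit 0,nat_lit 8])
 (.leaf [nat_lit 36,nat_lit 2,nat_lit 1,nat_lit 4,nat_lit 8,nat_lit 4,nat_lit 8])
) (.node (.leaf [nat_lit 34,nat_lit 2,nat_lit 1,nat_lit 2,nat_lit 8,nat_lit 2,nat_lit 8])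
 (.leaf [nat_lit 38,nat_lit 2,nat_lit 1,nat_lit 6,nat_lit 8,nat_lit 7,nat_lit 8])
)) (.node (.node (.leaf [nat_lit 33,nat_lit 3,nat_lit 1,nat_lit 1,nat_lit 8,nat_lit 1,nat_lit 0,nat_lit 8])
 (.leaf [nat_lit 37,nat_lit 3,nat_lit 1,nat_lit 5,nat_lit 8,nat_lit 5,nat_lit 4,nat_lit 8])
) (.leaf [nat_lit 35,nat_lit 3,nat_lit 1,nat_lit 3,nat_lit 8,nat_lit 3,nat_lit 2,nat_lit 8])
))

noncomputable def tF_subs : LT :=
(.leaf [nat_lit 0,nat_lit 0,nat_lit 0,nat_lit 9])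


noncomputable def tF : TC :=
  ⟨fun x c => Nat.shiftRight (BT.get tF_t x) (Nat.mul (nat_lit 18) c),
  (nat_lit 3), (nat_lit 7), (nat_lit 4095), (nat_lit 12), (nat_lit 63), (nat_lit 4088), (nat_lit 2), (nat_lit 2), (nat_lit 9), (nat_lit 8), (nat_lit 9), (nat_lit 10), tF_inv, tF_rules, tF_subs⟩

theorem tF_c1 : tF.rules.all (ruleOK tF.m tF.inv tF_rels) = true := by decide +kernel
theorem tF_c2 : tF.subs.all (subOK tF.m tF.inv tF_hws) = true := by decide +kernel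
theorem tF_c3 : tF.base = true := by decide +kernel

theorem tF_s0 : tF.slots (nat_lit 0) (nat_lit 2) = true := by decide +kernel

theorem tF_c4 : tF.Upto tF.N := ((TC.upto_zero tF).step _ tF_s0)
theorem tF_c5 : tF.UptoE tF.N := (TC.uptoE_n tF)
theorem tF_bound {G : Type*} [Group G] {g : ℕ → G} {H : Subgroup G} (hinv : ∀ x < 9, g x * g (tF_inv x) = 1)
    (hrels : ∀ i, evalW g (tF_rels.get i) = 1) (hH : ∀ x < 8, g x ∈ H) (hhws : ∀ i, evalW g (tF_hws.get i) ∈ H) :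
    H.relIndex (genLt g 9) ≠ 0 ∧ H.relIndex (genLt g 9) ≤ 2 :=
  TC.relIndex_le (T := tF) hinv hrels hH hhws tF_c1 tF_c2 tF_c3 tF_c4 tF_c5

theorem tF_bd : Bound.{u} relF 8 9 2 := fun _ _ _ _ hs hH =>
  tF_bound (hs.hinv (by decide +kernel)) (hs.tree (by decide +kernel)) hH (leaf_nil_mem' _ _ (by decide +kernel))

noncomputable def tG_rels : LT :=
(.node (.node (.node (.node (.node (.node (.leaf [])
 (.leaf [nat_lit 8,nat_lit 6,nat_lit 8,nat_lit 7])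
) (.leaf [nat_lit 1,nat_lit 5,nat_lit 1,nat_lit 5])
) (.node (.leaf [nat_lit 7,nat_lit 6])
 (.leaf [nat_lit 1,nat_lit 2,nat_lit 1,nat_lit 2,nat_lit 4,nat_lit 5])
)) (.node (.node (.node (.leaf [nat_lit 3,nat_lit 3])
 (.leaf [nat_lit 8,nat_lit 5,nat_lit 8,nat_lit 5])
) (.leaf [nat_lit 3,nat_lit 5,nat_lit 3,nat_lit 5])
) (.node (.leaf [nat_lit 4,nat_lit 5,nat_lit 4,nat_lit 5])
 (.leaf [nat_lit 6,nat_lit 2,nat_lit 7,nat_lit 3])
))) (.node (.node (.node (.node (.leaf [nat_lit 1,nat_lit 1])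
 (.leaf [nat_lit 8,nat_lit 1,nat_lit 8,nat_lit 3])
) (.leaf [nat_lit 2,nat_lit 5,nat_lit 2,nat_lit 5])
) (.node (.leaf [nat_lit 0,nat_lit 1,nat_lit 0,nat_lit 1])
 (.leaf [nat_lit 6,nat_lit 0,nat_lit 7,nat_lit 1])
)) (.node (.node (.leaf [nat_lit 5,nat_lit 5])
 (.leaf [nat_lit 1,nat_lit 3,nat_lit 1,nat_lit 3,nat_lit 5])
) (.node (.leaf [nat_lit 0,nat_lit 5,nat_lit 0,nat_lit 5])
 (.leaf [nat_lit 6,nat_lit 4,nat_lit 7,nat_lit 5])
)))) (.node (.node (.node (.node (.node (.leaf [nat_lit 0,nat_lit 0])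
 (.leaf [nat_lit 8,nat_lit 0,nat_lit 8,nat_lit 2])
) (.leaf [nat_lit 2,nat_lit 4,nat_lit 2,nat_lit 4])
) (.node (.leaf [nat_lit 8,nat_lit 8])
 (.leaf [nat_lit 6,nat_lit 6,nat_lit 6])
)) (.node (.node (.leaf [nat_lit 4,nat_lit 4])
 (.leaf [nat_lit 0,nat_lit 2,nat_lit 0,nat_lit 2,nat_lit 4])
) (.node (.leaf [nat_lit 0,nat_lit 4,nat_lit 0,nat_lit 4])
 (.leaf [nat_lit 6,nat_lit 3,nat_lit 7,nat_lit 2,nat_lit 3])
))) (.node (.node (.node (.node (.leaf [nat_lit 2,nat_lit 2])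
 (.leaf [nat_lit 8,nat_lit 4,nat_lit 8,nat_lit 4])
) (.leaf [nat_lit 3,nat_lit 4,nat_lit 3,nat_lit 4])
) (.node (.leaf [nat_lit 2,nat_lit 3,nat_lit 2,nat_lit 3])
 (.leaf [nat_lit 6,nat_lit 1,nat_lit 7,nat_lit 0,nat_lit 1])
)) (.node (.node (.leaf [nat_lit 6,nat_lit 7])
 (.leaf [nat_lit 0,nat_lit 3,nat_lit 0,nat_lit 3,nat_lit 4,nat_lit 5])
) (.node (.leaf [nat_lit 1,nat_lit 4,nat_lit 1,nat_lit 4])
 (.leaf [nat_lit 6,nat_lit 5,nat_lit 7,nat_lit 4,nat_lit 5])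
)))))
noncomputable def tG_hws : LT :=
(.leaf [])

noncomputable def tG_inv : ℕ → ℕ := getP (nat_lit 8) (nat_lit 255) (nat_lit 0x80607050403020100)

noncomputable def tG_t : BT :=
(.node (.node (.node (.node (.leaf (nat_lit 0x41847000))
 (.leaf (nat_lit 0x1202041))
) (.leaf (nat_lit 0x842047020))
) (.node (.node (.leaf (nat_lit 0x441a47010))
 (.leaf (nat_lit 0x21000000))
) (.leaf (nat_lit 0xc41447030))
)) (.node (.node (.node (.leaf (nat_lit 0x241c47008))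
 (.leaf (nat_lit 0x3fe00ff8))
) (.leaf (nat_lit 0xa42247028))
) (.node (.leaf (nat_lit 0x641e47018))
 (.leaf (nat_lit 0x1647038))
)))

noncomputable def tG_rules : LT :=
(.node (.node (.node (.leaf [nat_lit 33,nat_lit 2,nat_lit 1,nat_lit 0,nat_lit 8,nat_lit 2,nat_lit 8])
 (.leaf [nat_lit 35,nat_lit 2,nat_lit 1,nat_lit 4,nat_lit 8,nat_lit 4,nat_lit 8])
) (.node (.leaf [nat_lit 33,nat_lit 0,nat_lit 1,nat_lit 2,nat_lit 8,nat_lit 0,nat_lit 8])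
 (.leaf [nat_lit 32,nat_lit 2,nat_lit 1,nat_lit 6,nat_lit 8,nat_lit 6,nat_lit 8])
)) (.node (.node (.leaf [nat_lit 34,nat_lit 2,nat_lit 1,nat_lit 1,nat_lit 8,nat_lit 3,nat_lit 8])
 (.leaf [nat_lit 36,nat_lit 2,nat_lit 1,nat_lit 5,nat_lit 8,nat_lit 5,nat_lit 8])
) (.leaf [nat_lit 34,nat_lit 0,nat_lit 1,nat_lit 3,nat_lit 8,nat_lit 1,nat_lit 8])
))

noncomputable def tG_subs : LT :=
(.leaf [nat_lit 0,nat_lit 0,nat_lit 0,nat_lit 9])


noncomputable def tG : TC :=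
  ⟨fun x c => Nat.shiftRight (BT.get tG_t x) (Nat.mul (nat_lit 18) c),
  (nat_lit 3), (nat_lit 7), (nat_lit 4095), (nat_lit 12), (nat_lit 63), (nat_lit 4088), (nat_lit 2), (nat_lit 2), (nat_lit 9), (nat_lit 8), (nat_lit 9), (nat_lit 10), tG_inv, tG_rules, tG_subs⟩

theorem tG_c1 : tG.rules.all (ruleOK tG.m tG.inv tG_rels) = true := by decide +kernel
theorem tG_c2 : tG.subs.all (subOK tG.m tG.inv tG_hws) = true := by decide +kernel
theorem tG_c3 : tG.base = true := by decide +kernel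

theorem tG_s0 : tG.slots (nat_lit 0) (nat_lit 2) = true := by decide +kernel

theorem tG_c4 : tG.Upto tG.N := ((TC.upto_zero tG).step _ tG_s0)
theorem tG_c5 : tG.UptoE tG.N := (TC.uptoE_n tG)
theorem tG_bound {G : Type*} [Group G] {g : ℕ → G} {H : Subgroup G} (hinv : ∀ x < 9, g x * g (tG_inv x) = 1)
    (hrels : ∀ i, evalW g (tG_rels.get i) = 1) (hH : ∀ x < 8, g x ∈ H) (hhws : ∀ i, evalW g (tG_hws.get i) ∈ H) :
    H.relIndex (genLt g 9) ≠ 0 ∧ H.relIndex (genLt g 9) ≤ 2 :=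
  TC.relIndex_le (T := tG) hinv hrels hH hhws tG_c1 tG_c2 tG_c3 tG_c4 tG_c5

theorem tG_bd : Bound.{u} relG 8 9 2 := fun _ _ _ _ hs hH =>
  tG_bound (hs.hinv (by decide +kernel)) (hs.tree (by decide +kernel)) hH (leaf_nil_mem' _ _ (by decide +kernel))

noncomputable def tD_rels : LT :=
(.node (.node (.node (.node (.node (.node (.leaf [])
 (.leaf [nat_lit 8,nat_lit 6,nat_lit 8,nat_lit 6])
) (.leaf [nat_lit 1,nat_lit 5,nat_lit 1,nat_lit 5])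
) (.node (.leaf [nat_lit 7,nat_lit 6])
 (.leaf [nat_lit 1,nat_lit 2,nat_lit 1,nat_lit 2,nat_lit 4,nat_lit 5])
)) (.node (.node (.node (.leaf [nat_lit 3,nat_lit 3])
 (.leaf [nat_lit 8,nat_lit 5,nat_lit 8,nat_lit 4,nat_lit 5])
) (.leaf [nat_lit 3,nat_lit 5,nat_lit 3,nat_lit 5])
) (.node (.leaf [nat_lit 4,nat_lit 5,nat_lit 4,nat_lit 5])
 (.leaf [nat_lit 6,nat_lit 2,nat_lit 7,nat_lit 3])
))) (.node (.node (.node (.node (.leaf [nat_lit 1,nat_lit 1])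
 (.leaf [nat_lit 8,nat_lit 1,nat_lit 8,nat_lit 2,nat_lit 3])
) (.leaf [nat_lit 2,nat_lit 5,nat_lit 2,nat_lit 5])
) (.node (.leaf [nat_lit 0,nat_lit 1,nat_lit 0,nat_lit 1])
 (.leaf [nat_lit 6,nat_lit 0,nat_lit 7,nat_lit 1])
)) (.node (.node (.leaf [nat_lit 5,nat_lit 5])
 (.leaf [nat_lit 1,nat_lit 3,nat_lit 1,nat_lit 3,nat_lit 5])
) (.node (.leaf [nat_lit 0,nat_lit 5,nat_lit 0,nat_lit 5])
 (.leaf [nat_lit 6,nat_lit 4,nat_lit 7,nat_lit 5])
)))) (.node (.node (.node (.node (.node (.leaf [nat_lit 0,nat_lit 0])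
 (.leaf [nat_lit 8,nat_lit 0,nat_lit 8,nat_lit 2])
) (.leaf [nat_lit 2,nat_lit 4,nat_lit 2,nat_lit 4])
) (.node (.leaf [nat_lit 8,nat_lit 8])
 (.leaf [nat_lit 6,nat_lit 6,nat_lit 6])
)) (.node (.node (.leaf [nat_lit 4,nat_lit 4])
 (.leaf [nat_lit 0,nat_lit 2,nat_lit 0,nat_lit 2,nat_lit 4])
) (.node (.leaf [nat_lit 0,nat_lit 4,nat_lit 0,nat_lit 4])
 (.leaf [nat_lit 6,nat_lit 3,nat_lit 7,nat_lit 2,nat_lit 3])
))) (.node (.node (.node (.node (.leaf [nat_lit 2,nat_lit 2])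
 (.leaf [nat_lit 8,nat_lit 4,nat_lit 8,nat_lit 4])
) (.leaf [nat_lit 3,nat_lit 4,nat_lit 3,nat_lit 4])
) (.node (.leaf [nat_lit 2,nat_lit 3,nat_lit 2,nat_lit 3])
 (.leaf [nat_lit 6,nat_lit 1,nat_lit 7,nat_lit 0,nat_lit 1])
)) (.node (.node (.leaf [nat_lit 6,nat_lit 7])
 (.leaf [nat_lit 0,nat_lit 3,nat_lit 0,nat_lit 3,nat_lit 4,nat_lit 5])
) (.node (.leaf [nat_lit 1,nat_lit 4,nat_lit 1,nat_lit 4])
 (.leaf [nat_lit 6,nat_lit 5,nat_lit 7,nat_lit 4,nat_lit 5])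
)))))
noncomputable def tD_hws : LT :=
(.leaf [])

noncomputable def tD_inv : ℕ → ℕ := getP (nat_lit 8) (nat_lit 255) (nat_lit 0x80607050403020100)

noncomputable def tD_t : BT :=
(.node (.node (.node (.node (.leaf (nat_lit 0x41847000))
 (.leaf (nat_lit 0x1202041))
) (.leaf (nat_lit 0x841c47020))
) (.node (.node (.leaf (nat_lit 0x441a47010))
 (.leaf (nat_lit 0x21000000))
) (.leaf (nat_lit 0xc41447030))
)) (.node (.node (.node (.leaf (nat_lit 0x241e47008))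
 (.leaf (nat_lit 0x3fe00ff8))
) (.leaf (nat_lit 0xa42247028))
) (.node (.leaf (nat_lit 0x642047018))
 (.leaf (nat_lit 0x1647038))
)))

noncomputable def tD_rules : LT :=
(.node (.node (.node (.leaf [nat_lit 33,nat_lit 2,nat_lit 1,nat_lit 0,nat_lit 8,nat_lit 2,nat_lit 8])
 (.leaf [nat_lit 35,nat_lit 2,nat_lit 1,nat_lit 4,nat_lit 8,nat_lit 4,nat_lit 8])
) (.node (.leaf [nat_lit 33,nat_lit 0,nat_lit 1,nat_lit 2,nat_lit 8,nat_lit 0,nat_lit 8])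
 (.leaf [nat_lit 32,nat_lit 2,nat_lit 1,nat_lit 6,nat_lit 8,nat_lit 7,nat_lit 8])
)) (.node (.node (.leaf [nat_lit 34,nat_lit 3,nat_lit 1,nat_lit 1,nat_lit 8,nat_lit 3,nat_lit 2,nat_lit 8])
 (.leaf [nat_lit 36,nat_lit 3,nat_lit 1,nat_lit 5,nat_lit 8,nat_lit 5,nat_lit 4,nat_lit 8])
) (.leaf [nat_lit 34,nat_lit 0,nat_lit 1,nat_lit 3,nat_lit 2,nat_lit 8,nat_lit 1,nat_lit 8])
))

noncomputable def tD_subs : LT :=
(.leaf [nat_lit 0,nat_lit 0,nat_lit 0,nat_lit 9])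


noncomputable def tD : TC :=
  ⟨fun x c => Nat.shiftRight (BT.get tD_t x) (Nat.mul (nat_lit 18) c),
  (nat_lit 3), (nat_lit 7), (nat_lit 4095), (nat_lit 12), (nat_lit 63), (nat_lit 4088), (nat_lit 2), (nat_lit 2), (nat_lit 9), (nat_lit 8), (nat_lit 9), (nat_lit 10), tD_inv, tD_rules, tD_subs⟩

theorem tD_c1 : tD.rules.all (ruleOK tD.m tD.inv tD_rels) = true := by decide +kernel
theorem tD_c2 : tD.subs.all (subOK tD.m tD.inv tD_hws) = true := by decide +kernel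
theorem tD_c3 : tD.base = true := by decide +kernel

theorem tD_s0 : tD.slots (nat_lit 0) (nat_lit 2) = true := by decide +kernel

theorem tD_c4 : tD.Upto tD.N := ((TC.upto_zero tD).step _ tD_s0)
theorem tD_c5 : tD.UptoE tD.N := (TC.uptoE_n tD)
theorem tD_bound {G : Type*} [Group G] {g : ℕ → G} {H : Subgroup G} (hinv : ∀ x < 9, g x * g (tD_inv x) = 1)
    (hrels : ∀ i, evalW g (tD_rels.get i) = 1) (hH : ∀ x < 8, g x ∈ H) (hhws : ∀ i, evalW g (tD_hws.get i) ∈ H) :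
    H.relIndex (genLt g 9) ≠ 0 ∧ H.relIndex (genLt g 9) ≤ 2 :=
  TC.relIndex_le (T := tD) hinv hrels hH hhws tD_c1 tD_c2 tD_c3 tD_c4 tD_c5

theorem tD_bd : Bound.{u} relD 8 9 2 := fun _ _ _ _ hs hH =>
  tD_bound (hs.hinv (by decide +kernel)) (hs.tree (by decide +kernel)) hH (leaf_nil_mem' _ _ (by decide +kernel))

noncomputable def tFG_rels : LT :=
(.node (.node (.node (.node (.node (.node (.leaf [])
 (.leaf [nat_lit 6,nat_lit 5,nat_lit 7,nat_lit 4,nat_lit 5])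
) (.leaf [nat_lit 1,nat_lit 4,nat_lit 1,nat_lit 4])
) (.node (.node (.leaf [nat_lit 7,nat_lit 6])
 (.leaf [nat_lit 9,nat_lit 6,nat_lit 9,nat_lit 7])
) (.leaf [nat_lit 0,nat_lit 3,nat_lit 0,nat_lit 3,nat_lit 4,nat_lit 5])
)) (.node (.node (.node (.leaf [nat_lit 3,nat_lit 3])
 (.leaf [nat_lit 8,nat_lit 3,nat_lit 8,nat_lit 2,nat_lit 3])
) (.leaf [nat_lit 3,nat_lit 4,nat_lit 3,nat_lit 4])
) (.node (.node (.leaf [nat_lit 2,nat_lit 3,nat_lit 2,nat_lit 3])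
 (.leaf [nat_lit 9,nat_lit 5,nat_lit 9,nat_lit 5])
) (.leaf [nat_lit 6,nat_lit 1,nat_lit 7,nat_lit 0,nat_lit 1])
))) (.node (.node (.node (.node (.leaf [nat_lit 1,nat_lit 1])
 (.leaf [nat_lit 8,nat_lit 1,nat_lit 8,nat_lit 0,nat_lit 1])
) (.leaf [nat_lit 2,nat_lit 4,nat_lit 2,nat_lit 4])
) (.node (.node (.leaf [nat_lit 9,nat_lit 9])
 (.leaf [nat_lit 9,nat_lit 1,nat_lit 9,nat_lit 3])
) (.leaf [nat_lit 6,nat_lit 6,nat_lit 6])
)) (.node (.node (.node (.leaf [nat_lit 5,nat_lit 5])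
 (.leaf [nat_lit 8,nat_lit 5,nat_lit 8,nat_lit 4,nat_lit 5])
) (.leaf [nat_lit 0,nat_lit 2,nat_lit 0,nat_lit 2,nat_lit 4])
) (.node (.leaf [nat_lit 0,nat_lit 4,nat_lit 0,nat_lit 4])
 (.leaf [nat_lit 6,nat_lit 3,nat_lit 7,nat_lit 2,nat_lit 3])
)))) (.node (.node (.node (.node (.node (.leaf [nat_lit 0,nat_lit 0])
 (.leaf [nat_lit 8,nat_lit 0,nat_lit 8,nat_lit 0])
) (.leaf [nat_lit 1,nat_lit 5,nat_lit 1,nat_lit 5])
) (.node (.node (.leaf [nat_lit 8,nat_lit 8])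
 (.leaf [nat_lit 9,nat_lit 0,nat_lit 9,nat_lit 2])
) (.leaf [nat_lit 1,nat_lit 2,nat_lit 1,nat_lit 2,nat_lit 4,nat_lit 5])
)) (.node (.node (.node (.leaf [nat_lit 4,nat_lit 4])
 (.leaf [nat_lit 8,nat_lit 4,nat_lit 8,nat_lit 4])
) (.leaf [nat_lit 3,nat_lit 5,nat_lit 3,nat_lit 5])
) (.node (.node (.leaf [nat_lit 4,nat_lit 5,nat_lit 4,nat_lit 5])
 (.leaf [nat_lit 9,nat_lit 8,nat_lit 9,nat_lit 8])
) (.leaf [nat_lit 6,nat_lit 2,nat_lit 7,nat_lit 3])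
))) (.node (.node (.node (.node (.leaf [nat_lit 2,nat_lit 2])
 (.leaf [nat_lit 8,nat_lit 2,nat_lit 8,nat_lit 2])
) (.leaf [nat_lit 2,nat_lit 5,nat_lit 2,nat_lit 5])
) (.node (.node (.leaf [nat_lit 0,nat_lit 1,nat_lit 0,nat_lit 1])
 (.leaf [nat_lit 9,nat_lit 4,nat_lit 9,nat_lit 4])
) (.leaf [nat_lit 6,nat_lit 0,nat_lit 7,nat_lit 1])
)) (.node (.node (.node (.leaf [nat_lit 6,nat_lit 7])
 (.leaf [nat_lit 8,nat_lit 6,nat_lit 8,nat_lit 6])
) (.leaf [nat_lit 1,nat_lit 3,nat_lit 1,nat_lit 3,nat_lit 5])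
) (.node (.leaf [nat_lit 0,nat_lit 5,nat_lit 0,nat_lit 5])
 (.leaf [nat_lit 6,nat_lit 4,nat_lit 7,nat_lit 5])
)))))
noncomputable def tFG_hws : LT :=
(.leaf [])

noncomputable def tFG_inv : ℕ → ℕ := getP (nat_lit 8) (nat_lit 255) (nat_lit 0x9080607050403020100)

noncomputable def tFG_t : BT :=
(.node (.node (.node (.node (.leaf (nat_lit 0x10688e000))
 (.leaf (nat_lit 0x390988e080))
) (.leaf (nat_lit 0x210888e040))
) (.node (.node (.leaf (nat_lit 0x110708e020))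
 (.leaf (nat_lit 0xff801ff0))
) (.leaf (nat_lit 0x310588e060))
)) (.node (.node (.node (.leaf (nat_lit 0x90788e010))
 (.leaf (nat_lit 0x5004091))
) (.leaf (nat_lit 0x290908e050))
) (.node (.node (.leaf (nat_lit 0x190808e030))
 (.leaf (nat_lit 0x84800000))
) (.leaf (nat_lit 0x608e070))
)))

noncomputable def tFG_rules : LT :=
(.node (.node (.node (.leaf [nat_lit 41,nat_lit 2,nat_lit 1,nat_lit 0,nat_lit 9,nat_lit 2,nat_lit 9])
 (.leaf [nat_lit 43,nat_lit 2,nat_lit 1,nat_lit 4,nat_lit 9,nat_lit 4,nat_lit 9])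
) (.node (.leaf [nat_lit 41,nat_lit 0,nat_lit 1,nat_lit 2,nat_lit 9,nat_lit 0,nat_lit 9])
 (.leaf [nat_lit 40,nat_lit 2,nat_lit 1,nat_lit 6,nat_lit 9,nat_lit 6,nat_lit 9])
)) (.node (.node (.leaf [nat_lit 42,nat_lit 2,nat_lit 1,nat_lit 1,nat_lit 9,nat_lit 3,nat_lit 9])
 (.leaf [nat_lit 44,nat_lit 2,nat_lit 1,nat_lit 5,nat_lit 9,nat_lit 5,nat_lit 9])
) (.node (.leaf [nat_lit 42,nat_lit 0,nat_lit 1,nat_lit 3,nat_lit 9,nat_lit 1,nat_lit 9])
 (.leaf [nat_lit 45,nat_lit 2,nat_lit 1,nat_lit 8,nat_lit 9,nat_lit 8,nat_lit 9])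
)))

noncomputable def tFG_subs : LT :=
(.leaf [nat_lit 0,nat_lit 0,nat_lit 0,nat_lit 10])


noncomputable def tFG : TC :=
  ⟨fun x c => Nat.shiftRight (BT.get tFG_t x) (Nat.mul (nat_lit 19) c),
  (nat_lit 4), (nat_lit 15), (nat_lit 8191), (nat_lit 13), (nat_lit 63), (nat_lit 8176), (nat_lit 2), (nat_lit 2), (nat_lit 10), (nat_lit 9), (nat_lit 10), (nat_lit 11), tFG_inv, tFG_rules, tFG_subs⟩

theorem tFG_c1 : tFG.rules.all (ruleOK tFG.m tFG.inv tFG_rels) = true := by decide +kernel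
theorem tFG_c2 : tFG.subs.all (subOK tFG.m tFG.inv tFG_hws) = true := by decide +kernel
theorem tFG_c3 : tFG.base = true := by decide +kernel

theorem tFG_s0 : tFG.slots (nat_lit 0) (nat_lit 2) = true := by decide +kernel

theorem tFG_c4 : tFG.Upto tFG.N := ((TC.upto_zero tFG).step _ tFG_s0)
theorem tFG_c5 : tFG.UptoE tFG.N := (TC.uptoE_n tFG)
theorem tFG_bound {G : Type*} [Group G] {g : ℕ → G} {H : Subgroup G} (hinv : ∀ x < 10, g x * g (tFG_inv x) = 1)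
    (hrels : ∀ i, evalW g (tFG_rels.get i) = 1) (hH : ∀ x < 9, g x ∈ H) (hhws : ∀ i, evalW g (tFG_hws.get i) ∈ H) :
    H.relIndex (genLt g 10) ≠ 0 ∧ H.relIndex (genLt g 10) ≤ 2 :=
  TC.relIndex_le (T := tFG) hinv hrels hH hhws tFG_c1 tFG_c2 tFG_c3 tFG_c4 tFG_c5

theorem tFG_bd : Bound.{u} relFG 9 10 2 := fun _ _ _ _ hs hH =>
  tFG_bound (hs.hinv (by decide +kernel)) (hs.tree (by decide +kernel)) hH (leaf_nil_mem' _ _ (by decide +kernel))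

noncomputable def tT_rels : LT :=
(.node (.node (.node (.node (.node (.node (.leaf [])
 (.leaf [nat_lit 6,nat_lit 5,nat_lit 7,nat_lit 4,nat_lit 5])
) (.leaf [nat_lit 1,nat_lit 4,nat_lit 1,nat_lit 4])
) (.node (.node (.leaf [nat_lit 7,nat_lit 6])
 (.leaf [nat_lit 9,nat_lit 6,nat_lit 9,nat_lit 7])
) (.leaf [nat_lit 0,nat_lit 3,nat_lit 0,nat_lit 3,nat_lit 4,nat_lit 5])
)) (.node (.node (.node (.leaf [nat_lit 3,nat_lit 3])
 (.leaf [nat_lit 8,nat_lit 3,nat_lit 8,nat_lit 2,nat_lit 3])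
) (.leaf [nat_lit 3,nat_lit 4,nat_lit 3,nat_lit 4])
) (.node (.node (.leaf [nat_lit 2,nat_lit 3,nat_lit 2,nat_lit 3])
 (.leaf [nat_lit 9,nat_lit 8,nat_lit 2,nat_lit 9,nat_lit 8,nat_lit 2,nat_lit 9,nat_lit 8,nat_lit 2])
) (.leaf [nat_lit 6,nat_lit 1,nat_lit 7,nat_lit 0,nat_lit 1])
))) (.node (.node (.node (.node (.leaf [nat_lit 1,nat_lit 1])
 (.leaf [nat_lit 8,nat_lit 1,nat_lit 8,nat_lit 0,nat_lit 1])
) (.leaf [nat_lit 2,nat_lit 4,nat_lit 2,nat_lit 4])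
) (.node (.node (.leaf [nat_lit 9,nat_lit 9])
 (.leaf [nat_lit 9,nat_lit 4,nat_lit 9,nat_lit 0])
) (.leaf [nat_lit 6,nat_lit 6,nat_lit 6])
)) (.node (.node (.node (.leaf [nat_lit 5,nat_lit 5])
 (.leaf [nat_lit 8,nat_lit 5,nat_lit 8,nat_lit 4,nat_lit 5])
) (.leaf [nat_lit 0,nat_lit 2,nat_lit 0,nat_lit 2,nat_lit 4])
) (.node (.leaf [nat_lit 0,nat_lit 4,nat_lit 0,nat_lit 4])
 (.leaf [nat_lit 6,nat_lit 3,nat_lit 7,nat_lit 2,nat_lit 3])
)))) (.node (.node (.node (.node (.node (.leaf [nat_lit 0,nat_lit 0])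
 (.leaf [nat_lit 8,nat_lit 0,nat_lit 8,nat_lit 0])
) (.leaf [nat_lit 1,nat_lit 5,nat_lit 1,nat_lit 5])
) (.node (.node (.leaf [nat_lit 8,nat_lit 8])
 (.leaf [nat_lit 9,nat_lit 8,nat_lit 9,nat_lit 8])
) (.leaf [nat_lit 1,nat_lit 2,nat_lit 1,nat_lit 2,nat_lit 4,nat_lit 5])
)) (.node (.node (.node (.leaf [nat_lit 4,nat_lit 4])
 (.leaf [nat_lit 8,nat_lit 4,nat_lit 8,nat_lit 4])
) (.leaf [nat_lit 3,nat_lit 5,nat_lit 3,nat_lit 5])
) (.node (.leaf [nat_lit 4,nat_lit 5,nat_lit 4,nat_lit 5])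
 (.leaf [nat_lit 6,nat_lit 2,nat_lit 7,nat_lit 3])
))) (.node (.node (.node (.node (.leaf [nat_lit 2,nat_lit 2])
 (.leaf [nat_lit 8,nat_lit 2,nat_lit 8,nat_lit 2])
) (.leaf [nat_lit 2,nat_lit 5,nat_lit 2,nat_lit 5])
) (.node (.node (.leaf [nat_lit 0,nat_lit 1,nat_lit 0,nat_lit 1])
 (.leaf [nat_lit 9,nat_lit 5,nat_lit 9,nat_lit 1])
) (.leaf [nat_lit 6,nat_lit 0,nat_lit 7,nat_lit 1])
)) (.node (.node (.node (.leaf [nat_lit 6,nat_lit 7])
 (.leaf [nat_lit 8,nat_lit 6,nat_lit 8,nat_lit 6])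
) (.leaf [nat_lit 1,nat_lit 3,nat_lit 1,nat_lit 3,nat_lit 5])
) (.node (.leaf [nat_lit 0,nat_lit 5,nat_lit 0,nat_lit 5])
 (.leaf [nat_lit 6,nat_lit 4,nat_lit 7,nat_lit 5])
)))))
noncomputable def tT_hws : LT :=
(.leaf [])

noncomputable def tT_inv : ℕ → ℕ := getP (nat_lit 8) (nat_lit 255) (nat_lit 0x9080607050403020100)

noncomputable def tT_t : BT :=
(.node (.node (.node (.node (.leaf (nat_lit 0x308604610846620b88040f0838000))
 (.leaf (nat_lit 0x5485c3000bc8a20b08a40d0838100))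
) (.leaf (nat_lit 0x3884e4710706820a08440e0838080))
) (.node (.node (.leaf (nat_lit 0x4884a300098800098408121038040))
 (.leaf (nat_lit 0x7fe000ffc001ff8003ff0007fe0))
) (.leaf (nat_lit 0x4c8583810784001590840b08380c0))
)) (.node (.node (.node (.leaf (nat_lit 0x348524690806720c0824110838020))
 (.leaf (nat_lit 0x588624890886b20c88000a0010121))
) (.leaf (nat_lit 0x3c8504790746920a88641008380a0))
) (.node (.node (.leaf (nat_lit 0x4820006c2041190081a1838060))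
 (.leaf (nat_lit 0x60620080c201010401090000000))
) (.leaf (nat_lit 0x508542000b48000f8c000c08380e0))
)))

noncomputable def tT_rules : LT :=
(.node (.node (.node (.node (.node (.leaf [nat_lit 42,nat_lit 0,nat_lit 1,nat_lit 0,nat_lit 9,nat_lit 4,nat_lit 9])
 (.leaf [nat_lit 29,nat_lit 3,nat_lit 1,nat_lit 6,nat_lit 3,nat_lit 6,nat_lit 2])
) (.leaf [nat_lit 18,nat_lit 2,nat_lit 1,nat_lit 4,nat_lit 2,nat_lit 4,nat_lit 2])
) (.node (.node (.leaf [nat_lit 40,nat_lit 2,nat_lit 1,nat_lit 6,nat_lit 9,nat_lit 6,nat_lit 9])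
 (.leaf [nat_lit 30,nat_lit 2,nat_lit 1,nat_lit 7,nat_lit 3,nat_lit 7,nat_lit 3,nat_lit 2])
) (.leaf [nat_lit 24,nat_lit 3,nat_lit 1,nat_lit 0,nat_lit 3,nat_lit 0,nat_lit 5,nat_lit 4,nat_lit 3])
)) (.node (.node (.node (.leaf [nat_lit 42,nat_lit 2,nat_lit 1,nat_lit 4,nat_lit 9,nat_lit 0,nat_lit 9])
 (.leaf [nat_lit 12,nat_lit 1,nat_lit 1,nat_lit 2,nat_lit 3,nat_lit 2,nat_lit 3])
) (.leaf [nat_lit 35,nat_lit 1,nat_lit 1,nat_lit 8,nat_lit 2,nat_lit 8,nat_lit 2])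
) (.node (.node (.leaf [nat_lit 22,nat_lit 2,nat_lit 1,nat_lit 0,nat_lit 2,nat_lit 0,nat_lit 4,nat_lit 2])
 (.leaf [nat_lit 41,nat_lit 3,nat_lit 1,nat_lit 9,nat_lit 8,nat_lit 9,nat_lit 8])
) (.leaf [nat_lit 20,nat_lit 2,nat_lit 1,nat_lit 4,nat_lit 3,nat_lit 4,nat_lit 3])
))) (.node (.node (.node (.node (.leaf [nat_lit 43,nat_lit 0,nat_lit 1,nat_lit 1,nat_lit 9,nat_lit 5,nat_lit 9])
 (.leaf [nat_lit 40,nat_lit 3,nat_lit 1,nat_lit 9,nat_lit 6,nat_lit 9,nat_lit 7])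
) (.leaf [nat_lit 19,nat_lit 2,nat_lit 1,nat_lit 5,nat_lit 2,nat_lit 5,nat_lit 2])
) (.node (.node (.leaf [nat_lit 41,nat_lit 2,nat_lit 1,nat_lit 8,nat_lit 9,nat_lit 8,nat_lit 9])
 (.leaf [nat_lit 36,nat_lit 2,nat_lit 1,nat_lit 8,nat_lit 3,nat_lit 8,nat_lit 3,nat_lit 2])
) (.leaf [nat_lit 23,nat_lit 2,nat_lit 1,nat_lit 1,nat_lit 3,nat_lit 1,nat_lit 5,nat_lit 3])
)) (.node (.node (.node (.leaf [nat_lit 43,nat_lit 2,nat_lit 1,nat_lit 5,nat_lit 9,nat_lit 1,nat_lit 9])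
 (.leaf [nat_lit 30,nat_lit 4,nat_lit 1,nat_lit 6,nat_lit 3,nat_lit 2,nat_lit 6,nat_lit 3])
) (.leaf [nat_lit 44,nat_lit 5,nat_lit 1,nat_lit 9,nat_lit 2,nat_lit 8,nat_lit 9,nat_lit 2,nat_lit 8,nat_lit 9,nat_lit 2,nat_lit 8])
) (.node (.leaf [nat_lit 25,nat_lit 3,nat_lit 1,nat_lit 1,nat_lit 2,nat_lit 1,nat_lit 5,nat_lit 4,nat_lit 2])
 (.leaf [nat_lit 21,nat_lit 2,nat_lit 1,nat_lit 5,nat_lit 3,nat_lit 5,nat_lit 3])
))))

noncomputable def tT_subs : LT :=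
(.leaf [nat_lit 0,nat_lit 0,nat_lit 0,nat_lit 10])


noncomputable def tT : TC :=
  ⟨fun x c => Nat.shiftRight (BT.get tT_t x) (Nat.mul (nat_lit 23) c),
  (nat_lit 5), (nat_lit 31), (nat_lit 32767), (nat_lit 15), (nat_lit 255), (nat_lit 32736), (nat_lit 5), (nat_lit 5), (nat_lit 10), (nat_lit 9), (nat_lit 10), (nat_lit 11), tT_inv, tT_rules, tT_subs⟩

theorem tT_c1 : tT.rules.all (ruleOK tT.m tT.inv tT_rels) = true := by decide +kernel
theorem tT_c2 : tT.subs.all (subOK tT.m tT.inv tT_hws) = true := by decide +kernel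
theorem tT_c3 : tT.base = true := by decide +kernel

theorem tT_s0 : tT.slots (nat_lit 0) (nat_lit 5) = true := by decide +kernel

theorem tT_c4 : tT.Upto tT.N := ((TC.upto_zero tT).step _ tT_s0)
theorem tT_c5 : tT.UptoE tT.N := (TC.uptoE_n tT)
theorem tT_bound {G : Type*} [Group G] {g : ℕ → G} {H : Subgroup G} (hinv : ∀ x < 10, g x * g (tT_inv x) = 1)
    (hrels : ∀ i, evalW g (tT_rels.get i) = 1) (hH : ∀ x < 9, g x ∈ H) (hhws : ∀ i, evalW g (tT_hws.get i) ∈ H) :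
    H.relIndex (genLt g 10) ≠ 0 ∧ H.relIndex (genLt g 10) ≤ 5 :=
  TC.relIndex_le (T := tT) hinv hrels hH hhws tT_c1 tT_c2 tT_c3 tT_c4 tT_c5

theorem tT_bd : Bound.{u} relT 9 10 5 := fun _ _ _ _ hs hH =>
  tT_bound (hs.hinv (by decide +kernel)) (hs.tree (by decide +kernel)) hH (leaf_nil_mem' _ _ (by decide +kernel))

noncomputable def tS_rels : LT :=
(.node (.node (.node (.node (.node (.leaf [])
 (.leaf [nat_lit 2,nat_lit 5,nat_lit 2,nat_lit 5])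
) (.node (.leaf [nat_lit 0,nat_lit 1,nat_lit 0,nat_lit 1])
 (.leaf [nat_lit 6,nat_lit 1,nat_lit 6,nat_lit 0,nat_lit 1])
)) (.node (.node (.leaf [nat_lit 3,nat_lit 3])
 (.leaf [nat_lit 1,nat_lit 3,nat_lit 1,nat_lit 3,nat_lit 5])
) (.node (.leaf [nat_lit 0,nat_lit 5,nat_lit 0,nat_lit 5])
 (.leaf [nat_lit 6,nat_lit 5,nat_lit 6,nat_lit 4,nat_lit 5])
))) (.node (.node (.node (.leaf [nat_lit 1,nat_lit 1])
 (.leaf [nat_lit 3,nat_lit 5,nat_lit 3,nat_lit 5])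
) (.node (.leaf [nat_lit 4,nat_lit 5,nat_lit 4,nat_lit 5])
 (.leaf [nat_lit 6,nat_lit 3,nat_lit 6,nat_lit 2,nat_lit 3])
)) (.node (.node (.leaf [nat_lit 5,nat_lit 5])
 (.leaf [nat_lit 1,nat_lit 2,nat_lit 1,nat_lit 2,nat_lit 4,nat_lit 5])
) (.leaf [nat_lit 1,nat_lit 5,nat_lit 1,nat_lit 5])
))) (.node (.node (.node (.node (.leaf [nat_lit 0,nat_lit 0])
 (.leaf [nat_lit 3,nat_lit 4,nat_lit 3,nat_lit 4])
) (.node (.leaf [nat_lit 2,nat_lit 3,nat_lit 2,nat_lit 3])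
 (.leaf [nat_lit 6,nat_lit 2,nat_lit 6,nat_lit 2])
)) (.node (.node (.leaf [nat_lit 4,nat_lit 4])
 (.leaf [nat_lit 0,nat_lit 3,nat_lit 0,nat_lit 3,nat_lit 4,nat_lit 5])
) (.leaf [nat_lit 1,nat_lit 4,nat_lit 1,nat_lit 4])
)) (.node (.node (.node (.leaf [nat_lit 2,nat_lit 2])
 (.leaf [nat_lit 0,nat_lit 2,nat_lit 0,nat_lit 2,nat_lit 4])
) (.node (.leaf [nat_lit 0,nat_lit 4,nat_lit 0,nat_lit 4])
 (.leaf [nat_lit 6,nat_lit 4,nat_lit 6,nat_lit 4])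
)) (.node (.node (.leaf [nat_lit 6,nat_lit 6])
 (.leaf [nat_lit 6,nat_lit 0,nat_lit 6,nat_lit 0])
) (.leaf [nat_lit 2,nat_lit 4,nat_lit 2,nat_lit 4])
))))
noncomputable def tS_hws : LT :=
(.leaf [])

noncomputable def tS_inv : ℕ → ℕ := getP (nat_lit 8) (nat_lit 255) (nat_lit 0x6050403020100)

noncomputable def tS_t : BT :=
(.node (.node (.node (.node (.leaf (nat_lit 0x41047000))
 (.leaf (nat_lit 0x20c00000))
) (.leaf (nat_lit 0x841447020))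
) (.node (.leaf (nat_lit 0x441247010))
 (.leaf (nat_lit 0xe02031))
)) (.node (.node (.leaf (nat_lit 0x241647008))
 (.leaf (nat_lit 0xa41a47028))
) (.node (.leaf (nat_lit 0x641847018))
 (.leaf (nat_lit 0x3fe00ff8))
)))

noncomputable def tS_rules : LT :=
(.node (.node (.node (.leaf [nat_lit 23,nat_lit 2,nat_lit 1,nat_lit 0,nat_lit 6,nat_lit 0,nat_lit 6])
 (.leaf [nat_lit 27,nat_lit 2,nat_lit 1,nat_lit 4,nat_lit 6,nat_lit 4,nat_lit 6])
) (.leaf [nat_lit 25,nat_lit 2,nat_lit 1,nat_lit 2,nat_lit 6,nat_lit 2,nat_lit 6])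
) (.node (.node (.leaf [nat_lit 24,nat_lit 3,nat_lit 1,nat_lit 1,nat_lit 6,nat_lit 1,nat_lit 0,nat_lit 6])
 (.leaf [nat_lit 28,nat_lit 3,nat_lit 1,nat_lit 5,nat_lit 6,nat_lit 5,nat_lit 4,nat_lit 6])
) (.leaf [nat_lit 26,nat_lit 3,nat_lit 1,nat_lit 3,nat_lit 6,nat_lit 3,nat_lit 2,nat_lit 6])
))

noncomputable def tS_subs : LT :=
(.leaf [nat_lit 0,nat_lit 0,nat_lit 0,nat_lit 7])


noncomputable def tS : TC :=
  ⟨fun x c => Nat.shiftRight (BT.get tS_t x) (Nat.mul (nat_lit 18) c),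
  (nat_lit 3), (nat_lit 7), (nat_lit 4095), (nat_lit 12), (nat_lit 63), (nat_lit 4088), (nat_lit 2), (nat_lit 2), (nat_lit 7), (nat_lit 6), (nat_lit 7), (nat_lit 8), tS_inv, tS_rules, tS_subs⟩

theorem tS_c1 : tS.rules.all (ruleOK tS.m tS.inv tS_rels) = true := by decide +kernel
theorem tS_c2 : tS.subs.all (subOK tS.m tS.inv tS_hws) = true := by decide +kernel
theorem tS_c3 : tS.base = true := by decide +kernel

theorem tS_s0 : tS.slots (nat_lit 0) (nat_lit 2) = true := by decide +kernel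

theorem tS_c4 : tS.Upto tS.N := ((TC.upto_zero tS).step _ tS_s0)
theorem tS_c5 : tS.UptoE tS.N := (TC.uptoE_n tS)
theorem tS_bound {G : Type*} [Group G] {g : ℕ → G} {H : Subgroup G} (hinv : ∀ x < 7, g x * g (tS_inv x) = 1)
    (hrels : ∀ i, evalW g (tS_rels.get i) = 1) (hH : ∀ x < 6, g x ∈ H) (hhws : ∀ i, evalW g (tS_hws.get i) ∈ H) :
    H.relIndex (genLt g 7) ≠ 0 ∧ H.relIndex (genLt g 7) ≤ 2 :=
  TC.relIndex_le (T := tS) hinv hrels hH hhws tS_c1 tS_c2 tS_c3 tS_c4 tS_c5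

theorem tS_bd : Bound.{u} relS 6 7 2 := fun _ _ _ _ hs hH =>
  tS_bound (hs.hinv (by decide +kernel)) (hs.tree (by decide +kernel)) hH (leaf_nil_mem' _ _ (by decide +kernel))

noncomputable def tP_rels : LT :=
(.node (.node (.node (.node (.node (.node (.leaf [])
 (.leaf [nat_lit 7,nat_lit 3,nat_lit 7,nat_lit 2,nat_lit 3,nat_lit 4,nat_lit 5])
) (.leaf [nat_lit 2,nat_lit 4,nat_lit 2,nat_lit 4])
) (.node (.leaf [nat_lit 7,nat_lit 7])
 (.leaf [nat_lit 6,nat_lit 0,nat_lit 6,nat_lit 0])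
)) (.node (.node (.leaf [nat_lit 3,nat_lit 3])
 (.leaf [nat_lit 0,nat_lit 2,nat_lit 0,nat_lit 2,nat_lit 4])
) (.node (.leaf [nat_lit 0,nat_lit 4,nat_lit 0,nat_lit 4])
 (.leaf [nat_lit 6,nat_lit 4,nat_lit 6,nat_lit 4])
))) (.node (.node (.node (.node (.leaf [nat_lit 1,nat_lit 1])
 (.leaf [nat_lit 7,nat_lit 1,nat_lit 7,nat_lit 1,nat_lit 7,nat_lit 1])
) (.leaf [nat_lit 3,nat_lit 4,nat_lit 3,nat_lit 4])
) (.node (.leaf [nat_lit 2,nat_lit 3,nat_lit 2,nat_lit 3])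
 (.leaf [nat_lit 6,nat_lit 2,nat_lit 6,nat_lit 2])
)) (.node (.node (.leaf [nat_lit 5,nat_lit 5])
 (.leaf [nat_lit 0,nat_lit 3,nat_lit 0,nat_lit 3,nat_lit 4,nat_lit 5])
) (.node (.leaf [nat_lit 1,nat_lit 4,nat_lit 1,nat_lit 4])
 (.leaf [nat_lit 7,nat_lit 4,nat_lit 7,nat_lit 4])
)))) (.node (.node (.node (.node (.node (.leaf [nat_lit 0,nat_lit 0])
 (.leaf [nat_lit 7,nat_lit 0,nat_lit 7,nat_lit 6])
) (.leaf [nat_lit 2,nat_lit 5,nat_lit 2,nat_lit 5])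
) (.node (.leaf [nat_lit 0,nat_lit 1,nat_lit 0,nat_lit 1])
 (.leaf [nat_lit 6,nat_lit 1,nat_lit 6,nat_lit 0,nat_lit 1])
)) (.node (.node (.leaf [nat_lit 4,nat_lit 4])
 (.leaf [nat_lit 1,nat_lit 3,nat_lit 1,nat_lit 3,nat_lit 5])
) (.node (.leaf [nat_lit 0,nat_lit 5,nat_lit 0,nat_lit 5])
 (.leaf [nat_lit 6,nat_lit 5,nat_lit 6,nat_lit 4,nat_lit 5])
))) (.node (.node (.node (.leaf [nat_lit 2,nat_lit 2])
 (.leaf [nat_lit 3,nat_lit 5,nat_lit 3,nat_lit 5])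
) (.node (.leaf [nat_lit 4,nat_lit 5,nat_lit 4,nat_lit 5])
 (.leaf [nat_lit 6,nat_lit 3,nat_lit 6,nat_lit 2,nat_lit 3])
)) (.node (.node (.leaf [nat_lit 6,nat_lit 6])
 (.leaf [nat_lit 1,nat_lit 2,nat_lit 1,nat_lit 2,nat_lit 4,nat_lit 5])
) (.node (.leaf [nat_lit 1,nat_lit 5,nat_lit 1,nat_lit 5])
 (.leaf [nat_lit 7,nat_lit 5,nat_lit 7,nat_lit 2])
)))))
noncomputable def tP_hws : LT :=
(.leaf [])

noncomputable def tP_inv : ℕ → ℕ := getP (nat_lit 8) (nat_lit 255) (nat_lit 0x706050403020100)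

noncomputable def tP_t : BT :=
(.node (.node (.node (.node (.leaf (nat_lit 0x310448081821c000))
 (.leaf (nat_lit 0xffc007fe003ff0))
) (.leaf (nat_lit 0x490488c81221c040))
) (.node (.leaf (nat_lit 0x390588481621c020))
 (.leaf (nat_lit 0x590549481a21c060))
)) (.node (.node (.node (.leaf (nat_lit 0x404101e41c010))
 (.leaf (nat_lit 0x8044020e000000))
) (.leaf (nat_lit 0x5104c9081421c050))
) (.node (.leaf (nat_lit 0x410508881c21c030))
 (.leaf (nat_lit 0x6105c80010008071))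
)))

noncomputable def tP_rules : LT :=
(.node (.node (.node (.node (.leaf [nat_lit 33,nat_lit 2,nat_lit 1,nat_lit 0,nat_lit 7,nat_lit 6,nat_lit 7])
 (.leaf [nat_lit 21,nat_lit 3,nat_lit 1,nat_lit 3,nat_lit 1,nat_lit 5,nat_lit 3,nat_lit 1])
) (.node (.leaf [nat_lit 31,nat_lit 2,nat_lit 1,nat_lit 5,nat_lit 7,nat_lit 2,nat_lit 7])
 (.leaf [nat_lit 34,nat_lit 3,nat_lit 1,nat_lit 7,nat_lit 1,nat_lit 7,nat_lit 1,nat_lit 7,nat_lit 1])
)) (.node (.node (.leaf [nat_lit 32,nat_lit 5,nat_lit 1,nat_lit 3,nat_lit 7,nat_lit 5,nat_lit 4,nat_lit 3,nat_lit 2,nat_lit 7])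
 (.leaf [nat_lit 15,nat_lit 2,nat_lit 1,nat_lit 5,nat_lit 1,nat_lit 5,nat_lit 1])
) (.leaf [nat_lit 9,nat_lit 1,nat_lit 1,nat_lit 0,nat_lit 1,nat_lit 0,nat_lit 1])
)) (.node (.node (.node (.leaf [nat_lit 31,nat_lit 0,nat_lit 1,nat_lit 2,nat_lit 7,nat_lit 5,nat_lit 7])
 (.leaf [nat_lit 14,nat_lit 2,nat_lit 1,nat_lit 4,nat_lit 1,nat_lit 4,nat_lit 1])
) (.leaf [nat_lit 33,nat_lit 0,nat_lit 1,nat_lit 6,nat_lit 7,nat_lit 0,nat_lit 7])
) (.node (.node (.leaf [nat_lit 30,nat_lit 2,nat_lit 1,nat_lit 4,nat_lit 7,nat_lit 4,nat_lit 7])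
 (.leaf [nat_lit 25,nat_lit 2,nat_lit 1,nat_lit 6,nat_lit 1,nat_lit 6,nat_lit 1,nat_lit 0])
) (.leaf [nat_lit 23,nat_lit 4,nat_lit 1,nat_lit 2,nat_lit 1,nat_lit 5,nat_lit 4,nat_lit 2,nat_lit 1])
)))

noncomputable def tP_subs : LT :=
(.leaf [nat_lit 0,nat_lit 0,nat_lit 0,nat_lit 8])


noncomputable def tP : TC :=
  ⟨fun x c => Nat.shiftRight (BT.get tP_t x) (Nat.mul (nat_lit 21) c),
  (nat_lit 4), (nat_lit 15), (nat_lit 16383), (nat_lit 14), (nat_lit 127), (nat_lit 16368), (nat_lit 3), (nat_lit 3), (nat_lit 8), (nat_lit 7), (nat_lit 8), (nat_lit 9), tP_inv, tP_rules, tP_subs⟩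

theorem tP_c1 : tP.rules.all (ruleOK tP.m tP.inv tP_rels) = true := by decide +kernel
theorem tP_c2 : tP.subs.all (subOK tP.m tP.inv tP_hws) = true := by decide +kernel
theorem tP_c3 : tP.base = true := by decide +kernel

theorem tP_s0 : tP.slots (nat_lit 0) (nat_lit 3) = true := by decide +kernel

theorem tP_c4 : tP.Upto tP.N := ((TC.upto_zero tP).step _ tP_s0)
theorem tP_c5 : tP.UptoE tP.N := (TC.uptoE_n tP)
theorem tP_bound {G : Type*} [Group G] {g : ℕ → G} {H : Subgroup G} (hinv : ∀ x < 8, g x * g (tP_inv x) = 1)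
    (hrels : ∀ i, evalW g (tP_rels.get i) = 1) (hH : ∀ x < 7, g x ∈ H) (hhws : ∀ i, evalW g (tP_hws.get i) ∈ H) :
    H.relIndex (genLt g 8) ≠ 0 ∧ H.relIndex (genLt g 8) ≤ 3 :=
  TC.relIndex_le (T := tP) hinv hrels hH hhws tP_c1 tP_c2 tP_c3 tP_c4 tP_c5

theorem tP_bd : Bound.{u} relP 7 8 3 := fun _ _ _ _ hs hH =>
  tP_bound (hs.hinv (by decide +kernel)) (hs.tree (by decide +kernel)) hH (leaf_nil_mem' _ _ (by decide +kernel))

theorem presB : Pres.{u} relB 6 64 := pres_nil.step tB_bd (by decide +kernel)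

theorem presX : Pres.{u} relX 8 192 := presB.step tX_bd (by decide +kernel)

theorem presF : Pres.{u} relF 9 384 := presX.step tF_bd (by decide +kernel)

theorem presG : Pres.{u} relG 9 384 := presX.step tG_bd (by decide +kernel)

theorem presD : Pres.{u} relD 9 384 := presX.step tD_bd (by decide +kernel)

theorem presFG : Pres.{u} relFG 10 768 := presF.step tFG_bd (by decide +kernel)

theorem presT : Pres.{u} relT 10 1920 := presF.step tT_bd (by decide +kernel)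

theorem presS : Pres.{u} relS 7 128 := presB.step tS_bd (by decide +kernel)

theorem presP : Pres.{u} relP 8 384 := presS.step tP_bd (by decide +kernel)

theorem cN_ok : allL cN B10.v = true := by decide +kernel

theorem cX_ok : allL cX B10.v = true := by decide +kernel

theorem cF_ok : allL cF B10.v = true := by decide +kernel

theorem cG_ok : allL cG B10.v = true := by decide +kernel

theorem cV_ok : allL cV B5.v = true := by decide +kernel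

theorem cP_ok : allL cP B5.v = true := by decide +kernel

theorem relX_ok : allL relX (fun w => Nat.beq (evC B10.A cX w) B10.A.one) = true := by decide +kernel

theorem relF_ok : allL relF (fun w => Nat.beq (evC B10.A cF w) B10.A.one) = true := by decide +kernel

theorem relG_ok : allL relG (fun w => Nat.beq (evC B10.A cG w) B10.A.one) = true := by decide +kernel

theorem relFG_ok : allL relFG (fun w => Nat.beq (evC B10.A cN w) B10.A.one) = true := by decide +kernel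

theorem relT_ok : allL relT (fun w => Nat.beq (evC B5.A cV w) B5.A.one) = true := by decide +kernel

theorem relP_ok : allL relP (fun w => Nat.beq (evC B5.A cP w) B5.A.one) = true := by decide +kernel

end Cfsg.Agent.Loc.GC3
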