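import Mathlib
import Cfsg.Agent.Loc.GC3Data

/-! Generated by tools/rec: listed subgroups around the Sylow subgroup of L3(4) -/

set_option autoImplicit false
set_option maxRecDepth 100000
set_option linter.unusedVariables false
set_option exponentiation.threshold 100000

namespace Cfsg.Agent.Loc.GC3

open Cfsg.Agent.Spor Cfsg.Agent.Rec

universe u

noncomputable def N_t : ST :=
(.node (nat_lit 0x8008040020100100100800402) (.node (nat_lit 0x40140200100a00a010008040) (.node (nat_lit 0x400a01c02006004008010220) (.node (nat_lit 0x40070280100a002010088040) (.node (nat_lit 0x400506c0100a002030008240) (.node (nat_lit 0x40040700100e002038008060) (.node (nat_lit 0x40040301100e00301e008060) (.node (nat_lit 0x40040201104a003012008040) (.node (nat_lit 0x40040200104a002816008040) (.leaf (nat_lit 0x40040200100a002010008040) (nat_lit 777))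
 (.node (nat_lit 0x40040201100a003814008040) (.leaf (nat_lit 0x40040200104a002816008040) (nat_lit 1033))
 (.leaf (nat_lit 0x40040201100a003814008040) (nat_lit 1033))
)) (.node (nat_lit 0x40040300100e002018008060) (.leaf (nat_lit 0x40040201104a003012008040) (nat_lit 1033))
 (.node (nat_lit 0x40040300104e00281c008060) (.leaf (nat_lit 0x40040300100e002018008060) (nat_lit 521))
 (.leaf (nat_lit 0x40040300104e00281c008060) (nat_lit 777))
))) (.node (nat_lit 0x40040600104a002836008040) (.node (nat_lit 0x40040301104e00381a008060) (.leaf (nat_lit 0x40040301100e00301e008060) (nat_lit 777))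
 (.node (nat_lit 0x40040600100a002030008040) (.leaf (nat_lit 0x40040301104e00381a008060) (nat_lit 777))
 (.leaf (nat_lit 0x40040600100a002030008040) (nat_lit 1033))
)) (.node (nat_lit 0x40040601100a003834008040) (.leaf (nat_lit 0x40040600104a002836008040) (nat_lit 1289))
 (.node (nat_lit 0x40040601104a003032008040) (.leaf (nat_lit 0x40040601100a003834008040) (nat_lit 1289))
 (.leaf (nat_lit 0x40040601104a003032008040) (nat_lit 1289))
)))) (.node (nat_lit 0x400502c1100a00b834008240) (.node (nat_lit 0x40040701104e00383a008060) (.node (nat_lit 0x40040700104e00283c008060) (.leaf (nat_lit 0x40040700100e002038008060) (nat_lit 777))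
 (.node (nat_lit 0x40040701100e00303e008060) (.leaf (nat_lit 0x40040700104e00283c008060) (nat_lit 1033))
 (.leaf (nat_lit 0x40040701100e00303e008060) (nat_lit 1033))
)) (.node (nat_lit 0x400502c0100a002010008240) (.leaf (nat_lit 0x40040701104e00383a008060) (nat_lit 1033))
 (.node (nat_lit 0x400502c0104a002836008240) (.leaf (nat_lit 0x400502c0100a002010008240) (nat_lit 1033))
 (.leaf (nat_lit 0x400502c0104a002836008240) (nat_lit 1289))
))) (.node (nat_lit 0x40050380104e00283c008260) (.node (nat_lit 0x400502c1104a00b012008240) (.leaf (nat_lit 0x400502c1100a00b834008240) (nat_lit 1289))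
 (.node (nat_lit 0x40050380100e002018008260) (.leaf (nat_lit 0x400502c1104a00b012008240) (nat_lit 1289))
 (.leaf (nat_lit 0x40050380100e002018008260) (nat_lit 777))
)) (.node (nat_lit 0x40050381100e00b03e008260) (.leaf (nat_lit 0x40050380104e00283c008260) (nat_lit 1033))
 (.node (nat_lit 0x40050381104e00b81a008260) (.leaf (nat_lit 0x40050381100e00b03e008260) (nat_lit 1033))
 (.leaf (nat_lit 0x40050381104e00b81a008260) (nat_lit 1033))
))))) (.node (nat_lit 0x400603c0100e002018088060) (.node (nat_lit 0x40050781100e00b01e008260) (.node (nat_lit 0x400506c1104a00b032008240) (.node (nat_lit 0x400506c0104a002816008240) (.leaf (nat_lit 0x400506c0100a002030008240) (nat_lit 1289))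
 (.node (nat_lit 0x400506c1100a00b814008240) (.leaf (nat_lit 0x400506c0104a002816008240) (nat_lit 1289))
 (.leaf (nat_lit 0x400506c1100a00b814008240) (nat_lit 1545))
)) (.node (nat_lit 0x40050780100e002038008260) (.leaf (nat_lit 0x400506c1104a00b032008240) (nat_lit 1545))
 (.node (nat_lit 0x40050780104e00281c008260) (.leaf (nat_lit 0x40050780100e002038008260) (nat_lit 1033))
 (.leaf (nat_lit 0x40050780104e00281c008260) (nat_lit 1033))
))) (.node (nat_lit 0x40060240104a00a816088240) (.node (nat_lit 0x40050781104e00b83a008260) (.leaf (nat_lit 0x40050781100e00b01e008260) (nat_lit 1289))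
 (.node (nat_lit 0x40060240100a002010088240) (.leaf (nat_lit 0x40050781104e00b83a008260) (nat_lit 1289))
 (.leaf (nat_lit 0x40060240100a002010088240) (nat_lit 1033))
)) (.node (nat_lit 0x40060241100a003834088240) (.leaf (nat_lit 0x40060240104a00a816088240) (nat_lit 1289))
 (.node (nat_lit 0x40060241104a00b032088240) (.leaf (nat_lit 0x40060241100a003834088240) (nat_lit 1289))
 (.leaf (nat_lit 0x40060241104a00b032088240) (nat_lit 1289))
)))) (.node (nat_lit 0x40060641100a003814088240) (.node (nat_lit 0x400603c1104e00383a088060) (.node (nat_lit 0x400603c0104e00a83c088060) (.leaf (nat_lit 0x400603c0100e002018088060) (nat_lit 777))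
 (.node (nat_lit 0x400603c1100e00b01e088060) (.leaf (nat_lit 0x400603c0104e00a83c088060) (nat_lit 1033))
 (.leaf (nat_lit 0x400603c1100e00b01e088060) (nat_lit 1033))
)) (.node (nat_lit 0x40060640100a002030088240) (.leaf (nat_lit 0x400603c1104e00383a088060) (nat_lit 1289))
 (.node (nat_lit 0x40060640104a00a836088240) (.leaf (nat_lit 0x40060640100a002030088240) (nat_lit 1289))
 (.leaf (nat_lit 0x40060640104a00a836088240) (nat_lit 1545))
))) (.node (nat_lit 0x400607c0104e00a81c088060) (.node (nat_lit 0x40060641104a00b012088240) (.leaf (nat_lit 0x40060641100a003814088240) (nat_lit 1289))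
 (.node (nat_lit 0x400607c0100e002038088060) (.leaf (nat_lit 0x40060641104a00b012088240) (nat_lit 1545))
 (.leaf (nat_lit 0x400607c0100e002038088060) (nat_lit 1033))
)) (.node (nat_lit 0x400607c1100e00b03e088060) (.leaf (nat_lit 0x400607c0104e00a81c088060) (nat_lit 1289))
 (.node (nat_lit 0x400607c1104e00381a088060) (.leaf (nat_lit 0x400607c1100e00b03e088060) (nat_lit 1289))
 (.leaf (nat_lit 0x400607c1104e00381a088060) (nat_lit 1033))
)))))) (.node (nat_lit 0x400805002006004028010020) (.node (nat_lit 0x40070740100e002038088260) (.node (nat_lit 0x40070341100e00303e088260) (.node (nat_lit 0x40070281104a003032088040) (.node (nat_lit 0x40070280104a00a836088040) (.leaf (nat_lit 0x40070280100a002010088040) (nat_lit 1033))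
 (.node (nat_lit 0x40070281100a00b814088040) (.leaf (nat_lit 0x40070280104a00a836088040) (nat_lit 1289))
 (.leaf (nat_lit 0x40070281100a00b814088040) (nat_lit 1289))
)) (.node (nat_lit 0x40070340100e002018088260) (.leaf (nat_lit 0x40070281104a003032088040) (nat_lit 1289))
 (.node (nat_lit 0x40070340104e00a81c088260) (.leaf (nat_lit 0x40070340100e002018088260) (nat_lit 777))
 (.leaf (nat_lit 0x40070340104e00a81c088260) (nat_lit 1033))
))) (.node (nat_lit 0x40070680104a00a816088040) (.node (nat_lit 0x40070341104e00b83a088260) (.leaf (nat_lit 0x40070341100e00303e088260) (nat_lit 1033))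
 (.node (nat_lit 0x40070680100a002030088040) (.leaf (nat_lit 0x40070341104e00b83a088260) (nat_lit 1033))
 (.leaf (nat_lit 0x40070680100a002030088040) (nat_lit 1289))
)) (.node (nat_lit 0x40070681100a00b834088040) (.leaf (nat_lit 0x40070680104a00a816088040) (nat_lit 1545))
 (.node (nat_lit 0x40070681104a003012088040) (.leaf (nat_lit 0x40070681100a00b834088040) (nat_lit 1545))
 (.leaf (nat_lit 0x40070681104a003012088040) (nat_lit 1289))
)))) (.node (nat_lit 0x40080101200600580a010020) (.node (nat_lit 0x40070741104e00b81a088260) (.node (nat_lit 0x40070740104e00a83c088260) (.leaf (nat_lit 0x40070740100e002038088260) (nat_lit 1033))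
 (.node (nat_lit 0x40070741100e00301e088260) (.leaf (nat_lit 0x40070740104e00a83c088260) (nat_lit 1289))
 (.leaf (nat_lit 0x40070741100e00301e088260) (nat_lit 1289))
)) (.node (nat_lit 0x400801002006004008010020) (.leaf (nat_lit 0x40070741104e00b81a088260) (nat_lit 1289))
 (.node (nat_lit 0x40080100204600500e010020) (.leaf (nat_lit 0x400801002006004008010020) (nat_lit 265))
 (.leaf (nat_lit 0x40080100204600500e010020) (nat_lit 521))
))) (.node (nat_lit 0x40080300204e00501a010060) (.node (nat_lit 0x40080101204600480c010020) (.leaf (nat_lit 0x40080101200600580a010020) (nat_lit 521))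
 (.node (nat_lit 0x40080300200e004018010060) (.leaf (nat_lit 0x40080101204600480c010020) (nat_lit 777))
 (.leaf (nat_lit 0x40080300200e004018010060) (nat_lit 521))
)) (.node (nat_lit 0x40080301200e00481e010060) (.leaf (nat_lit 0x40080300204e00501a010060) (nat_lit 777))
 (.node (nat_lit 0x40080301204e00581c010060) (.leaf (nat_lit 0x40080301200e00481e010060) (nat_lit 777))
 (.leaf (nat_lit 0x40080301204e00581c010060) (nat_lit 777))
))))) (.node (nat_lit 0x400903c0200e004018090060) (.node (nat_lit 0x40080701200e00483e010060) (.node (nat_lit 0x40080501204600482c010020) (.node (nat_lit 0x40080500204600502e010020) (.leaf (nat_lit 0x400805002006004028010020) (nat_lit 521))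
 (.node (nat_lit 0x40080501200600582a010020) (.leaf (nat_lit 0x40080500204600502e010020) (nat_lit 777))
 (.leaf (nat_lit 0x40080501200600582a010020) (nat_lit 777))
)) (.node (nat_lit 0x40080700200e004038010060) (.leaf (nat_lit 0x40080501204600482c010020) (nat_lit 1033))
 (.node (nat_lit 0x40080700204e00503a010060) (.leaf (nat_lit 0x40080700200e004038010060) (nat_lit 777))
 (.leaf (nat_lit 0x40080700204e00503a010060) (nat_lit 1033))
))) (.node (nat_lit 0x40090180204600d00e090220) (.node (nat_lit 0x40080701204e00583c010060) (.leaf (nat_lit 0x40080701200e00483e010060) (nat_lit 1033))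
 (.node (nat_lit 0x400901802006004008090220) (.leaf (nat_lit 0x40080701204e00583c010060) (nat_lit 1033))
 (.leaf (nat_lit 0x400901802006004008090220) (nat_lit 777))
)) (.node (nat_lit 0x40090181200600582a090220) (.leaf (nat_lit 0x40090180204600d00e090220) (nat_lit 1033))
 (.node (nat_lit 0x40090181204600c82c090220) (.leaf (nat_lit 0x40090181200600582a090220) (nat_lit 1033))
 (.leaf (nat_lit 0x40090181204600c82c090220) (nat_lit 1289))
)))) (.node (nat_lit 0x40090581200600580a090220) (.node (nat_lit 0x400903c1204e00583c090060) (.node (nat_lit 0x400903c0204e00d03a090060) (.leaf (nat_lit 0x400903c0200e004018090060) (nat_lit 777))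
 (.node (nat_lit 0x400903c1200e00c81e090060) (.leaf (nat_lit 0x400903c0204e00d03a090060) (nat_lit 1033))
 (.leaf (nat_lit 0x400903c1200e00c81e090060) (nat_lit 1033))
)) (.node (nat_lit 0x400905802006004028090220) (.leaf (nat_lit 0x400903c1204e00583c090060) (nat_lit 1289))
 (.node (nat_lit 0x40090580204600d02e090220) (.leaf (nat_lit 0x400905802006004028090220) (nat_lit 1033))
 (.leaf (nat_lit 0x40090580204600d02e090220) (nat_lit 1033))
))) (.node (nat_lit 0x400907c0204e00d01a090060) (.node (nat_lit 0x40090581204600c80c090220) (.leaf (nat_lit 0x40090581200600580a090220) (nat_lit 1033))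
 (.node (nat_lit 0x400907c0200e004038090060) (.leaf (nat_lit 0x40090581204600c80c090220) (nat_lit 1289))
 (.leaf (nat_lit 0x400907c0200e004038090060) (nat_lit 1033))
)) (.node (nat_lit 0x400907c1200e00c83e090060) (.leaf (nat_lit 0x400907c0204e00d01a090060) (nat_lit 1289))
 (.node (nat_lit 0x400907c1204e00581c090060) (.leaf (nat_lit 0x400907c1200e00c83e090060) (nat_lit 1289))
 (.leaf (nat_lit 0x400907c1204e00581c090060) (nat_lit 1033))
))))))) (.node (nat_lit 0x400d01c03006006008098220) (.node (nat_lit 0x400b05402006004028090020) (.node (nat_lit 0x400a0740200e004038010260) (.node (nat_lit 0x400a0341200e00c83e010260) (.node (nat_lit 0x400a01c1204600c80c010220) (.node (nat_lit 0x400a01c0204600502e010220) (.leaf (nat_lit 0x400a01c02006004008010220) (nat_lit 521))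
 (.node (nat_lit 0x400a01c1200600d82a010220) (.leaf (nat_lit 0x400a01c0204600502e010220) (nat_lit 777))
 (.leaf (nat_lit 0x400a01c1200600d82a010220) (nat_lit 777))
)) (.node (nat_lit 0x400a0340200e004018010260) (.leaf (nat_lit 0x400a01c1204600c80c010220) (nat_lit 1033))
 (.node (nat_lit 0x400a0340204e00503a010260) (.leaf (nat_lit 0x400a0340200e004018010260) (nat_lit 777))
 (.leaf (nat_lit 0x400a0340204e00503a010260) (nat_lit 1033))
))) (.node (nat_lit 0x400a05c0204600500e010220) (.node (nat_lit 0x400a0341204e00d81c010260) (.leaf (nat_lit 0x400a0341200e00c83e010260) (nat_lit 1033))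
 (.node (nat_lit 0x400a05c02006004028010220) (.leaf (nat_lit 0x400a0341204e00d81c010260) (nat_lit 1033))
 (.leaf (nat_lit 0x400a05c02006004028010220) (nat_lit 777))
)) (.node (nat_lit 0x400a05c1200600d80a010220) (.leaf (nat_lit 0x400a05c0204600500e010220) (nat_lit 777))
 (.node (nat_lit 0x400a05c1204600c82c010220) (.leaf (nat_lit 0x400a05c1200600d80a010220) (nat_lit 1033))
 (.leaf (nat_lit 0x400a05c1204600c82c010220) (nat_lit 1033))
)))) (.node (nat_lit 0x400b0141200600d80a090020) (.node (nat_lit 0x400a0741204e00d83c010260) (.node (nat_lit 0x400a0740204e00501a010260) (.leaf (nat_lit 0x400a0740200e004038010260) (nat_lit 1033))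
 (.node (nat_lit 0x400a0741200e00c81e010260) (.leaf (nat_lit 0x400a0740204e00501a010260) (nat_lit 1033))
 (.leaf (nat_lit 0x400a0741200e00c81e010260) (nat_lit 1289))
)) (.node (nat_lit 0x400b01402006004008090020) (.leaf (nat_lit 0x400a0741204e00d83c010260) (nat_lit 1289))
 (.node (nat_lit 0x400b0140204600d02e090020) (.leaf (nat_lit 0x400b01402006004008090020) (nat_lit 521))
 (.leaf (nat_lit 0x400b0140204600d02e090020) (nat_lit 777))
))) (.node (nat_lit 0x400b0380204e00d01a090260) (.node (nat_lit 0x400b0141204600482c090020) (.leaf (nat_lit 0x400b0141200600d80a090020) (nat_lit 777))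
 (.node (nat_lit 0x400b0380200e004018090260) (.leaf (nat_lit 0x400b0141204600482c090020) (nat_lit 1033))
 (.leaf (nat_lit 0x400b0380200e004018090260) (nat_lit 777))
)) (.node (nat_lit 0x400b0381200e00483e090260) (.leaf (nat_lit 0x400b0380204e00d01a090260) (nat_lit 1033))
 (.node (nat_lit 0x400b0381204e00d83c090260) (.leaf (nat_lit 0x400b0381200e00483e090260) (nat_lit 1033))
 (.leaf (nat_lit 0x400b0381204e00d83c090260) (nat_lit 1033))
))))) (.node (nat_lit 0x400c0200300a006010018040) (.node (nat_lit 0x400b0781200e00481e090260) (.node (nat_lit 0x400b0541204600480c090020) (.node (nat_lit 0x400b0540204600d00e090020) (.leaf (nat_lit 0x400b05402006004028090020) (nat_lit 777))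
 (.node (nat_lit 0x400b0541200600d82a090020) (.leaf (nat_lit 0x400b0540204600d00e090020) (nat_lit 1033))
 (.leaf (nat_lit 0x400b0541200600d82a090020) (nat_lit 1033))
)) (.node (nat_lit 0x400b0780200e004038090260) (.leaf (nat_lit 0x400b0541204600480c090020) (nat_lit 1033))
 (.node (nat_lit 0x400b0780204e00d03a090260) (.leaf (nat_lit 0x400b0780200e004038090260) (nat_lit 1033))
 (.leaf (nat_lit 0x400b0780204e00d03a090260) (nat_lit 1289))
))) (.node (nat_lit 0x400c0100304600780c018020) (.node (nat_lit 0x400b0781204e00d81c090260) (.leaf (nat_lit 0x400b0781200e00481e090260) (nat_lit 1289))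
 (.node (nat_lit 0x400c01003006006008018020) (.leaf (nat_lit 0x400b0781204e00d81c090260) (nat_lit 1289))
 (.leaf (nat_lit 0x400c01003006006008018020) (nat_lit 777))
)) (.node (nat_lit 0x400c0101300600700a018020) (.leaf (nat_lit 0x400c0100304600780c018020) (nat_lit 1033))
 (.node (nat_lit 0x400c0101304600680e018020) (.leaf (nat_lit 0x400c0101300600700a018020) (nat_lit 1033))
 (.leaf (nat_lit 0x400c0101304600680e018020) (nat_lit 1033))
)))) (.node (nat_lit 0x400c0501300600702a018020) (.node (nat_lit 0x400c0201304a007016018040) (.node (nat_lit 0x400c0200304a007812018040) (.leaf (nat_lit 0x400c0200300a006010018040) (nat_lit 521))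
 (.node (nat_lit 0x400c0201300a006814018040) (.leaf (nat_lit 0x400c0200304a007812018040) (nat_lit 777))
 (.leaf (nat_lit 0x400c0201300a006814018040) (nat_lit 777))
)) (.node (nat_lit 0x400c05003006006028018020) (.leaf (nat_lit 0x400c0201304a007016018040) (nat_lit 777))
 (.node (nat_lit 0x400c0500304600782c018020) (.leaf (nat_lit 0x400c05003006006028018020) (nat_lit 1033))
 (.leaf (nat_lit 0x400c0500304600782c018020) (nat_lit 1289))
))) (.node (nat_lit 0x400c0600304a007832018040) (.node (nat_lit 0x400c0501304600682e018020) (.leaf (nat_lit 0x400c0501300600702a018020) (nat_lit 1289))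
 (.node (nat_lit 0x400c0600300a006030018040) (.leaf (nat_lit 0x400c0501304600682e018020) (nat_lit 1289))
 (.leaf (nat_lit 0x400c0600300a006030018040) (nat_lit 777))
)) (.node (nat_lit 0x400c0601300a006834018040) (.leaf (nat_lit 0x400c0600304a007832018040) (nat_lit 1033))
 (.node (nat_lit 0x400c0601304a007036018040) (.leaf (nat_lit 0x400c0601300a006834018040) (nat_lit 1033))
 (.leaf (nat_lit 0x400c0601304a007036018040) (nat_lit 1033))
)))))) (.node (nat_lit 0x400e05403006006028098020) (.node (nat_lit 0x400d0680300a006030098040) (.node (nat_lit 0x400d0281300a00e814098040) (.node (nat_lit 0x400d01c1304600e82e098220) (.node (nat_lit 0x400d01c0304600f80c098220) (.leaf (nat_lit 0x400d01c03006006008098220) (nat_lit 1033))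
 (.node (nat_lit 0x400d01c1300600702a098220) (.leaf (nat_lit 0x400d01c0304600f80c098220) (nat_lit 1289))
 (.leaf (nat_lit 0x400d01c1300600702a098220) (nat_lit 1289))
)) (.node (nat_lit 0x400d0280300a006010098040) (.leaf (nat_lit 0x400d01c1304600e82e098220) (nat_lit 1289))
 (.node (nat_lit 0x400d0280304a00f832098040) (.leaf (nat_lit 0x400d0280300a006010098040) (nat_lit 777))
 (.leaf (nat_lit 0x400d0280304a00f832098040) (nat_lit 1033))
))) (.node (nat_lit 0x400d05c0304600f82c098220) (.node (nat_lit 0x400d0281304a007036098040) (.leaf (nat_lit 0x400d0281300a00e814098040) (nat_lit 1033))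
 (.node (nat_lit 0x400d05c03006006028098220) (.leaf (nat_lit 0x400d0281304a007036098040) (nat_lit 1033))
 (.leaf (nat_lit 0x400d05c03006006028098220) (nat_lit 1289))
)) (.node (nat_lit 0x400d05c1300600700a098220) (.leaf (nat_lit 0x400d05c0304600f82c098220) (nat_lit 1545))
 (.node (nat_lit 0x400d05c1304600e80e098220) (.leaf (nat_lit 0x400d05c1300600700a098220) (nat_lit 1289))
 (.leaf (nat_lit 0x400d05c1304600e80e098220) (nat_lit 1545))
)))) (.node (nat_lit 0x400e0141300600f00a098020) (.node (nat_lit 0x400d0681304a007016098040) (.node (nat_lit 0x400d0680304a00f812098040) (.leaf (nat_lit 0x400d0680300a006030098040) (nat_lit 1033))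
 (.node (nat_lit 0x400d0681300a00e834098040) (.leaf (nat_lit 0x400d0680304a00f812098040) (nat_lit 1289))
 (.leaf (nat_lit 0x400d0681300a00e834098040) (nat_lit 1289))
)) (.node (nat_lit 0x400e01403006006008098020) (.leaf (nat_lit 0x400d0681304a007016098040) (nat_lit 1033))
 (.node (nat_lit 0x400e0140304600f82c098020) (.leaf (nat_lit 0x400e01403006006008098020) (nat_lit 1033))
 (.leaf (nat_lit 0x400e0140304600f82c098020) (nat_lit 1289))
))) (.node (nat_lit 0x400e02c0304a00f812098240) (.node (nat_lit 0x400e0141304600682e098020) (.leaf (nat_lit 0x400e0141300600f00a098020) (nat_lit 1289))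
 (.node (nat_lit 0x400e02c0300a006010098240) (.leaf (nat_lit 0x400e0141304600682e098020) (nat_lit 1289))
 (.leaf (nat_lit 0x400e02c0300a006010098240) (nat_lit 777))
)) (.node (nat_lit 0x400e02c1300a006834098240) (.leaf (nat_lit 0x400e02c0304a00f812098240) (nat_lit 1033))
 (.node (nat_lit 0x400e02c1304a00f036098240) (.leaf (nat_lit 0x400e02c1300a006834098240) (nat_lit 1033))
 (.leaf (nat_lit 0x400e02c1304a00f036098240) (nat_lit 1033))
))))) (.node (nat_lit 0x400f0240300a006010018240) (.node (nat_lit 0x400e06c1300a006814098240) (.node (nat_lit 0x400e0541304600680e098020) (.node (nat_lit 0x400e0540304600f80c098020) (.leaf (nat_lit 0x400e05403006006028098020) (nat_lit 1289))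
 (.node (nat_lit 0x400e0541300600f02a098020) (.leaf (nat_lit 0x400e0540304600f80c098020) (nat_lit 1545))
 (.leaf (nat_lit 0x400e0541300600f02a098020) (nat_lit 1545))
)) (.node (nat_lit 0x400e06c0300a006030098240) (.leaf (nat_lit 0x400e0541304600680e098020) (nat_lit 1289))
 (.node (nat_lit 0x400e06c0304a00f832098240) (.leaf (nat_lit 0x400e06c0300a006030098240) (nat_lit 1033))
 (.leaf (nat_lit 0x400e06c0304a00f832098240) (nat_lit 1289))
))) (.node (nat_lit 0x400f0180304600782c018220) (.node (nat_lit 0x400e06c1304a00f016098240) (.leaf (nat_lit 0x400e06c1300a006814098240) (nat_lit 1033))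
 (.node (nat_lit 0x400f01803006006008018220) (.leaf (nat_lit 0x400e06c1304a00f016098240) (nat_lit 1289))
 (.leaf (nat_lit 0x400f01803006006008018220) (nat_lit 1033))
)) (.node (nat_lit 0x400f0181300600f02a018220) (.leaf (nat_lit 0x400f0180304600782c018220) (nat_lit 1289))
 (.node (nat_lit 0x400f0181304600e80e018220) (.leaf (nat_lit 0x400f0181300600f02a018220) (nat_lit 1289))
 (.leaf (nat_lit 0x400f0181304600e80e018220) (nat_lit 1289))
)))) (.node (nat_lit 0x400f0581300600f00a018220) (.node (nat_lit 0x400f0241304a00f016018240) (.node (nat_lit 0x400f0240304a007832018240) (.leaf (nat_lit 0x400f0240300a006010018240) (nat_lit 777))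
 (.node (nat_lit 0x400f0241300a00e834018240) (.leaf (nat_lit 0x400f0240304a007832018240) (nat_lit 1033))
 (.leaf (nat_lit 0x400f0241300a00e834018240) (nat_lit 1033))
)) (.node (nat_lit 0x400f05803006006028018220) (.leaf (nat_lit 0x400f0241304a00f016018240) (nat_lit 1289))
 (.node (nat_lit 0x400f0580304600780c018220) (.leaf (nat_lit 0x400f05803006006028018220) (nat_lit 1289))
 (.leaf (nat_lit 0x400f0580304600780c018220) (nat_lit 1289))
))) (.node (nat_lit 0x400f0640304a007812018240) (.node (nat_lit 0x400f0581304600e82e018220) (.leaf (nat_lit 0x400f0581300600f00a018220) (nat_lit 1545))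
 (.node (nat_lit 0x400f0640300a006030018240) (.leaf (nat_lit 0x400f0581304600e82e018220) (nat_lit 1545))
 (.leaf (nat_lit 0x400f0640300a006030018240) (nat_lit 1033))
)) (.node (nat_lit 0x400f0641300a00e814018240) (.leaf (nat_lit 0x400f0640304a007812018240) (nat_lit 1033))
 (.node (nat_lit 0x400f0641304a00f036018240) (.leaf (nat_lit 0x400f0641300a00e814018240) (nat_lit 1289))
 (.leaf (nat_lit 0x400f0641304a00f036018240) (nat_lit 1289))
)))))))) (.node (nat_lit 0x401a01c0200600c008010220) (.node (nat_lit 0x40170280100a00a010088040) (.node (nat_lit 0x401506c0100a00a030008240) (.node (nat_lit 0x40140700100e00a038008060) (.node (nat_lit 0x40140301100e00b01e008060) (.node (nat_lit 0x40140201104a00b012008040) (.node (nat_lit 0x40140200104a00a816008040) (.leaf (nat_lit 0x40140200100a00a010008040) (nat_lit 1033))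
 (.node (nat_lit 0x40140201100a00b814008040) (.leaf (nat_lit 0x40140200104a00a816008040) (nat_lit 1289))
 (.leaf (nat_lit 0x40140201100a00b814008040) (nat_lit 1289))
)) (.node (nat_lit 0x40140300100e00a018008060) (.leaf (nat_lit 0x40140201104a00b012008040) (nat_lit 1289))
 (.node (nat_lit 0x40140300104e00a81c008060) (.leaf (nat_lit 0x40140300100e00a018008060) (nat_lit 777))
 (.leaf (nat_lit 0x40140300104e00a81c008060) (nat_lit 1033))
))) (.node (nat_lit 0x40140600104a00a836008040) (.node (nat_lit 0x40140301104e00b81a008060) (.leaf (nat_lit 0x40140301100e00b01e008060) (nat_lit 1033))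
 (.node (nat_lit 0x40140600100a00a030008040) (.leaf (nat_lit 0x40140301104e00b81a008060) (nat_lit 1033))
 (.leaf (nat_lit 0x40140600100a00a030008040) (nat_lit 1033))
)) (.node (nat_lit 0x40140601100a00b834008040) (.leaf (nat_lit 0x40140600104a00a836008040) (nat_lit 1289))
 (.node (nat_lit 0x40140601104a00b032008040) (.leaf (nat_lit 0x40140601100a00b834008040) (nat_lit 1289))
 (.leaf (nat_lit 0x40140601104a00b032008040) (nat_lit 1289))
)))) (.node (nat_lit 0x401502c1100a003834008240) (.node (nat_lit 0x40140701104e00b83a008060) (.node (nat_lit 0x40140700104e00a83c008060) (.leaf (nat_lit 0x40140700100e00a038008060) (nat_lit 777))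
 (.node (nat_lit 0x40140701100e00b03e008060) (.leaf (nat_lit 0x40140700104e00a83c008060) (nat_lit 1033))
 (.leaf (nat_lit 0x40140701100e00b03e008060) (nat_lit 1033))
)) (.node (nat_lit 0x401502c0100a00a010008240) (.leaf (nat_lit 0x40140701104e00b83a008060) (nat_lit 1033))
 (.node (nat_lit 0x401502c0104a00a836008240) (.leaf (nat_lit 0x401502c0100a00a010008240) (nat_lit 1289))
 (.leaf (nat_lit 0x401502c0104a00a836008240) (nat_lit 1545))
))) (.node (nat_lit 0x40150380104e00a83c008260) (.node (nat_lit 0x401502c1104a003012008240) (.leaf (nat_lit 0x401502c1100a003834008240) (nat_lit 1545))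
 (.node (nat_lit 0x40150380100e00a018008260) (.leaf (nat_lit 0x401502c1104a003012008240) (nat_lit 1289))
 (.leaf (nat_lit 0x40150380100e00a018008260) (nat_lit 1033))
)) (.node (nat_lit 0x40150381100e00303e008260) (.leaf (nat_lit 0x40150380104e00a83c008260) (nat_lit 1289))
 (.node (nat_lit 0x40150381104e00381a008260) (.leaf (nat_lit 0x40150381100e00303e008260) (nat_lit 1289))
 (.leaf (nat_lit 0x40150381104e00381a008260) (nat_lit 1033))
))))) (.node (nat_lit 0x401603c0100e00a018088060) (.node (nat_lit 0x40150781100e00301e008260) (.node (nat_lit 0x401506c1104a003032008240) (.node (nat_lit 0x401506c0104a00a816008240) (.leaf (nat_lit 0x401506c0100a00a030008240) (nat_lit 1289))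
 (.node (nat_lit 0x401506c1100a003814008240) (.leaf (nat_lit 0x401506c0104a00a816008240) (nat_lit 1545))
 (.leaf (nat_lit 0x401506c1100a003814008240) (nat_lit 1289))
)) (.node (nat_lit 0x40150780100e00a038008260) (.leaf (nat_lit 0x401506c1104a003032008240) (nat_lit 1545))
 (.node (nat_lit 0x40150780104e00a81c008260) (.leaf (nat_lit 0x40150780100e00a038008260) (nat_lit 1033))
 (.leaf (nat_lit 0x40150780104e00a81c008260) (nat_lit 1289))
))) (.node (nat_lit 0x40160240104a002816088240) (.node (nat_lit 0x40150781104e00383a008260) (.leaf (nat_lit 0x40150781100e00301e008260) (nat_lit 1033))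
 (.node (nat_lit 0x40160240100a00a010088240) (.leaf (nat_lit 0x40150781104e00383a008260) (nat_lit 1289))
 (.leaf (nat_lit 0x40160240100a00a010088240) (nat_lit 1289))
)) (.node (nat_lit 0x40160241100a00b834088240) (.leaf (nat_lit 0x40160240104a002816088240) (nat_lit 1289))
 (.node (nat_lit 0x40160241104a003032088240) (.leaf (nat_lit 0x40160241100a00b834088240) (nat_lit 1545))
 (.leaf (nat_lit 0x40160241104a003032088240) (nat_lit 1545))
)))) (.node (nat_lit 0x40160641100a00b814088240) (.node (nat_lit 0x401603c1104e00b83a088060) (.node (nat_lit 0x401603c0104e00283c088060) (.leaf (nat_lit 0x401603c0100e00a018088060) (nat_lit 1033))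
 (.node (nat_lit 0x401603c1100e00301e088060) (.leaf (nat_lit 0x401603c0104e00283c088060) (nat_lit 1289))
 (.leaf (nat_lit 0x401603c1100e00301e088060) (nat_lit 1033))
)) (.node (nat_lit 0x40160640100a00a030088240) (.leaf (nat_lit 0x401603c1104e00b83a088060) (nat_lit 1289))
 (.node (nat_lit 0x40160640104a002836088240) (.leaf (nat_lit 0x40160640100a00a030088240) (nat_lit 1289))
 (.leaf (nat_lit 0x40160640104a002836088240) (nat_lit 1545))
))) (.node (nat_lit 0x401607c0104e00281c088060) (.node (nat_lit 0x40160641104a003012088240) (.leaf (nat_lit 0x40160641100a00b814088240) (nat_lit 1545))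
 (.node (nat_lit 0x401607c0100e00a038088060) (.leaf (nat_lit 0x40160641104a003012088240) (nat_lit 1289))
 (.leaf (nat_lit 0x401607c0100e00a038088060) (nat_lit 1033))
)) (.node (nat_lit 0x401607c1100e00303e088060) (.leaf (nat_lit 0x401607c0104e00281c088060) (nat_lit 1033))
 (.node (nat_lit 0x401607c1104e00b81a088060) (.leaf (nat_lit 0x401607c1100e00303e088060) (nat_lit 1289))
 (.leaf (nat_lit 0x401607c1104e00b81a088060) (nat_lit 1289))
)))))) (.node (nat_lit 0x40180500200600c028010020) (.node (nat_lit 0x40170740100e00a038088260) (.node (nat_lit 0x40170341100e00b03e088260) (.node (nat_lit 0x40170281104a00b032088040) (.node (nat_lit 0x40170280104a002836088040) (.leaf (nat_lit 0x40170280100a00a010088040) (nat_lit 1289))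
 (.node (nat_lit 0x40170281100a003814088040) (.leaf (nat_lit 0x40170280104a002836088040) (nat_lit 1545))
 (.leaf (nat_lit 0x40170281100a003814088040) (nat_lit 1289))
)) (.node (nat_lit 0x40170340100e00a018088260) (.leaf (nat_lit 0x40170281104a00b032088040) (nat_lit 1545))
 (.node (nat_lit 0x40170340104e00281c088260) (.leaf (nat_lit 0x40170340100e00a018088260) (nat_lit 1033))
 (.leaf (nat_lit 0x40170340104e00281c088260) (nat_lit 1033))
))) (.node (nat_lit 0x40170680104a002816088040) (.node (nat_lit 0x40170341104e00383a088260) (.leaf (nat_lit 0x40170341100e00b03e088260) (nat_lit 1289))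
 (.node (nat_lit 0x40170680100a00a030088040) (.leaf (nat_lit 0x40170341104e00383a088260) (nat_lit 1289))
 (.leaf (nat_lit 0x40170680100a00a030088040) (nat_lit 1289))
)) (.node (nat_lit 0x40170681100a003834088040) (.leaf (nat_lit 0x40170680104a002816088040) (nat_lit 1289))
 (.node (nat_lit 0x40170681104a00b012088040) (.leaf (nat_lit 0x40170681100a003834088040) (nat_lit 1545))
 (.leaf (nat_lit 0x40170681104a00b012088040) (nat_lit 1545))
)))) (.node (nat_lit 0x40180101200600d80a010020) (.node (nat_lit 0x40170741104e00381a088260) (.node (nat_lit 0x40170740104e00283c088260) (.leaf (nat_lit 0x40170740100e00a038088260) (nat_lit 1033))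
 (.node (nat_lit 0x40170741100e00b01e088260) (.leaf (nat_lit 0x40170740104e00283c088260) (nat_lit 1289))
 (.leaf (nat_lit 0x40170741100e00b01e088260) (nat_lit 1289))
)) (.node (nat_lit 0x40180100200600c008010020) (.leaf (nat_lit 0x40170741104e00381a088260) (nat_lit 1033))
 (.node (nat_lit 0x40180100204600d00e010020) (.leaf (nat_lit 0x40180100200600c008010020) (nat_lit 521))
 (.leaf (nat_lit 0x40180100204600d00e010020) (nat_lit 777))
))) (.node (nat_lit 0x40180300204e00d01a010060) (.node (nat_lit 0x40180101204600c80c010020) (.leaf (nat_lit 0x40180101200600d80a010020) (nat_lit 777))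
 (.node (nat_lit 0x40180300200e00c018010060) (.leaf (nat_lit 0x40180101204600c80c010020) (nat_lit 1033))
 (.leaf (nat_lit 0x40180300200e00c018010060) (nat_lit 777))
)) (.node (nat_lit 0x40180301200e00c81e010060) (.leaf (nat_lit 0x40180300204e00d01a010060) (nat_lit 1033))
 (.node (nat_lit 0x40180301204e00d81c010060) (.leaf (nat_lit 0x40180301200e00c81e010060) (nat_lit 1033))
 (.leaf (nat_lit 0x40180301204e00d81c010060) (nat_lit 1033))
))))) (.node (nat_lit 0x401903c0200e00c018090060) (.node (nat_lit 0x40180701200e00c83e010060) (.node (nat_lit 0x40180501204600c82c010020) (.node (nat_lit 0x40180500204600d02e010020) (.leaf (nat_lit 0x40180500200600c028010020) (nat_lit 777))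
 (.node (nat_lit 0x40180501200600d82a010020) (.leaf (nat_lit 0x40180500204600d02e010020) (nat_lit 1033))
 (.leaf (nat_lit 0x40180501200600d82a010020) (nat_lit 1033))
)) (.node (nat_lit 0x40180700200e00c038010060) (.leaf (nat_lit 0x40180501204600c82c010020) (nat_lit 1289))
 (.node (nat_lit 0x40180700204e00d03a010060) (.leaf (nat_lit 0x40180700200e00c038010060) (nat_lit 777))
 (.leaf (nat_lit 0x40180700204e00d03a010060) (nat_lit 1033))
))) (.node (nat_lit 0x40190180204600500e090220) (.node (nat_lit 0x40180701204e00d83c010060) (.leaf (nat_lit 0x40180701200e00c83e010060) (nat_lit 1033))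
 (.node (nat_lit 0x40190180200600c008090220) (.leaf (nat_lit 0x40180701204e00d83c010060) (nat_lit 1033))
 (.leaf (nat_lit 0x40190180200600c008090220) (nat_lit 1033))
)) (.node (nat_lit 0x40190181200600d82a090220) (.leaf (nat_lit 0x40190180204600500e090220) (nat_lit 1033))
 (.node (nat_lit 0x40190181204600482c090220) (.leaf (nat_lit 0x40190181200600d82a090220) (nat_lit 1033))
 (.leaf (nat_lit 0x40190181204600482c090220) (nat_lit 1289))
)))) (.node (nat_lit 0x40190581200600d80a090220) (.node (nat_lit 0x401903c1204e00d83c090060) (.node (nat_lit 0x401903c0204e00503a090060) (.leaf (nat_lit 0x401903c0200e00c018090060) (nat_lit 1033))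
 (.node (nat_lit 0x401903c1200e00481e090060) (.leaf (nat_lit 0x401903c0204e00503a090060) (nat_lit 1289))
 (.leaf (nat_lit 0x401903c1200e00481e090060) (nat_lit 1033))
)) (.node (nat_lit 0x40190580200600c028090220) (.leaf (nat_lit 0x401903c1204e00d83c090060) (nat_lit 1289))
 (.node (nat_lit 0x40190580204600502e090220) (.leaf (nat_lit 0x40190580200600c028090220) (nat_lit 1289))
 (.leaf (nat_lit 0x40190580204600502e090220) (nat_lit 1033))
))) (.node (nat_lit 0x401907c0204e00501a090060) (.node (nat_lit 0x40190581204600480c090220) (.leaf (nat_lit 0x40190581200600d80a090220) (nat_lit 1033))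
 (.node (nat_lit 0x401907c0200e00c038090060) (.leaf (nat_lit 0x40190581204600480c090220) (nat_lit 1289))
 (.leaf (nat_lit 0x401907c0200e00c038090060) (nat_lit 1033))
)) (.node (nat_lit 0x401907c1200e00483e090060) (.leaf (nat_lit 0x401907c0204e00501a090060) (nat_lit 1033))
 (.node (nat_lit 0x401907c1204e00d81c090060) (.leaf (nat_lit 0x401907c1200e00483e090060) (nat_lit 1289))
 (.leaf (nat_lit 0x401907c1204e00d81c090060) (nat_lit 1289))
))))))) (.node (nat_lit 0x401d01c0300600e008098220) (.node (nat_lit 0x401b0540200600c028090020) (.node (nat_lit 0x401a0740200e00c038010260) (.node (nat_lit 0x401a0341200e00483e010260) (.node (nat_lit 0x401a01c1204600480c010220) (.node (nat_lit 0x401a01c0204600d02e010220) (.leaf (nat_lit 0x401a01c0200600c008010220) (nat_lit 777))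
 (.node (nat_lit 0x401a01c1200600582a010220) (.leaf (nat_lit 0x401a01c0204600d02e010220) (nat_lit 1033))
 (.leaf (nat_lit 0x401a01c1200600582a010220) (nat_lit 1033))
)) (.node (nat_lit 0x401a0340200e00c018010260) (.leaf (nat_lit 0x401a01c1204600480c010220) (nat_lit 1033))
 (.node (nat_lit 0x401a0340204e00d03a010260) (.leaf (nat_lit 0x401a0340200e00c018010260) (nat_lit 1033))
 (.leaf (nat_lit 0x401a0340204e00d03a010260) (nat_lit 1289))
))) (.node (nat_lit 0x401a05c0204600d00e010220) (.node (nat_lit 0x401a0341204e00581c010260) (.leaf (nat_lit 0x401a0341200e00483e010260) (nat_lit 1289))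
 (.node (nat_lit 0x401a05c0200600c028010220) (.leaf (nat_lit 0x401a0341204e00581c010260) (nat_lit 1033))
 (.leaf (nat_lit 0x401a05c0200600c028010220) (nat_lit 1033))
)) (.node (nat_lit 0x401a05c1200600580a010220) (.leaf (nat_lit 0x401a05c0204600d00e010220) (nat_lit 1033))
 (.node (nat_lit 0x401a05c1204600482c010220) (.leaf (nat_lit 0x401a05c1200600580a010220) (nat_lit 777))
 (.leaf (nat_lit 0x401a05c1204600482c010220) (nat_lit 1033))
)))) (.node (nat_lit 0x401b0141200600580a090020) (.node (nat_lit 0x401a0741204e00583c010260) (.node (nat_lit 0x401a0740204e00d01a010260) (.leaf (nat_lit 0x401a0740200e00c038010260) (nat_lit 1033))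
 (.node (nat_lit 0x401a0741200e00481e010260) (.leaf (nat_lit 0x401a0740204e00d01a010260) (nat_lit 1289))
 (.leaf (nat_lit 0x401a0741200e00481e010260) (nat_lit 1033))
)) (.node (nat_lit 0x401b0140200600c008090020) (.leaf (nat_lit 0x401a0741204e00583c010260) (nat_lit 1289))
 (.node (nat_lit 0x401b0140204600502e090020) (.leaf (nat_lit 0x401b0140200600c008090020) (nat_lit 777))
 (.leaf (nat_lit 0x401b0140204600502e090020) (nat_lit 1033))
))) (.node (nat_lit 0x401b0380204e00501a090260) (.node (nat_lit 0x401b0141204600c82c090020) (.leaf (nat_lit 0x401b0141200600580a090020) (nat_lit 777))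
 (.node (nat_lit 0x401b0380200e00c018090260) (.leaf (nat_lit 0x401b0141204600c82c090020) (nat_lit 1033))
 (.leaf (nat_lit 0x401b0380200e00c018090260) (nat_lit 1033))
)) (.node (nat_lit 0x401b0381200e00c83e090260) (.leaf (nat_lit 0x401b0380204e00501a090260) (nat_lit 1033))
 (.node (nat_lit 0x401b0381204e00583c090260) (.leaf (nat_lit 0x401b0381200e00c83e090260) (nat_lit 1289))
 (.leaf (nat_lit 0x401b0381204e00583c090260) (nat_lit 1289))
))))) (.node (nat_lit 0x401c0200300a00e010018040) (.node (nat_lit 0x401b0781200e00c81e090260) (.node (nat_lit 0x401b0541204600c80c090020) (.node (nat_lit 0x401b0540204600500e090020) (.leaf (nat_lit 0x401b0540200600c028090020) (nat_lit 1033))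
 (.node (nat_lit 0x401b0541200600582a090020) (.leaf (nat_lit 0x401b0540204600500e090020) (nat_lit 777))
 (.leaf (nat_lit 0x401b0541200600582a090020) (nat_lit 1033))
)) (.node (nat_lit 0x401b0780200e00c038090260) (.leaf (nat_lit 0x401b0541204600c80c090020) (nat_lit 1033))
 (.node (nat_lit 0x401b0780204e00503a090260) (.leaf (nat_lit 0x401b0780200e00c038090260) (nat_lit 1033))
 (.leaf (nat_lit 0x401b0780204e00503a090260) (nat_lit 1289))
))) (.node (nat_lit 0x401c0100304600f80c018020) (.node (nat_lit 0x401b0781204e00581c090260) (.leaf (nat_lit 0x401b0781200e00c81e090260) (nat_lit 1289))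
 (.node (nat_lit 0x401c0100300600e008018020) (.leaf (nat_lit 0x401b0781204e00581c090260) (nat_lit 1033))
 (.leaf (nat_lit 0x401c0100300600e008018020) (nat_lit 1033))
)) (.node (nat_lit 0x401c0101300600f00a018020) (.leaf (nat_lit 0x401c0100304600f80c018020) (nat_lit 1289))
 (.node (nat_lit 0x401c0101304600e80e018020) (.leaf (nat_lit 0x401c0101300600f00a018020) (nat_lit 1289))
 (.leaf (nat_lit 0x401c0101304600e80e018020) (nat_lit 1289))
)))) (.node (nat_lit 0x401c0501300600f02a018020) (.node (nat_lit 0x401c0201304a00f016018040) (.node (nat_lit 0x401c0200304a00f812018040) (.leaf (nat_lit 0x401c0200300a00e010018040) (nat_lit 777))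
 (.node (nat_lit 0x401c0201300a00e814018040) (.leaf (nat_lit 0x401c0200304a00f812018040) (nat_lit 1033))
 (.leaf (nat_lit 0x401c0201300a00e814018040) (nat_lit 1033))
)) (.node (nat_lit 0x401c0500300600e028018020) (.leaf (nat_lit 0x401c0201304a00f016018040) (nat_lit 1033))
 (.node (nat_lit 0x401c0500304600f82c018020) (.leaf (nat_lit 0x401c0500300600e028018020) (nat_lit 1033))
 (.leaf (nat_lit 0x401c0500304600f82c018020) (nat_lit 1289))
))) (.node (nat_lit 0x401c0600304a00f832018040) (.node (nat_lit 0x401c0501304600e82e018020) (.leaf (nat_lit 0x401c0501300600f02a018020) (nat_lit 1289))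
 (.node (nat_lit 0x401c0600300a00e030018040) (.leaf (nat_lit 0x401c0501304600e82e018020) (nat_lit 1289))
 (.leaf (nat_lit 0x401c0600300a00e030018040) (nat_lit 777))
)) (.node (nat_lit 0x401c0601300a00e834018040) (.leaf (nat_lit 0x401c0600304a00f832018040) (nat_lit 1033))
 (.node (nat_lit 0x401c0601304a00f036018040) (.leaf (nat_lit 0x401c0601300a00e834018040) (nat_lit 1033))
 (.leaf (nat_lit 0x401c0601304a00f036018040) (nat_lit 1033))
)))))) (.node (nat_lit 0x401e0540300600e028098020) (.node (nat_lit 0x401d0680300a00e030098040) (.node (nat_lit 0x401d0281300a006814098040) (.node (nat_lit 0x401d01c1304600682e098220) (.node (nat_lit 0x401d01c0304600780c098220) (.leaf (nat_lit 0x401d01c0300600e008098220) (nat_lit 1289))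
 (.node (nat_lit 0x401d01c1300600f02a098220) (.leaf (nat_lit 0x401d01c0304600780c098220) (nat_lit 1289))
 (.leaf (nat_lit 0x401d01c1300600f02a098220) (nat_lit 1545))
)) (.node (nat_lit 0x401d0280300a00e010098040) (.leaf (nat_lit 0x401d01c1304600682e098220) (nat_lit 1545))
 (.node (nat_lit 0x401d0280304a007832098040) (.leaf (nat_lit 0x401d0280300a00e010098040) (nat_lit 1033))
 (.leaf (nat_lit 0x401d0280304a007832098040) (nat_lit 1289))
))) (.node (nat_lit 0x401d05c0304600782c098220) (.node (nat_lit 0x401d0281304a00f036098040) (.leaf (nat_lit 0x401d0281300a006814098040) (nat_lit 1033))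
 (.node (nat_lit 0x401d05c0300600e028098220) (.leaf (nat_lit 0x401d0281304a00f036098040) (nat_lit 1289))
 (.leaf (nat_lit 0x401d05c0300600e028098220) (nat_lit 1289))
)) (.node (nat_lit 0x401d05c1300600f00a098220) (.leaf (nat_lit 0x401d05c0304600782c098220) (nat_lit 1545))
 (.node (nat_lit 0x401d05c1304600680e098220) (.leaf (nat_lit 0x401d05c1300600f00a098220) (nat_lit 1545))
 (.leaf (nat_lit 0x401d05c1304600680e098220) (nat_lit 1289))
)))) (.node (nat_lit 0x401e0141300600700a098020) (.node (nat_lit 0x401d0681304a00f016098040) (.node (nat_lit 0x401d0680304a007812098040) (.leaf (nat_lit 0x401d0680300a00e030098040) (nat_lit 1033))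
 (.node (nat_lit 0x401d0681300a006834098040) (.leaf (nat_lit 0x401d0680304a007812098040) (nat_lit 1033))
 (.leaf (nat_lit 0x401d0681300a006834098040) (nat_lit 1289))
)) (.node (nat_lit 0x401e0140300600e008098020) (.leaf (nat_lit 0x401d0681304a00f016098040) (nat_lit 1289))
 (.node (nat_lit 0x401e0140304600782c098020) (.leaf (nat_lit 0x401e0140300600e008098020) (nat_lit 1289))
 (.leaf (nat_lit 0x401e0140304600782c098020) (nat_lit 1545))
))) (.node (nat_lit 0x401e02c0304a007812098240) (.node (nat_lit 0x401e0141304600e82e098020) (.leaf (nat_lit 0x401e0141300600700a098020) (nat_lit 1289))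
 (.node (nat_lit 0x401e02c0300a00e010098240) (.leaf (nat_lit 0x401e0141304600e82e098020) (nat_lit 1545))
 (.leaf (nat_lit 0x401e02c0300a00e010098240) (nat_lit 1033))
)) (.node (nat_lit 0x401e02c1300a00e834098240) (.leaf (nat_lit 0x401e02c0304a007812098240) (nat_lit 1289))
 (.node (nat_lit 0x401e02c1304a007036098240) (.leaf (nat_lit 0x401e02c1300a00e834098240) (nat_lit 1289))
 (.leaf (nat_lit 0x401e02c1304a007036098240) (nat_lit 1289))
))))) (.node (nat_lit 0x401f0240300a00e010018240) (.node (nat_lit 0x401e06c1300a00e814098240) (.node (nat_lit 0x401e0541304600e80e098020) (.node (nat_lit 0x401e0540304600780c098020) (.leaf (nat_lit 0x401e0540300600e028098020) (nat_lit 1289))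
 (.node (nat_lit 0x401e0541300600702a098020) (.leaf (nat_lit 0x401e0540304600780c098020) (nat_lit 1289))
 (.leaf (nat_lit 0x401e0541300600702a098020) (nat_lit 1545))
)) (.node (nat_lit 0x401e06c0300a00e030098240) (.leaf (nat_lit 0x401e0541304600e80e098020) (nat_lit 1545))
 (.node (nat_lit 0x401e06c0304a007832098240) (.leaf (nat_lit 0x401e06c0300a00e030098240) (nat_lit 1033))
 (.leaf (nat_lit 0x401e06c0304a007832098240) (nat_lit 1289))
))) (.node (nat_lit 0x401f0180304600f82c018220) (.node (nat_lit 0x401e06c1304a007016098240) (.leaf (nat_lit 0x401e06c1300a00e814098240) (nat_lit 1289))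
 (.node (nat_lit 0x401f0180300600e008018220) (.leaf (nat_lit 0x401e06c1304a007016098240) (nat_lit 1033))
 (.leaf (nat_lit 0x401f0180300600e008018220) (nat_lit 1289))
)) (.node (nat_lit 0x401f0181300600702a018220) (.leaf (nat_lit 0x401f0180304600f82c018220) (nat_lit 1545))
 (.node (nat_lit 0x401f0181304600680e018220) (.leaf (nat_lit 0x401f0181300600702a018220) (nat_lit 1545))
 (.leaf (nat_lit 0x401f0181304600680e018220) (nat_lit 1289))
)))) (.node (nat_lit 0x401f0581300600700a018220) (.node (nat_lit 0x401f0241304a007016018240) (.node (nat_lit 0x401f0240304a00f832018240) (.leaf (nat_lit 0x401f0240300a00e010018240) (nat_lit 1033))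
 (.node (nat_lit 0x401f0241300a006834018240) (.leaf (nat_lit 0x401f0240304a00f832018240) (nat_lit 1289))
 (.leaf (nat_lit 0x401f0241300a006834018240) (nat_lit 1289))
)) (.node (nat_lit 0x401f0580300600e028018220) (.leaf (nat_lit 0x401f0241304a007016018240) (nat_lit 1033))
 (.node (nat_lit 0x401f0580304600f80c018220) (.leaf (nat_lit 0x401f0580300600e028018220) (nat_lit 1289))
 (.leaf (nat_lit 0x401f0580304600f80c018220) (nat_lit 1545))
))) (.node (nat_lit 0x401f0640304a00f812018240) (.node (nat_lit 0x401f0581304600682e018220) (.leaf (nat_lit 0x401f0581300600700a018220) (nat_lit 1289))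
 (.node (nat_lit 0x401f0640300a00e030018240) (.leaf (nat_lit 0x401f0581304600682e018220) (nat_lit 1545))
 (.leaf (nat_lit 0x401f0640300a00e030018240) (nat_lit 1033))
)) (.node (nat_lit 0x401f0641300a006814018240) (.leaf (nat_lit 0x401f0640304a00f812018240) (nat_lit 1289))
 (.node (nat_lit 0x401f0641304a007036018240) (.leaf (nat_lit 0x401f0641300a006814018240) (nat_lit 1033))
 (.leaf (nat_lit 0x401f0641304a007036018240) (nat_lit 1289))
))))))))) (.node (nat_lit 0x8028040020100100500800402) (.node (nat_lit 0x8014038040080100200400811) (.node (nat_lit 0x800e050020100100100804402) (.node (nat_lit 0x800a0d8020100100101800412) (.node (nat_lit 0x80080e0020180100101c00403) (.node (nat_lit 0x8008060220180100180f00403) (.node (nat_lit 0x8008040220900100180900402) (.node (nat_lit 0x8008040020900100140b00402) (.leaf (nat_lit 0x8008040020100100100800402) (nat_lit 520))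
 (.node (nat_lit 0x80080402201001001c0a00402) (.leaf (nat_lit 0x8008040020900100140b00402) (nat_lit 776))
 (.leaf (nat_lit 0x80080402201001001c0a00402) (nat_lit 776))
)) (.node (nat_lit 0x8008060020180100100c00403) (.leaf (nat_lit 0x8008040220900100180900402) (nat_lit 776))
 (.node (nat_lit 0x8008060020980100140e00403) (.leaf (nat_lit 0x8008060020180100100c00403) (nat_lit 263))
 (.leaf (nat_lit 0x8008060020980100140e00403) (nat_lit 519))
))) (.node (nat_lit 0x80080c0020900100141b00402) (.node (nat_lit 0x80080602209801001c0d00403) (.leaf (nat_lit 0x8008060220180100180f00403) (nat_lit 515))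
 (.node (nat_lit 0x80080c0020100100101800402) (.leaf (nat_lit 0x80080602209801001c0d00403) (nat_lit 519))
 (.leaf (nat_lit 0x80080c0020100100101800402) (nat_lit 776))
)) (.node (nat_lit 0x80080c02201001001c1a00402) (.leaf (nat_lit 0x80080c0020900100141b00402) (nat_lit 1032))
 (.node (nat_lit 0x80080c0220900100181900402) (.leaf (nat_lit 0x80080c02201001001c1a00402) (nat_lit 1032))
 (.leaf (nat_lit 0x80080c0220900100181900402) (nat_lit 1032))
)))) (.node (nat_lit 0x800a0582201001005c1a00412) (.node (nat_lit 0x80080e02209801001c1d00403) (.node (nat_lit 0x80080e0020980100141e00403) (.leaf (nat_lit 0x80080e0020180100101c00403) (nat_lit 519))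
 (.node (nat_lit 0x80080e0220180100181f00403) (.leaf (nat_lit 0x80080e0020980100141e00403) (nat_lit 775))
 (.leaf (nat_lit 0x80080e0220180100181f00403) (nat_lit 771))
)) (.node (nat_lit 0x800a058020100100100800412) (.leaf (nat_lit 0x80080e02209801001c1d00403) (nat_lit 775))
 (.node (nat_lit 0x800a058020900100141b00412) (.leaf (nat_lit 0x800a058020100100100800412) (nat_lit 776))
 (.leaf (nat_lit 0x800a058020900100141b00412) (nat_lit 1032))
))) (.node (nat_lit 0x800a070020980100141e00413) (.node (nat_lit 0x800a058220900100580900412) (.leaf (nat_lit 0x800a0582201001005c1a00412) (nat_lit 1032))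
 (.node (nat_lit 0x800a070020180100100c00413) (.leaf (nat_lit 0x800a058220900100580900412) (nat_lit 1032))
 (.leaf (nat_lit 0x800a070020180100100c00413) (nat_lit 519))
)) (.node (nat_lit 0x800a070220180100581f00413) (.leaf (nat_lit 0x800a070020980100141e00413) (nat_lit 775))
 (.node (nat_lit 0x800a0702209801005c0d00413) (.leaf (nat_lit 0x800a070220180100581f00413) (nat_lit 771))
 (.leaf (nat_lit 0x800a0702209801005c0d00413) (nat_lit 775))
))))) (.node (nat_lit 0x800c078020180100100c04403) (.node (nat_lit 0x800a0f0220180100580f00413) (.node (nat_lit 0x800a0d8220900100581900412) (.node (nat_lit 0x800a0d8020900100140b00412) (.leaf (nat_lit 0x800a0d8020100100101800412) (nat_lit 1032))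
 (.node (nat_lit 0x800a0d82201001005c0a00412) (.leaf (nat_lit 0x800a0d8020900100140b00412) (nat_lit 1032))
 (.leaf (nat_lit 0x800a0d82201001005c0a00412) (nat_lit 1288))
)) (.node (nat_lit 0x800a0f0020180100101c00413) (.leaf (nat_lit 0x800a0d8220900100581900412) (nat_lit 1288))
 (.node (nat_lit 0x800a0f0020980100140e00413) (.leaf (nat_lit 0x800a0f0020180100101c00413) (nat_lit 775))
 (.leaf (nat_lit 0x800a0f0020980100140e00413) (nat_lit 775))
))) (.node (nat_lit 0x800c048020900100540b04412) (.node (nat_lit 0x800a0f02209801005c1d00413) (.leaf (nat_lit 0x800a0f0220180100580f00413) (nat_lit 1027))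
 (.node (nat_lit 0x800c048020100100100804412) (.leaf (nat_lit 0x800a0f02209801005c1d00413) (nat_lit 1025))
 (.leaf (nat_lit 0x800c048020100100100804412) (nat_lit 776))
)) (.node (nat_lit 0x800c0482201001001c1a04412) (.leaf (nat_lit 0x800c048020900100540b04412) (nat_lit 1032))
 (.node (nat_lit 0x800c048220900100581904412) (.leaf (nat_lit 0x800c0482201001001c1a04412) (nat_lit 1027))
 (.leaf (nat_lit 0x800c048220900100581904412) (nat_lit 1032))
)))) (.node (nat_lit 0x800c0c82201001001c0a04412) (.node (nat_lit 0x800c0782209801001c1d04403) (.node (nat_lit 0x800c078020980100541e04403) (.leaf (nat_lit 0x800c078020180100100c04403) (nat_lit 513))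
 (.node (nat_lit 0x800c078220180100580f04403) (.leaf (nat_lit 0x800c078020980100541e04403) (nat_lit 770))
 (.leaf (nat_lit 0x800c078220180100580f04403) (nat_lit 771))
)) (.node (nat_lit 0x800c0c8020100100101804412) (.leaf (nat_lit 0x800c0782209801001c1d04403) (nat_lit 1031))
 (.node (nat_lit 0x800c0c8020900100541b04412) (.leaf (nat_lit 0x800c0c8020100100101804412) (nat_lit 1032))
 (.leaf (nat_lit 0x800c0c8020900100541b04412) (nat_lit 1288))
))) (.node (nat_lit 0x800c0f8020980100540e04403) (.node (nat_lit 0x800c0c8220900100580904412) (.leaf (nat_lit 0x800c0c82201001001c0a04412) (nat_lit 1032))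
 (.node (nat_lit 0x800c0f8020180100101c04403) (.leaf (nat_lit 0x800c0c8220900100580904412) (nat_lit 1281))
 (.leaf (nat_lit 0x800c0f8020180100101c04403) (nat_lit 769))
)) (.node (nat_lit 0x800c0f8220180100581f04403) (.leaf (nat_lit 0x800c0f8020980100540e04403) (nat_lit 1031))
 (.node (nat_lit 0x800c0f82209801001c0d04403) (.leaf (nat_lit 0x800c0f8220180100581f04403) (nat_lit 1026))
 (.leaf (nat_lit 0x800c0f82209801001c0d04403) (nat_lit 769))
)))))) (.node (nat_lit 0x80100a0040080100201400801) (.node (nat_lit 0x800e0e8020180100101c04413) (.node (nat_lit 0x800e068220180100181f04413) (.node (nat_lit 0x800e050220900100181904402) (.node (nat_lit 0x800e050020900100541b04402) (.leaf (nat_lit 0x800e050020100100100804402) (nat_lit 776))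
 (.node (nat_lit 0x800e0502201001005c0a04402) (.leaf (nat_lit 0x800e050020900100541b04402) (nat_lit 1032))
 (.leaf (nat_lit 0x800e0502201001005c0a04402) (nat_lit 1032))
)) (.node (nat_lit 0x800e068020180100100c04413) (.leaf (nat_lit 0x800e050220900100181904402) (nat_lit 1032))
 (.node (nat_lit 0x800e068020980100540e04413) (.leaf (nat_lit 0x800e068020180100100c04413) (nat_lit 519))
 (.leaf (nat_lit 0x800e068020980100540e04413) (nat_lit 775))
))) (.node (nat_lit 0x800e0d0020900100540b04402) (.node (nat_lit 0x800e0682209801005c1d04413) (.leaf (nat_lit 0x800e068220180100181f04413) (nat_lit 771))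
 (.node (nat_lit 0x800e0d0020100100101804402) (.leaf (nat_lit 0x800e0682209801005c1d04413) (nat_lit 775))
 (.leaf (nat_lit 0x800e0d0020100100101804402) (nat_lit 1032))
)) (.node (nat_lit 0x800e0d02201001005c1a04402) (.leaf (nat_lit 0x800e0d0020900100540b04402) (nat_lit 1288))
 (.node (nat_lit 0x800e0d0220900100180904402) (.leaf (nat_lit 0x800e0d02201001005c1a04402) (nat_lit 1288))
 (.leaf (nat_lit 0x800e0d0220900100180904402) (nat_lit 1025))
)))) (.node (nat_lit 0x80100202400801002c0500801) (.node (nat_lit 0x800e0e82209801005c0d04413) (.node (nat_lit 0x800e0e8020980100541e04413) (.leaf (nat_lit 0x800e0e8020180100101c04413) (nat_lit 775))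
 (.node (nat_lit 0x800e0e8220180100180f04413) (.leaf (nat_lit 0x800e0e8020980100541e04413) (nat_lit 1031))
 (.leaf (nat_lit 0x800e0e8220180100180f04413) (nat_lit 1027))
)) (.node (nat_lit 0x8010020040080100200400801) (.leaf (nat_lit 0x800e0e82209801005c0d04413) (nat_lit 1031))
 (.node (nat_lit 0x8010020040880100280700801) (.leaf (nat_lit 0x8010020040080100200400801) (nat_lit 0))
 (.leaf (nat_lit 0x8010020040880100280700801) (nat_lit 258))
))) (.node (nat_lit 0x8010060040980100280d00803) (.node (nat_lit 0x8010020240880100240600801) (.leaf (nat_lit 0x80100202400801002c0500801) (nat_lit 259))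
 (.node (nat_lit 0x8010060040180100200c00803) (.leaf (nat_lit 0x8010020240880100240600801) (nat_lit 515))
 (.leaf (nat_lit 0x8010060040180100200c00803) (nat_lit 264))
)) (.node (nat_lit 0x8010060240180100240f00803) (.leaf (nat_lit 0x8010060040980100280d00803) (nat_lit 520))
 (.node (nat_lit 0x80100602409801002c0e00803) (.leaf (nat_lit 0x8010060240180100240f00803) (nat_lit 515))
 (.leaf (nat_lit 0x80100602409801002c0e00803) (nat_lit 520))
))))) (.node (nat_lit 0x8012078040180100200c04803) (.node (nat_lit 0x80100e0240180100241f00803) (.node (nat_lit 0x80100a0240880100241600801) (.node (nat_lit 0x80100a0040880100281700801) (.leaf (nat_lit 0x80100a0040080100201400801) (nat_lit 260))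
 (.node (nat_lit 0x80100a02400801002c1500801) (.leaf (nat_lit 0x80100a0040880100281700801) (nat_lit 516))
 (.leaf (nat_lit 0x80100a02400801002c1500801) (nat_lit 516))
)) (.node (nat_lit 0x80100e0040180100201c00803) (.leaf (nat_lit 0x80100a0240880100241600801) (nat_lit 772))
 (.node (nat_lit 0x80100e0040980100281d00803) (.leaf (nat_lit 0x80100e0040180100201c00803) (nat_lit 520))
 (.leaf (nat_lit 0x80100e0040980100281d00803) (nat_lit 776))
))) (.node (nat_lit 0x8012030040880100680704811) (.node (nat_lit 0x80100e02409801002c1e00803) (.leaf (nat_lit 0x80100e0240180100241f00803) (nat_lit 771))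
 (.node (nat_lit 0x8012030040080100200404811) (.leaf (nat_lit 0x80100e02409801002c1e00803) (nat_lit 776))
 (.leaf (nat_lit 0x8012030040080100200404811) (nat_lit 513))
)) (.node (nat_lit 0x80120302400801002c1504811) (.leaf (nat_lit 0x8012030040880100680704811) (nat_lit 770))
 (.node (nat_lit 0x8012030240880100641604811) (.leaf (nat_lit 0x80120302400801002c1504811) (nat_lit 771))
 (.leaf (nat_lit 0x8012030240880100641604811) (nat_lit 1027))
)))) (.node (nat_lit 0x80120b02400801002c0504811) (.node (nat_lit 0x80120782409801002c1e04803) (.node (nat_lit 0x8012078040980100681d04803) (.leaf (nat_lit 0x8012078040180100200c04803) (nat_lit 513))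
 (.node (nat_lit 0x8012078240180100640f04803) (.leaf (nat_lit 0x8012078040980100681d04803) (nat_lit 770))
 (.leaf (nat_lit 0x8012078240180100640f04803) (nat_lit 771))
)) (.node (nat_lit 0x80120b0040080100201404811) (.leaf (nat_lit 0x80120782409801002c1e04803) (nat_lit 1032))
 (.node (nat_lit 0x80120b0040880100681704811) (.leaf (nat_lit 0x80120b0040080100201404811) (nat_lit 772))
 (.leaf (nat_lit 0x80120b0040880100681704811) (nat_lit 768))
))) (.node (nat_lit 0x80120f8040980100680d04803) (.node (nat_lit 0x80120b0240880100640604811) (.leaf (nat_lit 0x80120b02400801002c0504811) (nat_lit 769))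
 (.node (nat_lit 0x80120f8040180100201c04803) (.leaf (nat_lit 0x80120b0240880100640604811) (nat_lit 1025))
 (.leaf (nat_lit 0x80120f8040180100201c04803) (nat_lit 769))
)) (.node (nat_lit 0x80120f8240180100641f04803) (.leaf (nat_lit 0x80120f8040980100680d04803) (nat_lit 1032))
 (.node (nat_lit 0x80120f82409801002c0e04803) (.leaf (nat_lit 0x80120f8240180100641f04803) (nat_lit 1026))
 (.leaf (nat_lit 0x80120f82409801002c0e04803) (nat_lit 769))
))))))) (.node (nat_lit 0x801a038060080100300404c11) (.node (nat_lit 0x80160a8040080100201404801) (.node (nat_lit 0x80140e8040180100201c00813) (.node (nat_lit 0x8014068240180100641f00813) (.node (nat_lit 0x8014038240880100640600811) (.node (nat_lit 0x8014038040880100281700811) (.leaf (nat_lit 0x8014038040080100200400811) (nat_lit 256))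
 (.node (nat_lit 0x80140382400801006c1500811) (.leaf (nat_lit 0x8014038040880100281700811) (nat_lit 514))
 (.leaf (nat_lit 0x80140382400801006c1500811) (nat_lit 515))
)) (.node (nat_lit 0x8014068040180100200c00813) (.leaf (nat_lit 0x8014038240880100640600811) (nat_lit 771))
 (.node (nat_lit 0x8014068040980100281d00813) (.leaf (nat_lit 0x8014068040180100200c00813) (nat_lit 520))
 (.leaf (nat_lit 0x8014068040980100281d00813) (nat_lit 776))
))) (.node (nat_lit 0x80140b8040880100280700811) (.node (nat_lit 0x80140682409801006c0e00813) (.leaf (nat_lit 0x8014068240180100641f00813) (nat_lit 771))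
 (.node (nat_lit 0x80140b8040080100201400811) (.leaf (nat_lit 0x80140682409801006c0e00813) (nat_lit 776))
 (.leaf (nat_lit 0x80140b8040080100201400811) (nat_lit 516))
)) (.node (nat_lit 0x80140b82400801006c0500811) (.leaf (nat_lit 0x80140b8040880100280700811) (nat_lit 512))
 (.node (nat_lit 0x80140b8240880100641600811) (.leaf (nat_lit 0x80140b82400801006c0500811) (nat_lit 772))
 (.leaf (nat_lit 0x80140b8240880100641600811) (nat_lit 771))
)))) (.node (nat_lit 0x80160282400801006c0504801) (.node (nat_lit 0x80140e82409801006c1e00813) (.node (nat_lit 0x80140e8040980100280d00813) (.leaf (nat_lit 0x80140e8040180100201c00813) (nat_lit 776))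
 (.node (nat_lit 0x80140e8240180100640f00813) (.leaf (nat_lit 0x80140e8040980100280d00813) (nat_lit 776))
 (.leaf (nat_lit 0x80140e8240180100640f00813) (nat_lit 1027))
)) (.node (nat_lit 0x8016028040080100200404801) (.leaf (nat_lit 0x80140e82409801006c1e00813) (nat_lit 1032))
 (.node (nat_lit 0x8016028040880100681704801) (.leaf (nat_lit 0x8016028040080100200404801) (nat_lit 257))
 (.leaf (nat_lit 0x8016028040880100681704801) (nat_lit 514))
))) (.node (nat_lit 0x8016070040980100680d04813) (.node (nat_lit 0x8016028240880100241604801) (.leaf (nat_lit 0x80160282400801006c0504801) (nat_lit 515))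
 (.node (nat_lit 0x8016070040180100200c04813) (.leaf (nat_lit 0x8016028240880100241604801) (nat_lit 771))
 (.leaf (nat_lit 0x8016070040180100200c04813) (nat_lit 520))
)) (.node (nat_lit 0x8016070240180100241f04813) (.leaf (nat_lit 0x8016070040980100680d04813) (nat_lit 776))
 (.node (nat_lit 0x80160702409801006c1e04813) (.leaf (nat_lit 0x8016070240180100241f04813) (nat_lit 771))
 (.leaf (nat_lit 0x80160702409801006c1e04813) (nat_lit 776))
))))) (.node (nat_lit 0x8018040060100100300800c02) (.node (nat_lit 0x80160f0240180100240f04813) (.node (nat_lit 0x80160a8240880100240604801) (.node (nat_lit 0x80160a8040880100680704801) (.leaf (nat_lit 0x80160a8040080100201404801) (nat_lit 516))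
 (.node (nat_lit 0x80160a82400801006c1504801) (.leaf (nat_lit 0x80160a8040880100680704801) (nat_lit 772))
 (.leaf (nat_lit 0x80160a82400801006c1504801) (nat_lit 772))
)) (.node (nat_lit 0x80160f0040180100201c04813) (.leaf (nat_lit 0x80160a8240880100240604801) (nat_lit 769))
 (.node (nat_lit 0x80160f0040980100681d04813) (.leaf (nat_lit 0x80160f0040180100201c04813) (nat_lit 776))
 (.leaf (nat_lit 0x80160f0040980100681d04813) (nat_lit 1032))
))) (.node (nat_lit 0x80180200608801003c0600c01) (.node (nat_lit 0x80160f02409801006c0e04813) (.leaf (nat_lit 0x80160f0240180100240f04813) (nat_lit 1027))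
 (.node (nat_lit 0x8018020060080100300400c01) (.leaf (nat_lit 0x80160f02409801006c0e04813) (nat_lit 1025))
 (.leaf (nat_lit 0x8018020060080100300400c01) (nat_lit 520))
)) (.node (nat_lit 0x8018020260080100380500c01) (.leaf (nat_lit 0x80180200608801003c0600c01) (nat_lit 776))
 (.node (nat_lit 0x8018020260880100340700c01) (.leaf (nat_lit 0x8018020260080100380500c01) (nat_lit 776))
 (.leaf (nat_lit 0x8018020260880100340700c01) (nat_lit 776))
)))) (.node (nat_lit 0x80180a0260080100381500c01) (.node (nat_lit 0x8018040260900100380b00c02) (.node (nat_lit 0x80180400609001003c0900c02) (.leaf (nat_lit 0x8018040060100100300800c02) (nat_lit 262))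
 (.node (nat_lit 0x8018040260100100340a00c02) (.leaf (nat_lit 0x80180400609001003c0900c02) (nat_lit 514))
 (.leaf (nat_lit 0x8018040260100100340a00c02) (nat_lit 518))
)) (.node (nat_lit 0x80180a0060080100301400c01) (.leaf (nat_lit 0x8018040260900100380b00c02) (nat_lit 518))
 (.node (nat_lit 0x80180a00608801003c1600c01) (.leaf (nat_lit 0x80180a0060080100301400c01) (nat_lit 776))
 (.leaf (nat_lit 0x80180a00608801003c1600c01) (nat_lit 1032))
))) (.node (nat_lit 0x80180c00609001003c1900c02) (.node (nat_lit 0x80180a0260880100341700c01) (.leaf (nat_lit 0x80180a0260080100381500c01) (nat_lit 1032))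
 (.node (nat_lit 0x80180c0060100100301800c02) (.leaf (nat_lit 0x80180a0260880100341700c01) (nat_lit 1032))
 (.leaf (nat_lit 0x80180c0060100100301800c02) (nat_lit 516))
)) (.node (nat_lit 0x80180c0260100100341a00c02) (.leaf (nat_lit 0x80180c00609001003c1900c02) (nat_lit 772))
 (.node (nat_lit 0x80180c0260900100381b00c02) (.leaf (nat_lit 0x80180c0260100100341a00c02) (nat_lit 772))
 (.leaf (nat_lit 0x80180c0260900100381b00c02) (nat_lit 772))
)))))) (.node (nat_lit 0x801c0a8060080100301404c01) (.node (nat_lit 0x801a0d0060100100301804c02) (.node (nat_lit 0x801a050260100100740a04c02) (.node (nat_lit 0x801a038260880100741704c11) (.node (nat_lit 0x801a0380608801007c0604c11) (.leaf (nat_lit 0x801a038060080100300404c11) (nat_lit 776))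
 (.node (nat_lit 0x801a038260080100381504c11) (.leaf (nat_lit 0x801a0380608801007c0604c11) (nat_lit 1032))
 (.leaf (nat_lit 0x801a038260080100381504c11) (nat_lit 1032))
)) (.node (nat_lit 0x801a050060100100300804c02) (.leaf (nat_lit 0x801a038260880100741704c11) (nat_lit 1032))
 (.node (nat_lit 0x801a0500609001007c1904c02) (.leaf (nat_lit 0x801a050060100100300804c02) (nat_lit 518))
 (.leaf (nat_lit 0x801a0500609001007c1904c02) (nat_lit 770))
))) (.node (nat_lit 0x801a0b80608801007c1604c11) (.node (nat_lit 0x801a050260900100381b04c02) (.leaf (nat_lit 0x801a050260100100740a04c02) (nat_lit 774))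
 (.node (nat_lit 0x801a0b8060080100301404c11) (.leaf (nat_lit 0x801a050260900100381b04c02) (nat_lit 774))
 (.leaf (nat_lit 0x801a0b8060080100301404c11) (nat_lit 1032))
)) (.node (nat_lit 0x801a0b8260080100380504c11) (.leaf (nat_lit 0x801a0b80608801007c1604c11) (nat_lit 1288))
 (.node (nat_lit 0x801a0b8260880100740704c11) (.leaf (nat_lit 0x801a0b8260080100380504c11) (nat_lit 1032))
 (.leaf (nat_lit 0x801a0b8260880100740704c11) (nat_lit 1288))
)))) (.node (nat_lit 0x801c028260080100780504c01) (.node (nat_lit 0x801a0d0260900100380b04c02) (.node (nat_lit 0x801a0d00609001007c0904c02) (.leaf (nat_lit 0x801a0d0060100100301804c02) (nat_lit 772))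
 (.node (nat_lit 0x801a0d0260100100741a04c02) (.leaf (nat_lit 0x801a0d00609001007c0904c02) (nat_lit 1028))
 (.leaf (nat_lit 0x801a0d0260100100741a04c02) (nat_lit 1028))
)) (.node (nat_lit 0x801c028060080100300404c01) (.leaf (nat_lit 0x801a0d0260900100380b04c02) (nat_lit 774))
 (.node (nat_lit 0x801c0280608801007c1604c01) (.leaf (nat_lit 0x801c028060080100300404c01) (nat_lit 776))
 (.leaf (nat_lit 0x801c0280608801007c1604c01) (nat_lit 1032))
))) (.node (nat_lit 0x801c0580609001007c0904c12) (.node (nat_lit 0x801c028260880100341704c01) (.leaf (nat_lit 0x801c028260080100780504c01) (nat_lit 1032))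
 (.node (nat_lit 0x801c058060100100300804c12) (.leaf (nat_lit 0x801c028260880100341704c01) (nat_lit 1032))
 (.leaf (nat_lit 0x801c058060100100300804c12) (nat_lit 518))
)) (.node (nat_lit 0x801c058260100100341a04c12) (.leaf (nat_lit 0x801c0580609001007c0904c12) (nat_lit 770))
 (.node (nat_lit 0x801c058260900100781b04c12) (.leaf (nat_lit 0x801c058260100100341a04c12) (nat_lit 774))
 (.leaf (nat_lit 0x801c058260900100781b04c12) (nat_lit 774))
))))) (.node (nat_lit 0x801e048060100100300800c12) (.node (nat_lit 0x801c0d8260100100340a04c12) (.node (nat_lit 0x801c0a8260880100340704c01) (.node (nat_lit 0x801c0a80608801007c0604c01) (.leaf (nat_lit 0x801c0a8060080100301404c01) (nat_lit 1032))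
 (.node (nat_lit 0x801c0a8260080100781504c01) (.leaf (nat_lit 0x801c0a80608801007c0604c01) (nat_lit 1288))
 (.leaf (nat_lit 0x801c0a8260080100781504c01) (nat_lit 1288))
)) (.node (nat_lit 0x801c0d8060100100301804c12) (.leaf (nat_lit 0x801c0a8260880100340704c01) (nat_lit 1032))
 (.node (nat_lit 0x801c0d80609001007c1904c12) (.leaf (nat_lit 0x801c0d8060100100301804c12) (nat_lit 772))
 (.leaf (nat_lit 0x801c0d80609001007c1904c12) (nat_lit 1024))
))) (.node (nat_lit 0x801e0300608801003c1600c11) (.node (nat_lit 0x801c0d8260900100780b04c12) (.leaf (nat_lit 0x801c0d8260100100340a04c12) (nat_lit 774))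
 (.node (nat_lit 0x801e030060080100300400c11) (.leaf (nat_lit 0x801c0d8260900100780b04c12) (nat_lit 1028))
 (.leaf (nat_lit 0x801e030060080100300400c11) (nat_lit 776))
)) (.node (nat_lit 0x801e030260080100781500c11) (.leaf (nat_lit 0x801e0300608801003c1600c11) (nat_lit 1032))
 (.node (nat_lit 0x801e030260880100740700c11) (.leaf (nat_lit 0x801e030260080100781500c11) (nat_lit 1027))
 (.leaf (nat_lit 0x801e030260880100740700c11) (nat_lit 1032))
)))) (.node (nat_lit 0x801e0b0260080100780500c11) (.node (nat_lit 0x801e048260900100780b00c12) (.node (nat_lit 0x801e0480609001003c1900c12) (.leaf (nat_lit 0x801e048060100100300800c12) (nat_lit 512))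
 (.node (nat_lit 0x801e048260100100741a00c12) (.leaf (nat_lit 0x801e0480609001003c1900c12) (nat_lit 770))
 (.leaf (nat_lit 0x801e048260100100741a00c12) (nat_lit 771))
)) (.node (nat_lit 0x801e0b0060080100301400c11) (.leaf (nat_lit 0x801e048260900100780b00c12) (nat_lit 1030))
 (.node (nat_lit 0x801e0b00608801003c0600c11) (.leaf (nat_lit 0x801e0b0060080100301400c11) (nat_lit 1032))
 (.leaf (nat_lit 0x801e0b00608801003c0600c11) (nat_lit 1032))
))) (.node (nat_lit 0x801e0c80609001003c0900c12) (.node (nat_lit 0x801e0b0260880100741700c11) (.leaf (nat_lit 0x801e0b0260080100780500c11) (nat_lit 1288))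
 (.node (nat_lit 0x801e0c8060100100301800c12) (.leaf (nat_lit 0x801e0b0260880100741700c11) (nat_lit 1288))
 (.leaf (nat_lit 0x801e0c8060100100301800c12) (nat_lit 772))
)) (.node (nat_lit 0x801e0c8260100100740a00c12) (.leaf (nat_lit 0x801e0c80609001003c0900c12) (nat_lit 768))
 (.node (nat_lit 0x801e0c8260900100781b00c12) (.leaf (nat_lit 0x801e0c8260100100740a00c12) (nat_lit 1030))
 (.leaf (nat_lit 0x801e0c8260900100781b00c12) (nat_lit 1030))
)))))))) (.node (nat_lit 0x8034038040080100600400811) (.node (nat_lit 0x802e050020100100500804402) (.node (nat_lit 0x802a0d8020100100501800412) (.node (nat_lit 0x80280e0020180100501c00403) (.node (nat_lit 0x8028060220180100580f00403) (.node (nat_lit 0x8028040220900100580900402) (.node (nat_lit 0x8028040020900100540b00402) (.leaf (nat_lit 0x8028040020100100500800402) (nat_lit 776))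
 (.node (nat_lit 0x80280402201001005c0a00402) (.leaf (nat_lit 0x8028040020900100540b00402) (nat_lit 1032))
 (.leaf (nat_lit 0x80280402201001005c0a00402) (nat_lit 1032))
)) (.node (nat_lit 0x8028060020180100500c00403) (.leaf (nat_lit 0x8028040220900100580900402) (nat_lit 1032))
 (.node (nat_lit 0x8028060020980100540e00403) (.leaf (nat_lit 0x8028060020180100500c00403) (nat_lit 517))
 (.leaf (nat_lit 0x8028060020980100540e00403) (nat_lit 773))
))) (.node (nat_lit 0x80280c0020900100541b00402) (.node (nat_lit 0x80280602209801005c0d00403) (.leaf (nat_lit 0x8028060220180100580f00403) (nat_lit 773))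
 (.node (nat_lit 0x80280c0020100100501800402) (.leaf (nat_lit 0x80280602209801005c0d00403) (nat_lit 773))
 (.leaf (nat_lit 0x80280c0020100100501800402) (nat_lit 776))
)) (.node (nat_lit 0x80280c02201001005c1a00402) (.leaf (nat_lit 0x80280c0020900100541b00402) (nat_lit 1032))
 (.node (nat_lit 0x80280c0220900100581900402) (.leaf (nat_lit 0x80280c02201001005c1a00402) (nat_lit 1032))
 (.leaf (nat_lit 0x80280c0220900100581900402) (nat_lit 1032))
)))) (.node (nat_lit 0x802a0582201001001c1a00412) (.node (nat_lit 0x80280e02209801005c1d00403) (.node (nat_lit 0x80280e0020980100541e00403) (.leaf (nat_lit 0x80280e0020180100501c00403) (nat_lit 519))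
 (.node (nat_lit 0x80280e0220180100581f00403) (.leaf (nat_lit 0x80280e0020980100541e00403) (nat_lit 775))
 (.leaf (nat_lit 0x80280e0220180100581f00403) (nat_lit 771))
)) (.node (nat_lit 0x802a058020100100500800412) (.leaf (nat_lit 0x80280e02209801005c1d00403) (nat_lit 775))
 (.node (nat_lit 0x802a058020900100541b00412) (.leaf (nat_lit 0x802a058020100100500800412) (nat_lit 1032))
 (.leaf (nat_lit 0x802a058020900100541b00412) (nat_lit 1288))
))) (.node (nat_lit 0x802a070020980100541e00413) (.node (nat_lit 0x802a058220900100180900412) (.leaf (nat_lit 0x802a0582201001001c1a00412) (nat_lit 1288))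
 (.node (nat_lit 0x802a070020180100500c00413) (.leaf (nat_lit 0x802a058220900100180900412) (nat_lit 1032))
 (.leaf (nat_lit 0x802a070020180100500c00413) (nat_lit 773))
)) (.node (nat_lit 0x802a070220180100181f00413) (.leaf (nat_lit 0x802a070020980100541e00413) (nat_lit 1029))
 (.node (nat_lit 0x802a0702209801001c0d00413) (.leaf (nat_lit 0x802a070220180100181f00413) (nat_lit 1025))
 (.leaf (nat_lit 0x802a0702209801001c0d00413) (nat_lit 775))
))))) (.node (nat_lit 0x802c078020180100500c04403) (.node (nat_lit 0x802a0f0220180100180f00413) (.node (nat_lit 0x802a0d8220900100181900412) (.node (nat_lit 0x802a0d8020900100540b00412) (.leaf (nat_lit 0x802a0d8020100100501800412) (nat_lit 1032))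
 (.node (nat_lit 0x802a0d82201001001c0a00412) (.leaf (nat_lit 0x802a0d8020900100540b00412) (nat_lit 1288))
 (.leaf (nat_lit 0x802a0d82201001001c0a00412) (nat_lit 1032))
)) (.node (nat_lit 0x802a0f0020180100501c00413) (.leaf (nat_lit 0x802a0d8220900100181900412) (nat_lit 1288))
 (.node (nat_lit 0x802a0f0020980100540e00413) (.leaf (nat_lit 0x802a0f0020180100501c00413) (nat_lit 775))
 (.leaf (nat_lit 0x802a0f0020980100540e00413) (nat_lit 1025))
))) (.node (nat_lit 0x802c048020900100140b04412) (.node (nat_lit 0x802a0f02209801001c1d00413) (.leaf (nat_lit 0x802a0f0220180100180f00413) (nat_lit 768))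
 (.node (nat_lit 0x802c048020100100500804412) (.leaf (nat_lit 0x802a0f02209801001c1d00413) (nat_lit 1031))
 (.leaf (nat_lit 0x802c048020100100500804412) (nat_lit 1032))
)) (.node (nat_lit 0x802c0482201001005c1a04412) (.leaf (nat_lit 0x802c048020900100140b04412) (nat_lit 1032))
 (.node (nat_lit 0x802c048220900100181904412) (.leaf (nat_lit 0x802c0482201001005c1a04412) (nat_lit 1288))
 (.leaf (nat_lit 0x802c048220900100181904412) (nat_lit 1288))
)))) (.node (nat_lit 0x802c0c82201001005c0a04412) (.node (nat_lit 0x802c0782209801005c1d04403) (.node (nat_lit 0x802c078020980100141e04403) (.leaf (nat_lit 0x802c078020180100500c04403) (nat_lit 773))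
 (.node (nat_lit 0x802c078220180100180f04403) (.leaf (nat_lit 0x802c078020980100141e04403) (nat_lit 1031))
 (.leaf (nat_lit 0x802c078220180100180f04403) (nat_lit 769))
)) (.node (nat_lit 0x802c0c8020100100501804412) (.leaf (nat_lit 0x802c0782209801005c1d04403) (nat_lit 1031))
 (.node (nat_lit 0x802c0c8020900100141b04412) (.leaf (nat_lit 0x802c0c8020100100501804412) (nat_lit 1032))
 (.leaf (nat_lit 0x802c0c8020900100141b04412) (nat_lit 1288))
))) (.node (nat_lit 0x802c0f8020980100140e04403) (.node (nat_lit 0x802c0c8220900100180904412) (.leaf (nat_lit 0x802c0c82201001005c0a04412) (nat_lit 1288))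
 (.node (nat_lit 0x802c0f8020180100501c04403) (.leaf (nat_lit 0x802c0c8220900100180904412) (nat_lit 1032))
 (.leaf (nat_lit 0x802c0f8020180100501c04403) (nat_lit 769))
)) (.node (nat_lit 0x802c0f8220180100181f04403) (.leaf (nat_lit 0x802c0f8020980100140e04403) (nat_lit 769))
 (.node (nat_lit 0x802c0f82209801005c0d04403) (.leaf (nat_lit 0x802c0f8220180100181f04403) (nat_lit 1024))
 (.leaf (nat_lit 0x802c0f82209801005c0d04403) (nat_lit 1031))
)))))) (.node (nat_lit 0x80300a0040080100601400801) (.node (nat_lit 0x802e0e8020180100501c04413) (.node (nat_lit 0x802e068220180100581f04413) (.node (nat_lit 0x802e050220900100581904402) (.node (nat_lit 0x802e050020900100141b04402) (.leaf (nat_lit 0x802e050020100100500804402) (nat_lit 1032))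
 (.node (nat_lit 0x802e0502201001001c0a04402) (.leaf (nat_lit 0x802e050020900100141b04402) (nat_lit 1288))
 (.leaf (nat_lit 0x802e0502201001001c0a04402) (nat_lit 1032))
)) (.node (nat_lit 0x802e068020180100500c04413) (.leaf (nat_lit 0x802e050220900100581904402) (nat_lit 1288))
 (.node (nat_lit 0x802e068020980100140e04413) (.leaf (nat_lit 0x802e068020180100500c04413) (nat_lit 773))
 (.leaf (nat_lit 0x802e068020980100140e04413) (nat_lit 775))
))) (.node (nat_lit 0x802e0d0020900100140b04402) (.node (nat_lit 0x802e0682209801001c1d04413) (.leaf (nat_lit 0x802e068220180100581f04413) (nat_lit 1029))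
 (.node (nat_lit 0x802e0d0020100100501804402) (.leaf (nat_lit 0x802e0682209801001c1d04413) (nat_lit 1029))
 (.leaf (nat_lit 0x802e0d0020100100501804402) (nat_lit 1032))
)) (.node (nat_lit 0x802e0d02201001001c1a04402) (.leaf (nat_lit 0x802e0d0020900100140b04402) (nat_lit 1032))
 (.node (nat_lit 0x802e0d0220900100580904402) (.leaf (nat_lit 0x802e0d02201001001c1a04402) (nat_lit 1288))
 (.leaf (nat_lit 0x802e0d0220900100580904402) (nat_lit 1288))
)))) (.node (nat_lit 0x80300202400801006c0500801) (.node (nat_lit 0x802e0e82209801001c0d04413) (.node (nat_lit 0x802e0e8020980100141e04413) (.leaf (nat_lit 0x802e0e8020180100501c04413) (nat_lit 775))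
 (.node (nat_lit 0x802e0e8220180100580f04413) (.leaf (nat_lit 0x802e0e8020980100141e04413) (nat_lit 1031))
 (.leaf (nat_lit 0x802e0e8220180100580f04413) (nat_lit 1027))
)) (.node (nat_lit 0x8030020040080100600400801) (.leaf (nat_lit 0x802e0e82209801001c0d04413) (nat_lit 775))
 (.node (nat_lit 0x8030020040880100680700801) (.leaf (nat_lit 0x8030020040080100600400801) (nat_lit 261))
 (.leaf (nat_lit 0x8030020040880100680700801) (nat_lit 517))
))) (.node (nat_lit 0x8030060040980100680d00803) (.node (nat_lit 0x8030020240880100640600801) (.leaf (nat_lit 0x80300202400801006c0500801) (nat_lit 517))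
 (.node (nat_lit 0x8030060040180100600c00803) (.leaf (nat_lit 0x8030020240880100640600801) (nat_lit 773))
 (.leaf (nat_lit 0x8030060040180100600c00803) (nat_lit 517))
)) (.node (nat_lit 0x8030060240180100640f00803) (.leaf (nat_lit 0x8030060040980100680d00803) (nat_lit 773))
 (.node (nat_lit 0x80300602409801006c0e00803) (.leaf (nat_lit 0x8030060240180100640f00803) (nat_lit 773))
 (.leaf (nat_lit 0x80300602409801006c0e00803) (nat_lit 773))
))))) (.node (nat_lit 0x8032078040180100600c04803) (.node (nat_lit 0x80300e0240180100641f00803) (.node (nat_lit 0x80300a0240880100641600801) (.node (nat_lit 0x80300a0040880100681700801) (.leaf (nat_lit 0x80300a0040080100601400801) (nat_lit 517))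
 (.node (nat_lit 0x80300a02400801006c1500801) (.leaf (nat_lit 0x80300a0040880100681700801) (nat_lit 769))
 (.leaf (nat_lit 0x80300a02400801006c1500801) (nat_lit 768))
)) (.node (nat_lit 0x80300e0040180100601c00803) (.leaf (nat_lit 0x80300a0240880100641600801) (nat_lit 1026))
 (.node (nat_lit 0x80300e0040980100681d00803) (.leaf (nat_lit 0x80300e0040180100601c00803) (nat_lit 520))
 (.leaf (nat_lit 0x80300e0040980100681d00803) (nat_lit 776))
))) (.node (nat_lit 0x8032030040880100280704811) (.node (nat_lit 0x80300e02409801006c1e00803) (.leaf (nat_lit 0x80300e0240180100641f00803) (nat_lit 771))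
 (.node (nat_lit 0x8032030040080100600404811) (.leaf (nat_lit 0x80300e02409801006c1e00803) (nat_lit 776))
 (.leaf (nat_lit 0x8032030040080100600404811) (nat_lit 773))
)) (.node (nat_lit 0x80320302400801006c1504811) (.leaf (nat_lit 0x8032030040880100280704811) (nat_lit 769))
 (.node (nat_lit 0x8032030240880100241604811) (.leaf (nat_lit 0x80320302400801006c1504811) (nat_lit 769))
 (.leaf (nat_lit 0x8032030240880100241604811) (nat_lit 1026))
)))) (.node (nat_lit 0x80320b02400801006c0504811) (.node (nat_lit 0x80320782409801006c1e04803) (.node (nat_lit 0x8032078040980100281d04803) (.leaf (nat_lit 0x8032078040180100600c04803) (nat_lit 773))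
 (.node (nat_lit 0x8032078240180100240f04803) (.leaf (nat_lit 0x8032078040980100281d04803) (nat_lit 1032))
 (.leaf (nat_lit 0x8032078240180100240f04803) (nat_lit 769))
)) (.node (nat_lit 0x80320b0040080100601404811) (.leaf (nat_lit 0x80320782409801006c1e04803) (nat_lit 1032))
 (.node (nat_lit 0x80320b0040880100281704811) (.leaf (nat_lit 0x80320b0040080100601404811) (nat_lit 1029))
 (.leaf (nat_lit 0x80320b0040880100281704811) (nat_lit 769))
))) (.node (nat_lit 0x80320f8040980100280d04803) (.node (nat_lit 0x80320b0240880100240604811) (.leaf (nat_lit 0x80320b02400801006c0504811) (nat_lit 768))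
 (.node (nat_lit 0x80320f8040180100601c04803) (.leaf (nat_lit 0x80320b0240880100240604811) (nat_lit 1027))
 (.leaf (nat_lit 0x80320f8040180100601c04803) (nat_lit 769))
)) (.node (nat_lit 0x80320f8240180100241f04803) (.leaf (nat_lit 0x80320f8040980100280d04803) (nat_lit 769))
 (.node (nat_lit 0x80320f82409801006c0e04803) (.leaf (nat_lit 0x80320f8240180100241f04803) (nat_lit 1024))
 (.leaf (nat_lit 0x80320f82409801006c0e04803) (nat_lit 1032))
))))))) (.node (nat_lit 0x803a038060080100700404c11) (.node (nat_lit 0x80360a8040080100601404801) (.node (nat_lit 0x80340e8040180100601c00813) (.node (nat_lit 0x8034068240180100241f00813) (.node (nat_lit 0x8034038240880100240600811) (.node (nat_lit 0x8034038040880100681700811) (.leaf (nat_lit 0x8034038040080100600400811) (nat_lit 517))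
 (.node (nat_lit 0x80340382400801002c1500811) (.leaf (nat_lit 0x8034038040880100681700811) (nat_lit 773))
 (.leaf (nat_lit 0x80340382400801002c1500811) (nat_lit 773))
)) (.node (nat_lit 0x8034068040180100600c00813) (.leaf (nat_lit 0x8034038240880100240600811) (nat_lit 768))
 (.node (nat_lit 0x8034068040980100681d00813) (.leaf (nat_lit 0x8034068040180100600c00813) (nat_lit 773))
 (.leaf (nat_lit 0x8034068040980100681d00813) (nat_lit 1029))
))) (.node (nat_lit 0x80340b8040880100680700811) (.node (nat_lit 0x80340682409801002c0e00813) (.leaf (nat_lit 0x8034068240180100241f00813) (nat_lit 1029))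
 (.node (nat_lit 0x80340b8040080100601400811) (.leaf (nat_lit 0x80340682409801002c0e00813) (nat_lit 776))
 (.leaf (nat_lit 0x80340b8040080100601400811) (nat_lit 773))
)) (.node (nat_lit 0x80340b82400801002c0500811) (.leaf (nat_lit 0x80340b8040880100680700811) (nat_lit 773))
 (.node (nat_lit 0x80340b8240880100241600811) (.leaf (nat_lit 0x80340b82400801002c0500811) (nat_lit 512))
 (.leaf (nat_lit 0x80340b8240880100241600811) (nat_lit 770))
)))) (.node (nat_lit 0x80360282400801002c0504801) (.node (nat_lit 0x80340e82409801002c1e00813) (.node (nat_lit 0x80340e8040980100680d00813) (.leaf (nat_lit 0x80340e8040180100601c00813) (nat_lit 776))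
 (.node (nat_lit 0x80340e8240180100240f00813) (.leaf (nat_lit 0x80340e8040980100680d00813) (nat_lit 1032))
 (.leaf (nat_lit 0x80340e8240180100240f00813) (nat_lit 768))
)) (.node (nat_lit 0x8036028040080100600404801) (.leaf (nat_lit 0x80340e82409801002c1e00813) (nat_lit 1032))
 (.node (nat_lit 0x8036028040880100281704801) (.leaf (nat_lit 0x8036028040080100600404801) (nat_lit 517))
 (.leaf (nat_lit 0x8036028040880100281704801) (nat_lit 773))
))) (.node (nat_lit 0x8036070040980100280d04813) (.node (nat_lit 0x8036028240880100641604801) (.leaf (nat_lit 0x80360282400801002c0504801) (nat_lit 513))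
 (.node (nat_lit 0x8036070040180100600c04813) (.leaf (nat_lit 0x8036028240880100641604801) (nat_lit 770))
 (.leaf (nat_lit 0x8036070040180100600c04813) (nat_lit 773))
)) (.node (nat_lit 0x8036070240180100641f04813) (.leaf (nat_lit 0x8036070040980100280d04813) (nat_lit 776))
 (.node (nat_lit 0x80360702409801002c1e04813) (.leaf (nat_lit 0x8036070240180100641f04813) (nat_lit 1025))
 (.leaf (nat_lit 0x80360702409801002c1e04813) (nat_lit 1029))
))))) (.node (nat_lit 0x8038040060100100700800c02) (.node (nat_lit 0x80360f0240180100640f04813) (.node (nat_lit 0x80360a8240880100640604801) (.node (nat_lit 0x80360a8040880100280704801) (.leaf (nat_lit 0x80360a8040080100601404801) (nat_lit 773))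
 (.node (nat_lit 0x80360a82400801002c1504801) (.leaf (nat_lit 0x80360a8040880100280704801) (nat_lit 513))
 (.leaf (nat_lit 0x80360a82400801002c1504801) (nat_lit 772))
)) (.node (nat_lit 0x80360f0040180100601c04813) (.leaf (nat_lit 0x80360a8240880100640604801) (nat_lit 771))
 (.node (nat_lit 0x80360f0040980100281d04813) (.leaf (nat_lit 0x80360f0040180100601c04813) (nat_lit 776))
 (.leaf (nat_lit 0x80360f0040980100281d04813) (nat_lit 1025))
))) (.node (nat_lit 0x80380200608801007c0600c01) (.node (nat_lit 0x80360f02409801002c0e04813) (.leaf (nat_lit 0x80360f0240180100640f04813) (nat_lit 1027))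
 (.node (nat_lit 0x8038020060080100700400c01) (.leaf (nat_lit 0x80360f02409801002c0e04813) (nat_lit 776))
 (.leaf (nat_lit 0x8038020060080100700400c01) (nat_lit 776))
)) (.node (nat_lit 0x8038020260080100780500c01) (.leaf (nat_lit 0x80380200608801007c0600c01) (nat_lit 1032))
 (.node (nat_lit 0x8038020260880100740700c01) (.leaf (nat_lit 0x8038020260080100780500c01) (nat_lit 1032))
 (.leaf (nat_lit 0x8038020260880100740700c01) (nat_lit 1032))
)))) (.node (nat_lit 0x80380a0260080100781500c01) (.node (nat_lit 0x8038040260900100780b00c02) (.node (nat_lit 0x80380400609001007c0900c02) (.leaf (nat_lit 0x8038040060100100700800c02) (nat_lit 518))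
 (.node (nat_lit 0x8038040260100100740a00c02) (.leaf (nat_lit 0x80380400609001007c0900c02) (nat_lit 770))
 (.leaf (nat_lit 0x8038040260100100740a00c02) (nat_lit 774))
)) (.node (nat_lit 0x80380a0060080100701400c01) (.leaf (nat_lit 0x8038040260900100780b00c02) (nat_lit 774))
 (.node (nat_lit 0x80380a00608801007c1600c01) (.leaf (nat_lit 0x80380a0060080100701400c01) (nat_lit 776))
 (.leaf (nat_lit 0x80380a00608801007c1600c01) (nat_lit 1032))
))) (.node (nat_lit 0x80380c00609001007c1900c02) (.node (nat_lit 0x80380a0260880100741700c01) (.leaf (nat_lit 0x80380a0260080100781500c01) (nat_lit 1032))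
 (.node (nat_lit 0x80380c0060100100701800c02) (.leaf (nat_lit 0x80380a0260880100741700c01) (nat_lit 1032))
 (.leaf (nat_lit 0x80380c0060100100701800c02) (nat_lit 518))
)) (.node (nat_lit 0x80380c0260100100741a00c02) (.leaf (nat_lit 0x80380c00609001007c1900c02) (nat_lit 770))
 (.node (nat_lit 0x80380c0260900100781b00c02) (.leaf (nat_lit 0x80380c0260100100741a00c02) (nat_lit 774))
 (.leaf (nat_lit 0x80380c0260900100781b00c02) (nat_lit 774))
)))))) (.node (nat_lit 0x803c0a8060080100701404c01) (.node (nat_lit 0x803a0d0060100100701804c02) (.node (nat_lit 0x803a050260100100340a04c02) (.node (nat_lit 0x803a038260880100341704c11) (.node (nat_lit 0x803a0380608801003c0604c11) (.leaf (nat_lit 0x803a038060080100700404c11) (nat_lit 1032))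
 (.node (nat_lit 0x803a038260080100781504c11) (.leaf (nat_lit 0x803a0380608801003c0604c11) (nat_lit 1032))
 (.leaf (nat_lit 0x803a038260080100781504c11) (nat_lit 1288))
)) (.node (nat_lit 0x803a050060100100700804c02) (.leaf (nat_lit 0x803a038260880100341704c11) (nat_lit 1288))
 (.node (nat_lit 0x803a0500609001003c1904c02) (.leaf (nat_lit 0x803a050060100100700804c02) (nat_lit 774))
 (.leaf (nat_lit 0x803a0500609001003c1904c02) (nat_lit 1026))
))) (.node (nat_lit 0x803a0b80608801003c1604c11) (.node (nat_lit 0x803a050260900100781b04c02) (.leaf (nat_lit 0x803a050260100100340a04c02) (nat_lit 774))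
 (.node (nat_lit 0x803a0b8060080100701404c11) (.leaf (nat_lit 0x803a050260900100781b04c02) (nat_lit 1030))
 (.leaf (nat_lit 0x803a0b8060080100701404c11) (nat_lit 1032))
)) (.node (nat_lit 0x803a0b8260080100780504c11) (.leaf (nat_lit 0x803a0b80608801003c1604c11) (nat_lit 1288))
 (.node (nat_lit 0x803a0b8260880100340704c11) (.leaf (nat_lit 0x803a0b8260080100780504c11) (nat_lit 1288))
 (.leaf (nat_lit 0x803a0b8260880100340704c11) (nat_lit 1032))
)))) (.node (nat_lit 0x803c028260080100380504c01) (.node (nat_lit 0x803a0d0260900100780b04c02) (.node (nat_lit 0x803a0d00609001003c0904c02) (.leaf (nat_lit 0x803a0d0060100100701804c02) (nat_lit 774))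
 (.node (nat_lit 0x803a0d0260100100341a04c02) (.leaf (nat_lit 0x803a0d00609001003c0904c02) (nat_lit 769))
 (.leaf (nat_lit 0x803a0d0260100100341a04c02) (nat_lit 1030))
)) (.node (nat_lit 0x803c028060080100700404c01) (.leaf (nat_lit 0x803a0d0260900100780b04c02) (nat_lit 1030))
 (.node (nat_lit 0x803c0280608801003c1604c01) (.leaf (nat_lit 0x803c028060080100700404c01) (nat_lit 1032))
 (.leaf (nat_lit 0x803c0280608801003c1604c01) (nat_lit 1288))
))) (.node (nat_lit 0x803c0580609001003c0904c12) (.node (nat_lit 0x803c028260880100741704c01) (.leaf (nat_lit 0x803c028260080100380504c01) (nat_lit 1032))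
 (.node (nat_lit 0x803c058060100100700804c12) (.leaf (nat_lit 0x803c028260880100741704c01) (nat_lit 1288))
 (.leaf (nat_lit 0x803c058060100100700804c12) (nat_lit 774))
)) (.node (nat_lit 0x803c058260100100741a04c12) (.leaf (nat_lit 0x803c0580609001003c0904c12) (nat_lit 1026))
 (.node (nat_lit 0x803c058260900100381b04c12) (.leaf (nat_lit 0x803c058260100100741a04c12) (nat_lit 1030))
 (.leaf (nat_lit 0x803c058260900100381b04c12) (nat_lit 1024))
))))) (.node (nat_lit 0x803e048060100100700800c12) (.node (nat_lit 0x803c0d8260100100740a04c12) (.node (nat_lit 0x803c0a8260880100740704c01) (.node (nat_lit 0x803c0a80608801003c0604c01) (.leaf (nat_lit 0x803c0a8060080100701404c01) (nat_lit 1032))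
 (.node (nat_lit 0x803c0a8260080100381504c01) (.leaf (nat_lit 0x803c0a80608801003c0604c01) (nat_lit 1025))
 (.leaf (nat_lit 0x803c0a8260080100381504c01) (nat_lit 1288))
)) (.node (nat_lit 0x803c0d8060100100701804c12) (.leaf (nat_lit 0x803c0a8260880100740704c01) (nat_lit 1288))
 (.node (nat_lit 0x803c0d80609001003c1904c12) (.leaf (nat_lit 0x803c0d8060100100701804c12) (nat_lit 774))
 (.leaf (nat_lit 0x803c0d80609001003c1904c12) (nat_lit 1026))
))) (.node (nat_lit 0x803e0300608801007c1600c11) (.node (nat_lit 0x803c0d8260900100380b04c12) (.leaf (nat_lit 0x803c0d8260100100740a04c12) (nat_lit 1024))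
 (.node (nat_lit 0x803e030060080100700400c11) (.leaf (nat_lit 0x803c0d8260900100380b04c12) (nat_lit 774))
 (.leaf (nat_lit 0x803e030060080100700400c11) (nat_lit 1032))
)) (.node (nat_lit 0x803e030260080100381500c11) (.leaf (nat_lit 0x803e0300608801007c1600c11) (nat_lit 1288))
 (.node (nat_lit 0x803e030260880100340700c11) (.leaf (nat_lit 0x803e030260080100381500c11) (nat_lit 1288))
 (.leaf (nat_lit 0x803e030260880100340700c11) (nat_lit 1032))
)))) (.node (nat_lit 0x803e0b0260080100380500c11) (.node (nat_lit 0x803e048260900100380b00c12) (.node (nat_lit 0x803e0480609001007c1900c12) (.leaf (nat_lit 0x803e048060100100700800c12) (nat_lit 768))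
 (.node (nat_lit 0x803e048260100100341a00c12) (.leaf (nat_lit 0x803e0480609001007c1900c12) (nat_lit 1027))
 (.leaf (nat_lit 0x803e048260100100341a00c12) (nat_lit 1030))
)) (.node (nat_lit 0x803e0b0060080100701400c11) (.leaf (nat_lit 0x803e048260900100380b00c12) (nat_lit 768))
 (.node (nat_lit 0x803e0b00608801007c0600c11) (.leaf (nat_lit 0x803e0b0060080100701400c11) (nat_lit 1032))
 (.leaf (nat_lit 0x803e0b00608801007c0600c11) (nat_lit 1281))
))) (.node (nat_lit 0x803e0c80609001007c0900c12) (.node (nat_lit 0x803e0b0260880100341700c11) (.leaf (nat_lit 0x803e0b0260080100380500c11) (nat_lit 1032))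
 (.node (nat_lit 0x803e0c8060100100701800c12) (.leaf (nat_lit 0x803e0b0260880100341700c11) (nat_lit 1288))
 (.leaf (nat_lit 0x803e0c8060100100701800c12) (nat_lit 768))
)) (.node (nat_lit 0x803e0c8260100100340a00c12) (.leaf (nat_lit 0x803e0c80609001007c0900c12) (nat_lit 1025))
 (.node (nat_lit 0x803e0c8260900100381b00c12) (.leaf (nat_lit 0x803e0c8260100100340a00c12) (nat_lit 768))
 (.leaf (nat_lit 0x803e0c8260900100381b00c12) (nat_lit 1030))
))))))))))

theorem N_ok : genOK B10.A [(nat_lit 0x8014038040080100200400811), (nat_lit 0x8016028040080100200404801), (nat_lit 0x8010020040880100280700801), (nat_lit 0x80100202400801002c0500801), (nat_lit 0x80100a0040080100201400801), (nat_lit 0x8030020040080100600400801), (nat_lit 0x8018040060100100300800c02), (nat_lit 0x8008060020180100100c00403), (nat_lit 0x8010060040180100200c00803), (nat_lit 0x400801002006004008010020)] N_t (nat_lit 768) = true := by decide +kernel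

noncomputable def NF_t : ST :=
(.node (nat_lit 0x8028040020100100500800402) (.node (nat_lit 0x8014038040080100200400811) (.node (nat_lit 0x800e050020100100100804402) (.node (nat_lit 0x800a0d8020100100101800412) (.node (nat_lit 0x80080e0020180100101c00403) (.node (nat_lit 0x8008060220180100180f00403) (.node (nat_lit 0x8008040220900100180900402) (.node (nat_lit 0x8008040020900100140b00402) (.leaf (nat_lit 0x8008040020100100100800402) (nat_lit 520))
 (.node (nat_lit 0x80080402201001001c0a00402) (.leaf (nat_lit 0x8008040020900100140b00402) (nat_lit 776))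
 (.leaf (nat_lit 0x80080402201001001c0a00402) (nat_lit 776))
)) (.node (nat_lit 0x8008060020180100100c00403) (.leaf (nat_lit 0x8008040220900100180900402) (nat_lit 776))
 (.node (nat_lit 0x8008060020980100140e00403) (.leaf (nat_lit 0x8008060020180100100c00403) (nat_lit 263))
 (.leaf (nat_lit 0x8008060020980100140e00403) (nat_lit 519))
))) (.node (nat_lit 0x80080c0020900100141b00402) (.node (nat_lit 0x80080602209801001c0d00403) (.leaf (nat_lit 0x8008060220180100180f00403) (nat_lit 515))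
 (.node (nat_lit 0x80080c0020100100101800402) (.leaf (nat_lit 0x80080602209801001c0d00403) (nat_lit 519))
 (.leaf (nat_lit 0x80080c0020100100101800402) (nat_lit 776))
)) (.node (nat_lit 0x80080c02201001001c1a00402) (.leaf (nat_lit 0x80080c0020900100141b00402) (nat_lit 1032))
 (.node (nat_lit 0x80080c0220900100181900402) (.leaf (nat_lit 0x80080c02201001001c1a00402) (nat_lit 1032))
 (.leaf (nat_lit 0x80080c0220900100181900402) (nat_lit 1032))
)))) (.node (nat_lit 0x800a0582201001005c1a00412) (.node (nat_lit 0x80080e02209801001c1d00403) (.node (nat_lit 0x80080e0020980100141e00403) (.leaf (nat_lit 0x80080e0020180100101c00403) (nat_lit 519))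
 (.node (nat_lit 0x80080e0220180100181f00403) (.leaf (nat_lit 0x80080e0020980100141e00403) (nat_lit 775))
 (.leaf (nat_lit 0x80080e0220180100181f00403) (nat_lit 771))
)) (.node (nat_lit 0x800a058020100100100800412) (.leaf (nat_lit 0x80080e02209801001c1d00403) (nat_lit 775))
 (.node (nat_lit 0x800a058020900100141b00412) (.leaf (nat_lit 0x800a058020100100100800412) (nat_lit 776))
 (.leaf (nat_lit 0x800a058020900100141b00412) (nat_lit 1032))
))) (.node (nat_lit 0x800a070020980100141e00413) (.node (nat_lit 0x800a058220900100580900412) (.leaf (nat_lit 0x800a0582201001005c1a00412) (nat_lit 1032))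
 (.node (nat_lit 0x800a070020180100100c00413) (.leaf (nat_lit 0x800a058220900100580900412) (nat_lit 1032))
 (.leaf (nat_lit 0x800a070020180100100c00413) (nat_lit 519))
)) (.node (nat_lit 0x800a070220180100581f00413) (.leaf (nat_lit 0x800a070020980100141e00413) (nat_lit 775))
 (.node (nat_lit 0x800a0702209801005c0d00413) (.leaf (nat_lit 0x800a070220180100581f00413) (nat_lit 771))
 (.leaf (nat_lit 0x800a0702209801005c0d00413) (nat_lit 775))
))))) (.node (nat_lit 0x800c078020180100100c04403) (.node (nat_lit 0x800a0f0220180100580f00413) (.node (nat_lit 0x800a0d8220900100581900412) (.node (nat_lit 0x800a0d8020900100140b00412) (.leaf (nat_lit 0x800a0d8020100100101800412) (nat_lit 1032))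
 (.node (nat_lit 0x800a0d82201001005c0a00412) (.leaf (nat_lit 0x800a0d8020900100140b00412) (nat_lit 1032))
 (.leaf (nat_lit 0x800a0d82201001005c0a00412) (nat_lit 1288))
)) (.node (nat_lit 0x800a0f0020180100101c00413) (.leaf (nat_lit 0x800a0d8220900100581900412) (nat_lit 1288))
 (.node (nat_lit 0x800a0f0020980100140e00413) (.leaf (nat_lit 0x800a0f0020180100101c00413) (nat_lit 775))
 (.leaf (nat_lit 0x800a0f0020980100140e00413) (nat_lit 775))
))) (.node (nat_lit 0x800c048020900100540b04412) (.node (nat_lit 0x800a0f02209801005c1d00413) (.leaf (nat_lit 0x800a0f0220180100580f00413) (nat_lit 1027))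
 (.node (nat_lit 0x800c048020100100100804412) (.leaf (nat_lit 0x800a0f02209801005c1d00413) (nat_lit 1025))
 (.leaf (nat_lit 0x800c048020100100100804412) (nat_lit 776))
)) (.node (nat_lit 0x800c0482201001001c1a04412) (.leaf (nat_lit 0x800c048020900100540b04412) (nat_lit 1032))
 (.node (nat_lit 0x800c048220900100581904412) (.leaf (nat_lit 0x800c0482201001001c1a04412) (nat_lit 1027))
 (.leaf (nat_lit 0x800c048220900100581904412) (nat_lit 1032))
)))) (.node (nat_lit 0x800c0c82201001001c0a04412) (.node (nat_lit 0x800c0782209801001c1d04403) (.node (nat_lit 0x800c078020980100541e04403) (.leaf (nat_lit 0x800c078020180100100c04403) (nat_lit 513))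
 (.node (nat_lit 0x800c078220180100580f04403) (.leaf (nat_lit 0x800c078020980100541e04403) (nat_lit 770))
 (.leaf (nat_lit 0x800c078220180100580f04403) (nat_lit 771))
)) (.node (nat_lit 0x800c0c8020100100101804412) (.leaf (nat_lit 0x800c0782209801001c1d04403) (nat_lit 1031))
 (.node (nat_lit 0x800c0c8020900100541b04412) (.leaf (nat_lit 0x800c0c8020100100101804412) (nat_lit 1032))
 (.leaf (nat_lit 0x800c0c8020900100541b04412) (nat_lit 1288))
))) (.node (nat_lit 0x800c0f8020980100540e04403) (.node (nat_lit 0x800c0c8220900100580904412) (.leaf (nat_lit 0x800c0c82201001001c0a04412) (nat_lit 1032))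
 (.node (nat_lit 0x800c0f8020180100101c04403) (.leaf (nat_lit 0x800c0c8220900100580904412) (nat_lit 1281))
 (.leaf (nat_lit 0x800c0f8020180100101c04403) (nat_lit 769))
)) (.node (nat_lit 0x800c0f8220180100581f04403) (.leaf (nat_lit 0x800c0f8020980100540e04403) (nat_lit 1031))
 (.node (nat_lit 0x800c0f82209801001c0d04403) (.leaf (nat_lit 0x800c0f8220180100581f04403) (nat_lit 1026))
 (.leaf (nat_lit 0x800c0f82209801001c0d04403) (nat_lit 769))
)))))) (.node (nat_lit 0x80100a0040080100201400801) (.node (nat_lit 0x800e0e8020180100101c04413) (.node (nat_lit 0x800e068220180100181f04413) (.node (nat_lit 0x800e050220900100181904402) (.node (nat_lit 0x800e050020900100541b04402) (.leaf (nat_lit 0x800e050020100100100804402) (nat_lit 776))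
 (.node (nat_lit 0x800e0502201001005c0a04402) (.leaf (nat_lit 0x800e050020900100541b04402) (nat_lit 1032))
 (.leaf (nat_lit 0x800e0502201001005c0a04402) (nat_lit 1032))
)) (.node (nat_lit 0x800e068020180100100c04413) (.leaf (nat_lit 0x800e050220900100181904402) (nat_lit 1032))
 (.node (nat_lit 0x800e068020980100540e04413) (.leaf (nat_lit 0x800e068020180100100c04413) (nat_lit 519))
 (.leaf (nat_lit 0x800e068020980100540e04413) (nat_lit 775))
))) (.node (nat_lit 0x800e0d0020900100540b04402) (.node (nat_lit 0x800e0682209801005c1d04413) (.leaf (nat_lit 0x800e068220180100181f04413) (nat_lit 771))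
 (.node (nat_lit 0x800e0d0020100100101804402) (.leaf (nat_lit 0x800e0682209801005c1d04413) (nat_lit 775))
 (.leaf (nat_lit 0x800e0d0020100100101804402) (nat_lit 1032))
)) (.node (nat_lit 0x800e0d02201001005c1a04402) (.leaf (nat_lit 0x800e0d0020900100540b04402) (nat_lit 1288))
 (.node (nat_lit 0x800e0d0220900100180904402) (.leaf (nat_lit 0x800e0d02201001005c1a04402) (nat_lit 1288))
 (.leaf (nat_lit 0x800e0d0220900100180904402) (nat_lit 1025))
)))) (.node (nat_lit 0x80100202400801002c0500801) (.node (nat_lit 0x800e0e82209801005c0d04413) (.node (nat_lit 0x800e0e8020980100541e04413) (.leaf (nat_lit 0x800e0e8020180100101c04413) (nat_lit 775))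
 (.node (nat_lit 0x800e0e8220180100180f04413) (.leaf (nat_lit 0x800e0e8020980100541e04413) (nat_lit 1031))
 (.leaf (nat_lit 0x800e0e8220180100180f04413) (nat_lit 1027))
)) (.node (nat_lit 0x8010020040080100200400801) (.leaf (nat_lit 0x800e0e82209801005c0d04413) (nat_lit 1031))
 (.node (nat_lit 0x8010020040880100280700801) (.leaf (nat_lit 0x8010020040080100200400801) (nat_lit 0))
 (.leaf (nat_lit 0x8010020040880100280700801) (nat_lit 258))
))) (.node (nat_lit 0x8010060040980100280d00803) (.node (nat_lit 0x8010020240880100240600801) (.leaf (nat_lit 0x80100202400801002c0500801) (nat_lit 259))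
 (.node (nat_lit 0x8010060040180100200c00803) (.leaf (nat_lit 0x8010020240880100240600801) (nat_lit 515))
 (.leaf (nat_lit 0x8010060040180100200c00803) (nat_lit 264))
)) (.node (nat_lit 0x8010060240180100240f00803) (.leaf (nat_lit 0x8010060040980100280d00803) (nat_lit 520))
 (.node (nat_lit 0x80100602409801002c0e00803) (.leaf (nat_lit 0x8010060240180100240f00803) (nat_lit 515))
 (.leaf (nat_lit 0x80100602409801002c0e00803) (nat_lit 520))
))))) (.node (nat_lit 0x8012078040180100200c04803) (.node (nat_lit 0x80100e0240180100241f00803) (.node (nat_lit 0x80100a0240880100241600801) (.node (nat_lit 0x80100a0040880100281700801) (.leaf (nat_lit 0x80100a0040080100201400801) (nat_lit 260))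
 (.node (nat_lit 0x80100a02400801002c1500801) (.leaf (nat_lit 0x80100a0040880100281700801) (nat_lit 516))
 (.leaf (nat_lit 0x80100a02400801002c1500801) (nat_lit 516))
)) (.node (nat_lit 0x80100e0040180100201c00803) (.leaf (nat_lit 0x80100a0240880100241600801) (nat_lit 772))
 (.node (nat_lit 0x80100e0040980100281d00803) (.leaf (nat_lit 0x80100e0040180100201c00803) (nat_lit 520))
 (.leaf (nat_lit 0x80100e0040980100281d00803) (nat_lit 776))
))) (.node (nat_lit 0x8012030040880100680704811) (.node (nat_lit 0x80100e02409801002c1e00803) (.leaf (nat_lit 0x80100e0240180100241f00803) (nat_lit 771))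
 (.node (nat_lit 0x8012030040080100200404811) (.leaf (nat_lit 0x80100e02409801002c1e00803) (nat_lit 776))
 (.leaf (nat_lit 0x8012030040080100200404811) (nat_lit 513))
)) (.node (nat_lit 0x80120302400801002c1504811) (.leaf (nat_lit 0x8012030040880100680704811) (nat_lit 770))
 (.node (nat_lit 0x8012030240880100641604811) (.leaf (nat_lit 0x80120302400801002c1504811) (nat_lit 771))
 (.leaf (nat_lit 0x8012030240880100641604811) (nat_lit 1027))
)))) (.node (nat_lit 0x80120b02400801002c0504811) (.node (nat_lit 0x80120782409801002c1e04803) (.node (nat_lit 0x8012078040980100681d04803) (.leaf (nat_lit 0x8012078040180100200c04803) (nat_lit 513))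
 (.node (nat_lit 0x8012078240180100640f04803) (.leaf (nat_lit 0x8012078040980100681d04803) (nat_lit 770))
 (.leaf (nat_lit 0x8012078240180100640f04803) (nat_lit 771))
)) (.node (nat_lit 0x80120b0040080100201404811) (.leaf (nat_lit 0x80120782409801002c1e04803) (nat_lit 1032))
 (.node (nat_lit 0x80120b0040880100681704811) (.leaf (nat_lit 0x80120b0040080100201404811) (nat_lit 772))
 (.leaf (nat_lit 0x80120b0040880100681704811) (nat_lit 768))
))) (.node (nat_lit 0x80120f8040980100680d04803) (.node (nat_lit 0x80120b0240880100640604811) (.leaf (nat_lit 0x80120b02400801002c0504811) (nat_lit 769))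
 (.node (nat_lit 0x80120f8040180100201c04803) (.leaf (nat_lit 0x80120b0240880100640604811) (nat_lit 1025))
 (.leaf (nat_lit 0x80120f8040180100201c04803) (nat_lit 769))
)) (.node (nat_lit 0x80120f8240180100641f04803) (.leaf (nat_lit 0x80120f8040980100680d04803) (nat_lit 1032))
 (.node (nat_lit 0x80120f82409801002c0e04803) (.leaf (nat_lit 0x80120f8240180100641f04803) (nat_lit 1026))
 (.leaf (nat_lit 0x80120f82409801002c0e04803) (nat_lit 769))
))))))) (.node (nat_lit 0x801a038060080100300404c11) (.node (nat_lit 0x80160a8040080100201404801) (.node (nat_lit 0x80140e8040180100201c00813) (.node (nat_lit 0x8014068240180100641f00813) (.node (nat_lit 0x8014038240880100640600811) (.node (nat_lit 0x8014038040880100281700811) (.leaf (nat_lit 0x8014038040080100200400811) (nat_lit 256))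
 (.node (nat_lit 0x80140382400801006c1500811) (.leaf (nat_lit 0x8014038040880100281700811) (nat_lit 514))
 (.leaf (nat_lit 0x80140382400801006c1500811) (nat_lit 515))
)) (.node (nat_lit 0x8014068040180100200c00813) (.leaf (nat_lit 0x8014038240880100640600811) (nat_lit 771))
 (.node (nat_lit 0x8014068040980100281d00813) (.leaf (nat_lit 0x8014068040180100200c00813) (nat_lit 520))
 (.leaf (nat_lit 0x8014068040980100281d00813) (nat_lit 776))
))) (.node (nat_lit 0x80140b8040880100280700811) (.node (nat_lit 0x80140682409801006c0e00813) (.leaf (nat_lit 0x8014068240180100641f00813) (nat_lit 771))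
 (.node (nat_lit 0x80140b8040080100201400811) (.leaf (nat_lit 0x80140682409801006c0e00813) (nat_lit 776))
 (.leaf (nat_lit 0x80140b8040080100201400811) (nat_lit 516))
)) (.node (nat_lit 0x80140b82400801006c0500811) (.leaf (nat_lit 0x80140b8040880100280700811) (nat_lit 512))
 (.node (nat_lit 0x80140b8240880100641600811) (.leaf (nat_lit 0x80140b82400801006c0500811) (nat_lit 772))
 (.leaf (nat_lit 0x80140b8240880100641600811) (nat_lit 771))
)))) (.node (nat_lit 0x80160282400801006c0504801) (.node (nat_lit 0x80140e82409801006c1e00813) (.node (nat_lit 0x80140e8040980100280d00813) (.leaf (nat_lit 0x80140e8040180100201c00813) (nat_lit 776))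
 (.node (nat_lit 0x80140e8240180100640f00813) (.leaf (nat_lit 0x80140e8040980100280d00813) (nat_lit 776))
 (.leaf (nat_lit 0x80140e8240180100640f00813) (nat_lit 1027))
)) (.node (nat_lit 0x8016028040080100200404801) (.leaf (nat_lit 0x80140e82409801006c1e00813) (nat_lit 1032))
 (.node (nat_lit 0x8016028040880100681704801) (.leaf (nat_lit 0x8016028040080100200404801) (nat_lit 257))
 (.leaf (nat_lit 0x8016028040880100681704801) (nat_lit 514))
))) (.node (nat_lit 0x8016070040980100680d04813) (.node (nat_lit 0x8016028240880100241604801) (.leaf (nat_lit 0x80160282400801006c0504801) (nat_lit 515))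
 (.node (nat_lit 0x8016070040180100200c04813) (.leaf (nat_lit 0x8016028240880100241604801) (nat_lit 771))
 (.leaf (nat_lit 0x8016070040180100200c04813) (nat_lit 520))
)) (.node (nat_lit 0x8016070240180100241f04813) (.leaf (nat_lit 0x8016070040980100680d04813) (nat_lit 776))
 (.node (nat_lit 0x80160702409801006c1e04813) (.leaf (nat_lit 0x8016070240180100241f04813) (nat_lit 771))
 (.leaf (nat_lit 0x80160702409801006c1e04813) (nat_lit 776))
))))) (.node (nat_lit 0x8018040060100100300800c02) (.node (nat_lit 0x80160f0240180100240f04813) (.node (nat_lit 0x80160a8240880100240604801) (.node (nat_lit 0x80160a8040880100680704801) (.leaf (nat_lit 0x80160a8040080100201404801) (nat_lit 516))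
 (.node (nat_lit 0x80160a82400801006c1504801) (.leaf (nat_lit 0x80160a8040880100680704801) (nat_lit 772))
 (.leaf (nat_lit 0x80160a82400801006c1504801) (nat_lit 772))
)) (.node (nat_lit 0x80160f0040180100201c04813) (.leaf (nat_lit 0x80160a8240880100240604801) (nat_lit 769))
 (.node (nat_lit 0x80160f0040980100681d04813) (.leaf (nat_lit 0x80160f0040180100201c04813) (nat_lit 776))
 (.leaf (nat_lit 0x80160f0040980100681d04813) (nat_lit 1032))
))) (.node (nat_lit 0x80180200608801003c0600c01) (.node (nat_lit 0x80160f02409801006c0e04813) (.leaf (nat_lit 0x80160f0240180100240f04813) (nat_lit 1027))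
 (.node (nat_lit 0x8018020060080100300400c01) (.leaf (nat_lit 0x80160f02409801006c0e04813) (nat_lit 1025))
 (.leaf (nat_lit 0x8018020060080100300400c01) (nat_lit 520))
)) (.node (nat_lit 0x8018020260080100380500c01) (.leaf (nat_lit 0x80180200608801003c0600c01) (nat_lit 776))
 (.node (nat_lit 0x8018020260880100340700c01) (.leaf (nat_lit 0x8018020260080100380500c01) (nat_lit 776))
 (.leaf (nat_lit 0x8018020260880100340700c01) (nat_lit 776))
)))) (.node (nat_lit 0x80180a0260080100381500c01) (.node (nat_lit 0x8018040260900100380b00c02) (.node (nat_lit 0x80180400609001003c0900c02) (.leaf (nat_lit 0x8018040060100100300800c02) (nat_lit 262))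
 (.node (nat_lit 0x8018040260100100340a00c02) (.leaf (nat_lit 0x80180400609001003c0900c02) (nat_lit 514))
 (.leaf (nat_lit 0x8018040260100100340a00c02) (nat_lit 518))
)) (.node (nat_lit 0x80180a0060080100301400c01) (.leaf (nat_lit 0x8018040260900100380b00c02) (nat_lit 518))
 (.node (nat_lit 0x80180a00608801003c1600c01) (.leaf (nat_lit 0x80180a0060080100301400c01) (nat_lit 776))
 (.leaf (nat_lit 0x80180a00608801003c1600c01) (nat_lit 1032))
))) (.node (nat_lit 0x80180c00609001003c1900c02) (.node (nat_lit 0x80180a0260880100341700c01) (.leaf (nat_lit 0x80180a0260080100381500c01) (nat_lit 1032))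
 (.node (nat_lit 0x80180c0060100100301800c02) (.leaf (nat_lit 0x80180a0260880100341700c01) (nat_lit 1032))
 (.leaf (nat_lit 0x80180c0060100100301800c02) (nat_lit 516))
)) (.node (nat_lit 0x80180c0260100100341a00c02) (.leaf (nat_lit 0x80180c00609001003c1900c02) (nat_lit 772))
 (.node (nat_lit 0x80180c0260900100381b00c02) (.leaf (nat_lit 0x80180c0260100100341a00c02) (nat_lit 772))
 (.leaf (nat_lit 0x80180c0260900100381b00c02) (nat_lit 772))
)))))) (.node (nat_lit 0x801c0a8060080100301404c01) (.node (nat_lit 0x801a0d0060100100301804c02) (.node (nat_lit 0x801a050260100100740a04c02) (.node (nat_lit 0x801a038260880100741704c11) (.node (nat_lit 0x801a0380608801007c0604c11) (.leaf (nat_lit 0x801a038060080100300404c11) (nat_lit 776))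
 (.node (nat_lit 0x801a038260080100381504c11) (.leaf (nat_lit 0x801a0380608801007c0604c11) (nat_lit 1032))
 (.leaf (nat_lit 0x801a038260080100381504c11) (nat_lit 1032))
)) (.node (nat_lit 0x801a050060100100300804c02) (.leaf (nat_lit 0x801a038260880100741704c11) (nat_lit 1032))
 (.node (nat_lit 0x801a0500609001007c1904c02) (.leaf (nat_lit 0x801a050060100100300804c02) (nat_lit 518))
 (.leaf (nat_lit 0x801a0500609001007c1904c02) (nat_lit 770))
))) (.node (nat_lit 0x801a0b80608801007c1604c11) (.node (nat_lit 0x801a050260900100381b04c02) (.leaf (nat_lit 0x801a050260100100740a04c02) (nat_lit 774))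
 (.node (nat_lit 0x801a0b8060080100301404c11) (.leaf (nat_lit 0x801a050260900100381b04c02) (nat_lit 774))
 (.leaf (nat_lit 0x801a0b8060080100301404c11) (nat_lit 1032))
)) (.node (nat_lit 0x801a0b8260080100380504c11) (.leaf (nat_lit 0x801a0b80608801007c1604c11) (nat_lit 1288))
 (.node (nat_lit 0x801a0b8260880100740704c11) (.leaf (nat_lit 0x801a0b8260080100380504c11) (nat_lit 1032))
 (.leaf (nat_lit 0x801a0b8260880100740704c11) (nat_lit 1288))
)))) (.node (nat_lit 0x801c028260080100780504c01) (.node (nat_lit 0x801a0d0260900100380b04c02) (.node (nat_lit 0x801a0d00609001007c0904c02) (.leaf (nat_lit 0x801a0d0060100100301804c02) (nat_lit 772))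
 (.node (nat_lit 0x801a0d0260100100741a04c02) (.leaf (nat_lit 0x801a0d00609001007c0904c02) (nat_lit 1028))
 (.leaf (nat_lit 0x801a0d0260100100741a04c02) (nat_lit 1028))
)) (.node (nat_lit 0x801c028060080100300404c01) (.leaf (nat_lit 0x801a0d0260900100380b04c02) (nat_lit 774))
 (.node (nat_lit 0x801c0280608801007c1604c01) (.leaf (nat_lit 0x801c028060080100300404c01) (nat_lit 776))
 (.leaf (nat_lit 0x801c0280608801007c1604c01) (nat_lit 1032))
))) (.node (nat_lit 0x801c0580609001007c0904c12) (.node (nat_lit 0x801c028260880100341704c01) (.leaf (nat_lit 0x801c028260080100780504c01) (nat_lit 1032))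
 (.node (nat_lit 0x801c058060100100300804c12) (.leaf (nat_lit 0x801c028260880100341704c01) (nat_lit 1032))
 (.leaf (nat_lit 0x801c058060100100300804c12) (nat_lit 518))
)) (.node (nat_lit 0x801c058260100100341a04c12) (.leaf (nat_lit 0x801c0580609001007c0904c12) (nat_lit 770))
 (.node (nat_lit 0x801c058260900100781b04c12) (.leaf (nat_lit 0x801c058260100100341a04c12) (nat_lit 774))
 (.leaf (nat_lit 0x801c058260900100781b04c12) (nat_lit 774))
))))) (.node (nat_lit 0x801e048060100100300800c12) (.node (nat_lit 0x801c0d8260100100340a04c12) (.node (nat_lit 0x801c0a8260880100340704c01) (.node (nat_lit 0x801c0a80608801007c0604c01) (.leaf (nat_lit 0x801c0a8060080100301404c01) (nat_lit 1032))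
 (.node (nat_lit 0x801c0a8260080100781504c01) (.leaf (nat_lit 0x801c0a80608801007c0604c01) (nat_lit 1288))
 (.leaf (nat_lit 0x801c0a8260080100781504c01) (nat_lit 1288))
)) (.node (nat_lit 0x801c0d8060100100301804c12) (.leaf (nat_lit 0x801c0a8260880100340704c01) (nat_lit 1032))
 (.node (nat_lit 0x801c0d80609001007c1904c12) (.leaf (nat_lit 0x801c0d8060100100301804c12) (nat_lit 772))
 (.leaf (nat_lit 0x801c0d80609001007c1904c12) (nat_lit 1024))
))) (.node (nat_lit 0x801e0300608801003c1600c11) (.node (nat_lit 0x801c0d8260900100780b04c12) (.leaf (nat_lit 0x801c0d8260100100340a04c12) (nat_lit 774))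
 (.node (nat_lit 0x801e030060080100300400c11) (.leaf (nat_lit 0x801c0d8260900100780b04c12) (nat_lit 1028))
 (.leaf (nat_lit 0x801e030060080100300400c11) (nat_lit 776))
)) (.node (nat_lit 0x801e030260080100781500c11) (.leaf (nat_lit 0x801e0300608801003c1600c11) (nat_lit 1032))
 (.node (nat_lit 0x801e030260880100740700c11) (.leaf (nat_lit 0x801e030260080100781500c11) (nat_lit 1027))
 (.leaf (nat_lit 0x801e030260880100740700c11) (nat_lit 1032))
)))) (.node (nat_lit 0x801e0b0260080100780500c11) (.node (nat_lit 0x801e048260900100780b00c12) (.node (nat_lit 0x801e0480609001003c1900c12) (.leaf (nat_lit 0x801e048060100100300800c12) (nat_lit 512))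
 (.node (nat_lit 0x801e048260100100741a00c12) (.leaf (nat_lit 0x801e0480609001003c1900c12) (nat_lit 770))
 (.leaf (nat_lit 0x801e048260100100741a00c12) (nat_lit 771))
)) (.node (nat_lit 0x801e0b0060080100301400c11) (.leaf (nat_lit 0x801e048260900100780b00c12) (nat_lit 1030))
 (.node (nat_lit 0x801e0b00608801003c0600c11) (.leaf (nat_lit 0x801e0b0060080100301400c11) (nat_lit 1032))
 (.leaf (nat_lit 0x801e0b00608801003c0600c11) (nat_lit 1032))
))) (.node (nat_lit 0x801e0c80609001003c0900c12) (.node (nat_lit 0x801e0b0260880100741700c11) (.leaf (nat_lit 0x801e0b0260080100780500c11) (nat_lit 1288))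
 (.node (nat_lit 0x801e0c8060100100301800c12) (.leaf (nat_lit 0x801e0b0260880100741700c11) (nat_lit 1288))
 (.leaf (nat_lit 0x801e0c8060100100301800c12) (nat_lit 772))
)) (.node (nat_lit 0x801e0c8260100100740a00c12) (.leaf (nat_lit 0x801e0c80609001003c0900c12) (nat_lit 768))
 (.node (nat_lit 0x801e0c8260900100781b00c12) (.leaf (nat_lit 0x801e0c8260100100740a00c12) (nat_lit 1030))
 (.leaf (nat_lit 0x801e0c8260900100781b00c12) (nat_lit 1030))
)))))))) (.node (nat_lit 0x8034038040080100600400811) (.node (nat_lit 0x802e050020100100500804402) (.node (nat_lit 0x802a0d8020100100501800412) (.node (nat_lit 0x80280e0020180100501c00403) (.node (nat_lit 0x8028060220180100580f00403) (.node (nat_lit 0x8028040220900100580900402) (.node (nat_lit 0x8028040020900100540b00402) (.leaf (nat_lit 0x8028040020100100500800402) (nat_lit 776))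
 (.node (nat_lit 0x80280402201001005c0a00402) (.leaf (nat_lit 0x8028040020900100540b00402) (nat_lit 1032))
 (.leaf (nat_lit 0x80280402201001005c0a00402) (nat_lit 1032))
)) (.node (nat_lit 0x8028060020180100500c00403) (.leaf (nat_lit 0x8028040220900100580900402) (nat_lit 1032))
 (.node (nat_lit 0x8028060020980100540e00403) (.leaf (nat_lit 0x8028060020180100500c00403) (nat_lit 517))
 (.leaf (nat_lit 0x8028060020980100540e00403) (nat_lit 773))
))) (.node (nat_lit 0x80280c0020900100541b00402) (.node (nat_lit 0x80280602209801005c0d00403) (.leaf (nat_lit 0x8028060220180100580f00403) (nat_lit 773))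
 (.node (nat_lit 0x80280c0020100100501800402) (.leaf (nat_lit 0x80280602209801005c0d00403) (nat_lit 773))
 (.leaf (nat_lit 0x80280c0020100100501800402) (nat_lit 776))
)) (.node (nat_lit 0x80280c02201001005c1a00402) (.leaf (nat_lit 0x80280c0020900100541b00402) (nat_lit 1032))
 (.node (nat_lit 0x80280c0220900100581900402) (.leaf (nat_lit 0x80280c02201001005c1a00402) (nat_lit 1032))
 (.leaf (nat_lit 0x80280c0220900100581900402) (nat_lit 1032))
)))) (.node (nat_lit 0x802a0582201001001c1a00412) (.node (nat_lit 0x80280e02209801005c1d00403) (.node (nat_lit 0x80280e0020980100541e00403) (.leaf (nat_lit 0x80280e0020180100501c00403) (nat_lit 519))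
 (.node (nat_lit 0x80280e0220180100581f00403) (.leaf (nat_lit 0x80280e0020980100541e00403) (nat_lit 775))
 (.leaf (nat_lit 0x80280e0220180100581f00403) (nat_lit 771))
)) (.node (nat_lit 0x802a058020100100500800412) (.leaf (nat_lit 0x80280e02209801005c1d00403) (nat_lit 775))
 (.node (nat_lit 0x802a058020900100541b00412) (.leaf (nat_lit 0x802a058020100100500800412) (nat_lit 1032))
 (.leaf (nat_lit 0x802a058020900100541b00412) (nat_lit 1288))
))) (.node (nat_lit 0x802a070020980100541e00413) (.node (nat_lit 0x802a058220900100180900412) (.leaf (nat_lit 0x802a0582201001001c1a00412) (nat_lit 1288))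
 (.node (nat_lit 0x802a070020180100500c00413) (.leaf (nat_lit 0x802a058220900100180900412) (nat_lit 1032))
 (.leaf (nat_lit 0x802a070020180100500c00413) (nat_lit 773))
)) (.node (nat_lit 0x802a070220180100181f00413) (.leaf (nat_lit 0x802a070020980100541e00413) (nat_lit 1029))
 (.node (nat_lit 0x802a0702209801001c0d00413) (.leaf (nat_lit 0x802a070220180100181f00413) (nat_lit 1025))
 (.leaf (nat_lit 0x802a0702209801001c0d00413) (nat_lit 775))
))))) (.node (nat_lit 0x802c078020180100500c04403) (.node (nat_lit 0x802a0f0220180100180f00413) (.node (nat_lit 0x802a0d8220900100181900412) (.node (nat_lit 0x802a0d8020900100540b00412) (.leaf (nat_lit 0x802a0d8020100100501800412) (nat_lit 1032))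
 (.node (nat_lit 0x802a0d82201001001c0a00412) (.leaf (nat_lit 0x802a0d8020900100540b00412) (nat_lit 1288))
 (.leaf (nat_lit 0x802a0d82201001001c0a00412) (nat_lit 1032))
)) (.node (nat_lit 0x802a0f0020180100501c00413) (.leaf (nat_lit 0x802a0d8220900100181900412) (nat_lit 1288))
 (.node (nat_lit 0x802a0f0020980100540e00413) (.leaf (nat_lit 0x802a0f0020180100501c00413) (nat_lit 775))
 (.leaf (nat_lit 0x802a0f0020980100540e00413) (nat_lit 1025))
))) (.node (nat_lit 0x802c048020900100140b04412) (.node (nat_lit 0x802a0f02209801001c1d00413) (.leaf (nat_lit 0x802a0f0220180100180f00413) (nat_lit 768))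
 (.node (nat_lit 0x802c048020100100500804412) (.leaf (nat_lit 0x802a0f02209801001c1d00413) (nat_lit 1031))
 (.leaf (nat_lit 0x802c048020100100500804412) (nat_lit 1032))
)) (.node (nat_lit 0x802c0482201001005c1a04412) (.leaf (nat_lit 0x802c048020900100140b04412) (nat_lit 1032))
 (.node (nat_lit 0x802c048220900100181904412) (.leaf (nat_lit 0x802c0482201001005c1a04412) (nat_lit 1288))
 (.leaf (nat_lit 0x802c048220900100181904412) (nat_lit 1288))
)))) (.node (nat_lit 0x802c0c82201001005c0a04412) (.node (nat_lit 0x802c0782209801005c1d04403) (.node (nat_lit 0x802c078020980100141e04403) (.leaf (nat_lit 0x802c078020180100500c04403) (nat_lit 773))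
 (.node (nat_lit 0x802c078220180100180f04403) (.leaf (nat_lit 0x802c078020980100141e04403) (nat_lit 1031))
 (.leaf (nat_lit 0x802c078220180100180f04403) (nat_lit 769))
)) (.node (nat_lit 0x802c0c8020100100501804412) (.leaf (nat_lit 0x802c0782209801005c1d04403) (nat_lit 1031))
 (.node (nat_lit 0x802c0c8020900100141b04412) (.leaf (nat_lit 0x802c0c8020100100501804412) (nat_lit 1032))
 (.leaf (nat_lit 0x802c0c8020900100141b04412) (nat_lit 1288))
))) (.node (nat_lit 0x802c0f8020980100140e04403) (.node (nat_lit 0x802c0c8220900100180904412) (.leaf (nat_lit 0x802c0c82201001005c0a04412) (nat_lit 1288))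
 (.node (nat_lit 0x802c0f8020180100501c04403) (.leaf (nat_lit 0x802c0c8220900100180904412) (nat_lit 1032))
 (.leaf (nat_lit 0x802c0f8020180100501c04403) (nat_lit 769))
)) (.node (nat_lit 0x802c0f8220180100181f04403) (.leaf (nat_lit 0x802c0f8020980100140e04403) (nat_lit 769))
 (.node (nat_lit 0x802c0f82209801005c0d04403) (.leaf (nat_lit 0x802c0f8220180100181f04403) (nat_lit 1024))
 (.leaf (nat_lit 0x802c0f82209801005c0d04403) (nat_lit 1031))
)))))) (.node (nat_lit 0x80300a0040080100601400801) (.node (nat_lit 0x802e0e8020180100501c04413) (.node (nat_lit 0x802e068220180100581f04413) (.node (nat_lit 0x802e050220900100581904402) (.node (nat_lit 0x802e050020900100141b04402) (.leaf (nat_lit 0x802e050020100100500804402) (nat_lit 1032))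
 (.node (nat_lit 0x802e0502201001001c0a04402) (.leaf (nat_lit 0x802e050020900100141b04402) (nat_lit 1288))
 (.leaf (nat_lit 0x802e0502201001001c0a04402) (nat_lit 1032))
)) (.node (nat_lit 0x802e068020180100500c04413) (.leaf (nat_lit 0x802e050220900100581904402) (nat_lit 1288))
 (.node (nat_lit 0x802e068020980100140e04413) (.leaf (nat_lit 0x802e068020180100500c04413) (nat_lit 773))
 (.leaf (nat_lit 0x802e068020980100140e04413) (nat_lit 775))
))) (.node (nat_lit 0x802e0d0020900100140b04402) (.node (nat_lit 0x802e0682209801001c1d04413) (.leaf (nat_lit 0x802e068220180100581f04413) (nat_lit 1029))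
 (.node (nat_lit 0x802e0d0020100100501804402) (.leaf (nat_lit 0x802e0682209801001c1d04413) (nat_lit 1029))
 (.leaf (nat_lit 0x802e0d0020100100501804402) (nat_lit 1032))
)) (.node (nat_lit 0x802e0d02201001001c1a04402) (.leaf (nat_lit 0x802e0d0020900100140b04402) (nat_lit 1032))
 (.node (nat_lit 0x802e0d0220900100580904402) (.leaf (nat_lit 0x802e0d02201001001c1a04402) (nat_lit 1288))
 (.leaf (nat_lit 0x802e0d0220900100580904402) (nat_lit 1288))
)))) (.node (nat_lit 0x80300202400801006c0500801) (.node (nat_lit 0x802e0e82209801001c0d04413) (.node (nat_lit 0x802e0e8020980100141e04413) (.leaf (nat_lit 0x802e0e8020180100501c04413) (nat_lit 775))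
 (.node (nat_lit 0x802e0e8220180100580f04413) (.leaf (nat_lit 0x802e0e8020980100141e04413) (nat_lit 1031))
 (.leaf (nat_lit 0x802e0e8220180100580f04413) (nat_lit 1027))
)) (.node (nat_lit 0x8030020040080100600400801) (.leaf (nat_lit 0x802e0e82209801001c0d04413) (nat_lit 775))
 (.node (nat_lit 0x8030020040880100680700801) (.leaf (nat_lit 0x8030020040080100600400801) (nat_lit 261))
 (.leaf (nat_lit 0x8030020040880100680700801) (nat_lit 517))
))) (.node (nat_lit 0x8030060040980100680d00803) (.node (nat_lit 0x8030020240880100640600801) (.leaf (nat_lit 0x80300202400801006c0500801) (nat_lit 517))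
 (.node (nat_lit 0x8030060040180100600c00803) (.leaf (nat_lit 0x8030020240880100640600801) (nat_lit 773))
 (.leaf (nat_lit 0x8030060040180100600c00803) (nat_lit 517))
)) (.node (nat_lit 0x8030060240180100640f00803) (.leaf (nat_lit 0x8030060040980100680d00803) (nat_lit 773))
 (.node (nat_lit 0x80300602409801006c0e00803) (.leaf (nat_lit 0x8030060240180100640f00803) (nat_lit 773))
 (.leaf (nat_lit 0x80300602409801006c0e00803) (nat_lit 773))
))))) (.node (nat_lit 0x8032078040180100600c04803) (.node (nat_lit 0x80300e0240180100641f00803) (.node (nat_lit 0x80300a0240880100641600801) (.node (nat_lit 0x80300a0040880100681700801) (.leaf (nat_lit 0x80300a0040080100601400801) (nat_lit 517))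
 (.node (nat_lit 0x80300a02400801006c1500801) (.leaf (nat_lit 0x80300a0040880100681700801) (nat_lit 769))
 (.leaf (nat_lit 0x80300a02400801006c1500801) (nat_lit 768))
)) (.node (nat_lit 0x80300e0040180100601c00803) (.leaf (nat_lit 0x80300a0240880100641600801) (nat_lit 1026))
 (.node (nat_lit 0x80300e0040980100681d00803) (.leaf (nat_lit 0x80300e0040180100601c00803) (nat_lit 520))
 (.leaf (nat_lit 0x80300e0040980100681d00803) (nat_lit 776))
))) (.node (nat_lit 0x8032030040880100280704811) (.node (nat_lit 0x80300e02409801006c1e00803) (.leaf (nat_lit 0x80300e0240180100641f00803) (nat_lit 771))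
 (.node (nat_lit 0x8032030040080100600404811) (.leaf (nat_lit 0x80300e02409801006c1e00803) (nat_lit 776))
 (.leaf (nat_lit 0x8032030040080100600404811) (nat_lit 773))
)) (.node (nat_lit 0x80320302400801006c1504811) (.leaf (nat_lit 0x8032030040880100280704811) (nat_lit 769))
 (.node (nat_lit 0x8032030240880100241604811) (.leaf (nat_lit 0x80320302400801006c1504811) (nat_lit 769))
 (.leaf (nat_lit 0x8032030240880100241604811) (nat_lit 1026))
)))) (.node (nat_lit 0x80320b02400801006c0504811) (.node (nat_lit 0x80320782409801006c1e04803) (.node (nat_lit 0x8032078040980100281d04803) (.leaf (nat_lit 0x8032078040180100600c04803) (nat_lit 773))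
 (.node (nat_lit 0x8032078240180100240f04803) (.leaf (nat_lit 0x8032078040980100281d04803) (nat_lit 1032))
 (.leaf (nat_lit 0x8032078240180100240f04803) (nat_lit 769))
)) (.node (nat_lit 0x80320b0040080100601404811) (.leaf (nat_lit 0x80320782409801006c1e04803) (nat_lit 1032))
 (.node (nat_lit 0x80320b0040880100281704811) (.leaf (nat_lit 0x80320b0040080100601404811) (nat_lit 1029))
 (.leaf (nat_lit 0x80320b0040880100281704811) (nat_lit 769))
))) (.node (nat_lit 0x80320f8040980100280d04803) (.node (nat_lit 0x80320b0240880100240604811) (.leaf (nat_lit 0x80320b02400801006c0504811) (nat_lit 768))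
 (.node (nat_lit 0x80320f8040180100601c04803) (.leaf (nat_lit 0x80320b0240880100240604811) (nat_lit 1027))
 (.leaf (nat_lit 0x80320f8040180100601c04803) (nat_lit 769))
)) (.node (nat_lit 0x80320f8240180100241f04803) (.leaf (nat_lit 0x80320f8040980100280d04803) (nat_lit 769))
 (.node (nat_lit 0x80320f82409801006c0e04803) (.leaf (nat_lit 0x80320f8240180100241f04803) (nat_lit 1024))
 (.leaf (nat_lit 0x80320f82409801006c0e04803) (nat_lit 1032))
))))))) (.node (nat_lit 0x803a038060080100700404c11) (.node (nat_lit 0x80360a8040080100601404801) (.node (nat_lit 0x80340e8040180100601c00813) (.node (nat_lit 0x8034068240180100241f00813) (.node (nat_lit 0x8034038240880100240600811) (.node (nat_lit 0x8034038040880100681700811) (.leaf (nat_lit 0x8034038040080100600400811) (nat_lit 517))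
 (.node (nat_lit 0x80340382400801002c1500811) (.leaf (nat_lit 0x8034038040880100681700811) (nat_lit 773))
 (.leaf (nat_lit 0x80340382400801002c1500811) (nat_lit 773))
)) (.node (nat_lit 0x8034068040180100600c00813) (.leaf (nat_lit 0x8034038240880100240600811) (nat_lit 768))
 (.node (nat_lit 0x8034068040980100681d00813) (.leaf (nat_lit 0x8034068040180100600c00813) (nat_lit 773))
 (.leaf (nat_lit 0x8034068040980100681d00813) (nat_lit 1029))
))) (.node (nat_lit 0x80340b8040880100680700811) (.node (nat_lit 0x80340682409801002c0e00813) (.leaf (nat_lit 0x8034068240180100241f00813) (nat_lit 1029))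
 (.node (nat_lit 0x80340b8040080100601400811) (.leaf (nat_lit 0x80340682409801002c0e00813) (nat_lit 776))
 (.leaf (nat_lit 0x80340b8040080100601400811) (nat_lit 773))
)) (.node (nat_lit 0x80340b82400801002c0500811) (.leaf (nat_lit 0x80340b8040880100680700811) (nat_lit 773))
 (.node (nat_lit 0x80340b8240880100241600811) (.leaf (nat_lit 0x80340b82400801002c0500811) (nat_lit 512))
 (.leaf (nat_lit 0x80340b8240880100241600811) (nat_lit 770))
)))) (.node (nat_lit 0x80360282400801002c0504801) (.node (nat_lit 0x80340e82409801002c1e00813) (.node (nat_lit 0x80340e8040980100680d00813) (.leaf (nat_lit 0x80340e8040180100601c00813) (nat_lit 776))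
 (.node (nat_lit 0x80340e8240180100240f00813) (.leaf (nat_lit 0x80340e8040980100680d00813) (nat_lit 1032))
 (.leaf (nat_lit 0x80340e8240180100240f00813) (nat_lit 768))
)) (.node (nat_lit 0x8036028040080100600404801) (.leaf (nat_lit 0x80340e82409801002c1e00813) (nat_lit 1032))
 (.node (nat_lit 0x8036028040880100281704801) (.leaf (nat_lit 0x8036028040080100600404801) (nat_lit 517))
 (.leaf (nat_lit 0x8036028040880100281704801) (nat_lit 773))
))) (.node (nat_lit 0x8036070040980100280d04813) (.node (nat_lit 0x8036028240880100641604801) (.leaf (nat_lit 0x80360282400801002c0504801) (nat_lit 513))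
 (.node (nat_lit 0x8036070040180100600c04813) (.leaf (nat_lit 0x8036028240880100641604801) (nat_lit 770))
 (.leaf (nat_lit 0x8036070040180100600c04813) (nat_lit 773))
)) (.node (nat_lit 0x8036070240180100641f04813) (.leaf (nat_lit 0x8036070040980100280d04813) (nat_lit 776))
 (.node (nat_lit 0x80360702409801002c1e04813) (.leaf (nat_lit 0x8036070240180100641f04813) (nat_lit 1025))
 (.leaf (nat_lit 0x80360702409801002c1e04813) (nat_lit 1029))
))))) (.node (nat_lit 0x8038040060100100700800c02) (.node (nat_lit 0x80360f0240180100640f04813) (.node (nat_lit 0x80360a8240880100640604801) (.node (nat_lit 0x80360a8040880100280704801) (.leaf (nat_lit 0x80360a8040080100601404801) (nat_lit 773))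
 (.node (nat_lit 0x80360a82400801002c1504801) (.leaf (nat_lit 0x80360a8040880100280704801) (nat_lit 513))
 (.leaf (nat_lit 0x80360a82400801002c1504801) (nat_lit 772))
)) (.node (nat_lit 0x80360f0040180100601c04813) (.leaf (nat_lit 0x80360a8240880100640604801) (nat_lit 771))
 (.node (nat_lit 0x80360f0040980100281d04813) (.leaf (nat_lit 0x80360f0040180100601c04813) (nat_lit 776))
 (.leaf (nat_lit 0x80360f0040980100281d04813) (nat_lit 1025))
))) (.node (nat_lit 0x80380200608801007c0600c01) (.node (nat_lit 0x80360f02409801002c0e04813) (.leaf (nat_lit 0x80360f0240180100640f04813) (nat_lit 1027))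
 (.node (nat_lit 0x8038020060080100700400c01) (.leaf (nat_lit 0x80360f02409801002c0e04813) (nat_lit 776))
 (.leaf (nat_lit 0x8038020060080100700400c01) (nat_lit 776))
)) (.node (nat_lit 0x8038020260080100780500c01) (.leaf (nat_lit 0x80380200608801007c0600c01) (nat_lit 1032))
 (.node (nat_lit 0x8038020260880100740700c01) (.leaf (nat_lit 0x8038020260080100780500c01) (nat_lit 1032))
 (.leaf (nat_lit 0x8038020260880100740700c01) (nat_lit 1032))
)))) (.node (nat_lit 0x80380a0260080100781500c01) (.node (nat_lit 0x8038040260900100780b00c02) (.node (nat_lit 0x80380400609001007c0900c02) (.leaf (nat_lit 0x8038040060100100700800c02) (nat_lit 518))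
 (.node (nat_lit 0x8038040260100100740a00c02) (.leaf (nat_lit 0x80380400609001007c0900c02) (nat_lit 770))
 (.leaf (nat_lit 0x8038040260100100740a00c02) (nat_lit 774))
)) (.node (nat_lit 0x80380a0060080100701400c01) (.leaf (nat_lit 0x8038040260900100780b00c02) (nat_lit 774))
 (.node (nat_lit 0x80380a00608801007c1600c01) (.leaf (nat_lit 0x80380a0060080100701400c01) (nat_lit 776))
 (.leaf (nat_lit 0x80380a00608801007c1600c01) (nat_lit 1032))
))) (.node (nat_lit 0x80380c00609001007c1900c02) (.node (nat_lit 0x80380a0260880100741700c01) (.leaf (nat_lit 0x80380a0260080100781500c01) (nat_lit 1032))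
 (.node (nat_lit 0x80380c0060100100701800c02) (.leaf (nat_lit 0x80380a0260880100741700c01) (nat_lit 1032))
 (.leaf (nat_lit 0x80380c0060100100701800c02) (nat_lit 518))
)) (.node (nat_lit 0x80380c0260100100741a00c02) (.leaf (nat_lit 0x80380c00609001007c1900c02) (nat_lit 770))
 (.node (nat_lit 0x80380c0260900100781b00c02) (.leaf (nat_lit 0x80380c0260100100741a00c02) (nat_lit 774))
 (.leaf (nat_lit 0x80380c0260900100781b00c02) (nat_lit 774))
)))))) (.node (nat_lit 0x803c0a8060080100701404c01) (.node (nat_lit 0x803a0d0060100100701804c02) (.node (nat_lit 0x803a050260100100340a04c02) (.node (nat_lit 0x803a038260880100341704c11) (.node (nat_lit 0x803a0380608801003c0604c11) (.leaf (nat_lit 0x803a038060080100700404c11) (nat_lit 1032))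
 (.node (nat_lit 0x803a038260080100781504c11) (.leaf (nat_lit 0x803a0380608801003c0604c11) (nat_lit 1032))
 (.leaf (nat_lit 0x803a038260080100781504c11) (nat_lit 1288))
)) (.node (nat_lit 0x803a050060100100700804c02) (.leaf (nat_lit 0x803a038260880100341704c11) (nat_lit 1288))
 (.node (nat_lit 0x803a0500609001003c1904c02) (.leaf (nat_lit 0x803a050060100100700804c02) (nat_lit 774))
 (.leaf (nat_lit 0x803a0500609001003c1904c02) (nat_lit 1026))
))) (.node (nat_lit 0x803a0b80608801003c1604c11) (.node (nat_lit 0x803a050260900100781b04c02) (.leaf (nat_lit 0x803a050260100100340a04c02) (nat_lit 774))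
 (.node (nat_lit 0x803a0b8060080100701404c11) (.leaf (nat_lit 0x803a050260900100781b04c02) (nat_lit 1030))
 (.leaf (nat_lit 0x803a0b8060080100701404c11) (nat_lit 1032))
)) (.node (nat_lit 0x803a0b8260080100780504c11) (.leaf (nat_lit 0x803a0b80608801003c1604c11) (nat_lit 1288))
 (.node (nat_lit 0x803a0b8260880100340704c11) (.leaf (nat_lit 0x803a0b8260080100780504c11) (nat_lit 1288))
 (.leaf (nat_lit 0x803a0b8260880100340704c11) (nat_lit 1032))
)))) (.node (nat_lit 0x803c028260080100380504c01) (.node (nat_lit 0x803a0d0260900100780b04c02) (.node (nat_lit 0x803a0d00609001003c0904c02) (.leaf (nat_lit 0x803a0d0060100100701804c02) (nat_lit 774))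
 (.node (nat_lit 0x803a0d0260100100341a04c02) (.leaf (nat_lit 0x803a0d00609001003c0904c02) (nat_lit 769))
 (.leaf (nat_lit 0x803a0d0260100100341a04c02) (nat_lit 1030))
)) (.node (nat_lit 0x803c028060080100700404c01) (.leaf (nat_lit 0x803a0d0260900100780b04c02) (nat_lit 1030))
 (.node (nat_lit 0x803c0280608801003c1604c01) (.leaf (nat_lit 0x803c028060080100700404c01) (nat_lit 1032))
 (.leaf (nat_lit 0x803c0280608801003c1604c01) (nat_lit 1288))
))) (.node (nat_lit 0x803c0580609001003c0904c12) (.node (nat_lit 0x803c028260880100741704c01) (.leaf (nat_lit 0x803c028260080100380504c01) (nat_lit 1032))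
 (.node (nat_lit 0x803c058060100100700804c12) (.leaf (nat_lit 0x803c028260880100741704c01) (nat_lit 1288))
 (.leaf (nat_lit 0x803c058060100100700804c12) (nat_lit 774))
)) (.node (nat_lit 0x803c058260100100741a04c12) (.leaf (nat_lit 0x803c0580609001003c0904c12) (nat_lit 1026))
 (.node (nat_lit 0x803c058260900100381b04c12) (.leaf (nat_lit 0x803c058260100100741a04c12) (nat_lit 1030))
 (.leaf (nat_lit 0x803c058260900100381b04c12) (nat_lit 1024))
))))) (.node (nat_lit 0x803e048060100100700800c12) (.node (nat_lit 0x803c0d8260100100740a04c12) (.node (nat_lit 0x803c0a8260880100740704c01) (.node (nat_lit 0x803c0a80608801003c0604c01) (.leaf (nat_lit 0x803c0a8060080100701404c01) (nat_lit 1032))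
 (.node (nat_lit 0x803c0a8260080100381504c01) (.leaf (nat_lit 0x803c0a80608801003c0604c01) (nat_lit 1025))
 (.leaf (nat_lit 0x803c0a8260080100381504c01) (nat_lit 1288))
)) (.node (nat_lit 0x803c0d8060100100701804c12) (.leaf (nat_lit 0x803c0a8260880100740704c01) (nat_lit 1288))
 (.node (nat_lit 0x803c0d80609001003c1904c12) (.leaf (nat_lit 0x803c0d8060100100701804c12) (nat_lit 774))
 (.leaf (nat_lit 0x803c0d80609001003c1904c12) (nat_lit 1026))
))) (.node (nat_lit 0x803e0300608801007c1600c11) (.node (nat_lit 0x803c0d8260900100380b04c12) (.leaf (nat_lit 0x803c0d8260100100740a04c12) (nat_lit 1024))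
 (.node (nat_lit 0x803e030060080100700400c11) (.leaf (nat_lit 0x803c0d8260900100380b04c12) (nat_lit 774))
 (.leaf (nat_lit 0x803e030060080100700400c11) (nat_lit 1032))
)) (.node (nat_lit 0x803e030260080100381500c11) (.leaf (nat_lit 0x803e0300608801007c1600c11) (nat_lit 1288))
 (.node (nat_lit 0x803e030260880100340700c11) (.leaf (nat_lit 0x803e030260080100381500c11) (nat_lit 1288))
 (.leaf (nat_lit 0x803e030260880100340700c11) (nat_lit 1032))
)))) (.node (nat_lit 0x803e0b0260080100380500c11) (.node (nat_lit 0x803e048260900100380b00c12) (.node (nat_lit 0x803e0480609001007c1900c12) (.leaf (nat_lit 0x803e048060100100700800c12) (nat_lit 768))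
 (.node (nat_lit 0x803e048260100100341a00c12) (.leaf (nat_lit 0x803e0480609001007c1900c12) (nat_lit 1027))
 (.leaf (nat_lit 0x803e048260100100341a00c12) (nat_lit 1030))
)) (.node (nat_lit 0x803e0b0060080100701400c11) (.leaf (nat_lit 0x803e048260900100380b00c12) (nat_lit 768))
 (.node (nat_lit 0x803e0b00608801007c0600c11) (.leaf (nat_lit 0x803e0b0060080100701400c11) (nat_lit 1032))
 (.leaf (nat_lit 0x803e0b00608801007c0600c11) (nat_lit 1281))
))) (.node (nat_lit 0x803e0c80609001007c0900c12) (.node (nat_lit 0x803e0b0260880100341700c11) (.leaf (nat_lit 0x803e0b0260080100380500c11) (nat_lit 1032))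
 (.node (nat_lit 0x803e0c8060100100701800c12) (.leaf (nat_lit 0x803e0b0260880100341700c11) (nat_lit 1288))
 (.leaf (nat_lit 0x803e0c8060100100701800c12) (nat_lit 768))
)) (.node (nat_lit 0x803e0c8260100100340a00c12) (.leaf (nat_lit 0x803e0c80609001007c0900c12) (nat_lit 1025))
 (.node (nat_lit 0x803e0c8260900100381b00c12) (.leaf (nat_lit 0x803e0c8260100100340a00c12) (nat_lit 768))
 (.leaf (nat_lit 0x803e0c8260900100381b00c12) (nat_lit 1030))
)))))))))

theorem NF_ok : genOK B10.A [(nat_lit 0x8014038040080100200400811), (nat_lit 0x8016028040080100200404801), (nat_lit 0x8010020040880100280700801), (nat_lit 0x80100202400801002c0500801), (nat_lit 0x80100a0040080100201400801), (nat_lit 0x8030020040080100600400801), (nat_lit 0x8018040060100100300800c02), (nat_lit 0x8008060020180100100c00403), (nat_lit 0x8010060040180100200c00803)] NF_t (nat_lit 384) = true := by decide +kernel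

noncomputable def NG_t : ST :=
(.node (nat_lit 0x8008060020180100100c00403) (.node (nat_lit 0x40140300100e00a018008060) (.node (nat_lit 0x400a01c02006004008010220) (.node (nat_lit 0x40070340100e002018088260) (.node (nat_lit 0x40050780100e002038008260) (.node (nat_lit 0x40040701100e00303e008060) (.node (nat_lit 0x40040301104e00381a008060) (.node (nat_lit 0x40040300104e00281c008060) (.leaf (nat_lit 0x40040300100e002018008060) (nat_lit 520))
 (.node (nat_lit 0x40040301100e00301e008060) (.leaf (nat_lit 0x40040300104e00281c008060) (nat_lit 776))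
 (.leaf (nat_lit 0x40040301100e00301e008060) (nat_lit 776))
)) (.node (nat_lit 0x40040700100e002038008060) (.leaf (nat_lit 0x40040301104e00381a008060) (nat_lit 776))
 (.node (nat_lit 0x40040700104e00283c008060) (.leaf (nat_lit 0x40040700100e002038008060) (nat_lit 776))
 (.leaf (nat_lit 0x40040700104e00283c008060) (nat_lit 1032))
))) (.node (nat_lit 0x40050380104e00283c008260) (.node (nat_lit 0x40040701104e00383a008060) (.leaf (nat_lit 0x40040701100e00303e008060) (nat_lit 1032))
 (.node (nat_lit 0x40050380100e002018008260) (.leaf (nat_lit 0x40040701104e00383a008060) (nat_lit 1032))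
 (.leaf (nat_lit 0x40050380100e002018008260) (nat_lit 776))
)) (.node (nat_lit 0x40050381100e00b03e008260) (.leaf (nat_lit 0x40050380104e00283c008260) (nat_lit 1032))
 (.node (nat_lit 0x40050381104e00b81a008260) (.leaf (nat_lit 0x40050381100e00b03e008260) (nat_lit 1032))
 (.leaf (nat_lit 0x40050381104e00b81a008260) (nat_lit 1032))
)))) (.node (nat_lit 0x400603c1100e00b01e088060) (.node (nat_lit 0x40050781104e00b83a008260) (.node (nat_lit 0x40050780104e00281c008260) (.leaf (nat_lit 0x40050780100e002038008260) (nat_lit 1032))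
 (.node (nat_lit 0x40050781100e00b01e008260) (.leaf (nat_lit 0x40050780104e00281c008260) (nat_lit 1032))
 (.leaf (nat_lit 0x40050781100e00b01e008260) (nat_lit 1288))
)) (.node (nat_lit 0x400603c0100e002018088060) (.leaf (nat_lit 0x40050781104e00b83a008260) (nat_lit 1288))
 (.node (nat_lit 0x400603c0104e00a83c088060) (.leaf (nat_lit 0x400603c0100e002018088060) (nat_lit 776))
 (.leaf (nat_lit 0x400603c0104e00a83c088060) (nat_lit 1032))
))) (.node (nat_lit 0x400607c0104e00a81c088060) (.node (nat_lit 0x400603c1104e00383a088060) (.leaf (nat_lit 0x400603c1100e00b01e088060) (nat_lit 1032))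
 (.node (nat_lit 0x400607c0100e002038088060) (.leaf (nat_lit 0x400603c1104e00383a088060) (nat_lit 1288))
 (.leaf (nat_lit 0x400607c0100e002038088060) (nat_lit 1032))
)) (.node (nat_lit 0x400607c1100e00b03e088060) (.leaf (nat_lit 0x400607c0104e00a81c088060) (nat_lit 1288))
 (.node (nat_lit 0x400607c1104e00381a088060) (.leaf (nat_lit 0x400607c1100e00b03e088060) (nat_lit 1288))
 (.leaf (nat_lit 0x400607c1104e00381a088060) (nat_lit 1032))
))))) (.node (nat_lit 0x400805002006004028010020) (.node (nat_lit 0x40070741100e00301e088260) (.node (nat_lit 0x40070341104e00b83a088260) (.node (nat_lit 0x40070340104e00a81c088260) (.leaf (nat_lit 0x40070340100e002018088260) (nat_lit 776))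
 (.node (nat_lit 0x40070341100e00303e088260) (.leaf (nat_lit 0x40070340104e00a81c088260) (nat_lit 1032))
 (.leaf (nat_lit 0x40070341100e00303e088260) (nat_lit 1032))
)) (.node (nat_lit 0x40070740100e002038088260) (.leaf (nat_lit 0x40070341104e00b83a088260) (nat_lit 1032))
 (.node (nat_lit 0x40070740104e00a83c088260) (.leaf (nat_lit 0x40070740100e002038088260) (nat_lit 1032))
 (.leaf (nat_lit 0x40070740104e00a83c088260) (nat_lit 1288))
))) (.node (nat_lit 0x40080100204600500e010020) (.node (nat_lit 0x40070741104e00b81a088260) (.leaf (nat_lit 0x40070741100e00301e088260) (nat_lit 1288))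
 (.node (nat_lit 0x400801002006004008010020) (.leaf (nat_lit 0x40070741104e00b81a088260) (nat_lit 1288))
 (.leaf (nat_lit 0x400801002006004008010020) (nat_lit 264))
)) (.node (nat_lit 0x40080101200600580a010020) (.leaf (nat_lit 0x40080100204600500e010020) (nat_lit 520))
 (.node (nat_lit 0x40080101204600480c010020) (.leaf (nat_lit 0x40080101200600580a010020) (nat_lit 520))
 (.leaf (nat_lit 0x40080101204600480c010020) (nat_lit 776))
)))) (.node (nat_lit 0x40090181200600582a090220) (.node (nat_lit 0x40080501204600482c010020) (.node (nat_lit 0x40080500204600502e010020) (.leaf (nat_lit 0x400805002006004028010020) (nat_lit 520))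
 (.node (nat_lit 0x40080501200600582a010020) (.leaf (nat_lit 0x40080500204600502e010020) (nat_lit 776))
 (.leaf (nat_lit 0x40080501200600582a010020) (nat_lit 776))
)) (.node (nat_lit 0x400901802006004008090220) (.leaf (nat_lit 0x40080501204600482c010020) (nat_lit 1032))
 (.node (nat_lit 0x40090180204600d00e090220) (.leaf (nat_lit 0x400901802006004008090220) (nat_lit 776))
 (.leaf (nat_lit 0x40090180204600d00e090220) (nat_lit 1032))
))) (.node (nat_lit 0x40090580204600d02e090220) (.node (nat_lit 0x40090181204600c82c090220) (.leaf (nat_lit 0x40090181200600582a090220) (nat_lit 1032))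
 (.node (nat_lit 0x400905802006004028090220) (.leaf (nat_lit 0x40090181204600c82c090220) (nat_lit 1288))
 (.leaf (nat_lit 0x400905802006004028090220) (nat_lit 1032))
)) (.node (nat_lit 0x40090581200600580a090220) (.leaf (nat_lit 0x40090580204600d02e090220) (nat_lit 1032))
 (.node (nat_lit 0x40090581204600c80c090220) (.leaf (nat_lit 0x40090581200600580a090220) (nat_lit 1032))
 (.leaf (nat_lit 0x40090581204600c80c090220) (nat_lit 1288))
)))))) (.node (nat_lit 0x400d0280300a006010098040) (.node (nat_lit 0x400b05402006004028090020) (.node (nat_lit 0x400a05c1200600d80a010220) (.node (nat_lit 0x400a01c1204600c80c010220) (.node (nat_lit 0x400a01c0204600502e010220) (.leaf (nat_lit 0x400a01c02006004008010220) (nat_lit 520))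
 (.node (nat_lit 0x400a01c1200600d82a010220) (.leaf (nat_lit 0x400a01c0204600502e010220) (nat_lit 776))
 (.leaf (nat_lit 0x400a01c1200600d82a010220) (nat_lit 776))
)) (.node (nat_lit 0x400a05c02006004028010220) (.leaf (nat_lit 0x400a01c1204600c80c010220) (nat_lit 1032))
 (.node (nat_lit 0x400a05c0204600500e010220) (.leaf (nat_lit 0x400a05c02006004028010220) (nat_lit 776))
 (.leaf (nat_lit 0x400a05c0204600500e010220) (nat_lit 776))
))) (.node (nat_lit 0x400b0140204600d02e090020) (.node (nat_lit 0x400a05c1204600c82c010220) (.leaf (nat_lit 0x400a05c1200600d80a010220) (nat_lit 1032))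
 (.node (nat_lit 0x400b01402006004008090020) (.leaf (nat_lit 0x400a05c1204600c82c010220) (nat_lit 1032))
 (.leaf (nat_lit 0x400b01402006004008090020) (nat_lit 520))
)) (.node (nat_lit 0x400b0141200600d80a090020) (.leaf (nat_lit 0x400b0140204600d02e090020) (nat_lit 776))
 (.node (nat_lit 0x400b0141204600482c090020) (.leaf (nat_lit 0x400b0141200600d80a090020) (nat_lit 776))
 (.leaf (nat_lit 0x400b0141204600482c090020) (nat_lit 1032))
)))) (.node (nat_lit 0x400c0201300a006814018040) (.node (nat_lit 0x400b0541204600480c090020) (.node (nat_lit 0x400b0540204600d00e090020) (.leaf (nat_lit 0x400b05402006004028090020) (nat_lit 776))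
 (.node (nat_lit 0x400b0541200600d82a090020) (.leaf (nat_lit 0x400b0540204600d00e090020) (nat_lit 1032))
 (.leaf (nat_lit 0x400b0541200600d82a090020) (nat_lit 1032))
)) (.node (nat_lit 0x400c0200300a006010018040) (.leaf (nat_lit 0x400b0541204600480c090020) (nat_lit 1032))
 (.node (nat_lit 0x400c0200304a007812018040) (.leaf (nat_lit 0x400c0200300a006010018040) (nat_lit 520))
 (.leaf (nat_lit 0x400c0200304a007812018040) (nat_lit 776))
))) (.node (nat_lit 0x400c0600304a007832018040) (.node (nat_lit 0x400c0201304a007016018040) (.leaf (nat_lit 0x400c0201300a006814018040) (nat_lit 776))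
 (.node (nat_lit 0x400c0600300a006030018040) (.leaf (nat_lit 0x400c0201304a007016018040) (nat_lit 776))
 (.leaf (nat_lit 0x400c0600300a006030018040) (nat_lit 776))
)) (.node (nat_lit 0x400c0601300a006834018040) (.leaf (nat_lit 0x400c0600304a007832018040) (nat_lit 1032))
 (.node (nat_lit 0x400c0601304a007036018040) (.leaf (nat_lit 0x400c0601300a006834018040) (nat_lit 1032))
 (.leaf (nat_lit 0x400c0601304a007036018040) (nat_lit 1032))
))))) (.node (nat_lit 0x400e06c0300a006030098240) (.node (nat_lit 0x400d0681300a00e834098040) (.node (nat_lit 0x400d0281304a007036098040) (.node (nat_lit 0x400d0280304a00f832098040) (.leaf (nat_lit 0x400d0280300a006010098040) (nat_lit 776))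
 (.node (nat_lit 0x400d0281300a00e814098040) (.leaf (nat_lit 0x400d0280304a00f832098040) (nat_lit 1032))
 (.leaf (nat_lit 0x400d0281300a00e814098040) (nat_lit 1032))
)) (.node (nat_lit 0x400d0680300a006030098040) (.leaf (nat_lit 0x400d0281304a007036098040) (nat_lit 1032))
 (.node (nat_lit 0x400d0680304a00f812098040) (.leaf (nat_lit 0x400d0680300a006030098040) (nat_lit 1032))
 (.leaf (nat_lit 0x400d0680304a00f812098040) (nat_lit 1288))
))) (.node (nat_lit 0x400e02c0304a00f812098240) (.node (nat_lit 0x400d0681304a007016098040) (.leaf (nat_lit 0x400d0681300a00e834098040) (nat_lit 1288))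
 (.node (nat_lit 0x400e02c0300a006010098240) (.leaf (nat_lit 0x400d0681304a007016098040) (nat_lit 1032))
 (.leaf (nat_lit 0x400e02c0300a006010098240) (nat_lit 776))
)) (.node (nat_lit 0x400e02c1300a006834098240) (.leaf (nat_lit 0x400e02c0304a00f812098240) (nat_lit 1032))
 (.node (nat_lit 0x400e02c1304a00f036098240) (.leaf (nat_lit 0x400e02c1300a006834098240) (nat_lit 1032))
 (.leaf (nat_lit 0x400e02c1304a00f036098240) (nat_lit 1032))
)))) (.node (nat_lit 0x400f0241300a00e834018240) (.node (nat_lit 0x400e06c1304a00f016098240) (.node (nat_lit 0x400e06c0304a00f832098240) (.leaf (nat_lit 0x400e06c0300a006030098240) (nat_lit 1032))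
 (.node (nat_lit 0x400e06c1300a006814098240) (.leaf (nat_lit 0x400e06c0304a00f832098240) (nat_lit 1288))
 (.leaf (nat_lit 0x400e06c1300a006814098240) (nat_lit 1032))
)) (.node (nat_lit 0x400f0240300a006010018240) (.leaf (nat_lit 0x400e06c1304a00f016098240) (nat_lit 1288))
 (.node (nat_lit 0x400f0240304a007832018240) (.leaf (nat_lit 0x400f0240300a006010018240) (nat_lit 776))
 (.leaf (nat_lit 0x400f0240304a007832018240) (nat_lit 1032))
))) (.node (nat_lit 0x400f0640304a007812018240) (.node (nat_lit 0x400f0241304a00f016018240) (.leaf (nat_lit 0x400f0241300a00e834018240) (nat_lit 1032))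
 (.node (nat_lit 0x400f0640300a006030018240) (.leaf (nat_lit 0x400f0241304a00f016018240) (nat_lit 1288))
 (.leaf (nat_lit 0x400f0640300a006030018240) (nat_lit 1032))
)) (.node (nat_lit 0x400f0641300a00e814018240) (.leaf (nat_lit 0x400f0640304a007812018240) (nat_lit 1032))
 (.node (nat_lit 0x400f0641304a00f036018240) (.leaf (nat_lit 0x400f0641300a00e814018240) (nat_lit 1288))
 (.leaf (nat_lit 0x400f0641304a00f036018240) (nat_lit 1288))
))))))) (.node (nat_lit 0x401a01c0200600c008010220) (.node (nat_lit 0x40170340100e00a018088260) (.node (nat_lit 0x40150780100e00a038008260) (.node (nat_lit 0x40140701100e00b03e008060) (.node (nat_lit 0x40140301104e00b81a008060) (.node (nat_lit 0x40140300104e00a81c008060) (.leaf (nat_lit 0x40140300100e00a018008060) (nat_lit 776))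
 (.node (nat_lit 0x40140301100e00b01e008060) (.leaf (nat_lit 0x40140300104e00a81c008060) (nat_lit 1032))
 (.leaf (nat_lit 0x40140301100e00b01e008060) (nat_lit 1032))
)) (.node (nat_lit 0x40140700100e00a038008060) (.leaf (nat_lit 0x40140301104e00b81a008060) (nat_lit 1032))
 (.node (nat_lit 0x40140700104e00a83c008060) (.leaf (nat_lit 0x40140700100e00a038008060) (nat_lit 776))
 (.leaf (nat_lit 0x40140700104e00a83c008060) (nat_lit 1032))
))) (.node (nat_lit 0x40150380104e00a83c008260) (.node (nat_lit 0x40140701104e00b83a008060) (.leaf (nat_lit 0x40140701100e00b03e008060) (nat_lit 1032))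
 (.node (nat_lit 0x40150380100e00a018008260) (.leaf (nat_lit 0x40140701104e00b83a008060) (nat_lit 1032))
 (.leaf (nat_lit 0x40150380100e00a018008260) (nat_lit 1032))
)) (.node (nat_lit 0x40150381100e00303e008260) (.leaf (nat_lit 0x40150380104e00a83c008260) (nat_lit 1288))
 (.node (nat_lit 0x40150381104e00381a008260) (.leaf (nat_lit 0x40150381100e00303e008260) (nat_lit 1288))
 (.leaf (nat_lit 0x40150381104e00381a008260) (nat_lit 1032))
)))) (.node (nat_lit 0x401603c1100e00301e088060) (.node (nat_lit 0x40150781104e00383a008260) (.node (nat_lit 0x40150780104e00a81c008260) (.leaf (nat_lit 0x40150780100e00a038008260) (nat_lit 1032))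
 (.node (nat_lit 0x40150781100e00301e008260) (.leaf (nat_lit 0x40150780104e00a81c008260) (nat_lit 1288))
 (.leaf (nat_lit 0x40150781100e00301e008260) (nat_lit 1032))
)) (.node (nat_lit 0x401603c0100e00a018088060) (.leaf (nat_lit 0x40150781104e00383a008260) (nat_lit 1288))
 (.node (nat_lit 0x401603c0104e00283c088060) (.leaf (nat_lit 0x401603c0100e00a018088060) (nat_lit 1032))
 (.leaf (nat_lit 0x401603c0104e00283c088060) (nat_lit 1288))
))) (.node (nat_lit 0x401607c0104e00281c088060) (.node (nat_lit 0x401603c1104e00b83a088060) (.leaf (nat_lit 0x401603c1100e00301e088060) (nat_lit 1032))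
 (.node (nat_lit 0x401607c0100e00a038088060) (.leaf (nat_lit 0x401603c1104e00b83a088060) (nat_lit 1288))
 (.leaf (nat_lit 0x401607c0100e00a038088060) (nat_lit 1032))
)) (.node (nat_lit 0x401607c1100e00303e088060) (.leaf (nat_lit 0x401607c0104e00281c088060) (nat_lit 1032))
 (.node (nat_lit 0x401607c1104e00b81a088060) (.leaf (nat_lit 0x401607c1100e00303e088060) (nat_lit 1288))
 (.leaf (nat_lit 0x401607c1104e00b81a088060) (nat_lit 1288))
))))) (.node (nat_lit 0x40180500200600c028010020) (.node (nat_lit 0x40170741100e00b01e088260) (.node (nat_lit 0x40170341104e00383a088260) (.node (nat_lit 0x40170340104e00281c088260) (.leaf (nat_lit 0x40170340100e00a018088260) (nat_lit 1032))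
 (.node (nat_lit 0x40170341100e00b03e088260) (.leaf (nat_lit 0x40170340104e00281c088260) (nat_lit 1032))
 (.leaf (nat_lit 0x40170341100e00b03e088260) (nat_lit 1288))
)) (.node (nat_lit 0x40170740100e00a038088260) (.leaf (nat_lit 0x40170341104e00383a088260) (nat_lit 1288))
 (.node (nat_lit 0x40170740104e00283c088260) (.leaf (nat_lit 0x40170740100e00a038088260) (nat_lit 1032))
 (.leaf (nat_lit 0x40170740104e00283c088260) (nat_lit 1288))
))) (.node (nat_lit 0x40180100204600d00e010020) (.node (nat_lit 0x40170741104e00381a088260) (.leaf (nat_lit 0x40170741100e00b01e088260) (nat_lit 1288))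
 (.node (nat_lit 0x40180100200600c008010020) (.leaf (nat_lit 0x40170741104e00381a088260) (nat_lit 1032))
 (.leaf (nat_lit 0x40180100200600c008010020) (nat_lit 520))
)) (.node (nat_lit 0x40180101200600d80a010020) (.leaf (nat_lit 0x40180100204600d00e010020) (nat_lit 776))
 (.node (nat_lit 0x40180101204600c80c010020) (.leaf (nat_lit 0x40180101200600d80a010020) (nat_lit 776))
 (.leaf (nat_lit 0x40180101204600c80c010020) (nat_lit 1032))
)))) (.node (nat_lit 0x40190181200600d82a090220) (.node (nat_lit 0x40180501204600c82c010020) (.node (nat_lit 0x40180500204600d02e010020) (.leaf (nat_lit 0x40180500200600c028010020) (nat_lit 776))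
 (.node (nat_lit 0x40180501200600d82a010020) (.leaf (nat_lit 0x40180500204600d02e010020) (nat_lit 1032))
 (.leaf (nat_lit 0x40180501200600d82a010020) (nat_lit 1032))
)) (.node (nat_lit 0x40190180200600c008090220) (.leaf (nat_lit 0x40180501204600c82c010020) (nat_lit 1288))
 (.node (nat_lit 0x40190180204600500e090220) (.leaf (nat_lit 0x40190180200600c008090220) (nat_lit 1032))
 (.leaf (nat_lit 0x40190180204600500e090220) (nat_lit 1032))
))) (.node (nat_lit 0x40190580204600502e090220) (.node (nat_lit 0x40190181204600482c090220) (.leaf (nat_lit 0x40190181200600d82a090220) (nat_lit 1032))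
 (.node (nat_lit 0x40190580200600c028090220) (.leaf (nat_lit 0x40190181204600482c090220) (nat_lit 1288))
 (.leaf (nat_lit 0x40190580200600c028090220) (nat_lit 1288))
)) (.node (nat_lit 0x40190581200600d80a090220) (.leaf (nat_lit 0x40190580204600502e090220) (nat_lit 1032))
 (.node (nat_lit 0x40190581204600480c090220) (.leaf (nat_lit 0x40190581200600d80a090220) (nat_lit 1032))
 (.leaf (nat_lit 0x40190581204600480c090220) (nat_lit 1288))
)))))) (.node (nat_lit 0x401d0280300a00e010098040) (.node (nat_lit 0x401b0540200600c028090020) (.node (nat_lit 0x401a05c1200600580a010220) (.node (nat_lit 0x401a01c1204600480c010220) (.node (nat_lit 0x401a01c0204600d02e010220) (.leaf (nat_lit 0x401a01c0200600c008010220) (nat_lit 776))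
 (.node (nat_lit 0x401a01c1200600582a010220) (.leaf (nat_lit 0x401a01c0204600d02e010220) (nat_lit 1032))
 (.leaf (nat_lit 0x401a01c1200600582a010220) (nat_lit 1032))
)) (.node (nat_lit 0x401a05c0200600c028010220) (.leaf (nat_lit 0x401a01c1204600480c010220) (nat_lit 1032))
 (.node (nat_lit 0x401a05c0204600d00e010220) (.leaf (nat_lit 0x401a05c0200600c028010220) (nat_lit 1032))
 (.leaf (nat_lit 0x401a05c0204600d00e010220) (nat_lit 1032))
))) (.node (nat_lit 0x401b0140204600502e090020) (.node (nat_lit 0x401a05c1204600482c010220) (.leaf (nat_lit 0x401a05c1200600580a010220) (nat_lit 776))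
 (.node (nat_lit 0x401b0140200600c008090020) (.leaf (nat_lit 0x401a05c1204600482c010220) (nat_lit 1032))
 (.leaf (nat_lit 0x401b0140200600c008090020) (nat_lit 776))
)) (.node (nat_lit 0x401b0141200600580a090020) (.leaf (nat_lit 0x401b0140204600502e090020) (nat_lit 1032))
 (.node (nat_lit 0x401b0141204600c82c090020) (.leaf (nat_lit 0x401b0141200600580a090020) (nat_lit 776))
 (.leaf (nat_lit 0x401b0141204600c82c090020) (nat_lit 1032))
)))) (.node (nat_lit 0x401c0201300a00e814018040) (.node (nat_lit 0x401b0541204600c80c090020) (.node (nat_lit 0x401b0540204600500e090020) (.leaf (nat_lit 0x401b0540200600c028090020) (nat_lit 1032))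
 (.node (nat_lit 0x401b0541200600582a090020) (.leaf (nat_lit 0x401b0540204600500e090020) (nat_lit 776))
 (.leaf (nat_lit 0x401b0541200600582a090020) (nat_lit 1032))
)) (.node (nat_lit 0x401c0200300a00e010018040) (.leaf (nat_lit 0x401b0541204600c80c090020) (nat_lit 1032))
 (.node (nat_lit 0x401c0200304a00f812018040) (.leaf (nat_lit 0x401c0200300a00e010018040) (nat_lit 776))
 (.leaf (nat_lit 0x401c0200304a00f812018040) (nat_lit 1032))
))) (.node (nat_lit 0x401c0600304a00f832018040) (.node (nat_lit 0x401c0201304a00f016018040) (.leaf (nat_lit 0x401c0201300a00e814018040) (nat_lit 1032))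
 (.node (nat_lit 0x401c0600300a00e030018040) (.leaf (nat_lit 0x401c0201304a00f016018040) (nat_lit 1032))
 (.leaf (nat_lit 0x401c0600300a00e030018040) (nat_lit 776))
)) (.node (nat_lit 0x401c0601300a00e834018040) (.leaf (nat_lit 0x401c0600304a00f832018040) (nat_lit 1032))
 (.node (nat_lit 0x401c0601304a00f036018040) (.leaf (nat_lit 0x401c0601300a00e834018040) (nat_lit 1032))
 (.leaf (nat_lit 0x401c0601304a00f036018040) (nat_lit 1032))
))))) (.node (nat_lit 0x401e06c0300a00e030098240) (.node (nat_lit 0x401d0681300a006834098040) (.node (nat_lit 0x401d0281304a00f036098040) (.node (nat_lit 0x401d0280304a007832098040) (.leaf (nat_lit 0x401d0280300a00e010098040) (nat_lit 1032))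
 (.node (nat_lit 0x401d0281300a006814098040) (.leaf (nat_lit 0x401d0280304a007832098040) (nat_lit 1288))
 (.leaf (nat_lit 0x401d0281300a006814098040) (nat_lit 1032))
)) (.node (nat_lit 0x401d0680300a00e030098040) (.leaf (nat_lit 0x401d0281304a00f036098040) (nat_lit 1288))
 (.node (nat_lit 0x401d0680304a007812098040) (.leaf (nat_lit 0x401d0680300a00e030098040) (nat_lit 1032))
 (.leaf (nat_lit 0x401d0680304a007812098040) (nat_lit 1032))
))) (.node (nat_lit 0x401e02c0304a007812098240) (.node (nat_lit 0x401d0681304a00f016098040) (.leaf (nat_lit 0x401d0681300a006834098040) (nat_lit 1288))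
 (.node (nat_lit 0x401e02c0300a00e010098240) (.leaf (nat_lit 0x401d0681304a00f016098040) (nat_lit 1288))
 (.leaf (nat_lit 0x401e02c0300a00e010098240) (nat_lit 1032))
)) (.node (nat_lit 0x401e02c1300a00e834098240) (.leaf (nat_lit 0x401e02c0304a007812098240) (nat_lit 1288))
 (.node (nat_lit 0x401e02c1304a007036098240) (.leaf (nat_lit 0x401e02c1300a00e834098240) (nat_lit 1288))
 (.leaf (nat_lit 0x401e02c1304a007036098240) (nat_lit 1288))
)))) (.node (nat_lit 0x401f0241300a006834018240) (.node (nat_lit 0x401e06c1304a007016098240) (.node (nat_lit 0x401e06c0304a007832098240) (.leaf (nat_lit 0x401e06c0300a00e030098240) (nat_lit 1032))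
 (.node (nat_lit 0x401e06c1300a00e814098240) (.leaf (nat_lit 0x401e06c0304a007832098240) (nat_lit 1288))
 (.leaf (nat_lit 0x401e06c1300a00e814098240) (nat_lit 1288))
)) (.node (nat_lit 0x401f0240300a00e010018240) (.leaf (nat_lit 0x401e06c1304a007016098240) (nat_lit 1032))
 (.node (nat_lit 0x401f0240304a00f832018240) (.leaf (nat_lit 0x401f0240300a00e010018240) (nat_lit 1032))
 (.leaf (nat_lit 0x401f0240304a00f832018240) (nat_lit 1288))
))) (.node (nat_lit 0x401f0640304a00f812018240) (.node (nat_lit 0x401f0241304a007016018240) (.leaf (nat_lit 0x401f0241300a006834018240) (nat_lit 1288))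
 (.node (nat_lit 0x401f0640300a00e030018240) (.leaf (nat_lit 0x401f0241304a007016018240) (nat_lit 1032))
 (.leaf (nat_lit 0x401f0640300a00e030018240) (nat_lit 1032))
)) (.node (nat_lit 0x401f0641300a006814018240) (.leaf (nat_lit 0x401f0640304a00f812018240) (nat_lit 1288))
 (.node (nat_lit 0x401f0641304a007036018240) (.leaf (nat_lit 0x401f0641300a006814018240) (nat_lit 1032))
 (.leaf (nat_lit 0x401f0641304a007036018240) (nat_lit 1288))
)))))))) (.node (nat_lit 0x8028060020180100500c00403) (.node (nat_lit 0x8014038040080100200400811) (.node (nat_lit 0x800e068020180100100c04413) (.node (nat_lit 0x800a0f0020180100101c00413) (.node (nat_lit 0x80080e0220180100181f00403) (.node (nat_lit 0x80080602209801001c0d00403) (.node (nat_lit 0x8008060020980100140e00403) (.leaf (nat_lit 0x8008060020180100100c00403) (nat_lit 263))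
 (.node (nat_lit 0x8008060220180100180f00403) (.leaf (nat_lit 0x8008060020980100140e00403) (nat_lit 519))
 (.leaf (nat_lit 0x8008060220180100180f00403) (nat_lit 515))
)) (.node (nat_lit 0x80080e0020180100101c00403) (.leaf (nat_lit 0x80080602209801001c0d00403) (nat_lit 519))
 (.node (nat_lit 0x80080e0020980100141e00403) (.leaf (nat_lit 0x80080e0020180100101c00403) (nat_lit 519))
 (.leaf (nat_lit 0x80080e0020980100141e00403) (nat_lit 775))
))) (.node (nat_lit 0x800a070020980100141e00413) (.node (nat_lit 0x80080e02209801001c1d00403) (.leaf (nat_lit 0x80080e0220180100181f00403) (nat_lit 771))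
 (.node (nat_lit 0x800a070020180100100c00413) (.leaf (nat_lit 0x80080e02209801001c1d00403) (nat_lit 775))
 (.leaf (nat_lit 0x800a070020180100100c00413) (nat_lit 519))
)) (.node (nat_lit 0x800a070220180100581f00413) (.leaf (nat_lit 0x800a070020980100141e00413) (nat_lit 775))
 (.node (nat_lit 0x800a0702209801005c0d00413) (.leaf (nat_lit 0x800a070220180100581f00413) (nat_lit 771))
 (.leaf (nat_lit 0x800a0702209801005c0d00413) (nat_lit 775))
)))) (.node (nat_lit 0x800c078220180100580f04403) (.node (nat_lit 0x800a0f02209801005c1d00413) (.node (nat_lit 0x800a0f0020980100140e00413) (.leaf (nat_lit 0x800a0f0020180100101c00413) (nat_lit 775))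
 (.node (nat_lit 0x800a0f0220180100580f00413) (.leaf (nat_lit 0x800a0f0020980100140e00413) (nat_lit 775))
 (.leaf (nat_lit 0x800a0f0220180100580f00413) (nat_lit 1027))
)) (.node (nat_lit 0x800c078020180100100c04403) (.leaf (nat_lit 0x800a0f02209801005c1d00413) (nat_lit 1025))
 (.node (nat_lit 0x800c078020980100541e04403) (.leaf (nat_lit 0x800c078020180100100c04403) (nat_lit 513))
 (.leaf (nat_lit 0x800c078020980100541e04403) (nat_lit 770))
))) (.node (nat_lit 0x800c0f8020980100540e04403) (.node (nat_lit 0x800c0782209801001c1d04403) (.leaf (nat_lit 0x800c078220180100580f04403) (nat_lit 771))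
 (.node (nat_lit 0x800c0f8020180100101c04403) (.leaf (nat_lit 0x800c0782209801001c1d04403) (nat_lit 1031))
 (.leaf (nat_lit 0x800c0f8020180100101c04403) (nat_lit 769))
)) (.node (nat_lit 0x800c0f8220180100581f04403) (.leaf (nat_lit 0x800c0f8020980100540e04403) (nat_lit 1031))
 (.node (nat_lit 0x800c0f82209801001c0d04403) (.leaf (nat_lit 0x800c0f8220180100581f04403) (nat_lit 1026))
 (.leaf (nat_lit 0x800c0f82209801001c0d04403) (nat_lit 769))
))))) (.node (nat_lit 0x80100a0040080100201400801) (.node (nat_lit 0x800e0e8220180100180f04413) (.node (nat_lit 0x800e0682209801005c1d04413) (.node (nat_lit 0x800e068020980100540e04413) (.leaf (nat_lit 0x800e068020180100100c04413) (nat_lit 519))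
 (.node (nat_lit 0x800e068220180100181f04413) (.leaf (nat_lit 0x800e068020980100540e04413) (nat_lit 775))
 (.leaf (nat_lit 0x800e068220180100181f04413) (nat_lit 771))
)) (.node (nat_lit 0x800e0e8020180100101c04413) (.leaf (nat_lit 0x800e0682209801005c1d04413) (nat_lit 775))
 (.node (nat_lit 0x800e0e8020980100541e04413) (.leaf (nat_lit 0x800e0e8020180100101c04413) (nat_lit 775))
 (.leaf (nat_lit 0x800e0e8020980100541e04413) (nat_lit 1031))
))) (.node (nat_lit 0x8010020040880100280700801) (.node (nat_lit 0x800e0e82209801005c0d04413) (.leaf (nat_lit 0x800e0e8220180100180f04413) (nat_lit 1027))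
 (.node (nat_lit 0x8010020040080100200400801) (.leaf (nat_lit 0x800e0e82209801005c0d04413) (nat_lit 1031))
 (.leaf (nat_lit 0x8010020040080100200400801) (nat_lit 0))
)) (.node (nat_lit 0x80100202400801002c0500801) (.leaf (nat_lit 0x8010020040880100280700801) (nat_lit 258))
 (.node (nat_lit 0x8010020240880100240600801) (.leaf (nat_lit 0x80100202400801002c0500801) (nat_lit 259))
 (.leaf (nat_lit 0x8010020240880100240600801) (nat_lit 515))
)))) (.node (nat_lit 0x80120302400801002c1504811) (.node (nat_lit 0x80100a0240880100241600801) (.node (nat_lit 0x80100a0040880100281700801) (.leaf (nat_lit 0x80100a0040080100201400801) (nat_lit 260))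
 (.node (nat_lit 0x80100a02400801002c1500801) (.leaf (nat_lit 0x80100a0040880100281700801) (nat_lit 516))
 (.leaf (nat_lit 0x80100a02400801002c1500801) (nat_lit 516))
)) (.node (nat_lit 0x8012030040080100200404811) (.leaf (nat_lit 0x80100a0240880100241600801) (nat_lit 772))
 (.node (nat_lit 0x8012030040880100680704811) (.leaf (nat_lit 0x8012030040080100200404811) (nat_lit 513))
 (.leaf (nat_lit 0x8012030040880100680704811) (nat_lit 770))
))) (.node (nat_lit 0x80120b0040880100681704811) (.node (nat_lit 0x8012030240880100641604811) (.leaf (nat_lit 0x80120302400801002c1504811) (nat_lit 771))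
 (.node (nat_lit 0x80120b0040080100201404811) (.leaf (nat_lit 0x8012030240880100641604811) (nat_lit 1027))
 (.leaf (nat_lit 0x80120b0040080100201404811) (nat_lit 772))
)) (.node (nat_lit 0x80120b02400801002c0504811) (.leaf (nat_lit 0x80120b0040880100681704811) (nat_lit 768))
 (.node (nat_lit 0x80120b0240880100640604811) (.leaf (nat_lit 0x80120b02400801002c0504811) (nat_lit 769))
 (.leaf (nat_lit 0x80120b0240880100640604811) (nat_lit 1025))
)))))) (.node (nat_lit 0x801a050060100100300804c02) (.node (nat_lit 0x80160a8040080100201404801) (.node (nat_lit 0x80140b82400801006c0500811) (.node (nat_lit 0x8014038240880100640600811) (.node (nat_lit 0x8014038040880100281700811) (.leaf (nat_lit 0x8014038040080100200400811) (nat_lit 256))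
 (.node (nat_lit 0x80140382400801006c1500811) (.leaf (nat_lit 0x8014038040880100281700811) (nat_lit 514))
 (.leaf (nat_lit 0x80140382400801006c1500811) (nat_lit 515))
)) (.node (nat_lit 0x80140b8040080100201400811) (.leaf (nat_lit 0x8014038240880100640600811) (nat_lit 771))
 (.node (nat_lit 0x80140b8040880100280700811) (.leaf (nat_lit 0x80140b8040080100201400811) (nat_lit 516))
 (.leaf (nat_lit 0x80140b8040880100280700811) (nat_lit 512))
))) (.node (nat_lit 0x8016028040880100681704801) (.node (nat_lit 0x80140b8240880100641600811) (.leaf (nat_lit 0x80140b82400801006c0500811) (nat_lit 772))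
 (.node (nat_lit 0x8016028040080100200404801) (.leaf (nat_lit 0x80140b8240880100641600811) (nat_lit 771))
 (.leaf (nat_lit 0x8016028040080100200404801) (nat_lit 257))
)) (.node (nat_lit 0x80160282400801006c0504801) (.leaf (nat_lit 0x8016028040880100681704801) (nat_lit 514))
 (.node (nat_lit 0x8016028240880100241604801) (.leaf (nat_lit 0x80160282400801006c0504801) (nat_lit 515))
 (.leaf (nat_lit 0x8016028240880100241604801) (nat_lit 771))
)))) (.node (nat_lit 0x8018040260100100340a00c02) (.node (nat_lit 0x80160a8240880100240604801) (.node (nat_lit 0x80160a8040880100680704801) (.leaf (nat_lit 0x80160a8040080100201404801) (nat_lit 516))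
 (.node (nat_lit 0x80160a82400801006c1504801) (.leaf (nat_lit 0x80160a8040880100680704801) (nat_lit 772))
 (.leaf (nat_lit 0x80160a82400801006c1504801) (nat_lit 772))
)) (.node (nat_lit 0x8018040060100100300800c02) (.leaf (nat_lit 0x80160a8240880100240604801) (nat_lit 769))
 (.node (nat_lit 0x80180400609001003c0900c02) (.leaf (nat_lit 0x8018040060100100300800c02) (nat_lit 262))
 (.leaf (nat_lit 0x80180400609001003c0900c02) (nat_lit 514))
))) (.node (nat_lit 0x80180c00609001003c1900c02) (.node (nat_lit 0x8018040260900100380b00c02) (.leaf (nat_lit 0x8018040260100100340a00c02) (nat_lit 518))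
 (.node (nat_lit 0x80180c0060100100301800c02) (.leaf (nat_lit 0x8018040260900100380b00c02) (nat_lit 518))
 (.leaf (nat_lit 0x80180c0060100100301800c02) (nat_lit 516))
)) (.node (nat_lit 0x80180c0260100100341a00c02) (.leaf (nat_lit 0x80180c00609001003c1900c02) (nat_lit 772))
 (.node (nat_lit 0x80180c0260900100381b00c02) (.leaf (nat_lit 0x80180c0260100100341a00c02) (nat_lit 772))
 (.leaf (nat_lit 0x80180c0260900100381b00c02) (nat_lit 772))
))))) (.node (nat_lit 0x801c0d8060100100301804c12) (.node (nat_lit 0x801a0d0260100100741a04c02) (.node (nat_lit 0x801a050260900100381b04c02) (.node (nat_lit 0x801a0500609001007c1904c02) (.leaf (nat_lit 0x801a050060100100300804c02) (nat_lit 518))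
 (.node (nat_lit 0x801a050260100100740a04c02) (.leaf (nat_lit 0x801a0500609001007c1904c02) (nat_lit 770))
 (.leaf (nat_lit 0x801a050260100100740a04c02) (nat_lit 774))
)) (.node (nat_lit 0x801a0d0060100100301804c02) (.leaf (nat_lit 0x801a050260900100381b04c02) (nat_lit 774))
 (.node (nat_lit 0x801a0d00609001007c0904c02) (.leaf (nat_lit 0x801a0d0060100100301804c02) (nat_lit 772))
 (.leaf (nat_lit 0x801a0d00609001007c0904c02) (nat_lit 1028))
))) (.node (nat_lit 0x801c0580609001007c0904c12) (.node (nat_lit 0x801a0d0260900100380b04c02) (.leaf (nat_lit 0x801a0d0260100100741a04c02) (nat_lit 1028))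
 (.node (nat_lit 0x801c058060100100300804c12) (.leaf (nat_lit 0x801a0d0260900100380b04c02) (nat_lit 774))
 (.leaf (nat_lit 0x801c058060100100300804c12) (nat_lit 518))
)) (.node (nat_lit 0x801c058260100100341a04c12) (.leaf (nat_lit 0x801c0580609001007c0904c12) (nat_lit 770))
 (.node (nat_lit 0x801c058260900100781b04c12) (.leaf (nat_lit 0x801c058260100100341a04c12) (nat_lit 774))
 (.leaf (nat_lit 0x801c058260900100781b04c12) (nat_lit 774))
)))) (.node (nat_lit 0x801e048260100100741a00c12) (.node (nat_lit 0x801c0d8260900100780b04c12) (.node (nat_lit 0x801c0d80609001007c1904c12) (.leaf (nat_lit 0x801c0d8060100100301804c12) (nat_lit 772))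
 (.node (nat_lit 0x801c0d8260100100340a04c12) (.leaf (nat_lit 0x801c0d80609001007c1904c12) (nat_lit 1024))
 (.leaf (nat_lit 0x801c0d8260100100340a04c12) (nat_lit 774))
)) (.node (nat_lit 0x801e048060100100300800c12) (.leaf (nat_lit 0x801c0d8260900100780b04c12) (nat_lit 1028))
 (.node (nat_lit 0x801e0480609001003c1900c12) (.leaf (nat_lit 0x801e048060100100300800c12) (nat_lit 512))
 (.leaf (nat_lit 0x801e0480609001003c1900c12) (nat_lit 770))
))) (.node (nat_lit 0x801e0c80609001003c0900c12) (.node (nat_lit 0x801e048260900100780b00c12) (.leaf (nat_lit 0x801e048260100100741a00c12) (nat_lit 771))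
 (.node (nat_lit 0x801e0c8060100100301800c12) (.leaf (nat_lit 0x801e048260900100780b00c12) (nat_lit 1030))
 (.leaf (nat_lit 0x801e0c8060100100301800c12) (nat_lit 772))
)) (.node (nat_lit 0x801e0c8260100100740a00c12) (.leaf (nat_lit 0x801e0c80609001003c0900c12) (nat_lit 768))
 (.node (nat_lit 0x801e0c8260900100781b00c12) (.leaf (nat_lit 0x801e0c8260100100740a00c12) (nat_lit 1030))
 (.leaf (nat_lit 0x801e0c8260900100781b00c12) (nat_lit 1030))
))))))) (.node (nat_lit 0x8034038040080100600400811) (.node (nat_lit 0x802e068020180100500c04413) (.node (nat_lit 0x802a0f0020180100501c00413) (.node (nat_lit 0x80280e0220180100581f00403) (.node (nat_lit 0x80280602209801005c0d00403) (.node (nat_lit 0x8028060020980100540e00403) (.leaf (nat_lit 0x8028060020180100500c00403) (nat_lit 517))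
 (.node (nat_lit 0x8028060220180100580f00403) (.leaf (nat_lit 0x8028060020980100540e00403) (nat_lit 773))
 (.leaf (nat_lit 0x8028060220180100580f00403) (nat_lit 773))
)) (.node (nat_lit 0x80280e0020180100501c00403) (.leaf (nat_lit 0x80280602209801005c0d00403) (nat_lit 773))
 (.node (nat_lit 0x80280e0020980100541e00403) (.leaf (nat_lit 0x80280e0020180100501c00403) (nat_lit 519))
 (.leaf (nat_lit 0x80280e0020980100541e00403) (nat_lit 775))
))) (.node (nat_lit 0x802a070020980100541e00413) (.node (nat_lit 0x80280e02209801005c1d00403) (.leaf (nat_lit 0x80280e0220180100581f00403) (nat_lit 771))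
 (.node (nat_lit 0x802a070020180100500c00413) (.leaf (nat_lit 0x80280e02209801005c1d00403) (nat_lit 775))
 (.leaf (nat_lit 0x802a070020180100500c00413) (nat_lit 773))
)) (.node (nat_lit 0x802a070220180100181f00413) (.leaf (nat_lit 0x802a070020980100541e00413) (nat_lit 1029))
 (.node (nat_lit 0x802a0702209801001c0d00413) (.leaf (nat_lit 0x802a070220180100181f00413) (nat_lit 1025))
 (.leaf (nat_lit 0x802a0702209801001c0d00413) (nat_lit 775))
)))) (.node (nat_lit 0x802c078220180100180f04403) (.node (nat_lit 0x802a0f02209801001c1d00413) (.node (nat_lit 0x802a0f0020980100540e00413) (.leaf (nat_lit 0x802a0f0020180100501c00413) (nat_lit 775))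
 (.node (nat_lit 0x802a0f0220180100180f00413) (.leaf (nat_lit 0x802a0f0020980100540e00413) (nat_lit 1025))
 (.leaf (nat_lit 0x802a0f0220180100180f00413) (nat_lit 768))
)) (.node (nat_lit 0x802c078020180100500c04403) (.leaf (nat_lit 0x802a0f02209801001c1d00413) (nat_lit 1031))
 (.node (nat_lit 0x802c078020980100141e04403) (.leaf (nat_lit 0x802c078020180100500c04403) (nat_lit 773))
 (.leaf (nat_lit 0x802c078020980100141e04403) (nat_lit 1031))
))) (.node (nat_lit 0x802c0f8020980100140e04403) (.node (nat_lit 0x802c0782209801005c1d04403) (.leaf (nat_lit 0x802c078220180100180f04403) (nat_lit 769))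
 (.node (nat_lit 0x802c0f8020180100501c04403) (.leaf (nat_lit 0x802c0782209801005c1d04403) (nat_lit 1031))
 (.leaf (nat_lit 0x802c0f8020180100501c04403) (nat_lit 769))
)) (.node (nat_lit 0x802c0f8220180100181f04403) (.leaf (nat_lit 0x802c0f8020980100140e04403) (nat_lit 769))
 (.node (nat_lit 0x802c0f82209801005c0d04403) (.leaf (nat_lit 0x802c0f8220180100181f04403) (nat_lit 1024))
 (.leaf (nat_lit 0x802c0f82209801005c0d04403) (nat_lit 1031))
))))) (.node (nat_lit 0x80300a0040080100601400801) (.node (nat_lit 0x802e0e8220180100580f04413) (.node (nat_lit 0x802e0682209801001c1d04413) (.node (nat_lit 0x802e068020980100140e04413) (.leaf (nat_lit 0x802e068020180100500c04413) (nat_lit 773))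
 (.node (nat_lit 0x802e068220180100581f04413) (.leaf (nat_lit 0x802e068020980100140e04413) (nat_lit 775))
 (.leaf (nat_lit 0x802e068220180100581f04413) (nat_lit 1029))
)) (.node (nat_lit 0x802e0e8020180100501c04413) (.leaf (nat_lit 0x802e0682209801001c1d04413) (nat_lit 1029))
 (.node (nat_lit 0x802e0e8020980100141e04413) (.leaf (nat_lit 0x802e0e8020180100501c04413) (nat_lit 775))
 (.leaf (nat_lit 0x802e0e8020980100141e04413) (nat_lit 1031))
))) (.node (nat_lit 0x8030020040880100680700801) (.node (nat_lit 0x802e0e82209801001c0d04413) (.leaf (nat_lit 0x802e0e8220180100580f04413) (nat_lit 1027))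
 (.node (nat_lit 0x8030020040080100600400801) (.leaf (nat_lit 0x802e0e82209801001c0d04413) (nat_lit 775))
 (.leaf (nat_lit 0x8030020040080100600400801) (nat_lit 261))
)) (.node (nat_lit 0x80300202400801006c0500801) (.leaf (nat_lit 0x8030020040880100680700801) (nat_lit 517))
 (.node (nat_lit 0x8030020240880100640600801) (.leaf (nat_lit 0x80300202400801006c0500801) (nat_lit 517))
 (.leaf (nat_lit 0x8030020240880100640600801) (nat_lit 773))
)))) (.node (nat_lit 0x80320302400801006c1504811) (.node (nat_lit 0x80300a0240880100641600801) (.node (nat_lit 0x80300a0040880100681700801) (.leaf (nat_lit 0x80300a0040080100601400801) (nat_lit 517))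
 (.node (nat_lit 0x80300a02400801006c1500801) (.leaf (nat_lit 0x80300a0040880100681700801) (nat_lit 769))
 (.leaf (nat_lit 0x80300a02400801006c1500801) (nat_lit 768))
)) (.node (nat_lit 0x8032030040080100600404811) (.leaf (nat_lit 0x80300a0240880100641600801) (nat_lit 1026))
 (.node (nat_lit 0x8032030040880100280704811) (.leaf (nat_lit 0x8032030040080100600404811) (nat_lit 773))
 (.leaf (nat_lit 0x8032030040880100280704811) (nat_lit 769))
))) (.node (nat_lit 0x80320b0040880100281704811) (.node (nat_lit 0x8032030240880100241604811) (.leaf (nat_lit 0x80320302400801006c1504811) (nat_lit 769))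
 (.node (nat_lit 0x80320b0040080100601404811) (.leaf (nat_lit 0x8032030240880100241604811) (nat_lit 1026))
 (.leaf (nat_lit 0x80320b0040080100601404811) (nat_lit 1029))
)) (.node (nat_lit 0x80320b02400801006c0504811) (.leaf (nat_lit 0x80320b0040880100281704811) (nat_lit 769))
 (.node (nat_lit 0x80320b0240880100240604811) (.leaf (nat_lit 0x80320b02400801006c0504811) (nat_lit 768))
 (.leaf (nat_lit 0x80320b0240880100240604811) (nat_lit 1027))
)))))) (.node (nat_lit 0x803a050060100100700804c02) (.node (nat_lit 0x80360a8040080100601404801) (.node (nat_lit 0x80340b82400801002c0500811) (.node (nat_lit 0x8034038240880100240600811) (.node (nat_lit 0x8034038040880100681700811) (.leaf (nat_lit 0x8034038040080100600400811) (nat_lit 517))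
 (.node (nat_lit 0x80340382400801002c1500811) (.leaf (nat_lit 0x8034038040880100681700811) (nat_lit 773))
 (.leaf (nat_lit 0x80340382400801002c1500811) (nat_lit 773))
)) (.node (nat_lit 0x80340b8040080100601400811) (.leaf (nat_lit 0x8034038240880100240600811) (nat_lit 768))
 (.node (nat_lit 0x80340b8040880100680700811) (.leaf (nat_lit 0x80340b8040080100601400811) (nat_lit 773))
 (.leaf (nat_lit 0x80340b8040880100680700811) (nat_lit 773))
))) (.node (nat_lit 0x8036028040880100281704801) (.node (nat_lit 0x80340b8240880100241600811) (.leaf (nat_lit 0x80340b82400801002c0500811) (nat_lit 512))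
 (.node (nat_lit 0x8036028040080100600404801) (.leaf (nat_lit 0x80340b8240880100241600811) (nat_lit 770))
 (.leaf (nat_lit 0x8036028040080100600404801) (nat_lit 517))
)) (.node (nat_lit 0x80360282400801002c0504801) (.leaf (nat_lit 0x8036028040880100281704801) (nat_lit 773))
 (.node (nat_lit 0x8036028240880100641604801) (.leaf (nat_lit 0x80360282400801002c0504801) (nat_lit 513))
 (.leaf (nat_lit 0x8036028240880100641604801) (nat_lit 770))
)))) (.node (nat_lit 0x8038040260100100740a00c02) (.node (nat_lit 0x80360a8240880100640604801) (.node (nat_lit 0x80360a8040880100280704801) (.leaf (nat_lit 0x80360a8040080100601404801) (nat_lit 773))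
 (.node (nat_lit 0x80360a82400801002c1504801) (.leaf (nat_lit 0x80360a8040880100280704801) (nat_lit 513))
 (.leaf (nat_lit 0x80360a82400801002c1504801) (nat_lit 772))
)) (.node (nat_lit 0x8038040060100100700800c02) (.leaf (nat_lit 0x80360a8240880100640604801) (nat_lit 771))
 (.node (nat_lit 0x80380400609001007c0900c02) (.leaf (nat_lit 0x8038040060100100700800c02) (nat_lit 518))
 (.leaf (nat_lit 0x80380400609001007c0900c02) (nat_lit 770))
))) (.node (nat_lit 0x80380c00609001007c1900c02) (.node (nat_lit 0x8038040260900100780b00c02) (.leaf (nat_lit 0x8038040260100100740a00c02) (nat_lit 774))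
 (.node (nat_lit 0x80380c0060100100701800c02) (.leaf (nat_lit 0x8038040260900100780b00c02) (nat_lit 774))
 (.leaf (nat_lit 0x80380c0060100100701800c02) (nat_lit 518))
)) (.node (nat_lit 0x80380c0260100100741a00c02) (.leaf (nat_lit 0x80380c00609001007c1900c02) (nat_lit 770))
 (.node (nat_lit 0x80380c0260900100781b00c02) (.leaf (nat_lit 0x80380c0260100100741a00c02) (nat_lit 774))
 (.leaf (nat_lit 0x80380c0260900100781b00c02) (nat_lit 774))
))))) (.node (nat_lit 0x803c0d8060100100701804c12) (.node (nat_lit 0x803a0d0260100100341a04c02) (.node (nat_lit 0x803a050260900100781b04c02) (.node (nat_lit 0x803a0500609001003c1904c02) (.leaf (nat_lit 0x803a050060100100700804c02) (nat_lit 774))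
 (.node (nat_lit 0x803a050260100100340a04c02) (.leaf (nat_lit 0x803a0500609001003c1904c02) (nat_lit 1026))
 (.leaf (nat_lit 0x803a050260100100340a04c02) (nat_lit 774))
)) (.node (nat_lit 0x803a0d0060100100701804c02) (.leaf (nat_lit 0x803a050260900100781b04c02) (nat_lit 1030))
 (.node (nat_lit 0x803a0d00609001003c0904c02) (.leaf (nat_lit 0x803a0d0060100100701804c02) (nat_lit 774))
 (.leaf (nat_lit 0x803a0d00609001003c0904c02) (nat_lit 769))
))) (.node (nat_lit 0x803c0580609001003c0904c12) (.node (nat_lit 0x803a0d0260900100780b04c02) (.leaf (nat_lit 0x803a0d0260100100341a04c02) (nat_lit 1030))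
 (.node (nat_lit 0x803c058060100100700804c12) (.leaf (nat_lit 0x803a0d0260900100780b04c02) (nat_lit 1030))
 (.leaf (nat_lit 0x803c058060100100700804c12) (nat_lit 774))
)) (.node (nat_lit 0x803c058260100100741a04c12) (.leaf (nat_lit 0x803c0580609001003c0904c12) (nat_lit 1026))
 (.node (nat_lit 0x803c058260900100381b04c12) (.leaf (nat_lit 0x803c058260100100741a04c12) (nat_lit 1030))
 (.leaf (nat_lit 0x803c058260900100381b04c12) (nat_lit 1024))
)))) (.node (nat_lit 0x803e048260100100341a00c12) (.node (nat_lit 0x803c0d8260900100380b04c12) (.node (nat_lit 0x803c0d80609001003c1904c12) (.leaf (nat_lit 0x803c0d8060100100701804c12) (nat_lit 774))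
 (.node (nat_lit 0x803c0d8260100100740a04c12) (.leaf (nat_lit 0x803c0d80609001003c1904c12) (nat_lit 1026))
 (.leaf (nat_lit 0x803c0d8260100100740a04c12) (nat_lit 1024))
)) (.node (nat_lit 0x803e048060100100700800c12) (.leaf (nat_lit 0x803c0d8260900100380b04c12) (nat_lit 774))
 (.node (nat_lit 0x803e0480609001007c1900c12) (.leaf (nat_lit 0x803e048060100100700800c12) (nat_lit 768))
 (.leaf (nat_lit 0x803e0480609001007c1900c12) (nat_lit 1027))
))) (.node (nat_lit 0x803e0c80609001007c0900c12) (.node (nat_lit 0x803e048260900100380b00c12) (.leaf (nat_lit 0x803e048260100100341a00c12) (nat_lit 1030))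
 (.node (nat_lit 0x803e0c8060100100701800c12) (.leaf (nat_lit 0x803e048260900100380b00c12) (nat_lit 768))
 (.leaf (nat_lit 0x803e0c8060100100701800c12) (nat_lit 768))
)) (.node (nat_lit 0x803e0c8260100100340a00c12) (.leaf (nat_lit 0x803e0c80609001007c0900c12) (nat_lit 1025))
 (.node (nat_lit 0x803e0c8260900100381b00c12) (.leaf (nat_lit 0x803e0c8260100100340a00c12) (nat_lit 768))
 (.leaf (nat_lit 0x803e0c8260900100381b00c12) (nat_lit 1030))
)))))))))

theorem NG_ok : genOK B10.A [(nat_lit 0x8014038040080100200400811), (nat_lit 0x8016028040080100200404801), (nat_lit 0x8010020040880100280700801), (nat_lit 0x80100202400801002c0500801), (nat_lit 0x80100a0040080100201400801), (nat_lit 0x8030020040080100600400801), (nat_lit 0x8018040060100100300800c02), (nat_lit 0x8008060020180100100c00403), (nat_lit 0x400801002006004008010020)] NG_t (nat_lit 384) = true := by decide +kernel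

noncomputable def H_t : ST :=
(.node (nat_lit 0x8028060020180100500c00403) (.node (nat_lit 0x8014038040080100200400811) (.node (nat_lit 0x800e068020180100100c04413) (.node (nat_lit 0x800a0f0020180100101c00413) (.node (nat_lit 0x80080e0220180100181f00403) (.node (nat_lit 0x80080602209801001c0d00403) (.node (nat_lit 0x8008060020980100140e00403) (.leaf (nat_lit 0x8008060020180100100c00403) (nat_lit 263))
 (.node (nat_lit 0x8008060220180100180f00403) (.leaf (nat_lit 0x8008060020980100140e00403) (nat_lit 519))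
 (.leaf (nat_lit 0x8008060220180100180f00403) (nat_lit 515))
)) (.node (nat_lit 0x80080e0020180100101c00403) (.leaf (nat_lit 0x80080602209801001c0d00403) (nat_lit 519))
 (.node (nat_lit 0x80080e0020980100141e00403) (.leaf (nat_lit 0x80080e0020180100101c00403) (nat_lit 519))
 (.leaf (nat_lit 0x80080e0020980100141e00403) (nat_lit 775))
))) (.node (nat_lit 0x800a070020980100141e00413) (.node (nat_lit 0x80080e02209801001c1d00403) (.leaf (nat_lit 0x80080e0220180100181f00403) (nat_lit 771))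
 (.node (nat_lit 0x800a070020180100100c00413) (.leaf (nat_lit 0x80080e02209801001c1d00403) (nat_lit 775))
 (.leaf (nat_lit 0x800a070020180100100c00413) (nat_lit 519))
)) (.node (nat_lit 0x800a070220180100581f00413) (.leaf (nat_lit 0x800a070020980100141e00413) (nat_lit 775))
 (.node (nat_lit 0x800a0702209801005c0d00413) (.leaf (nat_lit 0x800a070220180100581f00413) (nat_lit 771))
 (.leaf (nat_lit 0x800a0702209801005c0d00413) (nat_lit 775))
)))) (.node (nat_lit 0x800c078220180100580f04403) (.node (nat_lit 0x800a0f02209801005c1d00413) (.node (nat_lit 0x800a0f0020980100140e00413) (.leaf (nat_lit 0x800a0f0020180100101c00413) (nat_lit 775))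
 (.node (nat_lit 0x800a0f0220180100580f00413) (.leaf (nat_lit 0x800a0f0020980100140e00413) (nat_lit 775))
 (.leaf (nat_lit 0x800a0f0220180100580f00413) (nat_lit 1027))
)) (.node (nat_lit 0x800c078020180100100c04403) (.leaf (nat_lit 0x800a0f02209801005c1d00413) (nat_lit 1025))
 (.node (nat_lit 0x800c078020980100541e04403) (.leaf (nat_lit 0x800c078020180100100c04403) (nat_lit 513))
 (.leaf (nat_lit 0x800c078020980100541e04403) (nat_lit 770))
))) (.node (nat_lit 0x800c0f8020980100540e04403) (.node (nat_lit 0x800c0782209801001c1d04403) (.leaf (nat_lit 0x800c078220180100580f04403) (nat_lit 771))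
 (.node (nat_lit 0x800c0f8020180100101c04403) (.leaf (nat_lit 0x800c0782209801001c1d04403) (nat_lit 1031))
 (.leaf (nat_lit 0x800c0f8020180100101c04403) (nat_lit 769))
)) (.node (nat_lit 0x800c0f8220180100581f04403) (.leaf (nat_lit 0x800c0f8020980100540e04403) (nat_lit 1031))
 (.node (nat_lit 0x800c0f82209801001c0d04403) (.leaf (nat_lit 0x800c0f8220180100581f04403) (nat_lit 1026))
 (.leaf (nat_lit 0x800c0f82209801001c0d04403) (nat_lit 769))
))))) (.node (nat_lit 0x80100a0040080100201400801) (.node (nat_lit 0x800e0e8220180100180f04413) (.node (nat_lit 0x800e0682209801005c1d04413) (.node (nat_lit 0x800e068020980100540e04413) (.leaf (nat_lit 0x800e068020180100100c04413) (nat_lit 519))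
 (.node (nat_lit 0x800e068220180100181f04413) (.leaf (nat_lit 0x800e068020980100540e04413) (nat_lit 775))
 (.leaf (nat_lit 0x800e068220180100181f04413) (nat_lit 771))
)) (.node (nat_lit 0x800e0e8020180100101c04413) (.leaf (nat_lit 0x800e0682209801005c1d04413) (nat_lit 775))
 (.node (nat_lit 0x800e0e8020980100541e04413) (.leaf (nat_lit 0x800e0e8020180100101c04413) (nat_lit 775))
 (.leaf (nat_lit 0x800e0e8020980100541e04413) (nat_lit 1031))
))) (.node (nat_lit 0x8010020040880100280700801) (.node (nat_lit 0x800e0e82209801005c0d04413) (.leaf (nat_lit 0x800e0e8220180100180f04413) (nat_lit 1027))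
 (.node (nat_lit 0x8010020040080100200400801) (.leaf (nat_lit 0x800e0e82209801005c0d04413) (nat_lit 1031))
 (.leaf (nat_lit 0x8010020040080100200400801) (nat_lit 0))
)) (.node (nat_lit 0x80100202400801002c0500801) (.leaf (nat_lit 0x8010020040880100280700801) (nat_lit 258))
 (.node (nat_lit 0x8010020240880100240600801) (.leaf (nat_lit 0x80100202400801002c0500801) (nat_lit 259))
 (.leaf (nat_lit 0x8010020240880100240600801) (nat_lit 515))
)))) (.node (nat_lit 0x80120302400801002c1504811) (.node (nat_lit 0x80100a0240880100241600801) (.node (nat_lit 0x80100a0040880100281700801) (.leaf (nat_lit 0x80100a0040080100201400801) (nat_lit 260))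
 (.node (nat_lit 0x80100a02400801002c1500801) (.leaf (nat_lit 0x80100a0040880100281700801) (nat_lit 516))
 (.leaf (nat_lit 0x80100a02400801002c1500801) (nat_lit 516))
)) (.node (nat_lit 0x8012030040080100200404811) (.leaf (nat_lit 0x80100a0240880100241600801) (nat_lit 772))
 (.node (nat_lit 0x8012030040880100680704811) (.leaf (nat_lit 0x8012030040080100200404811) (nat_lit 513))
 (.leaf (nat_lit 0x8012030040880100680704811) (nat_lit 770))
))) (.node (nat_lit 0x80120b0040880100681704811) (.node (nat_lit 0x8012030240880100641604811) (.leaf (nat_lit 0x80120302400801002c1504811) (nat_lit 771))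
 (.node (nat_lit 0x80120b0040080100201404811) (.leaf (nat_lit 0x8012030240880100641604811) (nat_lit 1027))
 (.leaf (nat_lit 0x80120b0040080100201404811) (nat_lit 772))
)) (.node (nat_lit 0x80120b02400801002c0504811) (.leaf (nat_lit 0x80120b0040880100681704811) (nat_lit 768))
 (.node (nat_lit 0x80120b0240880100640604811) (.leaf (nat_lit 0x80120b02400801002c0504811) (nat_lit 769))
 (.leaf (nat_lit 0x80120b0240880100640604811) (nat_lit 1025))
)))))) (.node (nat_lit 0x801a050060100100300804c02) (.node (nat_lit 0x80160a8040080100201404801) (.node (nat_lit 0x80140b82400801006c0500811) (.node (nat_lit 0x8014038240880100640600811) (.node (nat_lit 0x8014038040880100281700811) (.leaf (nat_lit 0x8014038040080100200400811) (nat_lit 256))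
 (.node (nat_lit 0x80140382400801006c1500811) (.leaf (nat_lit 0x8014038040880100281700811) (nat_lit 514))
 (.leaf (nat_lit 0x80140382400801006c1500811) (nat_lit 515))
)) (.node (nat_lit 0x80140b8040080100201400811) (.leaf (nat_lit 0x8014038240880100640600811) (nat_lit 771))
 (.node (nat_lit 0x80140b8040880100280700811) (.leaf (nat_lit 0x80140b8040080100201400811) (nat_lit 516))
 (.leaf (nat_lit 0x80140b8040880100280700811) (nat_lit 512))
))) (.node (nat_lit 0x8016028040880100681704801) (.node (nat_lit 0x80140b8240880100641600811) (.leaf (nat_lit 0x80140b82400801006c0500811) (nat_lit 772))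
 (.node (nat_lit 0x8016028040080100200404801) (.leaf (nat_lit 0x80140b8240880100641600811) (nat_lit 771))
 (.leaf (nat_lit 0x8016028040080100200404801) (nat_lit 257))
)) (.node (nat_lit 0x80160282400801006c0504801) (.leaf (nat_lit 0x8016028040880100681704801) (nat_lit 514))
 (.node (nat_lit 0x8016028240880100241604801) (.leaf (nat_lit 0x80160282400801006c0504801) (nat_lit 515))
 (.leaf (nat_lit 0x8016028240880100241604801) (nat_lit 771))
)))) (.node (nat_lit 0x8018040260100100340a00c02) (.node (nat_lit 0x80160a8240880100240604801) (.node (nat_lit 0x80160a8040880100680704801) (.leaf (nat_lit 0x80160a8040080100201404801) (nat_lit 516))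
 (.node (nat_lit 0x80160a82400801006c1504801) (.leaf (nat_lit 0x80160a8040880100680704801) (nat_lit 772))
 (.leaf (nat_lit 0x80160a82400801006c1504801) (nat_lit 772))
)) (.node (nat_lit 0x8018040060100100300800c02) (.leaf (nat_lit 0x80160a8240880100240604801) (nat_lit 769))
 (.node (nat_lit 0x80180400609001003c0900c02) (.leaf (nat_lit 0x8018040060100100300800c02) (nat_lit 262))
 (.leaf (nat_lit 0x80180400609001003c0900c02) (nat_lit 514))
))) (.node (nat_lit 0x80180c00609001003c1900c02) (.node (nat_lit 0x8018040260900100380b00c02) (.leaf (nat_lit 0x8018040260100100340a00c02) (nat_lit 518))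
 (.node (nat_lit 0x80180c0060100100301800c02) (.leaf (nat_lit 0x8018040260900100380b00c02) (nat_lit 518))
 (.leaf (nat_lit 0x80180c0060100100301800c02) (nat_lit 516))
)) (.node (nat_lit 0x80180c0260100100341a00c02) (.leaf (nat_lit 0x80180c00609001003c1900c02) (nat_lit 772))
 (.node (nat_lit 0x80180c0260900100381b00c02) (.leaf (nat_lit 0x80180c0260100100341a00c02) (nat_lit 772))
 (.leaf (nat_lit 0x80180c0260900100381b00c02) (nat_lit 772))
))))) (.node (nat_lit 0x801c0d8060100100301804c12) (.node (nat_lit 0x801a0d0260100100741a04c02) (.node (nat_lit 0x801a050260900100381b04c02) (.node (nat_lit 0x801a0500609001007c1904c02) (.leaf (nat_lit 0x801a050060100100300804c02) (nat_lit 518))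
 (.node (nat_lit 0x801a050260100100740a04c02) (.leaf (nat_lit 0x801a0500609001007c1904c02) (nat_lit 770))
 (.leaf (nat_lit 0x801a050260100100740a04c02) (nat_lit 774))
)) (.node (nat_lit 0x801a0d0060100100301804c02) (.leaf (nat_lit 0x801a050260900100381b04c02) (nat_lit 774))
 (.node (nat_lit 0x801a0d00609001007c0904c02) (.leaf (nat_lit 0x801a0d0060100100301804c02) (nat_lit 772))
 (.leaf (nat_lit 0x801a0d00609001007c0904c02) (nat_lit 1028))
))) (.node (nat_lit 0x801c0580609001007c0904c12) (.node (nat_lit 0x801a0d0260900100380b04c02) (.leaf (nat_lit 0x801a0d0260100100741a04c02) (nat_lit 1028))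
 (.node (nat_lit 0x801c058060100100300804c12) (.leaf (nat_lit 0x801a0d0260900100380b04c02) (nat_lit 774))
 (.leaf (nat_lit 0x801c058060100100300804c12) (nat_lit 518))
)) (.node (nat_lit 0x801c058260100100341a04c12) (.leaf (nat_lit 0x801c0580609001007c0904c12) (nat_lit 770))
 (.node (nat_lit 0x801c058260900100781b04c12) (.leaf (nat_lit 0x801c058260100100341a04c12) (nat_lit 774))
 (.leaf (nat_lit 0x801c058260900100781b04c12) (nat_lit 774))
)))) (.node (nat_lit 0x801e048260100100741a00c12) (.node (nat_lit 0x801c0d8260900100780b04c12) (.node (nat_lit 0x801c0d80609001007c1904c12) (.leaf (nat_lit 0x801c0d8060100100301804c12) (nat_lit 772))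
 (.node (nat_lit 0x801c0d8260100100340a04c12) (.leaf (nat_lit 0x801c0d80609001007c1904c12) (nat_lit 1024))
 (.leaf (nat_lit 0x801c0d8260100100340a04c12) (nat_lit 774))
)) (.node (nat_lit 0x801e048060100100300800c12) (.leaf (nat_lit 0x801c0d8260900100780b04c12) (nat_lit 1028))
 (.node (nat_lit 0x801e0480609001003c1900c12) (.leaf (nat_lit 0x801e048060100100300800c12) (nat_lit 512))
 (.leaf (nat_lit 0x801e0480609001003c1900c12) (nat_lit 770))
))) (.node (nat_lit 0x801e0c80609001003c0900c12) (.node (nat_lit 0x801e048260900100780b00c12) (.leaf (nat_lit 0x801e048260100100741a00c12) (nat_lit 771))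
 (.node (nat_lit 0x801e0c8060100100301800c12) (.leaf (nat_lit 0x801e048260900100780b00c12) (nat_lit 1030))
 (.leaf (nat_lit 0x801e0c8060100100301800c12) (nat_lit 772))
)) (.node (nat_lit 0x801e0c8260100100740a00c12) (.leaf (nat_lit 0x801e0c80609001003c0900c12) (nat_lit 768))
 (.node (nat_lit 0x801e0c8260900100781b00c12) (.leaf (nat_lit 0x801e0c8260100100740a00c12) (nat_lit 1030))
 (.leaf (nat_lit 0x801e0c8260900100781b00c12) (nat_lit 1030))
))))))) (.node (nat_lit 0x8034038040080100600400811) (.node (nat_lit 0x802e068020180100500c04413) (.node (nat_lit 0x802a0f0020180100501c00413) (.node (nat_lit 0x80280e0220180100581f00403) (.node (nat_lit 0x80280602209801005c0d00403) (.node (nat_lit 0x8028060020980100540e00403) (.leaf (nat_lit 0x8028060020180100500c00403) (nat_lit 517))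
 (.node (nat_lit 0x8028060220180100580f00403) (.leaf (nat_lit 0x8028060020980100540e00403) (nat_lit 773))
 (.leaf (nat_lit 0x8028060220180100580f00403) (nat_lit 773))
)) (.node (nat_lit 0x80280e0020180100501c00403) (.leaf (nat_lit 0x80280602209801005c0d00403) (nat_lit 773))
 (.node (nat_lit 0x80280e0020980100541e00403) (.leaf (nat_lit 0x80280e0020180100501c00403) (nat_lit 519))
 (.leaf (nat_lit 0x80280e0020980100541e00403) (nat_lit 775))
))) (.node (nat_lit 0x802a070020980100541e00413) (.node (nat_lit 0x80280e02209801005c1d00403) (.leaf (nat_lit 0x80280e0220180100581f00403) (nat_lit 771))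
 (.node (nat_lit 0x802a070020180100500c00413) (.leaf (nat_lit 0x80280e02209801005c1d00403) (nat_lit 775))
 (.leaf (nat_lit 0x802a070020180100500c00413) (nat_lit 773))
)) (.node (nat_lit 0x802a070220180100181f00413) (.leaf (nat_lit 0x802a070020980100541e00413) (nat_lit 1029))
 (.node (nat_lit 0x802a0702209801001c0d00413) (.leaf (nat_lit 0x802a070220180100181f00413) (nat_lit 1025))
 (.leaf (nat_lit 0x802a0702209801001c0d00413) (nat_lit 775))
)))) (.node (nat_lit 0x802c078220180100180f04403) (.node (nat_lit 0x802a0f02209801001c1d00413) (.node (nat_lit 0x802a0f0020980100540e00413) (.leaf (nat_lit 0x802a0f0020180100501c00413) (nat_lit 775))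
 (.node (nat_lit 0x802a0f0220180100180f00413) (.leaf (nat_lit 0x802a0f0020980100540e00413) (nat_lit 1025))
 (.leaf (nat_lit 0x802a0f0220180100180f00413) (nat_lit 768))
)) (.node (nat_lit 0x802c078020180100500c04403) (.leaf (nat_lit 0x802a0f02209801001c1d00413) (nat_lit 1031))
 (.node (nat_lit 0x802c078020980100141e04403) (.leaf (nat_lit 0x802c078020180100500c04403) (nat_lit 773))
 (.leaf (nat_lit 0x802c078020980100141e04403) (nat_lit 1031))
))) (.node (nat_lit 0x802c0f8020980100140e04403) (.node (nat_lit 0x802c0782209801005c1d04403) (.leaf (nat_lit 0x802c078220180100180f04403) (nat_lit 769))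
 (.node (nat_lit 0x802c0f8020180100501c04403) (.leaf (nat_lit 0x802c0782209801005c1d04403) (nat_lit 1031))
 (.leaf (nat_lit 0x802c0f8020180100501c04403) (nat_lit 769))
)) (.node (nat_lit 0x802c0f8220180100181f04403) (.leaf (nat_lit 0x802c0f8020980100140e04403) (nat_lit 769))
 (.node (nat_lit 0x802c0f82209801005c0d04403) (.leaf (nat_lit 0x802c0f8220180100181f04403) (nat_lit 1024))
 (.leaf (nat_lit 0x802c0f82209801005c0d04403) (nat_lit 1031))
))))) (.node (nat_lit 0x80300a0040080100601400801) (.node (nat_lit 0x802e0e8220180100580f04413) (.node (nat_lit 0x802e0682209801001c1d04413) (.node (nat_lit 0x802e068020980100140e04413) (.leaf (nat_lit 0x802e068020180100500c04413) (nat_lit 773))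
 (.node (nat_lit 0x802e068220180100581f04413) (.leaf (nat_lit 0x802e068020980100140e04413) (nat_lit 775))
 (.leaf (nat_lit 0x802e068220180100581f04413) (nat_lit 1029))
)) (.node (nat_lit 0x802e0e8020180100501c04413) (.leaf (nat_lit 0x802e0682209801001c1d04413) (nat_lit 1029))
 (.node (nat_lit 0x802e0e8020980100141e04413) (.leaf (nat_lit 0x802e0e8020180100501c04413) (nat_lit 775))
 (.leaf (nat_lit 0x802e0e8020980100141e04413) (nat_lit 1031))
))) (.node (nat_lit 0x8030020040880100680700801) (.node (nat_lit 0x802e0e82209801001c0d04413) (.leaf (nat_lit 0x802e0e8220180100580f04413) (nat_lit 1027))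
 (.node (nat_lit 0x8030020040080100600400801) (.leaf (nat_lit 0x802e0e82209801001c0d04413) (nat_lit 775))
 (.leaf (nat_lit 0x8030020040080100600400801) (nat_lit 261))
)) (.node (nat_lit 0x80300202400801006c0500801) (.leaf (nat_lit 0x8030020040880100680700801) (nat_lit 517))
 (.node (nat_lit 0x8030020240880100640600801) (.leaf (nat_lit 0x80300202400801006c0500801) (nat_lit 517))
 (.leaf (nat_lit 0x8030020240880100640600801) (nat_lit 773))
)))) (.node (nat_lit 0x80320302400801006c1504811) (.node (nat_lit 0x80300a0240880100641600801) (.node (nat_lit 0x80300a0040880100681700801) (.leaf (nat_lit 0x80300a0040080100601400801) (nat_lit 517))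
 (.node (nat_lit 0x80300a02400801006c1500801) (.leaf (nat_lit 0x80300a0040880100681700801) (nat_lit 769))
 (.leaf (nat_lit 0x80300a02400801006c1500801) (nat_lit 768))
)) (.node (nat_lit 0x8032030040080100600404811) (.leaf (nat_lit 0x80300a0240880100641600801) (nat_lit 1026))
 (.node (nat_lit 0x8032030040880100280704811) (.leaf (nat_lit 0x8032030040080100600404811) (nat_lit 773))
 (.leaf (nat_lit 0x8032030040880100280704811) (nat_lit 769))
))) (.node (nat_lit 0x80320b0040880100281704811) (.node (nat_lit 0x8032030240880100241604811) (.leaf (nat_lit 0x80320302400801006c1504811) (nat_lit 769))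
 (.node (nat_lit 0x80320b0040080100601404811) (.leaf (nat_lit 0x8032030240880100241604811) (nat_lit 1026))
 (.leaf (nat_lit 0x80320b0040080100601404811) (nat_lit 1029))
)) (.node (nat_lit 0x80320b02400801006c0504811) (.leaf (nat_lit 0x80320b0040880100281704811) (nat_lit 769))
 (.node (nat_lit 0x80320b0240880100240604811) (.leaf (nat_lit 0x80320b02400801006c0504811) (nat_lit 768))
 (.leaf (nat_lit 0x80320b0240880100240604811) (nat_lit 1027))
)))))) (.node (nat_lit 0x803a050060100100700804c02) (.node (nat_lit 0x80360a8040080100601404801) (.node (nat_lit 0x80340b82400801002c0500811) (.node (nat_lit 0x8034038240880100240600811) (.node (nat_lit 0x8034038040880100681700811) (.leaf (nat_lit 0x8034038040080100600400811) (nat_lit 517))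
 (.node (nat_lit 0x80340382400801002c1500811) (.leaf (nat_lit 0x8034038040880100681700811) (nat_lit 773))
 (.leaf (nat_lit 0x80340382400801002c1500811) (nat_lit 773))
)) (.node (nat_lit 0x80340b8040080100601400811) (.leaf (nat_lit 0x8034038240880100240600811) (nat_lit 768))
 (.node (nat_lit 0x80340b8040880100680700811) (.leaf (nat_lit 0x80340b8040080100601400811) (nat_lit 773))
 (.leaf (nat_lit 0x80340b8040880100680700811) (nat_lit 773))
))) (.node (nat_lit 0x8036028040880100281704801) (.node (nat_lit 0x80340b8240880100241600811) (.leaf (nat_lit 0x80340b82400801002c0500811) (nat_lit 512))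
 (.node (nat_lit 0x8036028040080100600404801) (.leaf (nat_lit 0x80340b8240880100241600811) (nat_lit 770))
 (.leaf (nat_lit 0x8036028040080100600404801) (nat_lit 517))
)) (.node (nat_lit 0x80360282400801002c0504801) (.leaf (nat_lit 0x8036028040880100281704801) (nat_lit 773))
 (.node (nat_lit 0x8036028240880100641604801) (.leaf (nat_lit 0x80360282400801002c0504801) (nat_lit 513))
 (.leaf (nat_lit 0x8036028240880100641604801) (nat_lit 770))
)))) (.node (nat_lit 0x8038040260100100740a00c02) (.node (nat_lit 0x80360a8240880100640604801) (.node (nat_lit 0x80360a8040880100280704801) (.leaf (nat_lit 0x80360a8040080100601404801) (nat_lit 773))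
 (.node (nat_lit 0x80360a82400801002c1504801) (.leaf (nat_lit 0x80360a8040880100280704801) (nat_lit 513))
 (.leaf (nat_lit 0x80360a82400801002c1504801) (nat_lit 772))
)) (.node (nat_lit 0x8038040060100100700800c02) (.leaf (nat_lit 0x80360a8240880100640604801) (nat_lit 771))
 (.node (nat_lit 0x80380400609001007c0900c02) (.leaf (nat_lit 0x8038040060100100700800c02) (nat_lit 518))
 (.leaf (nat_lit 0x80380400609001007c0900c02) (nat_lit 770))
))) (.node (nat_lit 0x80380c00609001007c1900c02) (.node (nat_lit 0x8038040260900100780b00c02) (.leaf (nat_lit 0x8038040260100100740a00c02) (nat_lit 774))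
 (.node (nat_lit 0x80380c0060100100701800c02) (.leaf (nat_lit 0x8038040260900100780b00c02) (nat_lit 774))
 (.leaf (nat_lit 0x80380c0060100100701800c02) (nat_lit 518))
)) (.node (nat_lit 0x80380c0260100100741a00c02) (.leaf (nat_lit 0x80380c00609001007c1900c02) (nat_lit 770))
 (.node (nat_lit 0x80380c0260900100781b00c02) (.leaf (nat_lit 0x80380c0260100100741a00c02) (nat_lit 774))
 (.leaf (nat_lit 0x80380c0260900100781b00c02) (nat_lit 774))
))))) (.node (nat_lit 0x803c0d8060100100701804c12) (.node (nat_lit 0x803a0d0260100100341a04c02) (.node (nat_lit 0x803a050260900100781b04c02) (.node (nat_lit 0x803a0500609001003c1904c02) (.leaf (nat_lit 0x803a050060100100700804c02) (nat_lit 774))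
 (.node (nat_lit 0x803a050260100100340a04c02) (.leaf (nat_lit 0x803a0500609001003c1904c02) (nat_lit 1026))
 (.leaf (nat_lit 0x803a050260100100340a04c02) (nat_lit 774))
)) (.node (nat_lit 0x803a0d0060100100701804c02) (.leaf (nat_lit 0x803a050260900100781b04c02) (nat_lit 1030))
 (.node (nat_lit 0x803a0d00609001003c0904c02) (.leaf (nat_lit 0x803a0d0060100100701804c02) (nat_lit 774))
 (.leaf (nat_lit 0x803a0d00609001003c0904c02) (nat_lit 769))
))) (.node (nat_lit 0x803c0580609001003c0904c12) (.node (nat_lit 0x803a0d0260900100780b04c02) (.leaf (nat_lit 0x803a0d0260100100341a04c02) (nat_lit 1030))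
 (.node (nat_lit 0x803c058060100100700804c12) (.leaf (nat_lit 0x803a0d0260900100780b04c02) (nat_lit 1030))
 (.leaf (nat_lit 0x803c058060100100700804c12) (nat_lit 774))
)) (.node (nat_lit 0x803c058260100100741a04c12) (.leaf (nat_lit 0x803c0580609001003c0904c12) (nat_lit 1026))
 (.node (nat_lit 0x803c058260900100381b04c12) (.leaf (nat_lit 0x803c058260100100741a04c12) (nat_lit 1030))
 (.leaf (nat_lit 0x803c058260900100381b04c12) (nat_lit 1024))
)))) (.node (nat_lit 0x803e048260100100341a00c12) (.node (nat_lit 0x803c0d8260900100380b04c12) (.node (nat_lit 0x803c0d80609001003c1904c12) (.leaf (nat_lit 0x803c0d8060100100701804c12) (nat_lit 774))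
 (.node (nat_lit 0x803c0d8260100100740a04c12) (.leaf (nat_lit 0x803c0d80609001003c1904c12) (nat_lit 1026))
 (.leaf (nat_lit 0x803c0d8260100100740a04c12) (nat_lit 1024))
)) (.node (nat_lit 0x803e048060100100700800c12) (.leaf (nat_lit 0x803c0d8260900100380b04c12) (nat_lit 774))
 (.node (nat_lit 0x803e0480609001007c1900c12) (.leaf (nat_lit 0x803e048060100100700800c12) (nat_lit 768))
 (.leaf (nat_lit 0x803e0480609001007c1900c12) (nat_lit 1027))
))) (.node (nat_lit 0x803e0c80609001007c0900c12) (.node (nat_lit 0x803e048260900100380b00c12) (.leaf (nat_lit 0x803e048260100100341a00c12) (nat_lit 1030))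
 (.node (nat_lit 0x803e0c8060100100701800c12) (.leaf (nat_lit 0x803e048260900100380b00c12) (nat_lit 768))
 (.leaf (nat_lit 0x803e0c8060100100701800c12) (nat_lit 768))
)) (.node (nat_lit 0x803e0c8260100100340a00c12) (.leaf (nat_lit 0x803e0c80609001007c0900c12) (nat_lit 1025))
 (.node (nat_lit 0x803e0c8260900100381b00c12) (.leaf (nat_lit 0x803e0c8260100100340a00c12) (nat_lit 768))
 (.leaf (nat_lit 0x803e0c8260900100381b00c12) (nat_lit 1030))
))))))))

theorem H_ok : genOK B10.A [(nat_lit 0x8014038040080100200400811), (nat_lit 0x8016028040080100200404801), (nat_lit 0x8010020040880100280700801), (nat_lit 0x80100202400801002c0500801), (nat_lit 0x80100a0040080100201400801), (nat_lit 0x8030020040080100600400801), (nat_lit 0x8018040060100100300800c02), (nat_lit 0x8008060020180100100c00403)] H_t (nat_lit 192) = true := by decide +kernel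

noncomputable def B_t : ST :=
(.node (nat_lit 0x8030020040080100600400801) (.node (nat_lit 0x8014038040080100200400811) (.node (nat_lit 0x8012030040080100200404811) (.node (nat_lit 0x80100a0040080100201400801) (.node (nat_lit 0x80100202400801002c0500801) (.node (nat_lit 0x8010020040880100280700801) (.leaf (nat_lit 0x8010020040080100200400801) (nat_lit 0))
 (.leaf (nat_lit 0x8010020040880100280700801) (nat_lit 258))
) (.node (nat_lit 0x8010020240880100240600801) (.leaf (nat_lit 0x80100202400801002c0500801) (nat_lit 259))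
 (.leaf (nat_lit 0x8010020240880100240600801) (nat_lit 515))
)) (.node (nat_lit 0x80100a02400801002c1500801) (.node (nat_lit 0x80100a0040880100281700801) (.leaf (nat_lit 0x80100a0040080100201400801) (nat_lit 260))
 (.leaf (nat_lit 0x80100a0040880100281700801) (nat_lit 516))
) (.node (nat_lit 0x80100a0240880100241600801) (.leaf (nat_lit 0x80100a02400801002c1500801) (nat_lit 516))
 (.leaf (nat_lit 0x80100a0240880100241600801) (nat_lit 772))
))) (.node (nat_lit 0x80120b0040080100201404811) (.node (nat_lit 0x80120302400801002c1504811) (.node (nat_lit 0x8012030040880100680704811) (.leaf (nat_lit 0x8012030040080100200404811) (nat_lit 513))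
 (.leaf (nat_lit 0x8012030040880100680704811) (nat_lit 770))
) (.node (nat_lit 0x8012030240880100641604811) (.leaf (nat_lit 0x80120302400801002c1504811) (nat_lit 771))
 (.leaf (nat_lit 0x8012030240880100641604811) (nat_lit 1027))
)) (.node (nat_lit 0x80120b02400801002c0504811) (.node (nat_lit 0x80120b0040880100681704811) (.leaf (nat_lit 0x80120b0040080100201404811) (nat_lit 772))
 (.leaf (nat_lit 0x80120b0040880100681704811) (nat_lit 768))
) (.node (nat_lit 0x80120b0240880100640604811) (.leaf (nat_lit 0x80120b02400801002c0504811) (nat_lit 769))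
 (.leaf (nat_lit 0x80120b0240880100640604811) (nat_lit 1025))
)))) (.node (nat_lit 0x8016028040080100200404801) (.node (nat_lit 0x80140b8040080100201400811) (.node (nat_lit 0x80140382400801006c1500811) (.node (nat_lit 0x8014038040880100281700811) (.leaf (nat_lit 0x8014038040080100200400811) (nat_lit 256))
 (.leaf (nat_lit 0x8014038040880100281700811) (nat_lit 514))
) (.node (nat_lit 0x8014038240880100640600811) (.leaf (nat_lit 0x80140382400801006c1500811) (nat_lit 515))
 (.leaf (nat_lit 0x8014038240880100640600811) (nat_lit 771))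
)) (.node (nat_lit 0x80140b82400801006c0500811) (.node (nat_lit 0x80140b8040880100280700811) (.leaf (nat_lit 0x80140b8040080100201400811) (nat_lit 516))
 (.leaf (nat_lit 0x80140b8040880100280700811) (nat_lit 512))
) (.node (nat_lit 0x80140b8240880100641600811) (.leaf (nat_lit 0x80140b82400801006c0500811) (nat_lit 772))
 (.leaf (nat_lit 0x80140b8240880100641600811) (nat_lit 771))
))) (.node (nat_lit 0x80160a8040080100201404801) (.node (nat_lit 0x80160282400801006c0504801) (.node (nat_lit 0x8016028040880100681704801) (.leaf (nat_lit 0x8016028040080100200404801) (nat_lit 257))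
 (.leaf (nat_lit 0x8016028040880100681704801) (nat_lit 514))
) (.node (nat_lit 0x8016028240880100241604801) (.leaf (nat_lit 0x80160282400801006c0504801) (nat_lit 515))
 (.leaf (nat_lit 0x8016028240880100241604801) (nat_lit 771))
)) (.node (nat_lit 0x80160a82400801006c1504801) (.node (nat_lit 0x80160a8040880100680704801) (.leaf (nat_lit 0x80160a8040080100201404801) (nat_lit 516))
 (.leaf (nat_lit 0x80160a8040880100680704801) (nat_lit 772))
) (.node (nat_lit 0x80160a8240880100240604801) (.leaf (nat_lit 0x80160a82400801006c1504801) (nat_lit 772))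
 (.leaf (nat_lit 0x80160a8240880100240604801) (nat_lit 769))
))))) (.node (nat_lit 0x8034038040080100600400811) (.node (nat_lit 0x8032030040080100600404811) (.node (nat_lit 0x80300a0040080100601400801) (.node (nat_lit 0x80300202400801006c0500801) (.node (nat_lit 0x8030020040880100680700801) (.leaf (nat_lit 0x8030020040080100600400801) (nat_lit 261))
 (.leaf (nat_lit 0x8030020040880100680700801) (nat_lit 517))
) (.node (nat_lit 0x8030020240880100640600801) (.leaf (nat_lit 0x80300202400801006c0500801) (nat_lit 517))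
 (.leaf (nat_lit 0x8030020240880100640600801) (nat_lit 773))
)) (.node (nat_lit 0x80300a02400801006c1500801) (.node (nat_lit 0x80300a0040880100681700801) (.leaf (nat_lit 0x80300a0040080100601400801) (nat_lit 517))
 (.leaf (nat_lit 0x80300a0040880100681700801) (nat_lit 769))
) (.node (nat_lit 0x80300a0240880100641600801) (.leaf (nat_lit 0x80300a02400801006c1500801) (nat_lit 768))
 (.leaf (nat_lit 0x80300a0240880100641600801) (nat_lit 1026))
))) (.node (nat_lit 0x80320b0040080100601404811) (.node (nat_lit 0x80320302400801006c1504811) (.node (nat_lit 0x8032030040880100280704811) (.leaf (nat_lit 0x8032030040080100600404811) (nat_lit 773))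
 (.leaf (nat_lit 0x8032030040880100280704811) (nat_lit 769))
) (.node (nat_lit 0x8032030240880100241604811) (.leaf (nat_lit 0x80320302400801006c1504811) (nat_lit 769))
 (.leaf (nat_lit 0x8032030240880100241604811) (nat_lit 1026))
)) (.node (nat_lit 0x80320b02400801006c0504811) (.node (nat_lit 0x80320b0040880100281704811) (.leaf (nat_lit 0x80320b0040080100601404811) (nat_lit 1029))
 (.leaf (nat_lit 0x80320b0040880100281704811) (nat_lit 769))
) (.node (nat_lit 0x80320b0240880100240604811) (.leaf (nat_lit 0x80320b02400801006c0504811) (nat_lit 768))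
 (.leaf (nat_lit 0x80320b0240880100240604811) (nat_lit 1027))
)))) (.node (nat_lit 0x8036028040080100600404801) (.node (nat_lit 0x80340b8040080100601400811) (.node (nat_lit 0x80340382400801002c1500811) (.node (nat_lit 0x8034038040880100681700811) (.leaf (nat_lit 0x8034038040080100600400811) (nat_lit 517))
 (.leaf (nat_lit 0x8034038040880100681700811) (nat_lit 773))
) (.node (nat_lit 0x8034038240880100240600811) (.leaf (nat_lit 0x80340382400801002c1500811) (nat_lit 773))
 (.leaf (nat_lit 0x8034038240880100240600811) (nat_lit 768))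
)) (.node (nat_lit 0x80340b82400801002c0500811) (.node (nat_lit 0x80340b8040880100680700811) (.leaf (nat_lit 0x80340b8040080100601400811) (nat_lit 773))
 (.leaf (nat_lit 0x80340b8040880100680700811) (nat_lit 773))
) (.node (nat_lit 0x80340b8240880100241600811) (.leaf (nat_lit 0x80340b82400801002c0500811) (nat_lit 512))
 (.leaf (nat_lit 0x80340b8240880100241600811) (nat_lit 770))
))) (.node (nat_lit 0x80360a8040080100601404801) (.node (nat_lit 0x80360282400801002c0504801) (.node (nat_lit 0x8036028040880100281704801) (.leaf (nat_lit 0x8036028040080100600404801) (nat_lit 517))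
 (.leaf (nat_lit 0x8036028040880100281704801) (nat_lit 773))
) (.node (nat_lit 0x8036028240880100641604801) (.leaf (nat_lit 0x80360282400801002c0504801) (nat_lit 513))
 (.leaf (nat_lit 0x8036028240880100641604801) (nat_lit 770))
)) (.node (nat_lit 0x80360a82400801002c1504801) (.node (nat_lit 0x80360a8040880100280704801) (.leaf (nat_lit 0x80360a8040080100601404801) (nat_lit 773))
 (.leaf (nat_lit 0x80360a8040880100280704801) (nat_lit 513))
) (.node (nat_lit 0x80360a8240880100640604801) (.leaf (nat_lit 0x80360a82400801002c1504801) (nat_lit 772))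
 (.leaf (nat_lit 0x80360a8240880100640604801) (nat_lit 771))
))))))

theorem B_ok : genOK B10.A [(nat_lit 0x8014038040080100200400811), (nat_lit 0x8016028040080100200404801), (nat_lit 0x8010020040880100280700801), (nat_lit 0x80100202400801002c0500801), (nat_lit 0x80100a0040080100201400801), (nat_lit 0x8030020040080100600400801)] B_t (nat_lit 64) = true := by decide +kernel

noncomputable def V_t : ST :=
(.node (nat_lit 0x8030020040080100600400801) (.node (nat_lit 0x8014038040080100200400811) (.node (nat_lit 0x8012030040080100200404811) (.node (nat_lit 0x80100a0040080100201400801) (.leaf (nat_lit 0x8010020040080100200400801) (nat_lit 0))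
 (.leaf (nat_lit 0x80100a0040080100201400801) (nat_lit 258))
) (.node (nat_lit 0x80120b0040080100201404811) (.leaf (nat_lit 0x8012030040080100200404811) (nat_lit 513))
 (.leaf (nat_lit 0x80120b0040080100201404811) (nat_lit 770))
)) (.node (nat_lit 0x8016028040080100200404801) (.node (nat_lit 0x80140b8040080100201400811) (.leaf (nat_lit 0x8014038040080100200400811) (nat_lit 256))
 (.leaf (nat_lit 0x80140b8040080100201400811) (nat_lit 514))
) (.node (nat_lit 0x80160a8040080100201404801) (.leaf (nat_lit 0x8016028040080100200404801) (nat_lit 257))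
 (.leaf (nat_lit 0x80160a8040080100201404801) (nat_lit 514))
))) (.node (nat_lit 0x8034038040080100600400811) (.node (nat_lit 0x8032030040080100600404811) (.node (nat_lit 0x80300a0040080100601400801) (.leaf (nat_lit 0x8030020040080100600400801) (nat_lit 259))
 (.leaf (nat_lit 0x80300a0040080100601400801) (nat_lit 515))
) (.node (nat_lit 0x80320b0040080100601404811) (.leaf (nat_lit 0x8032030040080100600404811) (nat_lit 771))
 (.leaf (nat_lit 0x80320b0040080100601404811) (nat_lit 1027))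
)) (.node (nat_lit 0x8036028040080100600404801) (.node (nat_lit 0x80340b8040080100601400811) (.leaf (nat_lit 0x8034038040080100600400811) (nat_lit 515))
 (.leaf (nat_lit 0x80340b8040080100601400811) (nat_lit 771))
) (.node (nat_lit 0x80360a8040080100601404801) (.leaf (nat_lit 0x8036028040080100600404801) (nat_lit 515))
 (.leaf (nat_lit 0x80360a8040080100601404801) (nat_lit 771))
))))

theorem V_ok : genOK B10.A [(nat_lit 0x8014038040080100200400811), (nat_lit 0x8016028040080100200404801), (nat_lit 0x80100a0040080100201400801), (nat_lit 0x8030020040080100600400801)] V_t (nat_lit 16) = true := by decide +kernel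

noncomputable def W_t : ST :=
(.node (nat_lit 0x8030020040080100600400801) (.node (nat_lit 0x80100a0040080100201400801) (.node (nat_lit 0x80100202400801002c0500801) (.node (nat_lit 0x8010020040880100280700801) (.leaf (nat_lit 0x8010020040080100200400801) (nat_lit 0))
 (.leaf (nat_lit 0x8010020040880100280700801) (nat_lit 256))
) (.node (nat_lit 0x8010020240880100240600801) (.leaf (nat_lit 0x80100202400801002c0500801) (nat_lit 257))
 (.leaf (nat_lit 0x8010020240880100240600801) (nat_lit 513))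
)) (.node (nat_lit 0x80100a02400801002c1500801) (.node (nat_lit 0x80100a0040880100281700801) (.leaf (nat_lit 0x80100a0040080100201400801) (nat_lit 258))
 (.leaf (nat_lit 0x80100a0040880100281700801) (nat_lit 514))
) (.node (nat_lit 0x80100a0240880100241600801) (.leaf (nat_lit 0x80100a02400801002c1500801) (nat_lit 514))
 (.leaf (nat_lit 0x80100a0240880100241600801) (nat_lit 770))
))) (.node (nat_lit 0x80300a0040080100601400801) (.node (nat_lit 0x80300202400801006c0500801) (.node (nat_lit 0x8030020040880100680700801) (.leaf (nat_lit 0x8030020040080100600400801) (nat_lit 259))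
 (.leaf (nat_lit 0x8030020040880100680700801) (nat_lit 515))
) (.node (nat_lit 0x8030020240880100640600801) (.leaf (nat_lit 0x80300202400801006c0500801) (nat_lit 515))
 (.leaf (nat_lit 0x8030020240880100640600801) (nat_lit 771))
)) (.node (nat_lit 0x80300a02400801006c1500801) (.node (nat_lit 0x80300a0040880100681700801) (.leaf (nat_lit 0x80300a0040080100601400801) (nat_lit 515))
 (.leaf (nat_lit 0x80300a0040880100681700801) (nat_lit 771))
) (.node (nat_lit 0x80300a0240880100641600801) (.leaf (nat_lit 0x80300a02400801006c1500801) (nat_lit 771))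
 (.leaf (nat_lit 0x80300a0240880100641600801) (nat_lit 1027))
))))

theorem W_ok : genOK B10.A [(nat_lit 0x8010020040880100280700801), (nat_lit 0x80100202400801002c0500801), (nat_lit 0x80100a0040080100201400801), (nat_lit 0x8030020040080100600400801)] W_t (nat_lit 16) = true := by decide +kernel

noncomputable def Z_t : ST :=
(.node (nat_lit 0x8030020040080100600400801) (.node (nat_lit 0x80100a0040080100201400801) (.leaf (nat_lit 0x8010020040080100200400801) (nat_lit 0))
 (.leaf (nat_lit 0x80100a0040080100201400801) (nat_lit 256))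
) (.node (nat_lit 0x80300a0040080100601400801) (.leaf (nat_lit 0x8030020040080100600400801) (nat_lit 257))
 (.leaf (nat_lit 0x80300a0040080100601400801) (nat_lit 513))
))

theorem Z_ok : genOK B10.A [(nat_lit 0x80100a0040080100201400801), (nat_lit 0x8030020040080100600400801)] Z_t (nat_lit 4) = true := by decide +kernel

noncomputable def S_t : ST :=
(.node (nat_lit 0x8030020040080100600400801) (.node (nat_lit 0x8014038040080100200400811) (.node (nat_lit 0x8012030040080100200404811) (.node (nat_lit 0x80100a0040080100201400801) (.node (nat_lit 0x8010060040180100200c00803) (.node (nat_lit 0x80100202400801002c0500801) (.node (nat_lit 0x8010020040880100280700801) (.leaf (nat_lit 0x8010020040080100200400801) (nat_lit 0))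
 (.leaf (nat_lit 0x8010020040880100280700801) (nat_lit 258))
) (.node (nat_lit 0x8010020240880100240600801) (.leaf (nat_lit 0x80100202400801002c0500801) (nat_lit 259))
 (.leaf (nat_lit 0x8010020240880100240600801) (nat_lit 515))
)) (.node (nat_lit 0x8010060240180100240f00803) (.node (nat_lit 0x8010060040980100280d00803) (.leaf (nat_lit 0x8010060040180100200c00803) (nat_lit 262))
 (.leaf (nat_lit 0x8010060040980100280d00803) (nat_lit 518))
) (.node (nat_lit 0x80100602409801002c0e00803) (.leaf (nat_lit 0x8010060240180100240f00803) (nat_lit 515))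
 (.leaf (nat_lit 0x80100602409801002c0e00803) (nat_lit 518))
))) (.node (nat_lit 0x80100e0040180100201c00803) (.node (nat_lit 0x80100a02400801002c1500801) (.node (nat_lit 0x80100a0040880100281700801) (.leaf (nat_lit 0x80100a0040080100201400801) (nat_lit 260))
 (.leaf (nat_lit 0x80100a0040880100281700801) (nat_lit 516))
) (.node (nat_lit 0x80100a0240880100241600801) (.leaf (nat_lit 0x80100a02400801002c1500801) (nat_lit 516))
 (.leaf (nat_lit 0x80100a0240880100241600801) (nat_lit 772))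
)) (.node (nat_lit 0x80100e0240180100241f00803) (.node (nat_lit 0x80100e0040980100281d00803) (.leaf (nat_lit 0x80100e0040180100201c00803) (nat_lit 518))
 (.leaf (nat_lit 0x80100e0040980100281d00803) (nat_lit 774))
) (.node (nat_lit 0x80100e02409801002c1e00803) (.leaf (nat_lit 0x80100e0240180100241f00803) (nat_lit 771))
 (.leaf (nat_lit 0x80100e02409801002c1e00803) (nat_lit 774))
)))) (.node (nat_lit 0x80120b0040080100201404811) (.node (nat_lit 0x8012078040180100200c04803) (.node (nat_lit 0x80120302400801002c1504811) (.node (nat_lit 0x8012030040880100680704811) (.leaf (nat_lit 0x8012030040080100200404811) (nat_lit 513))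
 (.leaf (nat_lit 0x8012030040880100680704811) (nat_lit 770))
) (.node (nat_lit 0x8012030240880100641604811) (.leaf (nat_lit 0x80120302400801002c1504811) (nat_lit 771))
 (.leaf (nat_lit 0x8012030240880100641604811) (nat_lit 1027))
)) (.node (nat_lit 0x8012078240180100640f04803) (.node (nat_lit 0x8012078040980100681d04803) (.leaf (nat_lit 0x8012078040180100200c04803) (nat_lit 513))
 (.leaf (nat_lit 0x8012078040980100681d04803) (nat_lit 770))
) (.node (nat_lit 0x80120782409801002c1e04803) (.leaf (nat_lit 0x8012078240180100640f04803) (nat_lit 771))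
 (.leaf (nat_lit 0x80120782409801002c1e04803) (nat_lit 1030))
))) (.node (nat_lit 0x80120f8040180100201c04803) (.node (nat_lit 0x80120b02400801002c0504811) (.node (nat_lit 0x80120b0040880100681704811) (.leaf (nat_lit 0x80120b0040080100201404811) (nat_lit 772))
 (.leaf (nat_lit 0x80120b0040880100681704811) (nat_lit 768))
) (.node (nat_lit 0x80120b0240880100640604811) (.leaf (nat_lit 0x80120b02400801002c0504811) (nat_lit 769))
 (.leaf (nat_lit 0x80120b0240880100640604811) (nat_lit 1025))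
)) (.node (nat_lit 0x80120f8240180100641f04803) (.node (nat_lit 0x80120f8040980100680d04803) (.leaf (nat_lit 0x80120f8040180100201c04803) (nat_lit 769))
 (.leaf (nat_lit 0x80120f8040980100680d04803) (nat_lit 1030))
) (.node (nat_lit 0x80120f82409801002c0e04803) (.leaf (nat_lit 0x80120f8240180100641f04803) (nat_lit 1026))
 (.leaf (nat_lit 0x80120f82409801002c0e04803) (nat_lit 769))
))))) (.node (nat_lit 0x8016028040080100200404801) (.node (nat_lit 0x80140b8040080100201400811) (.node (nat_lit 0x8014068040180100200c00813) (.node (nat_lit 0x80140382400801006c1500811) (.node (nat_lit 0x8014038040880100281700811) (.leaf (nat_lit 0x8014038040080100200400811) (nat_lit 256))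
 (.leaf (nat_lit 0x8014038040880100281700811) (nat_lit 514))
) (.node (nat_lit 0x8014038240880100640600811) (.leaf (nat_lit 0x80140382400801006c1500811) (nat_lit 515))
 (.leaf (nat_lit 0x8014038240880100640600811) (nat_lit 771))
)) (.node (nat_lit 0x8014068240180100641f00813) (.node (nat_lit 0x8014068040980100281d00813) (.leaf (nat_lit 0x8014068040180100200c00813) (nat_lit 518))
 (.leaf (nat_lit 0x8014068040980100281d00813) (nat_lit 774))
) (.node (nat_lit 0x80140682409801006c0e00813) (.leaf (nat_lit 0x8014068240180100641f00813) (nat_lit 771))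
 (.leaf (nat_lit 0x80140682409801006c0e00813) (nat_lit 774))
))) (.node (nat_lit 0x80140e8040180100201c00813) (.node (nat_lit 0x80140b82400801006c0500811) (.node (nat_lit 0x80140b8040880100280700811) (.leaf (nat_lit 0x80140b8040080100201400811) (nat_lit 516))
 (.leaf (nat_lit 0x80140b8040880100280700811) (nat_lit 512))
) (.node (nat_lit 0x80140b8240880100641600811) (.leaf (nat_lit 0x80140b82400801006c0500811) (nat_lit 772))
 (.leaf (nat_lit 0x80140b8240880100641600811) (nat_lit 771))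
)) (.node (nat_lit 0x80140e8240180100640f00813) (.node (nat_lit 0x80140e8040980100280d00813) (.leaf (nat_lit 0x80140e8040180100201c00813) (nat_lit 774))
 (.leaf (nat_lit 0x80140e8040980100280d00813) (nat_lit 774))
) (.node (nat_lit 0x80140e82409801006c1e00813) (.leaf (nat_lit 0x80140e8240180100640f00813) (nat_lit 1027))
 (.leaf (nat_lit 0x80140e82409801006c1e00813) (nat_lit 1030))
)))) (.node (nat_lit 0x80160a8040080100201404801) (.node (nat_lit 0x8016070040180100200c04813) (.node (nat_lit 0x80160282400801006c0504801) (.node (nat_lit 0x8016028040880100681704801) (.leaf (nat_lit 0x8016028040080100200404801) (nat_lit 257))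
 (.leaf (nat_lit 0x8016028040880100681704801) (nat_lit 514))
) (.node (nat_lit 0x8016028240880100241604801) (.leaf (nat_lit 0x80160282400801006c0504801) (nat_lit 515))
 (.leaf (nat_lit 0x8016028240880100241604801) (nat_lit 771))
)) (.node (nat_lit 0x8016070240180100241f04813) (.node (nat_lit 0x8016070040980100680d04813) (.leaf (nat_lit 0x8016070040180100200c04813) (nat_lit 518))
 (.leaf (nat_lit 0x8016070040980100680d04813) (nat_lit 774))
) (.node (nat_lit 0x80160702409801006c1e04813) (.leaf (nat_lit 0x8016070240180100241f04813) (nat_lit 771))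
 (.leaf (nat_lit 0x80160702409801006c1e04813) (nat_lit 774))
))) (.node (nat_lit 0x80160f0040180100201c04813) (.node (nat_lit 0x80160a82400801006c1504801) (.node (nat_lit 0x80160a8040880100680704801) (.leaf (nat_lit 0x80160a8040080100201404801) (nat_lit 516))
 (.leaf (nat_lit 0x80160a8040880100680704801) (nat_lit 772))
) (.node (nat_lit 0x80160a8240880100240604801) (.leaf (nat_lit 0x80160a82400801006c1504801) (nat_lit 772))
 (.leaf (nat_lit 0x80160a8240880100240604801) (nat_lit 769))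
)) (.node (nat_lit 0x80160f0240180100240f04813) (.node (nat_lit 0x80160f0040980100681d04813) (.leaf (nat_lit 0x80160f0040180100201c04813) (nat_lit 774))
 (.leaf (nat_lit 0x80160f0040980100681d04813) (nat_lit 1030))
) (.node (nat_lit 0x80160f02409801006c0e04813) (.leaf (nat_lit 0x80160f0240180100240f04813) (nat_lit 1027))
 (.leaf (nat_lit 0x80160f02409801006c0e04813) (nat_lit 1025))
)))))) (.node (nat_lit 0x8034038040080100600400811) (.node (nat_lit 0x8032030040080100600404811) (.node (nat_lit 0x80300a0040080100601400801) (.node (nat_lit 0x8030060040180100600c00803) (.node (nat_lit 0x80300202400801006c0500801) (.node (nat_lit 0x8030020040880100680700801) (.leaf (nat_lit 0x8030020040080100600400801) (nat_lit 261))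
 (.leaf (nat_lit 0x8030020040880100680700801) (nat_lit 517))
) (.node (nat_lit 0x8030020240880100640600801) (.leaf (nat_lit 0x80300202400801006c0500801) (nat_lit 517))
 (.leaf (nat_lit 0x8030020240880100640600801) (nat_lit 773))
)) (.node (nat_lit 0x8030060240180100640f00803) (.node (nat_lit 0x8030060040980100680d00803) (.leaf (nat_lit 0x8030060040180100600c00803) (nat_lit 517))
 (.leaf (nat_lit 0x8030060040980100680d00803) (nat_lit 773))
) (.node (nat_lit 0x80300602409801006c0e00803) (.leaf (nat_lit 0x8030060240180100640f00803) (nat_lit 773))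
 (.leaf (nat_lit 0x80300602409801006c0e00803) (nat_lit 773))
))) (.node (nat_lit 0x80300e0040180100601c00803) (.node (nat_lit 0x80300a02400801006c1500801) (.node (nat_lit 0x80300a0040880100681700801) (.leaf (nat_lit 0x80300a0040080100601400801) (nat_lit 517))
 (.leaf (nat_lit 0x80300a0040880100681700801) (nat_lit 769))
) (.node (nat_lit 0x80300a0240880100641600801) (.leaf (nat_lit 0x80300a02400801006c1500801) (nat_lit 768))
 (.leaf (nat_lit 0x80300a0240880100641600801) (nat_lit 1026))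
)) (.node (nat_lit 0x80300e0240180100641f00803) (.node (nat_lit 0x80300e0040980100681d00803) (.leaf (nat_lit 0x80300e0040180100601c00803) (nat_lit 518))
 (.leaf (nat_lit 0x80300e0040980100681d00803) (nat_lit 774))
) (.node (nat_lit 0x80300e02409801006c1e00803) (.leaf (nat_lit 0x80300e0240180100641f00803) (nat_lit 771))
 (.leaf (nat_lit 0x80300e02409801006c1e00803) (nat_lit 774))
)))) (.node (nat_lit 0x80320b0040080100601404811) (.node (nat_lit 0x8032078040180100600c04803) (.node (nat_lit 0x80320302400801006c1504811) (.node (nat_lit 0x8032030040880100280704811) (.leaf (nat_lit 0x8032030040080100600404811) (nat_lit 773))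
 (.leaf (nat_lit 0x8032030040880100280704811) (nat_lit 769))
) (.node (nat_lit 0x8032030240880100241604811) (.leaf (nat_lit 0x80320302400801006c1504811) (nat_lit 769))
 (.leaf (nat_lit 0x8032030240880100241604811) (nat_lit 1026))
)) (.node (nat_lit 0x8032078240180100240f04803) (.node (nat_lit 0x8032078040980100281d04803) (.leaf (nat_lit 0x8032078040180100600c04803) (nat_lit 773))
 (.leaf (nat_lit 0x8032078040980100281d04803) (nat_lit 1030))
) (.node (nat_lit 0x80320782409801006c1e04803) (.leaf (nat_lit 0x8032078240180100240f04803) (nat_lit 769))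
 (.leaf (nat_lit 0x80320782409801006c1e04803) (nat_lit 1030))
))) (.node (nat_lit 0x80320f8040180100601c04803) (.node (nat_lit 0x80320b02400801006c0504811) (.node (nat_lit 0x80320b0040880100281704811) (.leaf (nat_lit 0x80320b0040080100601404811) (nat_lit 1029))
 (.leaf (nat_lit 0x80320b0040880100281704811) (nat_lit 769))
) (.node (nat_lit 0x80320b0240880100240604811) (.leaf (nat_lit 0x80320b02400801006c0504811) (nat_lit 768))
 (.leaf (nat_lit 0x80320b0240880100240604811) (nat_lit 1027))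
)) (.node (nat_lit 0x80320f8240180100241f04803) (.node (nat_lit 0x80320f8040980100280d04803) (.leaf (nat_lit 0x80320f8040180100601c04803) (nat_lit 769))
 (.leaf (nat_lit 0x80320f8040980100280d04803) (nat_lit 769))
) (.node (nat_lit 0x80320f82409801006c0e04803) (.leaf (nat_lit 0x80320f8240180100241f04803) (nat_lit 1024))
 (.leaf (nat_lit 0x80320f82409801006c0e04803) (nat_lit 1030))
))))) (.node (nat_lit 0x8036028040080100600404801) (.node (nat_lit 0x80340b8040080100601400811) (.node (nat_lit 0x8034068040180100600c00813) (.node (nat_lit 0x80340382400801002c1500811) (.node (nat_lit 0x8034038040880100681700811) (.leaf (nat_lit 0x8034038040080100600400811) (nat_lit 517))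
 (.leaf (nat_lit 0x8034038040880100681700811) (nat_lit 773))
) (.node (nat_lit 0x8034038240880100240600811) (.leaf (nat_lit 0x80340382400801002c1500811) (nat_lit 773))
 (.leaf (nat_lit 0x8034038240880100240600811) (nat_lit 768))
)) (.node (nat_lit 0x8034068240180100241f00813) (.node (nat_lit 0x8034068040980100681d00813) (.leaf (nat_lit 0x8034068040180100600c00813) (nat_lit 773))
 (.leaf (nat_lit 0x8034068040980100681d00813) (nat_lit 1029))
) (.node (nat_lit 0x80340682409801002c0e00813) (.leaf (nat_lit 0x8034068240180100241f00813) (nat_lit 1029))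
 (.leaf (nat_lit 0x80340682409801002c0e00813) (nat_lit 774))
))) (.node (nat_lit 0x80340e8040180100601c00813) (.node (nat_lit 0x80340b82400801002c0500811) (.node (nat_lit 0x80340b8040880100680700811) (.leaf (nat_lit 0x80340b8040080100601400811) (nat_lit 773))
 (.leaf (nat_lit 0x80340b8040880100680700811) (nat_lit 773))
) (.node (nat_lit 0x80340b8240880100241600811) (.leaf (nat_lit 0x80340b82400801002c0500811) (nat_lit 512))
 (.leaf (nat_lit 0x80340b8240880100241600811) (nat_lit 770))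
)) (.node (nat_lit 0x80340e8240180100240f00813) (.node (nat_lit 0x80340e8040980100680d00813) (.leaf (nat_lit 0x80340e8040180100601c00813) (nat_lit 774))
 (.leaf (nat_lit 0x80340e8040980100680d00813) (nat_lit 1030))
) (.node (nat_lit 0x80340e82409801002c1e00813) (.leaf (nat_lit 0x80340e8240180100240f00813) (nat_lit 768))
 (.leaf (nat_lit 0x80340e82409801002c1e00813) (nat_lit 1030))
)))) (.node (nat_lit 0x80360a8040080100601404801) (.node (nat_lit 0x8036070040180100600c04813) (.node (nat_lit 0x80360282400801002c0504801) (.node (nat_lit 0x8036028040880100281704801) (.leaf (nat_lit 0x8036028040080100600404801) (nat_lit 517))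
 (.leaf (nat_lit 0x8036028040880100281704801) (nat_lit 773))
) (.node (nat_lit 0x8036028240880100641604801) (.leaf (nat_lit 0x80360282400801002c0504801) (nat_lit 513))
 (.leaf (nat_lit 0x8036028240880100641604801) (nat_lit 770))
)) (.node (nat_lit 0x8036070240180100641f04813) (.node (nat_lit 0x8036070040980100280d04813) (.leaf (nat_lit 0x8036070040180100600c04813) (nat_lit 773))
 (.leaf (nat_lit 0x8036070040980100280d04813) (nat_lit 774))
) (.node (nat_lit 0x80360702409801002c1e04813) (.leaf (nat_lit 0x8036070240180100641f04813) (nat_lit 1025))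
 (.leaf (nat_lit 0x80360702409801002c1e04813) (nat_lit 1029))
))) (.node (nat_lit 0x80360f0040180100601c04813) (.node (nat_lit 0x80360a82400801002c1504801) (.node (nat_lit 0x80360a8040880100280704801) (.leaf (nat_lit 0x80360a8040080100601404801) (nat_lit 773))
 (.leaf (nat_lit 0x80360a8040880100280704801) (nat_lit 513))
) (.node (nat_lit 0x80360a8240880100640604801) (.leaf (nat_lit 0x80360a82400801002c1504801) (nat_lit 772))
 (.leaf (nat_lit 0x80360a8240880100640604801) (nat_lit 771))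
)) (.node (nat_lit 0x80360f0240180100640f04813) (.node (nat_lit 0x80360f0040980100281d04813) (.leaf (nat_lit 0x80360f0040180100601c04813) (nat_lit 774))
 (.leaf (nat_lit 0x80360f0040980100281d04813) (nat_lit 1025))
) (.node (nat_lit 0x80360f02409801002c0e04813) (.leaf (nat_lit 0x80360f0240180100640f04813) (nat_lit 1027))
 (.leaf (nat_lit 0x80360f02409801002c0e04813) (nat_lit 774))
)))))))

theorem S_ok : genOK B10.A [(nat_lit 0x8014038040080100200400811), (nat_lit 0x8016028040080100200404801), (nat_lit 0x8010020040880100280700801), (nat_lit 0x80100202400801002c0500801), (nat_lit 0x80100a0040080100201400801), (nat_lit 0x8030020040080100600400801), (nat_lit 0x8010060040180100200c00803)] S_t (nat_lit 128) = true := by decide +kernel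

noncomputable def TG_t : ST :=
(.node (nat_lit 0x8010020040080100200400801) (.node (nat_lit 0x40180100200600c008010020) (.node (nat_lit 0x400a01c02006004008010220) (.node (nat_lit 0x400901802006004008090220) (.node (nat_lit 0x400805002006004028010020) (.node (nat_lit 0x40080101200600580a010020) (.node (nat_lit 0x40080100204600500e010020) (.leaf (nat_lit 0x400801002006004008010020) (nat_lit 262))
 (.leaf (nat_lit 0x40080100204600500e010020) (nat_lit 518))
) (.node (nat_lit 0x40080101204600480c010020) (.leaf (nat_lit 0x40080101200600580a010020) (nat_lit 518))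
 (.leaf (nat_lit 0x40080101204600480c010020) (nat_lit 774))
)) (.node (nat_lit 0x40080501200600582a010020) (.node (nat_lit 0x40080500204600502e010020) (.leaf (nat_lit 0x400805002006004028010020) (nat_lit 518))
 (.leaf (nat_lit 0x40080500204600502e010020) (nat_lit 774))
) (.node (nat_lit 0x40080501204600482c010020) (.leaf (nat_lit 0x40080501200600582a010020) (nat_lit 774))
 (.leaf (nat_lit 0x40080501204600482c010020) (nat_lit 1030))
))) (.node (nat_lit 0x400905802006004028090220) (.node (nat_lit 0x40090181200600582a090220) (.node (nat_lit 0x40090180204600d00e090220) (.leaf (nat_lit 0x400901802006004008090220) (nat_lit 774))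
 (.leaf (nat_lit 0x40090180204600d00e090220) (nat_lit 1030))
) (.node (nat_lit 0x40090181204600c82c090220) (.leaf (nat_lit 0x40090181200600582a090220) (nat_lit 1030))
 (.leaf (nat_lit 0x40090181204600c82c090220) (nat_lit 1286))
)) (.node (nat_lit 0x40090581200600580a090220) (.node (nat_lit 0x40090580204600d02e090220) (.leaf (nat_lit 0x400905802006004028090220) (nat_lit 1030))
 (.leaf (nat_lit 0x40090580204600d02e090220) (nat_lit 1030))
) (.node (nat_lit 0x40090581204600c80c090220) (.leaf (nat_lit 0x40090581200600580a090220) (nat_lit 1030))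
 (.leaf (nat_lit 0x40090581204600c80c090220) (nat_lit 1286))
)))) (.node (nat_lit 0x400b01402006004008090020) (.node (nat_lit 0x400a05c02006004028010220) (.node (nat_lit 0x400a01c1200600d82a010220) (.node (nat_lit 0x400a01c0204600502e010220) (.leaf (nat_lit 0x400a01c02006004008010220) (nat_lit 518))
 (.leaf (nat_lit 0x400a01c0204600502e010220) (nat_lit 774))
) (.node (nat_lit 0x400a01c1204600c80c010220) (.leaf (nat_lit 0x400a01c1200600d82a010220) (nat_lit 774))
 (.leaf (nat_lit 0x400a01c1204600c80c010220) (nat_lit 1030))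
)) (.node (nat_lit 0x400a05c1200600d80a010220) (.node (nat_lit 0x400a05c0204600500e010220) (.leaf (nat_lit 0x400a05c02006004028010220) (nat_lit 774))
 (.leaf (nat_lit 0x400a05c0204600500e010220) (nat_lit 774))
) (.node (nat_lit 0x400a05c1204600c82c010220) (.leaf (nat_lit 0x400a05c1200600d80a010220) (nat_lit 1030))
 (.leaf (nat_lit 0x400a05c1204600c82c010220) (nat_lit 1030))
))) (.node (nat_lit 0x400b05402006004028090020) (.node (nat_lit 0x400b0141200600d80a090020) (.node (nat_lit 0x400b0140204600d02e090020) (.leaf (nat_lit 0x400b01402006004008090020) (nat_lit 518))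
 (.leaf (nat_lit 0x400b0140204600d02e090020) (nat_lit 774))
) (.node (nat_lit 0x400b0141204600482c090020) (.leaf (nat_lit 0x400b0141200600d80a090020) (nat_lit 774))
 (.leaf (nat_lit 0x400b0141204600482c090020) (nat_lit 1030))
)) (.node (nat_lit 0x400b0541200600d82a090020) (.node (nat_lit 0x400b0540204600d00e090020) (.leaf (nat_lit 0x400b05402006004028090020) (nat_lit 774))
 (.leaf (nat_lit 0x400b0540204600d00e090020) (nat_lit 1030))
) (.node (nat_lit 0x400b0541204600480c090020) (.leaf (nat_lit 0x400b0541200600d82a090020) (nat_lit 1030))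
 (.leaf (nat_lit 0x400b0541204600480c090020) (nat_lit 1030))
))))) (.node (nat_lit 0x401a01c0200600c008010220) (.node (nat_lit 0x40190180200600c008090220) (.node (nat_lit 0x40180500200600c028010020) (.node (nat_lit 0x40180101200600d80a010020) (.node (nat_lit 0x40180100204600d00e010020) (.leaf (nat_lit 0x40180100200600c008010020) (nat_lit 518))
 (.leaf (nat_lit 0x40180100204600d00e010020) (nat_lit 774))
) (.node (nat_lit 0x40180101204600c80c010020) (.leaf (nat_lit 0x40180101200600d80a010020) (nat_lit 774))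
 (.leaf (nat_lit 0x40180101204600c80c010020) (nat_lit 1030))
)) (.node (nat_lit 0x40180501200600d82a010020) (.node (nat_lit 0x40180500204600d02e010020) (.leaf (nat_lit 0x40180500200600c028010020) (nat_lit 774))
 (.leaf (nat_lit 0x40180500204600d02e010020) (nat_lit 1030))
) (.node (nat_lit 0x40180501204600c82c010020) (.leaf (nat_lit 0x40180501200600d82a010020) (nat_lit 1030))
 (.leaf (nat_lit 0x40180501204600c82c010020) (nat_lit 1286))
))) (.node (nat_lit 0x40190580200600c028090220) (.node (nat_lit 0x40190181200600d82a090220) (.node (nat_lit 0x40190180204600500e090220) (.leaf (nat_lit 0x40190180200600c008090220) (nat_lit 1030))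
 (.leaf (nat_lit 0x40190180204600500e090220) (nat_lit 1030))
) (.node (nat_lit 0x40190181204600482c090220) (.leaf (nat_lit 0x40190181200600d82a090220) (nat_lit 1030))
 (.leaf (nat_lit 0x40190181204600482c090220) (nat_lit 1286))
)) (.node (nat_lit 0x40190581200600d80a090220) (.node (nat_lit 0x40190580204600502e090220) (.leaf (nat_lit 0x40190580200600c028090220) (nat_lit 1286))
 (.leaf (nat_lit 0x40190580204600502e090220) (nat_lit 1030))
) (.node (nat_lit 0x40190581204600480c090220) (.leaf (nat_lit 0x40190581200600d80a090220) (nat_lit 1030))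
 (.leaf (nat_lit 0x40190581204600480c090220) (nat_lit 1286))
)))) (.node (nat_lit 0x401b0140200600c008090020) (.node (nat_lit 0x401a05c0200600c028010220) (.node (nat_lit 0x401a01c1200600582a010220) (.node (nat_lit 0x401a01c0204600d02e010220) (.leaf (nat_lit 0x401a01c0200600c008010220) (nat_lit 774))
 (.leaf (nat_lit 0x401a01c0204600d02e010220) (nat_lit 1030))
) (.node (nat_lit 0x401a01c1204600480c010220) (.leaf (nat_lit 0x401a01c1200600582a010220) (nat_lit 1030))
 (.leaf (nat_lit 0x401a01c1204600480c010220) (nat_lit 1030))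
)) (.node (nat_lit 0x401a05c1200600580a010220) (.node (nat_lit 0x401a05c0204600d00e010220) (.leaf (nat_lit 0x401a05c0200600c028010220) (nat_lit 1030))
 (.leaf (nat_lit 0x401a05c0204600d00e010220) (nat_lit 1030))
) (.node (nat_lit 0x401a05c1204600482c010220) (.leaf (nat_lit 0x401a05c1200600580a010220) (nat_lit 774))
 (.leaf (nat_lit 0x401a05c1204600482c010220) (nat_lit 1030))
))) (.node (nat_lit 0x401b0540200600c028090020) (.node (nat_lit 0x401b0141200600580a090020) (.node (nat_lit 0x401b0140204600502e090020) (.leaf (nat_lit 0x401b0140200600c008090020) (nat_lit 774))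
 (.leaf (nat_lit 0x401b0140204600502e090020) (nat_lit 1030))
) (.node (nat_lit 0x401b0141204600c82c090020) (.leaf (nat_lit 0x401b0141200600580a090020) (nat_lit 774))
 (.leaf (nat_lit 0x401b0141204600c82c090020) (nat_lit 1030))
)) (.node (nat_lit 0x401b0541200600582a090020) (.node (nat_lit 0x401b0540204600500e090020) (.leaf (nat_lit 0x401b0540200600c028090020) (nat_lit 1030))
 (.leaf (nat_lit 0x401b0540204600500e090020) (nat_lit 774))
) (.node (nat_lit 0x401b0541204600c80c090020) (.leaf (nat_lit 0x401b0541200600582a090020) (nat_lit 1030))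
 (.leaf (nat_lit 0x401b0541204600c80c090020) (nat_lit 1030))
)))))) (.node (nat_lit 0x8030020040080100600400801) (.node (nat_lit 0x8014038040080100200400811) (.node (nat_lit 0x8012030040080100200404811) (.node (nat_lit 0x80100a0040080100201400801) (.node (nat_lit 0x80100202400801002c0500801) (.node (nat_lit 0x8010020040880100280700801) (.leaf (nat_lit 0x8010020040080100200400801) (nat_lit 0))
 (.leaf (nat_lit 0x8010020040880100280700801) (nat_lit 258))
) (.node (nat_lit 0x8010020240880100240600801) (.leaf (nat_lit 0x80100202400801002c0500801) (nat_lit 259))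
 (.leaf (nat_lit 0x8010020240880100240600801) (nat_lit 515))
)) (.node (nat_lit 0x80100a02400801002c1500801) (.node (nat_lit 0x80100a0040880100281700801) (.leaf (nat_lit 0x80100a0040080100201400801) (nat_lit 260))
 (.leaf (nat_lit 0x80100a0040880100281700801) (nat_lit 516))
) (.node (nat_lit 0x80100a0240880100241600801) (.leaf (nat_lit 0x80100a02400801002c1500801) (nat_lit 516))
 (.leaf (nat_lit 0x80100a0240880100241600801) (nat_lit 772))
))) (.node (nat_lit 0x80120b0040080100201404811) (.node (nat_lit 0x80120302400801002c1504811) (.node (nat_lit 0x8012030040880100680704811) (.leaf (nat_lit 0x8012030040080100200404811) (nat_lit 513))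
 (.leaf (nat_lit 0x8012030040880100680704811) (nat_lit 770))
) (.node (nat_lit 0x8012030240880100641604811) (.leaf (nat_lit 0x80120302400801002c1504811) (nat_lit 771))
 (.leaf (nat_lit 0x8012030240880100641604811) (nat_lit 1027))
)) (.node (nat_lit 0x80120b02400801002c0504811) (.node (nat_lit 0x80120b0040880100681704811) (.leaf (nat_lit 0x80120b0040080100201404811) (nat_lit 772))
 (.leaf (nat_lit 0x80120b0040880100681704811) (nat_lit 768))
) (.node (nat_lit 0x80120b0240880100640604811) (.leaf (nat_lit 0x80120b02400801002c0504811) (nat_lit 769))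
 (.leaf (nat_lit 0x80120b0240880100640604811) (nat_lit 1025))
)))) (.node (nat_lit 0x8016028040080100200404801) (.node (nat_lit 0x80140b8040080100201400811) (.node (nat_lit 0x80140382400801006c1500811) (.node (nat_lit 0x8014038040880100281700811) (.leaf (nat_lit 0x8014038040080100200400811) (nat_lit 256))
 (.leaf (nat_lit 0x8014038040880100281700811) (nat_lit 514))
) (.node (nat_lit 0x8014038240880100640600811) (.leaf (nat_lit 0x80140382400801006c1500811) (nat_lit 515))
 (.leaf (nat_lit 0x8014038240880100640600811) (nat_lit 771))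
)) (.node (nat_lit 0x80140b82400801006c0500811) (.node (nat_lit 0x80140b8040880100280700811) (.leaf (nat_lit 0x80140b8040080100201400811) (nat_lit 516))
 (.leaf (nat_lit 0x80140b8040880100280700811) (nat_lit 512))
) (.node (nat_lit 0x80140b8240880100641600811) (.leaf (nat_lit 0x80140b82400801006c0500811) (nat_lit 772))
 (.leaf (nat_lit 0x80140b8240880100641600811) (nat_lit 771))
))) (.node (nat_lit 0x80160a8040080100201404801) (.node (nat_lit 0x80160282400801006c0504801) (.node (nat_lit 0x8016028040880100681704801) (.leaf (nat_lit 0x8016028040080100200404801) (nat_lit 257))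
 (.leaf (nat_lit 0x8016028040880100681704801) (nat_lit 514))
) (.node (nat_lit 0x8016028240880100241604801) (.leaf (nat_lit 0x80160282400801006c0504801) (nat_lit 515))
 (.leaf (nat_lit 0x8016028240880100241604801) (nat_lit 771))
)) (.node (nat_lit 0x80160a82400801006c1504801) (.node (nat_lit 0x80160a8040880100680704801) (.leaf (nat_lit 0x80160a8040080100201404801) (nat_lit 516))
 (.leaf (nat_lit 0x80160a8040880100680704801) (nat_lit 772))
) (.node (nat_lit 0x80160a8240880100240604801) (.leaf (nat_lit 0x80160a82400801006c1504801) (nat_lit 772))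
 (.leaf (nat_lit 0x80160a8240880100240604801) (nat_lit 769))
))))) (.node (nat_lit 0x8034038040080100600400811) (.node (nat_lit 0x8032030040080100600404811) (.node (nat_lit 0x80300a0040080100601400801) (.node (nat_lit 0x80300202400801006c0500801) (.node (nat_lit 0x8030020040880100680700801) (.leaf (nat_lit 0x8030020040080100600400801) (nat_lit 261))
 (.leaf (nat_lit 0x8030020040880100680700801) (nat_lit 517))
) (.node (nat_lit 0x8030020240880100640600801) (.leaf (nat_lit 0x80300202400801006c0500801) (nat_lit 517))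
 (.leaf (nat_lit 0x8030020240880100640600801) (nat_lit 773))
)) (.node (nat_lit 0x80300a02400801006c1500801) (.node (nat_lit 0x80300a0040880100681700801) (.leaf (nat_lit 0x80300a0040080100601400801) (nat_lit 517))
 (.leaf (nat_lit 0x80300a0040880100681700801) (nat_lit 769))
) (.node (nat_lit 0x80300a0240880100641600801) (.leaf (nat_lit 0x80300a02400801006c1500801) (nat_lit 768))
 (.leaf (nat_lit 0x80300a0240880100641600801) (nat_lit 1026))
))) (.node (nat_lit 0x80320b0040080100601404811) (.node (nat_lit 0x80320302400801006c1504811) (.node (nat_lit 0x8032030040880100280704811) (.leaf (nat_lit 0x8032030040080100600404811) (nat_lit 773))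
 (.leaf (nat_lit 0x8032030040880100280704811) (nat_lit 769))
) (.node (nat_lit 0x8032030240880100241604811) (.leaf (nat_lit 0x80320302400801006c1504811) (nat_lit 769))
 (.leaf (nat_lit 0x8032030240880100241604811) (nat_lit 1026))
)) (.node (nat_lit 0x80320b02400801006c0504811) (.node (nat_lit 0x80320b0040880100281704811) (.leaf (nat_lit 0x80320b0040080100601404811) (nat_lit 1029))
 (.leaf (nat_lit 0x80320b0040880100281704811) (nat_lit 769))
) (.node (nat_lit 0x80320b0240880100240604811) (.leaf (nat_lit 0x80320b02400801006c0504811) (nat_lit 768))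
 (.leaf (nat_lit 0x80320b0240880100240604811) (nat_lit 1027))
)))) (.node (nat_lit 0x8036028040080100600404801) (.node (nat_lit 0x80340b8040080100601400811) (.node (nat_lit 0x80340382400801002c1500811) (.node (nat_lit 0x8034038040880100681700811) (.leaf (nat_lit 0x8034038040080100600400811) (nat_lit 517))
 (.leaf (nat_lit 0x8034038040880100681700811) (nat_lit 773))
) (.node (nat_lit 0x8034038240880100240600811) (.leaf (nat_lit 0x80340382400801002c1500811) (nat_lit 773))
 (.leaf (nat_lit 0x8034038240880100240600811) (nat_lit 768))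
)) (.node (nat_lit 0x80340b82400801002c0500811) (.node (nat_lit 0x80340b8040880100680700811) (.leaf (nat_lit 0x80340b8040080100601400811) (nat_lit 773))
 (.leaf (nat_lit 0x80340b8040880100680700811) (nat_lit 773))
) (.node (nat_lit 0x80340b8240880100241600811) (.leaf (nat_lit 0x80340b82400801002c0500811) (nat_lit 512))
 (.leaf (nat_lit 0x80340b8240880100241600811) (nat_lit 770))
))) (.node (nat_lit 0x80360a8040080100601404801) (.node (nat_lit 0x80360282400801002c0504801) (.node (nat_lit 0x8036028040880100281704801) (.leaf (nat_lit 0x8036028040080100600404801) (nat_lit 517))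
 (.leaf (nat_lit 0x8036028040880100281704801) (nat_lit 773))
) (.node (nat_lit 0x8036028240880100641604801) (.leaf (nat_lit 0x80360282400801002c0504801) (nat_lit 513))
 (.leaf (nat_lit 0x8036028240880100641604801) (nat_lit 770))
)) (.node (nat_lit 0x80360a82400801002c1504801) (.node (nat_lit 0x80360a8040880100280704801) (.leaf (nat_lit 0x80360a8040080100601404801) (nat_lit 773))
 (.leaf (nat_lit 0x80360a8040880100280704801) (nat_lit 513))
) (.node (nat_lit 0x80360a8240880100640604801) (.leaf (nat_lit 0x80360a82400801002c1504801) (nat_lit 772))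
 (.leaf (nat_lit 0x80360a8240880100640604801) (nat_lit 771))
)))))))

theorem TG_ok : genOK B10.A [(nat_lit 0x8014038040080100200400811), (nat_lit 0x8016028040080100200404801), (nat_lit 0x8010020040880100280700801), (nat_lit 0x80100202400801002c0500801), (nat_lit 0x80100a0040080100201400801), (nat_lit 0x8030020040080100600400801), (nat_lit 0x400801002006004008010020)] TG_t (nat_lit 128) = true := by decide +kernel

noncomputable def T_t : ST :=
(.node (nat_lit 0x8010020040080100200400801) (.node (nat_lit 0x40180100200600c008010020) (.node (nat_lit 0x400a01c02006004008010220) (.node (nat_lit 0x400901802006004008090220) (.node (nat_lit 0x400805002006004028010020) (.node (nat_lit 0x40080300200e004018010060) (.node (nat_lit 0x40080101200600580a010020) (.node (nat_lit 0x40080100204600500e010020) (.leaf (nat_lit 0x400801002006004008010020) (nat_lit 263))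
 (.leaf (nat_lit 0x40080100204600500e010020) (nat_lit 519))
) (.node (nat_lit 0x40080101204600480c010020) (.leaf (nat_lit 0x40080101200600580a010020) (nat_lit 519))
 (.leaf (nat_lit 0x40080101204600480c010020) (nat_lit 775))
)) (.node (nat_lit 0x40080301200e00481e010060) (.node (nat_lit 0x40080300204e00501a010060) (.leaf (nat_lit 0x40080300200e004018010060) (nat_lit 519))
 (.leaf (nat_lit 0x40080300204e00501a010060) (nat_lit 775))
) (.node (nat_lit 0x40080301204e00581c010060) (.leaf (nat_lit 0x40080301200e00481e010060) (nat_lit 775))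
 (.leaf (nat_lit 0x40080301204e00581c010060) (nat_lit 775))
))) (.node (nat_lit 0x40080700200e004038010060) (.node (nat_lit 0x40080501200600582a010020) (.node (nat_lit 0x40080500204600502e010020) (.leaf (nat_lit 0x400805002006004028010020) (nat_lit 519))
 (.leaf (nat_lit 0x40080500204600502e010020) (nat_lit 775))
) (.node (nat_lit 0x40080501204600482c010020) (.leaf (nat_lit 0x40080501200600582a010020) (nat_lit 775))
 (.leaf (nat_lit 0x40080501204600482c010020) (nat_lit 1031))
)) (.node (nat_lit 0x40080701200e00483e010060) (.node (nat_lit 0x40080700204e00503a010060) (.leaf (nat_lit 0x40080700200e004038010060) (nat_lit 775))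
 (.leaf (nat_lit 0x40080700204e00503a010060) (nat_lit 1031))
) (.node (nat_lit 0x40080701204e00583c010060) (.leaf (nat_lit 0x40080701200e00483e010060) (nat_lit 1031))
 (.leaf (nat_lit 0x40080701204e00583c010060) (nat_lit 1031))
)))) (.node (nat_lit 0x400905802006004028090220) (.node (nat_lit 0x400903c0200e004018090060) (.node (nat_lit 0x40090181200600582a090220) (.node (nat_lit 0x40090180204600d00e090220) (.leaf (nat_lit 0x400901802006004008090220) (nat_lit 775))
 (.leaf (nat_lit 0x40090180204600d00e090220) (nat_lit 1031))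
) (.node (nat_lit 0x40090181204600c82c090220) (.leaf (nat_lit 0x40090181200600582a090220) (nat_lit 1031))
 (.leaf (nat_lit 0x40090181204600c82c090220) (nat_lit 1287))
)) (.node (nat_lit 0x400903c1200e00c81e090060) (.node (nat_lit 0x400903c0204e00d03a090060) (.leaf (nat_lit 0x400903c0200e004018090060) (nat_lit 775))
 (.leaf (nat_lit 0x400903c0204e00d03a090060) (nat_lit 1031))
) (.node (nat_lit 0x400903c1204e00583c090060) (.leaf (nat_lit 0x400903c1200e00c81e090060) (nat_lit 1031))
 (.leaf (nat_lit 0x400903c1204e00583c090060) (nat_lit 1287))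
))) (.node (nat_lit 0x400907c0200e004038090060) (.node (nat_lit 0x40090581200600580a090220) (.node (nat_lit 0x40090580204600d02e090220) (.leaf (nat_lit 0x400905802006004028090220) (nat_lit 1031))
 (.leaf (nat_lit 0x40090580204600d02e090220) (nat_lit 1031))
) (.node (nat_lit 0x40090581204600c80c090220) (.leaf (nat_lit 0x40090581200600580a090220) (nat_lit 1031))
 (.leaf (nat_lit 0x40090581204600c80c090220) (nat_lit 1287))
)) (.node (nat_lit 0x400907c1200e00c83e090060) (.node (nat_lit 0x400907c0204e00d01a090060) (.leaf (nat_lit 0x400907c0200e004038090060) (nat_lit 1031))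
 (.leaf (nat_lit 0x400907c0204e00d01a090060) (nat_lit 1287))
) (.node (nat_lit 0x400907c1204e00581c090060) (.leaf (nat_lit 0x400907c1200e00c83e090060) (nat_lit 1287))
 (.leaf (nat_lit 0x400907c1204e00581c090060) (nat_lit 1031))
))))) (.node (nat_lit 0x400b01402006004008090020) (.node (nat_lit 0x400a05c02006004028010220) (.node (nat_lit 0x400a0340200e004018010260) (.node (nat_lit 0x400a01c1200600d82a010220) (.node (nat_lit 0x400a01c0204600502e010220) (.leaf (nat_lit 0x400a01c02006004008010220) (nat_lit 519))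
 (.leaf (nat_lit 0x400a01c0204600502e010220) (nat_lit 775))
) (.node (nat_lit 0x400a01c1204600c80c010220) (.leaf (nat_lit 0x400a01c1200600d82a010220) (nat_lit 775))
 (.leaf (nat_lit 0x400a01c1204600c80c010220) (nat_lit 1031))
)) (.node (nat_lit 0x400a0341200e00c83e010260) (.node (nat_lit 0x400a0340204e00503a010260) (.leaf (nat_lit 0x400a0340200e004018010260) (nat_lit 775))
 (.leaf (nat_lit 0x400a0340204e00503a010260) (nat_lit 1031))
) (.node (nat_lit 0x400a0341204e00d81c010260) (.leaf (nat_lit 0x400a0341200e00c83e010260) (nat_lit 1031))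
 (.leaf (nat_lit 0x400a0341204e00d81c010260) (nat_lit 1031))
))) (.node (nat_lit 0x400a0740200e004038010260) (.node (nat_lit 0x400a05c1200600d80a010220) (.node (nat_lit 0x400a05c0204600500e010220) (.leaf (nat_lit 0x400a05c02006004028010220) (nat_lit 775))
 (.leaf (nat_lit 0x400a05c0204600500e010220) (nat_lit 775))
) (.node (nat_lit 0x400a05c1204600c82c010220) (.leaf (nat_lit 0x400a05c1200600d80a010220) (nat_lit 1031))
 (.leaf (nat_lit 0x400a05c1204600c82c010220) (nat_lit 1031))
)) (.node (nat_lit 0x400a0741200e00c81e010260) (.node (nat_lit 0x400a0740204e00501a010260) (.leaf (nat_lit 0x400a0740200e004038010260) (nat_lit 1031))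
 (.leaf (nat_lit 0x400a0740204e00501a010260) (nat_lit 1031))
) (.node (nat_lit 0x400a0741204e00d83c010260) (.leaf (nat_lit 0x400a0741200e00c81e010260) (nat_lit 1287))
 (.leaf (nat_lit 0x400a0741204e00d83c010260) (nat_lit 1287))
)))) (.node (nat_lit 0x400b05402006004028090020) (.node (nat_lit 0x400b0380200e004018090260) (.node (nat_lit 0x400b0141200600d80a090020) (.node (nat_lit 0x400b0140204600d02e090020) (.leaf (nat_lit 0x400b01402006004008090020) (nat_lit 519))
 (.leaf (nat_lit 0x400b0140204600d02e090020) (nat_lit 775))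
) (.node (nat_lit 0x400b0141204600482c090020) (.leaf (nat_lit 0x400b0141200600d80a090020) (nat_lit 775))
 (.leaf (nat_lit 0x400b0141204600482c090020) (nat_lit 1031))
)) (.node (nat_lit 0x400b0381200e00483e090260) (.node (nat_lit 0x400b0380204e00d01a090260) (.leaf (nat_lit 0x400b0380200e004018090260) (nat_lit 775))
 (.leaf (nat_lit 0x400b0380204e00d01a090260) (nat_lit 1031))
) (.node (nat_lit 0x400b0381204e00d83c090260) (.leaf (nat_lit 0x400b0381200e00483e090260) (nat_lit 1031))
 (.leaf (nat_lit 0x400b0381204e00d83c090260) (nat_lit 1031))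
))) (.node (nat_lit 0x400b0780200e004038090260) (.node (nat_lit 0x400b0541200600d82a090020) (.node (nat_lit 0x400b0540204600d00e090020) (.leaf (nat_lit 0x400b05402006004028090020) (nat_lit 775))
 (.leaf (nat_lit 0x400b0540204600d00e090020) (nat_lit 1031))
) (.node (nat_lit 0x400b0541204600480c090020) (.leaf (nat_lit 0x400b0541200600d82a090020) (nat_lit 1031))
 (.leaf (nat_lit 0x400b0541204600480c090020) (nat_lit 1031))
)) (.node (nat_lit 0x400b0781200e00481e090260) (.node (nat_lit 0x400b0780204e00d03a090260) (.leaf (nat_lit 0x400b0780200e004038090260) (nat_lit 1031))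
 (.leaf (nat_lit 0x400b0780204e00d03a090260) (nat_lit 1287))
) (.node (nat_lit 0x400b0781204e00d81c090260) (.leaf (nat_lit 0x400b0781200e00481e090260) (nat_lit 1287))
 (.leaf (nat_lit 0x400b0781204e00d81c090260) (nat_lit 1287))
)))))) (.node (nat_lit 0x401a01c0200600c008010220) (.node (nat_lit 0x40190180200600c008090220) (.node (nat_lit 0x40180500200600c028010020) (.node (nat_lit 0x40180300200e00c018010060) (.node (nat_lit 0x40180101200600d80a010020) (.node (nat_lit 0x40180100204600d00e010020) (.leaf (nat_lit 0x40180100200600c008010020) (nat_lit 519))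
 (.leaf (nat_lit 0x40180100204600d00e010020) (nat_lit 775))
) (.node (nat_lit 0x40180101204600c80c010020) (.leaf (nat_lit 0x40180101200600d80a010020) (nat_lit 775))
 (.leaf (nat_lit 0x40180101204600c80c010020) (nat_lit 1031))
)) (.node (nat_lit 0x40180301200e00c81e010060) (.node (nat_lit 0x40180300204e00d01a010060) (.leaf (nat_lit 0x40180300200e00c018010060) (nat_lit 775))
 (.leaf (nat_lit 0x40180300204e00d01a010060) (nat_lit 1031))
) (.node (nat_lit 0x40180301204e00d81c010060) (.leaf (nat_lit 0x40180301200e00c81e010060) (nat_lit 1031))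
 (.leaf (nat_lit 0x40180301204e00d81c010060) (nat_lit 1031))
))) (.node (nat_lit 0x40180700200e00c038010060) (.node (nat_lit 0x40180501200600d82a010020) (.node (nat_lit 0x40180500204600d02e010020) (.leaf (nat_lit 0x40180500200600c028010020) (nat_lit 775))
 (.leaf (nat_lit 0x40180500204600d02e010020) (nat_lit 1031))
) (.node (nat_lit 0x40180501204600c82c010020) (.leaf (nat_lit 0x40180501200600d82a010020) (nat_lit 1031))
 (.leaf (nat_lit 0x40180501204600c82c010020) (nat_lit 1287))
)) (.node (nat_lit 0x40180701200e00c83e010060) (.node (nat_lit 0x40180700204e00d03a010060) (.leaf (nat_lit 0x40180700200e00c038010060) (nat_lit 775))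
 (.leaf (nat_lit 0x40180700204e00d03a010060) (nat_lit 1031))
) (.node (nat_lit 0x40180701204e00d83c010060) (.leaf (nat_lit 0x40180701200e00c83e010060) (nat_lit 1031))
 (.leaf (nat_lit 0x40180701204e00d83c010060) (nat_lit 1031))
)))) (.node (nat_lit 0x40190580200600c028090220) (.node (nat_lit 0x401903c0200e00c018090060) (.node (nat_lit 0x40190181200600d82a090220) (.node (nat_lit 0x40190180204600500e090220) (.leaf (nat_lit 0x40190180200600c008090220) (nat_lit 1031))
 (.leaf (nat_lit 0x40190180204600500e090220) (nat_lit 1031))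
) (.node (nat_lit 0x40190181204600482c090220) (.leaf (nat_lit 0x40190181200600d82a090220) (nat_lit 1031))
 (.leaf (nat_lit 0x40190181204600482c090220) (nat_lit 1287))
)) (.node (nat_lit 0x401903c1200e00481e090060) (.node (nat_lit 0x401903c0204e00503a090060) (.leaf (nat_lit 0x401903c0200e00c018090060) (nat_lit 1031))
 (.leaf (nat_lit 0x401903c0204e00503a090060) (nat_lit 1287))
) (.node (nat_lit 0x401903c1204e00d83c090060) (.leaf (nat_lit 0x401903c1200e00481e090060) (nat_lit 1031))
 (.leaf (nat_lit 0x401903c1204e00d83c090060) (nat_lit 1287))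
))) (.node (nat_lit 0x401907c0200e00c038090060) (.node (nat_lit 0x40190581200600d80a090220) (.node (nat_lit 0x40190580204600502e090220) (.leaf (nat_lit 0x40190580200600c028090220) (nat_lit 1287))
 (.leaf (nat_lit 0x40190580204600502e090220) (nat_lit 1031))
) (.node (nat_lit 0x40190581204600480c090220) (.leaf (nat_lit 0x40190581200600d80a090220) (nat_lit 1031))
 (.leaf (nat_lit 0x40190581204600480c090220) (nat_lit 1287))
)) (.node (nat_lit 0x401907c1200e00483e090060) (.node (nat_lit 0x401907c0204e00501a090060) (.leaf (nat_lit 0x401907c0200e00c038090060) (nat_lit 1031))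
 (.leaf (nat_lit 0x401907c0204e00501a090060) (nat_lit 1031))
) (.node (nat_lit 0x401907c1204e00d81c090060) (.leaf (nat_lit 0x401907c1200e00483e090060) (nat_lit 1287))
 (.leaf (nat_lit 0x401907c1204e00d81c090060) (nat_lit 1287))
))))) (.node (nat_lit 0x401b0140200600c008090020) (.node (nat_lit 0x401a05c0200600c028010220) (.node (nat_lit 0x401a0340200e00c018010260) (.node (nat_lit 0x401a01c1200600582a010220) (.node (nat_lit 0x401a01c0204600d02e010220) (.leaf (nat_lit 0x401a01c0200600c008010220) (nat_lit 775))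
 (.leaf (nat_lit 0x401a01c0204600d02e010220) (nat_lit 1031))
) (.node (nat_lit 0x401a01c1204600480c010220) (.leaf (nat_lit 0x401a01c1200600582a010220) (nat_lit 1031))
 (.leaf (nat_lit 0x401a01c1204600480c010220) (nat_lit 1031))
)) (.node (nat_lit 0x401a0341200e00483e010260) (.node (nat_lit 0x401a0340204e00d03a010260) (.leaf (nat_lit 0x401a0340200e00c018010260) (nat_lit 1031))
 (.leaf (nat_lit 0x401a0340204e00d03a010260) (nat_lit 1287))
) (.node (nat_lit 0x401a0341204e00581c010260) (.leaf (nat_lit 0x401a0341200e00483e010260) (nat_lit 1287))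
 (.leaf (nat_lit 0x401a0341204e00581c010260) (nat_lit 1031))
))) (.node (nat_lit 0x401a0740200e00c038010260) (.node (nat_lit 0x401a05c1200600580a010220) (.node (nat_lit 0x401a05c0204600d00e010220) (.leaf (nat_lit 0x401a05c0200600c028010220) (nat_lit 1031))
 (.leaf (nat_lit 0x401a05c0204600d00e010220) (nat_lit 1031))
) (.node (nat_lit 0x401a05c1204600482c010220) (.leaf (nat_lit 0x401a05c1200600580a010220) (nat_lit 775))
 (.leaf (nat_lit 0x401a05c1204600482c010220) (nat_lit 1031))
)) (.node (nat_lit 0x401a0741200e00481e010260) (.node (nat_lit 0x401a0740204e00d01a010260) (.leaf (nat_lit 0x401a0740200e00c038010260) (nat_lit 1031))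
 (.leaf (nat_lit 0x401a0740204e00d01a010260) (nat_lit 1287))
) (.node (nat_lit 0x401a0741204e00583c010260) (.leaf (nat_lit 0x401a0741200e00481e010260) (nat_lit 1031))
 (.leaf (nat_lit 0x401a0741204e00583c010260) (nat_lit 1287))
)))) (.node (nat_lit 0x401b0540200600c028090020) (.node (nat_lit 0x401b0380200e00c018090260) (.node (nat_lit 0x401b0141200600580a090020) (.node (nat_lit 0x401b0140204600502e090020) (.leaf (nat_lit 0x401b0140200600c008090020) (nat_lit 775))
 (.leaf (nat_lit 0x401b0140204600502e090020) (nat_lit 1031))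
) (.node (nat_lit 0x401b0141204600c82c090020) (.leaf (nat_lit 0x401b0141200600580a090020) (nat_lit 775))
 (.leaf (nat_lit 0x401b0141204600c82c090020) (nat_lit 1031))
)) (.node (nat_lit 0x401b0381200e00c83e090260) (.node (nat_lit 0x401b0380204e00501a090260) (.leaf (nat_lit 0x401b0380200e00c018090260) (nat_lit 1031))
 (.leaf (nat_lit 0x401b0380204e00501a090260) (nat_lit 1031))
) (.node (nat_lit 0x401b0381204e00583c090260) (.leaf (nat_lit 0x401b0381200e00c83e090260) (nat_lit 1287))
 (.leaf (nat_lit 0x401b0381204e00583c090260) (nat_lit 1287))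
))) (.node (nat_lit 0x401b0780200e00c038090260) (.node (nat_lit 0x401b0541200600582a090020) (.node (nat_lit 0x401b0540204600500e090020) (.leaf (nat_lit 0x401b0540200600c028090020) (nat_lit 1031))
 (.leaf (nat_lit 0x401b0540204600500e090020) (nat_lit 775))
) (.node (nat_lit 0x401b0541204600c80c090020) (.leaf (nat_lit 0x401b0541200600582a090020) (nat_lit 1031))
 (.leaf (nat_lit 0x401b0541204600c80c090020) (nat_lit 1031))
)) (.node (nat_lit 0x401b0781200e00c81e090260) (.node (nat_lit 0x401b0780204e00503a090260) (.leaf (nat_lit 0x401b0780200e00c038090260) (nat_lit 1031))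
 (.leaf (nat_lit 0x401b0780204e00503a090260) (nat_lit 1287))
) (.node (nat_lit 0x401b0781204e00581c090260) (.leaf (nat_lit 0x401b0781200e00c81e090260) (nat_lit 1287))
 (.leaf (nat_lit 0x401b0781204e00581c090260) (nat_lit 1031))
))))))) (.node (nat_lit 0x8030020040080100600400801) (.node (nat_lit 0x8014038040080100200400811) (.node (nat_lit 0x8012030040080100200404811) (.node (nat_lit 0x80100a0040080100201400801) (.node (nat_lit 0x8010060040180100200c00803) (.node (nat_lit 0x80100202400801002c0500801) (.node (nat_lit 0x8010020040880100280700801) (.leaf (nat_lit 0x8010020040080100200400801) (nat_lit 0))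
 (.leaf (nat_lit 0x8010020040880100280700801) (nat_lit 258))
) (.node (nat_lit 0x8010020240880100240600801) (.leaf (nat_lit 0x80100202400801002c0500801) (nat_lit 259))
 (.leaf (nat_lit 0x8010020240880100240600801) (nat_lit 515))
)) (.node (nat_lit 0x8010060240180100240f00803) (.node (nat_lit 0x8010060040980100280d00803) (.leaf (nat_lit 0x8010060040180100200c00803) (nat_lit 262))
 (.leaf (nat_lit 0x8010060040980100280d00803) (nat_lit 518))
) (.node (nat_lit 0x80100602409801002c0e00803) (.leaf (nat_lit 0x8010060240180100240f00803) (nat_lit 515))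
 (.leaf (nat_lit 0x80100602409801002c0e00803) (nat_lit 518))
))) (.node (nat_lit 0x80100e0040180100201c00803) (.node (nat_lit 0x80100a02400801002c1500801) (.node (nat_lit 0x80100a0040880100281700801) (.leaf (nat_lit 0x80100a0040080100201400801) (nat_lit 260))
 (.leaf (nat_lit 0x80100a0040880100281700801) (nat_lit 516))
) (.node (nat_lit 0x80100a0240880100241600801) (.leaf (nat_lit 0x80100a02400801002c1500801) (nat_lit 516))
 (.leaf (nat_lit 0x80100a0240880100241600801) (nat_lit 772))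
)) (.node (nat_lit 0x80100e0240180100241f00803) (.node (nat_lit 0x80100e0040980100281d00803) (.leaf (nat_lit 0x80100e0040180100201c00803) (nat_lit 518))
 (.leaf (nat_lit 0x80100e0040980100281d00803) (nat_lit 774))
) (.node (nat_lit 0x80100e02409801002c1e00803) (.leaf (nat_lit 0x80100e0240180100241f00803) (nat_lit 771))
 (.leaf (nat_lit 0x80100e02409801002c1e00803) (nat_lit 774))
)))) (.node (nat_lit 0x80120b0040080100201404811) (.node (nat_lit 0x8012078040180100200c04803) (.node (nat_lit 0x80120302400801002c1504811) (.node (nat_lit 0x8012030040880100680704811) (.leaf (nat_lit 0x8012030040080100200404811) (nat_lit 513))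
 (.leaf (nat_lit 0x8012030040880100680704811) (nat_lit 770))
) (.node (nat_lit 0x8012030240880100641604811) (.leaf (nat_lit 0x80120302400801002c1504811) (nat_lit 771))
 (.leaf (nat_lit 0x8012030240880100641604811) (nat_lit 1027))
)) (.node (nat_lit 0x8012078240180100640f04803) (.node (nat_lit 0x8012078040980100681d04803) (.leaf (nat_lit 0x8012078040180100200c04803) (nat_lit 513))
 (.leaf (nat_lit 0x8012078040980100681d04803) (nat_lit 770))
) (.node (nat_lit 0x80120782409801002c1e04803) (.leaf (nat_lit 0x8012078240180100640f04803) (nat_lit 771))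
 (.leaf (nat_lit 0x80120782409801002c1e04803) (nat_lit 1030))
))) (.node (nat_lit 0x80120f8040180100201c04803) (.node (nat_lit 0x80120b02400801002c0504811) (.node (nat_lit 0x80120b0040880100681704811) (.leaf (nat_lit 0x80120b0040080100201404811) (nat_lit 772))
 (.leaf (nat_lit 0x80120b0040880100681704811) (nat_lit 768))
) (.node (nat_lit 0x80120b0240880100640604811) (.leaf (nat_lit 0x80120b02400801002c0504811) (nat_lit 769))
 (.leaf (nat_lit 0x80120b0240880100640604811) (nat_lit 1025))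
)) (.node (nat_lit 0x80120f8240180100641f04803) (.node (nat_lit 0x80120f8040980100680d04803) (.leaf (nat_lit 0x80120f8040180100201c04803) (nat_lit 769))
 (.leaf (nat_lit 0x80120f8040980100680d04803) (nat_lit 1030))
) (.node (nat_lit 0x80120f82409801002c0e04803) (.leaf (nat_lit 0x80120f8240180100641f04803) (nat_lit 1026))
 (.leaf (nat_lit 0x80120f82409801002c0e04803) (nat_lit 769))
))))) (.node (nat_lit 0x8016028040080100200404801) (.node (nat_lit 0x80140b8040080100201400811) (.node (nat_lit 0x8014068040180100200c00813) (.node (nat_lit 0x80140382400801006c1500811) (.node (nat_lit 0x8014038040880100281700811) (.leaf (nat_lit 0x8014038040080100200400811) (nat_lit 256))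
 (.leaf (nat_lit 0x8014038040880100281700811) (nat_lit 514))
) (.node (nat_lit 0x8014038240880100640600811) (.leaf (nat_lit 0x80140382400801006c1500811) (nat_lit 515))
 (.leaf (nat_lit 0x8014038240880100640600811) (nat_lit 771))
)) (.node (nat_lit 0x8014068240180100641f00813) (.node (nat_lit 0x8014068040980100281d00813) (.leaf (nat_lit 0x8014068040180100200c00813) (nat_lit 518))
 (.leaf (nat_lit 0x8014068040980100281d00813) (nat_lit 774))
) (.node (nat_lit 0x80140682409801006c0e00813) (.leaf (nat_lit 0x8014068240180100641f00813) (nat_lit 771))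
 (.leaf (nat_lit 0x80140682409801006c0e00813) (nat_lit 774))
))) (.node (nat_lit 0x80140e8040180100201c00813) (.node (nat_lit 0x80140b82400801006c0500811) (.node (nat_lit 0x80140b8040880100280700811) (.leaf (nat_lit 0x80140b8040080100201400811) (nat_lit 516))
 (.leaf (nat_lit 0x80140b8040880100280700811) (nat_lit 512))
) (.node (nat_lit 0x80140b8240880100641600811) (.leaf (nat_lit 0x80140b82400801006c0500811) (nat_lit 772))
 (.leaf (nat_lit 0x80140b8240880100641600811) (nat_lit 771))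
)) (.node (nat_lit 0x80140e8240180100640f00813) (.node (nat_lit 0x80140e8040980100280d00813) (.leaf (nat_lit 0x80140e8040180100201c00813) (nat_lit 774))
 (.leaf (nat_lit 0x80140e8040980100280d00813) (nat_lit 774))
) (.node (nat_lit 0x80140e82409801006c1e00813) (.leaf (nat_lit 0x80140e8240180100640f00813) (nat_lit 1027))
 (.leaf (nat_lit 0x80140e82409801006c1e00813) (nat_lit 1030))
)))) (.node (nat_lit 0x80160a8040080100201404801) (.node (nat_lit 0x8016070040180100200c04813) (.node (nat_lit 0x80160282400801006c0504801) (.node (nat_lit 0x8016028040880100681704801) (.leaf (nat_lit 0x8016028040080100200404801) (nat_lit 257))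
 (.leaf (nat_lit 0x8016028040880100681704801) (nat_lit 514))
) (.node (nat_lit 0x8016028240880100241604801) (.leaf (nat_lit 0x80160282400801006c0504801) (nat_lit 515))
 (.leaf (nat_lit 0x8016028240880100241604801) (nat_lit 771))
)) (.node (nat_lit 0x8016070240180100241f04813) (.node (nat_lit 0x8016070040980100680d04813) (.leaf (nat_lit 0x8016070040180100200c04813) (nat_lit 518))
 (.leaf (nat_lit 0x8016070040980100680d04813) (nat_lit 774))
) (.node (nat_lit 0x80160702409801006c1e04813) (.leaf (nat_lit 0x8016070240180100241f04813) (nat_lit 771))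
 (.leaf (nat_lit 0x80160702409801006c1e04813) (nat_lit 774))
))) (.node (nat_lit 0x80160f0040180100201c04813) (.node (nat_lit 0x80160a82400801006c1504801) (.node (nat_lit 0x80160a8040880100680704801) (.leaf (nat_lit 0x80160a8040080100201404801) (nat_lit 516))
 (.leaf (nat_lit 0x80160a8040880100680704801) (nat_lit 772))
) (.node (nat_lit 0x80160a8240880100240604801) (.leaf (nat_lit 0x80160a82400801006c1504801) (nat_lit 772))
 (.leaf (nat_lit 0x80160a8240880100240604801) (nat_lit 769))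
)) (.node (nat_lit 0x80160f0240180100240f04813) (.node (nat_lit 0x80160f0040980100681d04813) (.leaf (nat_lit 0x80160f0040180100201c04813) (nat_lit 774))
 (.leaf (nat_lit 0x80160f0040980100681d04813) (nat_lit 1030))
) (.node (nat_lit 0x80160f02409801006c0e04813) (.leaf (nat_lit 0x80160f0240180100240f04813) (nat_lit 1027))
 (.leaf (nat_lit 0x80160f02409801006c0e04813) (nat_lit 1025))
)))))) (.node (nat_lit 0x8034038040080100600400811) (.node (nat_lit 0x8032030040080100600404811) (.node (nat_lit 0x80300a0040080100601400801) (.node (nat_lit 0x8030060040180100600c00803) (.node (nat_lit 0x80300202400801006c0500801) (.node (nat_lit 0x8030020040880100680700801) (.leaf (nat_lit 0x8030020040080100600400801) (nat_lit 261))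
 (.leaf (nat_lit 0x8030020040880100680700801) (nat_lit 517))
) (.node (nat_lit 0x8030020240880100640600801) (.leaf (nat_lit 0x80300202400801006c0500801) (nat_lit 517))
 (.leaf (nat_lit 0x8030020240880100640600801) (nat_lit 773))
)) (.node (nat_lit 0x8030060240180100640f00803) (.node (nat_lit 0x8030060040980100680d00803) (.leaf (nat_lit 0x8030060040180100600c00803) (nat_lit 517))
 (.leaf (nat_lit 0x8030060040980100680d00803) (nat_lit 773))
) (.node (nat_lit 0x80300602409801006c0e00803) (.leaf (nat_lit 0x8030060240180100640f00803) (nat_lit 773))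
 (.leaf (nat_lit 0x80300602409801006c0e00803) (nat_lit 773))
))) (.node (nat_lit 0x80300e0040180100601c00803) (.node (nat_lit 0x80300a02400801006c1500801) (.node (nat_lit 0x80300a0040880100681700801) (.leaf (nat_lit 0x80300a0040080100601400801) (nat_lit 517))
 (.leaf (nat_lit 0x80300a0040880100681700801) (nat_lit 769))
) (.node (nat_lit 0x80300a0240880100641600801) (.leaf (nat_lit 0x80300a02400801006c1500801) (nat_lit 768))
 (.leaf (nat_lit 0x80300a0240880100641600801) (nat_lit 1026))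
)) (.node (nat_lit 0x80300e0240180100641f00803) (.node (nat_lit 0x80300e0040980100681d00803) (.leaf (nat_lit 0x80300e0040180100601c00803) (nat_lit 518))
 (.leaf (nat_lit 0x80300e0040980100681d00803) (nat_lit 774))
) (.node (nat_lit 0x80300e02409801006c1e00803) (.leaf (nat_lit 0x80300e0240180100641f00803) (nat_lit 771))
 (.leaf (nat_lit 0x80300e02409801006c1e00803) (nat_lit 774))
)))) (.node (nat_lit 0x80320b0040080100601404811) (.node (nat_lit 0x8032078040180100600c04803) (.node (nat_lit 0x80320302400801006c1504811) (.node (nat_lit 0x8032030040880100280704811) (.leaf (nat_lit 0x8032030040080100600404811) (nat_lit 773))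
 (.leaf (nat_lit 0x8032030040880100280704811) (nat_lit 769))
) (.node (nat_lit 0x8032030240880100241604811) (.leaf (nat_lit 0x80320302400801006c1504811) (nat_lit 769))
 (.leaf (nat_lit 0x8032030240880100241604811) (nat_lit 1026))
)) (.node (nat_lit 0x8032078240180100240f04803) (.node (nat_lit 0x8032078040980100281d04803) (.leaf (nat_lit 0x8032078040180100600c04803) (nat_lit 773))
 (.leaf (nat_lit 0x8032078040980100281d04803) (nat_lit 1030))
) (.node (nat_lit 0x80320782409801006c1e04803) (.leaf (nat_lit 0x8032078240180100240f04803) (nat_lit 769))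
 (.leaf (nat_lit 0x80320782409801006c1e04803) (nat_lit 1030))
))) (.node (nat_lit 0x80320f8040180100601c04803) (.node (nat_lit 0x80320b02400801006c0504811) (.node (nat_lit 0x80320b0040880100281704811) (.leaf (nat_lit 0x80320b0040080100601404811) (nat_lit 1029))
 (.leaf (nat_lit 0x80320b0040880100281704811) (nat_lit 769))
) (.node (nat_lit 0x80320b0240880100240604811) (.leaf (nat_lit 0x80320b02400801006c0504811) (nat_lit 768))
 (.leaf (nat_lit 0x80320b0240880100240604811) (nat_lit 1027))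
)) (.node (nat_lit 0x80320f8240180100241f04803) (.node (nat_lit 0x80320f8040980100280d04803) (.leaf (nat_lit 0x80320f8040180100601c04803) (nat_lit 769))
 (.leaf (nat_lit 0x80320f8040980100280d04803) (nat_lit 769))
) (.node (nat_lit 0x80320f82409801006c0e04803) (.leaf (nat_lit 0x80320f8240180100241f04803) (nat_lit 1024))
 (.leaf (nat_lit 0x80320f82409801006c0e04803) (nat_lit 1030))
))))) (.node (nat_lit 0x8036028040080100600404801) (.node (nat_lit 0x80340b8040080100601400811) (.node (nat_lit 0x8034068040180100600c00813) (.node (nat_lit 0x80340382400801002c1500811) (.node (nat_lit 0x8034038040880100681700811) (.leaf (nat_lit 0x8034038040080100600400811) (nat_lit 517))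
 (.leaf (nat_lit 0x8034038040880100681700811) (nat_lit 773))
) (.node (nat_lit 0x8034038240880100240600811) (.leaf (nat_lit 0x80340382400801002c1500811) (nat_lit 773))
 (.leaf (nat_lit 0x8034038240880100240600811) (nat_lit 768))
)) (.node (nat_lit 0x8034068240180100241f00813) (.node (nat_lit 0x8034068040980100681d00813) (.leaf (nat_lit 0x8034068040180100600c00813) (nat_lit 773))
 (.leaf (nat_lit 0x8034068040980100681d00813) (nat_lit 1029))
) (.node (nat_lit 0x80340682409801002c0e00813) (.leaf (nat_lit 0x8034068240180100241f00813) (nat_lit 1029))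
 (.leaf (nat_lit 0x80340682409801002c0e00813) (nat_lit 774))
))) (.node (nat_lit 0x80340e8040180100601c00813) (.node (nat_lit 0x80340b82400801002c0500811) (.node (nat_lit 0x80340b8040880100680700811) (.leaf (nat_lit 0x80340b8040080100601400811) (nat_lit 773))
 (.leaf (nat_lit 0x80340b8040880100680700811) (nat_lit 773))
) (.node (nat_lit 0x80340b8240880100241600811) (.leaf (nat_lit 0x80340b82400801002c0500811) (nat_lit 512))
 (.leaf (nat_lit 0x80340b8240880100241600811) (nat_lit 770))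
)) (.node (nat_lit 0x80340e8240180100240f00813) (.node (nat_lit 0x80340e8040980100680d00813) (.leaf (nat_lit 0x80340e8040180100601c00813) (nat_lit 774))
 (.leaf (nat_lit 0x80340e8040980100680d00813) (nat_lit 1030))
) (.node (nat_lit 0x80340e82409801002c1e00813) (.leaf (nat_lit 0x80340e8240180100240f00813) (nat_lit 768))
 (.leaf (nat_lit 0x80340e82409801002c1e00813) (nat_lit 1030))
)))) (.node (nat_lit 0x80360a8040080100601404801) (.node (nat_lit 0x8036070040180100600c04813) (.node (nat_lit 0x80360282400801002c0504801) (.node (nat_lit 0x8036028040880100281704801) (.leaf (nat_lit 0x8036028040080100600404801) (nat_lit 517))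
 (.leaf (nat_lit 0x8036028040880100281704801) (nat_lit 773))
) (.node (nat_lit 0x8036028240880100641604801) (.leaf (nat_lit 0x80360282400801002c0504801) (nat_lit 513))
 (.leaf (nat_lit 0x8036028240880100641604801) (nat_lit 770))
)) (.node (nat_lit 0x8036070240180100641f04813) (.node (nat_lit 0x8036070040980100280d04813) (.leaf (nat_lit 0x8036070040180100600c04813) (nat_lit 773))
 (.leaf (nat_lit 0x8036070040980100280d04813) (nat_lit 774))
) (.node (nat_lit 0x80360702409801002c1e04813) (.leaf (nat_lit 0x8036070240180100641f04813) (nat_lit 1025))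
 (.leaf (nat_lit 0x80360702409801002c1e04813) (nat_lit 1029))
))) (.node (nat_lit 0x80360f0040180100601c04813) (.node (nat_lit 0x80360a82400801002c1504801) (.node (nat_lit 0x80360a8040880100280704801) (.leaf (nat_lit 0x80360a8040080100601404801) (nat_lit 773))
 (.leaf (nat_lit 0x80360a8040880100280704801) (nat_lit 513))
) (.node (nat_lit 0x80360a8240880100640604801) (.leaf (nat_lit 0x80360a82400801002c1504801) (nat_lit 772))
 (.leaf (nat_lit 0x80360a8240880100640604801) (nat_lit 771))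
)) (.node (nat_lit 0x80360f0240180100640f04813) (.node (nat_lit 0x80360f0040980100281d04813) (.leaf (nat_lit 0x80360f0040180100601c04813) (nat_lit 774))
 (.leaf (nat_lit 0x80360f0040980100281d04813) (nat_lit 1025))
) (.node (nat_lit 0x80360f02409801002c0e04813) (.leaf (nat_lit 0x80360f0240180100640f04813) (nat_lit 1027))
 (.leaf (nat_lit 0x80360f02409801002c0e04813) (nat_lit 774))
))))))))

theorem T_ok : genOK B10.A [(nat_lit 0x8014038040080100200400811), (nat_lit 0x8016028040080100200404801), (nat_lit 0x8010020040880100280700801), (nat_lit 0x80100202400801002c0500801), (nat_lit 0x80100a0040080100201400801), (nat_lit 0x8030020040080100600400801), (nat_lit 0x8010060040180100200c00803), (nat_lit 0x400801002006004008010020)] T_t (nat_lit 256) = true := by decide +kernel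

noncomputable def E_t : ST :=
(.node (nat_lit 0x8014038040080100200400811) (.node (nat_lit 0x80100a0040080100201400801) (.node (nat_lit 0x8010060040180100200c00803) (.leaf (nat_lit 0x8010020040080100200400801) (nat_lit 0))
 (.leaf (nat_lit 0x8010060040180100200c00803) (nat_lit 258))
) (.node (nat_lit 0x80100e0040180100201c00803) (.leaf (nat_lit 0x80100a0040080100201400801) (nat_lit 256))
 (.leaf (nat_lit 0x80100e0040180100201c00803) (nat_lit 514))
)) (.node (nat_lit 0x80140b8040080100201400811) (.node (nat_lit 0x8014068040180100200c00813) (.leaf (nat_lit 0x8014038040080100200400811) (nat_lit 257))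
 (.leaf (nat_lit 0x8014068040180100200c00813) (nat_lit 514))
) (.node (nat_lit 0x80140e8040180100201c00813) (.leaf (nat_lit 0x80140b8040080100201400811) (nat_lit 513))
 (.leaf (nat_lit 0x80140e8040180100201c00813) (nat_lit 770))
)))

theorem E_ok : genOK B10.A [(nat_lit 0x80100a0040080100201400801), (nat_lit 0x8014038040080100200400811), (nat_lit 0x8010060040180100200c00803)] E_t (nat_lit 8) = true := by decide +kernel

noncomputable def W1_t : ST :=
(.node (nat_lit 0x8030020040080100600400801) (.node (nat_lit 0x80100a0040080100201400801) (.node (nat_lit 0x8010020040880100280700801) (.leaf (nat_lit 0x8010020040080100200400801) (nat_lit 0))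
 (.leaf (nat_lit 0x8010020040880100280700801) (nat_lit 258))
) (.node (nat_lit 0x80100a0040880100281700801) (.leaf (nat_lit 0x80100a0040080100201400801) (nat_lit 256))
 (.leaf (nat_lit 0x80100a0040880100281700801) (nat_lit 514))
)) (.node (nat_lit 0x80300a0040080100601400801) (.node (nat_lit 0x8030020040880100680700801) (.leaf (nat_lit 0x8030020040080100600400801) (nat_lit 257))
 (.leaf (nat_lit 0x8030020040880100680700801) (nat_lit 514))
) (.node (nat_lit 0x80300a0040880100681700801) (.leaf (nat_lit 0x80300a0040080100601400801) (nat_lit 513))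
 (.leaf (nat_lit 0x80300a0040880100681700801) (nat_lit 770))
)))

theorem W1_ok : genOK B10.A [(nat_lit 0x80100a0040080100201400801), (nat_lit 0x8030020040080100600400801), (nat_lit 0x8010020040880100280700801)] W1_t (nat_lit 8) = true := by decide +kernel

noncomputable def vP_t : ST :=
(.node (nat_lit 0x1088888) (.node (nat_lit 0x1045041) (.node (nat_lit 0x1027023) (.node (nat_lit 0x1014f0c) (.node (nat_lit 0x100cecf) (.node (nat_lit 0x1008eed) (.node (nat_lit 0x1008afa) (.node (nat_lit 0x10088fa) (.node (nat_lit 0x10088bb) (.node (nat_lit 0x1008898) (.leaf (nat_lit 0x1008888) (nat_lit 777))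
 (.node (nat_lit 0x10088ab) (.leaf (nat_lit 0x1008898) (nat_lit 1033))
 (.leaf (nat_lit 0x10088ab) (nat_lit 1033))
)) (.node (nat_lit 0x10088d9) (.node (nat_lit 0x10088c9) (.leaf (nat_lit 0x10088bb) (nat_lit 1289))
 (.leaf (nat_lit 0x10088c9) (nat_lit 1033))
) (.node (nat_lit 0x10088ea) (.leaf (nat_lit 0x10088d9) (nat_lit 1289))
 (.leaf (nat_lit 0x10088ea) (nat_lit 1033))
))) (.node (nat_lit 0x1008abb) (.node (nat_lit 0x1008a98) (.node (nat_lit 0x1008a88) (.leaf (nat_lit 0x10088fa) (nat_lit 1289))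
 (.leaf (nat_lit 0x1008a88) (nat_lit 1033))
) (.node (nat_lit 0x1008aab) (.leaf (nat_lit 0x1008a98) (nat_lit 1033))
 (.leaf (nat_lit 0x1008aab) (nat_lit 1289))
)) (.node (nat_lit 0x1008ad9) (.node (nat_lit 0x1008ac9) (.leaf (nat_lit 0x1008abb) (nat_lit 1289))
 (.leaf (nat_lit 0x1008ac9) (nat_lit 1289))
) (.node (nat_lit 0x1008aea) (.leaf (nat_lit 0x1008ad9) (nat_lit 1289))
 (.leaf (nat_lit 0x1008aea) (nat_lit 1289))
)))) (.node (nat_lit 0x1008ced) (.node (nat_lit 0x1008cae) (.node (nat_lit 0x1008c8c) (.leaf (nat_lit 0x1008afa) (nat_lit 1289))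
 (.node (nat_lit 0x1008c9c) (.leaf (nat_lit 0x1008c8c) (nat_lit 521))
 (.leaf (nat_lit 0x1008c9c) (nat_lit 777))
)) (.node (nat_lit 0x1008ccf) (.node (nat_lit 0x1008cbe) (.leaf (nat_lit 0x1008cae) (nat_lit 777))
 (.leaf (nat_lit 0x1008cbe) (nat_lit 1033))
) (.node (nat_lit 0x1008cdf) (.leaf (nat_lit 0x1008ccf) (nat_lit 777))
 (.leaf (nat_lit 0x1008cdf) (nat_lit 1033))
))) (.node (nat_lit 0x1008eae) (.node (nat_lit 0x1008e8c) (.node (nat_lit 0x1008cfd) (.leaf (nat_lit 0x1008ced) (nat_lit 777))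
 (.leaf (nat_lit 0x1008cfd) (nat_lit 1033))
) (.node (nat_lit 0x1008e9c) (.leaf (nat_lit 0x1008e8c) (nat_lit 777))
 (.leaf (nat_lit 0x1008e9c) (nat_lit 777))
)) (.node (nat_lit 0x1008ecf) (.node (nat_lit 0x1008ebe) (.leaf (nat_lit 0x1008eae) (nat_lit 1033))
 (.leaf (nat_lit 0x1008ebe) (nat_lit 1033))
) (.node (nat_lit 0x1008edf) (.leaf (nat_lit 0x1008ecf) (nat_lit 1033))
 (.leaf (nat_lit 0x1008edf) (nat_lit 1033))
))))) (.node (nat_lit 0x100cad9) (.node (nat_lit 0x100c8d9) (.node (nat_lit 0x100c898) (.node (nat_lit 0x1008efd) (.leaf (nat_lit 0x1008eed) (nat_lit 1033))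
 (.node (nat_lit 0x100c888) (.leaf (nat_lit 0x1008efd) (nat_lit 1033))
 (.leaf (nat_lit 0x100c888) (nat_lit 1033))
)) (.node (nat_lit 0x100c8bb) (.node (nat_lit 0x100c8ab) (.leaf (nat_lit 0x100c898) (nat_lit 1289))
 (.leaf (nat_lit 0x100c8ab) (nat_lit 1289))
) (.node (nat_lit 0x100c8c9) (.leaf (nat_lit 0x100c8bb) (nat_lit 1289))
 (.leaf (nat_lit 0x100c8c9) (nat_lit 1289))
))) (.node (nat_lit 0x100ca98) (.node (nat_lit 0x100c8fa) (.node (nat_lit 0x100c8ea) (.leaf (nat_lit 0x100c8d9) (nat_lit 1545))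
 (.leaf (nat_lit 0x100c8ea) (nat_lit 1289))
) (.node (nat_lit 0x100ca88) (.leaf (nat_lit 0x100c8fa) (nat_lit 1545))
 (.leaf (nat_lit 0x100ca88) (nat_lit 1289))
)) (.node (nat_lit 0x100cabb) (.node (nat_lit 0x100caab) (.leaf (nat_lit 0x100ca98) (nat_lit 1289))
 (.leaf (nat_lit 0x100caab) (nat_lit 1545))
) (.node (nat_lit 0x100cac9) (.leaf (nat_lit 0x100cabb) (nat_lit 1545))
 (.leaf (nat_lit 0x100cac9) (nat_lit 1289))
)))) (.node (nat_lit 0x100cccf) (.node (nat_lit 0x100cc8c) (.node (nat_lit 0x100caea) (.leaf (nat_lit 0x100cad9) (nat_lit 1545))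
 (.node (nat_lit 0x100cafa) (.leaf (nat_lit 0x100caea) (nat_lit 1545))
 (.leaf (nat_lit 0x100cafa) (nat_lit 1289))
)) (.node (nat_lit 0x100ccae) (.node (nat_lit 0x100cc9c) (.leaf (nat_lit 0x100cc8c) (nat_lit 777))
 (.leaf (nat_lit 0x100cc9c) (nat_lit 1033))
) (.node (nat_lit 0x100ccbe) (.leaf (nat_lit 0x100ccae) (nat_lit 1033))
 (.leaf (nat_lit 0x100ccbe) (nat_lit 1033))
))) (.node (nat_lit 0x100ce8c) (.node (nat_lit 0x100cced) (.node (nat_lit 0x100ccdf) (.leaf (nat_lit 0x100cccf) (nat_lit 1033))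
 (.leaf (nat_lit 0x100ccdf) (nat_lit 1289))
) (.node (nat_lit 0x100ccfd) (.leaf (nat_lit 0x100cced) (nat_lit 1033))
 (.leaf (nat_lit 0x100ccfd) (nat_lit 1289))
)) (.node (nat_lit 0x100ceae) (.node (nat_lit 0x100ce9c) (.leaf (nat_lit 0x100ce8c) (nat_lit 1033))
 (.leaf (nat_lit 0x100ce9c) (nat_lit 1033))
) (.node (nat_lit 0x100cebe) (.leaf (nat_lit 0x100ceae) (nat_lit 1289))
 (.leaf (nat_lit 0x100cebe) (nat_lit 1289))
)))))) (.node (nat_lit 0x1010f2f) (.node (nat_lit 0x1010736) (.node (nat_lit 0x1010536) (.node (nat_lit 0x100cefd) (.node (nat_lit 0x100cedf) (.leaf (nat_lit 0x100cecf) (nat_lit 1289))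
 (.node (nat_lit 0x100ceed) (.leaf (nat_lit 0x100cedf) (nat_lit 1033))
 (.leaf (nat_lit 0x100ceed) (nat_lit 1033))
)) (.node (nat_lit 0x1010514) (.node (nat_lit 0x1010504) (.leaf (nat_lit 0x100cefd) (nat_lit 1289))
 (.leaf (nat_lit 0x1010504) (nat_lit 265))
) (.node (nat_lit 0x1010526) (.leaf (nat_lit 0x1010514) (nat_lit 521))
 (.leaf (nat_lit 0x1010526) (nat_lit 777))
))) (.node (nat_lit 0x1010575) (.node (nat_lit 0x1010557) (.node (nat_lit 0x1010547) (.leaf (nat_lit 0x1010536) (nat_lit 1033))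
 (.leaf (nat_lit 0x1010547) (nat_lit 521))
) (.node (nat_lit 0x1010565) (.leaf (nat_lit 0x1010557) (nat_lit 777))
 (.leaf (nat_lit 0x1010565) (nat_lit 521))
)) (.node (nat_lit 0x1010714) (.node (nat_lit 0x1010704) (.leaf (nat_lit 0x1010575) (nat_lit 777))
 (.leaf (nat_lit 0x1010704) (nat_lit 521))
) (.node (nat_lit 0x1010726) (.leaf (nat_lit 0x1010714) (nat_lit 777))
 (.leaf (nat_lit 0x1010726) (nat_lit 1033))
)))) (.node (nat_lit 0x1010d2f) (.node (nat_lit 0x1010765) (.node (nat_lit 0x1010747) (.leaf (nat_lit 0x1010736) (nat_lit 1289))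
 (.node (nat_lit 0x1010757) (.leaf (nat_lit 0x1010747) (nat_lit 777))
 (.leaf (nat_lit 0x1010757) (nat_lit 1033))
)) (.node (nat_lit 0x1010d0c) (.node (nat_lit 0x1010775) (.leaf (nat_lit 0x1010765) (nat_lit 777))
 (.leaf (nat_lit 0x1010775) (nat_lit 1033))
) (.node (nat_lit 0x1010d1c) (.leaf (nat_lit 0x1010d0c) (nat_lit 521))
 (.leaf (nat_lit 0x1010d1c) (nat_lit 777))
))) (.node (nat_lit 0x1010d6e) (.node (nat_lit 0x1010d4d) (.node (nat_lit 0x1010d3f) (.leaf (nat_lit 0x1010d2f) (nat_lit 777))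
 (.leaf (nat_lit 0x1010d3f) (nat_lit 1033))
) (.node (nat_lit 0x1010d5d) (.leaf (nat_lit 0x1010d4d) (nat_lit 777))
 (.leaf (nat_lit 0x1010d5d) (nat_lit 1033))
)) (.node (nat_lit 0x1010f0c) (.node (nat_lit 0x1010d7e) (.leaf (nat_lit 0x1010d6e) (nat_lit 777))
 (.leaf (nat_lit 0x1010d7e) (nat_lit 1033))
) (.node (nat_lit 0x1010f1c) (.leaf (nat_lit 0x1010f0c) (nat_lit 777))
 (.leaf (nat_lit 0x1010f1c) (nat_lit 777))
))))) (.node (nat_lit 0x1014714) (.node (nat_lit 0x1014514) (.node (nat_lit 0x1010f5d) (.node (nat_lit 0x1010f3f) (.leaf (nat_lit 0x1010f2f) (nat_lit 1033))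
 (.node (nat_lit 0x1010f4d) (.leaf (nat_lit 0x1010f3f) (nat_lit 1033))
 (.leaf (nat_lit 0x1010f4d) (nat_lit 1033))
)) (.node (nat_lit 0x1010f7e) (.node (nat_lit 0x1010f6e) (.leaf (nat_lit 0x1010f5d) (nat_lit 1033))
 (.leaf (nat_lit 0x1010f6e) (nat_lit 1033))
) (.node (nat_lit 0x1014504) (.leaf (nat_lit 0x1010f7e) (nat_lit 1033))
 (.leaf (nat_lit 0x1014504) (nat_lit 521))
))) (.node (nat_lit 0x1014557) (.node (nat_lit 0x1014536) (.node (nat_lit 0x1014526) (.leaf (nat_lit 0x1014514) (nat_lit 777))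
 (.leaf (nat_lit 0x1014526) (nat_lit 1033))
) (.node (nat_lit 0x1014547) (.leaf (nat_lit 0x1014536) (nat_lit 1033))
 (.leaf (nat_lit 0x1014547) (nat_lit 777))
)) (.node (nat_lit 0x1014575) (.node (nat_lit 0x1014565) (.leaf (nat_lit 0x1014557) (nat_lit 777))
 (.leaf (nat_lit 0x1014565) (nat_lit 777))
) (.node (nat_lit 0x1014704) (.leaf (nat_lit 0x1014575) (nat_lit 1033))
 (.leaf (nat_lit 0x1014704) (nat_lit 777))
)))) (.node (nat_lit 0x1014d0c) (.node (nat_lit 0x1014747) (.node (nat_lit 0x1014726) (.leaf (nat_lit 0x1014714) (nat_lit 1033))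
 (.node (nat_lit 0x1014736) (.leaf (nat_lit 0x1014726) (nat_lit 1033))
 (.leaf (nat_lit 0x1014736) (nat_lit 1033))
)) (.node (nat_lit 0x1014765) (.node (nat_lit 0x1014757) (.leaf (nat_lit 0x1014747) (nat_lit 1033))
 (.leaf (nat_lit 0x1014757) (nat_lit 1033))
) (.node (nat_lit 0x1014775) (.leaf (nat_lit 0x1014765) (nat_lit 1033))
 (.leaf (nat_lit 0x1014775) (nat_lit 777))
))) (.node (nat_lit 0x1014d4d) (.node (nat_lit 0x1014d2f) (.node (nat_lit 0x1014d1c) (.leaf (nat_lit 0x1014d0c) (nat_lit 777))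
 (.leaf (nat_lit 0x1014d1c) (nat_lit 1033))
) (.node (nat_lit 0x1014d3f) (.leaf (nat_lit 0x1014d2f) (nat_lit 1033))
 (.leaf (nat_lit 0x1014d3f) (nat_lit 1289))
)) (.node (nat_lit 0x1014d6e) (.node (nat_lit 0x1014d5d) (.leaf (nat_lit 0x1014d4d) (nat_lit 1033))
 (.leaf (nat_lit 0x1014d5d) (nat_lit 1033))
) (.node (nat_lit 0x1014d7e) (.leaf (nat_lit 0x1014d6e) (nat_lit 1033))
 (.leaf (nat_lit 0x1014d7e) (nat_lit 1289))
))))))) (.node (nat_lit 0x101c9cb) (.node (nat_lit 0x10189e9) (.node (nat_lit 0x10185f6) (.node (nat_lit 0x1014f7e) (.node (nat_lit 0x1014f3f) (.node (nat_lit 0x1014f1c) (.leaf (nat_lit 0x1014f0c) (nat_lit 1033))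
 (.node (nat_lit 0x1014f2f) (.leaf (nat_lit 0x1014f1c) (nat_lit 1033))
 (.leaf (nat_lit 0x1014f2f) (nat_lit 1289))
)) (.node (nat_lit 0x1014f5d) (.node (nat_lit 0x1014f4d) (.leaf (nat_lit 0x1014f3f) (nat_lit 1033))
 (.leaf (nat_lit 0x1014f4d) (nat_lit 1289))
) (.node (nat_lit 0x1014f6e) (.leaf (nat_lit 0x1014f5d) (nat_lit 1289))
 (.leaf (nat_lit 0x1014f6e) (nat_lit 1033))
))) (.node (nat_lit 0x10185b7) (.node (nat_lit 0x1018594) (.node (nat_lit 0x1018584) (.leaf (nat_lit 0x1014f7e) (nat_lit 1289))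
 (.leaf (nat_lit 0x1018584) (nat_lit 777))
) (.node (nat_lit 0x10185a7) (.leaf (nat_lit 0x1018594) (nat_lit 1033))
 (.leaf (nat_lit 0x10185a7) (nat_lit 1033))
)) (.node (nat_lit 0x10185d5) (.node (nat_lit 0x10185c5) (.leaf (nat_lit 0x10185b7) (nat_lit 1289))
 (.leaf (nat_lit 0x10185c5) (nat_lit 1033))
) (.node (nat_lit 0x10185e6) (.leaf (nat_lit 0x10185d5) (nat_lit 1289))
 (.leaf (nat_lit 0x10185e6) (nat_lit 1033))
)))) (.node (nat_lit 0x10187e6) (.node (nat_lit 0x10187a7) (.node (nat_lit 0x1018784) (.leaf (nat_lit 0x10185f6) (nat_lit 1289))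
 (.node (nat_lit 0x1018794) (.leaf (nat_lit 0x1018784) (nat_lit 1033))
 (.leaf (nat_lit 0x1018794) (nat_lit 1033))
)) (.node (nat_lit 0x10187c5) (.node (nat_lit 0x10187b7) (.leaf (nat_lit 0x10187a7) (nat_lit 1289))
 (.leaf (nat_lit 0x10187b7) (nat_lit 1289))
) (.node (nat_lit 0x10187d5) (.leaf (nat_lit 0x10187c5) (nat_lit 1289))
 (.leaf (nat_lit 0x10187d5) (nat_lit 1289))
))) (.node (nat_lit 0x10189aa) (.node (nat_lit 0x1018988) (.node (nat_lit 0x10187f6) (.leaf (nat_lit 0x10187e6) (nat_lit 1289))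
 (.leaf (nat_lit 0x10187f6) (nat_lit 1289))
) (.node (nat_lit 0x1018998) (.leaf (nat_lit 0x1018988) (nat_lit 521))
 (.leaf (nat_lit 0x1018998) (nat_lit 777))
)) (.node (nat_lit 0x10189cb) (.node (nat_lit 0x10189ba) (.leaf (nat_lit 0x10189aa) (nat_lit 777))
 (.leaf (nat_lit 0x10189ba) (nat_lit 1033))
) (.node (nat_lit 0x10189db) (.leaf (nat_lit 0x10189cb) (nat_lit 777))
 (.leaf (nat_lit 0x10189db) (nat_lit 1033))
))))) (.node (nat_lit 0x101c5d5) (.node (nat_lit 0x1018bdb) (.node (nat_lit 0x1018b98) (.node (nat_lit 0x10189f9) (.leaf (nat_lit 0x10189e9) (nat_lit 777))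
 (.node (nat_lit 0x1018b88) (.leaf (nat_lit 0x10189f9) (nat_lit 1033))
 (.leaf (nat_lit 0x1018b88) (nat_lit 777))
)) (.node (nat_lit 0x1018bba) (.node (nat_lit 0x1018baa) (.leaf (nat_lit 0x1018b98) (nat_lit 777))
 (.leaf (nat_lit 0x1018baa) (nat_lit 1033))
) (.node (nat_lit 0x1018bcb) (.leaf (nat_lit 0x1018bba) (nat_lit 1033))
 (.leaf (nat_lit 0x1018bcb) (nat_lit 1033))
))) (.node (nat_lit 0x101c594) (.node (nat_lit 0x1018bf9) (.node (nat_lit 0x1018be9) (.leaf (nat_lit 0x1018bdb) (nat_lit 1033))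
 (.leaf (nat_lit 0x1018be9) (nat_lit 1033))
) (.node (nat_lit 0x101c584) (.leaf (nat_lit 0x1018bf9) (nat_lit 1033))
 (.leaf (nat_lit 0x101c584) (nat_lit 1033))
)) (.node (nat_lit 0x101c5b7) (.node (nat_lit 0x101c5a7) (.leaf (nat_lit 0x101c594) (nat_lit 1289))
 (.leaf (nat_lit 0x101c5a7) (nat_lit 1289))
) (.node (nat_lit 0x101c5c5) (.leaf (nat_lit 0x101c5b7) (nat_lit 1545))
 (.leaf (nat_lit 0x101c5c5) (nat_lit 1289))
)))) (.node (nat_lit 0x101c7c5) (.node (nat_lit 0x101c784) (.node (nat_lit 0x101c5e6) (.leaf (nat_lit 0x101c5d5) (nat_lit 1545))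
 (.node (nat_lit 0x101c5f6) (.leaf (nat_lit 0x101c5e6) (nat_lit 1289))
 (.leaf (nat_lit 0x101c5f6) (nat_lit 1289))
)) (.node (nat_lit 0x101c7a7) (.node (nat_lit 0x101c794) (.leaf (nat_lit 0x101c784) (nat_lit 1289))
 (.leaf (nat_lit 0x101c794) (nat_lit 1289))
) (.node (nat_lit 0x101c7b7) (.leaf (nat_lit 0x101c7a7) (nat_lit 1289))
 (.leaf (nat_lit 0x101c7b7) (nat_lit 1545))
))) (.node (nat_lit 0x101c988) (.node (nat_lit 0x101c7e6) (.node (nat_lit 0x101c7d5) (.leaf (nat_lit 0x101c7c5) (nat_lit 1545))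
 (.leaf (nat_lit 0x101c7d5) (nat_lit 1289))
) (.node (nat_lit 0x101c7f6) (.leaf (nat_lit 0x101c7e6) (nat_lit 1545))
 (.leaf (nat_lit 0x101c7f6) (nat_lit 1545))
)) (.node (nat_lit 0x101c9aa) (.node (nat_lit 0x101c998) (.leaf (nat_lit 0x101c988) (nat_lit 777))
 (.leaf (nat_lit 0x101c998) (nat_lit 1033))
) (.node (nat_lit 0x101c9ba) (.leaf (nat_lit 0x101c9aa) (nat_lit 1033))
 (.leaf (nat_lit 0x101c9ba) (nat_lit 1289))
)))))) (.node (nat_lit 0x10230ab) (.node (nat_lit 0x10220be) (.node (nat_lit 0x101cbba) (.node (nat_lit 0x101c9f9) (.node (nat_lit 0x101c9db) (.leaf (nat_lit 0x101c9cb) (nat_lit 1033))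
 (.node (nat_lit 0x101c9e9) (.leaf (nat_lit 0x101c9db) (nat_lit 1289))
 (.leaf (nat_lit 0x101c9e9) (nat_lit 1033))
)) (.node (nat_lit 0x101cb98) (.node (nat_lit 0x101cb88) (.leaf (nat_lit 0x101c9f9) (nat_lit 1033))
 (.leaf (nat_lit 0x101cb88) (nat_lit 1033))
) (.node (nat_lit 0x101cbaa) (.leaf (nat_lit 0x101cb98) (nat_lit 1033))
 (.leaf (nat_lit 0x101cbaa) (nat_lit 1289))
))) (.node (nat_lit 0x101cbf9) (.node (nat_lit 0x101cbdb) (.node (nat_lit 0x101cbcb) (.leaf (nat_lit 0x101cbba) (nat_lit 1033))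
 (.leaf (nat_lit 0x101cbcb) (nat_lit 1289))
) (.node (nat_lit 0x101cbe9) (.leaf (nat_lit 0x101cbdb) (nat_lit 1289))
 (.leaf (nat_lit 0x101cbe9) (nat_lit 1289))
)) (.node (nat_lit 0x1022032) (.node (nat_lit 0x1022022) (.leaf (nat_lit 0x101cbf9) (nat_lit 1289))
 (.leaf (nat_lit 0x1022022) (nat_lit 520))
) (.node (nat_lit 0x10220ae) (.leaf (nat_lit 0x1022032) (nat_lit 776))
 (.leaf (nat_lit 0x10220ae) (nat_lit 1026))
)))) (.node (nat_lit 0x10222ae) (.node (nat_lit 0x10221aa) (.node (nat_lit 0x1022126) (.leaf (nat_lit 0x10220be) (nat_lit 1282))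
 (.node (nat_lit 0x1022136) (.leaf (nat_lit 0x1022126) (nat_lit 1283))
 (.leaf (nat_lit 0x1022136) (nat_lit 1539))
)) (.node (nat_lit 0x1022222) (.node (nat_lit 0x10221ba) (.leaf (nat_lit 0x10221aa) (nat_lit 1027))
 (.leaf (nat_lit 0x10221ba) (nat_lit 1283))
) (.node (nat_lit 0x1022232) (.leaf (nat_lit 0x1022222) (nat_lit 776))
 (.leaf (nat_lit 0x1022232) (nat_lit 776))
))) (.node (nat_lit 0x10223aa) (.node (nat_lit 0x1022326) (.node (nat_lit 0x10222be) (.leaf (nat_lit 0x10222ae) (nat_lit 1282))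
 (.leaf (nat_lit 0x10222be) (nat_lit 1287))
) (.node (nat_lit 0x1022336) (.leaf (nat_lit 0x1022326) (nat_lit 1539))
 (.leaf (nat_lit 0x1022336) (nat_lit 1543))
)) (.node (nat_lit 0x1023023) (.node (nat_lit 0x10223ba) (.leaf (nat_lit 0x10223aa) (nat_lit 1283))
 (.leaf (nat_lit 0x10223ba) (nat_lit 1286))
) (.node (nat_lit 0x1023033) (.leaf (nat_lit 0x1023023) (nat_lit 263))
 (.leaf (nat_lit 0x1023033) (nat_lit 519))
))))) (.node (nat_lit 0x1026032) (.node (nat_lit 0x1023233) (.node (nat_lit 0x102313f) (.node (nat_lit 0x10230bb) (.leaf (nat_lit 0x10230ab) (nat_lit 1033))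
 (.node (nat_lit 0x102312f) (.leaf (nat_lit 0x10230bb) (nat_lit 1289))
 (.leaf (nat_lit 0x102312f) (nat_lit 1033))
)) (.node (nat_lit 0x10231b7) (.node (nat_lit 0x10231a7) (.leaf (nat_lit 0x102313f) (nat_lit 1289))
 (.leaf (nat_lit 0x10231a7) (nat_lit 1033))
) (.node (nat_lit 0x1023223) (.leaf (nat_lit 0x10231b7) (nat_lit 1289))
 (.leaf (nat_lit 0x1023223) (nat_lit 513))
))) (.node (nat_lit 0x102333f) (.node (nat_lit 0x10232bb) (.node (nat_lit 0x10232ab) (.leaf (nat_lit 0x1023233) (nat_lit 519))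
 (.leaf (nat_lit 0x10232ab) (nat_lit 1289))
) (.node (nat_lit 0x102332f) (.leaf (nat_lit 0x10232bb) (nat_lit 1289))
 (.leaf (nat_lit 0x102332f) (nat_lit 1289))
)) (.node (nat_lit 0x10233b7) (.node (nat_lit 0x10233a7) (.leaf (nat_lit 0x102333f) (nat_lit 1289))
 (.leaf (nat_lit 0x10233a7) (nat_lit 1289))
) (.node (nat_lit 0x1026022) (.leaf (nat_lit 0x10233b7) (nat_lit 1289))
 (.leaf (nat_lit 0x1026022) (nat_lit 776))
)))) (.node (nat_lit 0x1026222) (.node (nat_lit 0x1026126) (.node (nat_lit 0x10260ae) (.leaf (nat_lit 0x1026032) (nat_lit 1032))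
 (.node (nat_lit 0x10260be) (.leaf (nat_lit 0x10260ae) (nat_lit 1282))
 (.leaf (nat_lit 0x10260be) (nat_lit 1282))
)) (.node (nat_lit 0x10261aa) (.node (nat_lit 0x1026136) (.leaf (nat_lit 0x1026126) (nat_lit 1539))
 (.leaf (nat_lit 0x1026136) (nat_lit 1538))
) (.node (nat_lit 0x10261ba) (.leaf (nat_lit 0x10261aa) (nat_lit 1283))
 (.leaf (nat_lit 0x10261ba) (nat_lit 1539))
))) (.node (nat_lit 0x1026326) (.node (nat_lit 0x10262ae) (.node (nat_lit 0x1026232) (.leaf (nat_lit 0x1026222) (nat_lit 1032))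
 (.leaf (nat_lit 0x1026232) (nat_lit 1032))
) (.node (nat_lit 0x10262be) (.leaf (nat_lit 0x10262ae) (nat_lit 1538))
 (.leaf (nat_lit 0x10262be) (nat_lit 1538))
)) (.node (nat_lit 0x10263aa) (.node (nat_lit 0x1026336) (.leaf (nat_lit 0x1026326) (nat_lit 1539))
 (.leaf (nat_lit 0x1026336) (nat_lit 1539))
) (.node (nat_lit 0x10263ba) (.leaf (nat_lit 0x10263aa) (nat_lit 1539))
 (.leaf (nat_lit 0x10263ba) (nat_lit 1283))
)))))))) (.node (nat_lit 0x1036622) (.node (nat_lit 0x102ef47) (.node (nat_lit 0x102afe9) (.node (nat_lit 0x10273b7) (.node (nat_lit 0x10271b7) (.node (nat_lit 0x10270bb) (.node (nat_lit 0x1027033) (.leaf (nat_lit 0x1027023) (nat_lit 519))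
 (.node (nat_lit 0x10270ab) (.leaf (nat_lit 0x1027033) (nat_lit 775))
 (.leaf (nat_lit 0x10270ab) (nat_lit 1289))
)) (.node (nat_lit 0x102713f) (.node (nat_lit 0x102712f) (.leaf (nat_lit 0x10270bb) (nat_lit 1289))
 (.leaf (nat_lit 0x102712f) (nat_lit 1289))
) (.node (nat_lit 0x10271a7) (.leaf (nat_lit 0x102713f) (nat_lit 1545))
 (.leaf (nat_lit 0x10271a7) (nat_lit 1289))
))) (.node (nat_lit 0x10272bb) (.node (nat_lit 0x1027233) (.node (nat_lit 0x1027223) (.leaf (nat_lit 0x10271b7) (nat_lit 1545))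
 (.leaf (nat_lit 0x1027223) (nat_lit 769))
) (.node (nat_lit 0x10272ab) (.leaf (nat_lit 0x1027233) (nat_lit 775))
 (.leaf (nat_lit 0x10272ab) (nat_lit 1545))
)) (.node (nat_lit 0x102733f) (.node (nat_lit 0x102732f) (.leaf (nat_lit 0x10272bb) (nat_lit 1545))
 (.leaf (nat_lit 0x102732f) (nat_lit 1545))
) (.node (nat_lit 0x10273a7) (.leaf (nat_lit 0x102733f) (nat_lit 1289))
 (.leaf (nat_lit 0x10273a7) (nat_lit 1289))
)))) (.node (nat_lit 0x102ade9) (.node (nat_lit 0x102ac8c) (.node (nat_lit 0x102ac22) (.leaf (nat_lit 0x10273b7) (nat_lit 1545))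
 (.node (nat_lit 0x102ac32) (.leaf (nat_lit 0x102ac22) (nat_lit 776))
 (.leaf (nat_lit 0x102ac32) (nat_lit 1032))
)) (.node (nat_lit 0x102ad47) (.node (nat_lit 0x102ac9c) (.leaf (nat_lit 0x102ac8c) (nat_lit 770))
 (.leaf (nat_lit 0x102ac9c) (nat_lit 1024))
) (.node (nat_lit 0x102ad57) (.leaf (nat_lit 0x102ad47) (nat_lit 1027))
 (.leaf (nat_lit 0x102ad57) (nat_lit 1280))
))) (.node (nat_lit 0x102ae8c) (.node (nat_lit 0x102ae22) (.node (nat_lit 0x102adf9) (.leaf (nat_lit 0x102ade9) (nat_lit 1027))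
 (.leaf (nat_lit 0x102adf9) (nat_lit 1280))
) (.node (nat_lit 0x102ae32) (.leaf (nat_lit 0x102ae22) (nat_lit 1032))
 (.leaf (nat_lit 0x102ae32) (nat_lit 1032))
)) (.node (nat_lit 0x102af47) (.node (nat_lit 0x102ae9c) (.leaf (nat_lit 0x102ae8c) (nat_lit 1025))
 (.leaf (nat_lit 0x102ae9c) (nat_lit 1031))
) (.node (nat_lit 0x102af57) (.leaf (nat_lit 0x102af47) (nat_lit 1281))
 (.leaf (nat_lit 0x102af57) (nat_lit 1538))
))))) (.node (nat_lit 0x102bb5d) (.node (nat_lit 0x102b95d) (.node (nat_lit 0x102b833) (.node (nat_lit 0x102aff9) (.leaf (nat_lit 0x102afe9) (nat_lit 1281))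
 (.node (nat_lit 0x102b823) (.leaf (nat_lit 0x102aff9) (nat_lit 1542))
 (.leaf (nat_lit 0x102b823) (nat_lit 519))
)) (.node (nat_lit 0x102b898) (.node (nat_lit 0x102b888) (.leaf (nat_lit 0x102b833) (nat_lit 775))
 (.leaf (nat_lit 0x102b888) (nat_lit 1026))
) (.node (nat_lit 0x102b94d) (.leaf (nat_lit 0x102b898) (nat_lit 1280))
 (.leaf (nat_lit 0x102b94d) (nat_lit 1027))
))) (.node (nat_lit 0x102ba33) (.node (nat_lit 0x102b9f6) (.node (nat_lit 0x102b9e6) (.leaf (nat_lit 0x102b95d) (nat_lit 1280))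
 (.leaf (nat_lit 0x102b9e6) (nat_lit 1282))
) (.node (nat_lit 0x102ba23) (.leaf (nat_lit 0x102b9f6) (nat_lit 1536))
 (.leaf (nat_lit 0x102ba23) (nat_lit 769))
)) (.node (nat_lit 0x102ba98) (.node (nat_lit 0x102ba88) (.leaf (nat_lit 0x102ba33) (nat_lit 775))
 (.leaf (nat_lit 0x102ba88) (nat_lit 1281))
) (.node (nat_lit 0x102bb4d) (.leaf (nat_lit 0x102ba98) (nat_lit 1288))
 (.leaf (nat_lit 0x102bb4d) (nat_lit 1281))
)))) (.node (nat_lit 0x102ed47) (.node (nat_lit 0x102ec22) (.node (nat_lit 0x102bbe6) (.leaf (nat_lit 0x102bb5d) (nat_lit 1539))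
 (.node (nat_lit 0x102bbf6) (.leaf (nat_lit 0x102bbe6) (nat_lit 1537))
 (.leaf (nat_lit 0x102bbf6) (nat_lit 1545))
)) (.node (nat_lit 0x102ec8c) (.node (nat_lit 0x102ec32) (.leaf (nat_lit 0x102ec22) (nat_lit 1032))
 (.leaf (nat_lit 0x102ec32) (nat_lit 1032))
) (.node (nat_lit 0x102ec9c) (.leaf (nat_lit 0x102ec8c) (nat_lit 1026))
 (.leaf (nat_lit 0x102ec9c) (nat_lit 1026))
))) (.node (nat_lit 0x102ee22) (.node (nat_lit 0x102ede9) (.node (nat_lit 0x102ed57) (.leaf (nat_lit 0x102ed47) (nat_lit 1283))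
 (.leaf (nat_lit 0x102ed57) (nat_lit 1282))
) (.node (nat_lit 0x102edf9) (.leaf (nat_lit 0x102ede9) (nat_lit 1283))
 (.leaf (nat_lit 0x102edf9) (nat_lit 1539))
)) (.node (nat_lit 0x102ee8c) (.node (nat_lit 0x102ee32) (.leaf (nat_lit 0x102ee22) (nat_lit 1288))
 (.leaf (nat_lit 0x102ee32) (nat_lit 1288))
) (.node (nat_lit 0x102ee9c) (.leaf (nat_lit 0x102ee8c) (nat_lit 1281))
 (.leaf (nat_lit 0x102ee9c) (nat_lit 1282))
)))))) (.node (nat_lit 0x10326ed) (.node (nat_lit 0x102fa98) (.node (nat_lit 0x102f898) (.node (nat_lit 0x102eff9) (.node (nat_lit 0x102ef57) (.leaf (nat_lit 0x102ef47) (nat_lit 1283))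
 (.node (nat_lit 0x102efe9) (.leaf (nat_lit 0x102ef57) (nat_lit 1283))
 (.leaf (nat_lit 0x102efe9) (nat_lit 1283))
)) (.node (nat_lit 0x102f833) (.node (nat_lit 0x102f823) (.leaf (nat_lit 0x102eff9) (nat_lit 1283))
 (.leaf (nat_lit 0x102f823) (nat_lit 775))
) (.node (nat_lit 0x102f888) (.leaf (nat_lit 0x102f833) (nat_lit 775))
 (.leaf (nat_lit 0x102f888) (nat_lit 1282))
))) (.node (nat_lit 0x102f9f6) (.node (nat_lit 0x102f95d) (.node (nat_lit 0x102f94d) (.leaf (nat_lit 0x102f898) (nat_lit 1282))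
 (.leaf (nat_lit 0x102f94d) (nat_lit 1283))
) (.node (nat_lit 0x102f9e6) (.leaf (nat_lit 0x102f95d) (nat_lit 1539))
 (.leaf (nat_lit 0x102f9e6) (nat_lit 1538))
)) (.node (nat_lit 0x102fa33) (.node (nat_lit 0x102fa23) (.leaf (nat_lit 0x102f9f6) (nat_lit 1538))
 (.leaf (nat_lit 0x102fa23) (nat_lit 1031))
) (.node (nat_lit 0x102fa88) (.leaf (nat_lit 0x102fa33) (nat_lit 1031))
 (.leaf (nat_lit 0x102fa88) (nat_lit 1538))
)))) (.node (nat_lit 0x10324ed) (.node (nat_lit 0x102fbe6) (.node (nat_lit 0x102fb4d) (.leaf (nat_lit 0x102fa98) (nat_lit 1544))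
 (.node (nat_lit 0x102fb5d) (.leaf (nat_lit 0x102fb4d) (nat_lit 1283))
 (.leaf (nat_lit 0x102fb5d) (nat_lit 1283))
)) (.node (nat_lit 0x1032422) (.node (nat_lit 0x102fbf6) (.leaf (nat_lit 0x102fbe6) (nat_lit 1538))
 (.leaf (nat_lit 0x102fbf6) (nat_lit 1538))
) (.node (nat_lit 0x1032432) (.leaf (nat_lit 0x1032422) (nat_lit 776))
 (.leaf (nat_lit 0x1032432) (nat_lit 1032))
))) (.node (nat_lit 0x10325cb) (.node (nat_lit 0x1032504) (.node (nat_lit 0x10324fd) (.leaf (nat_lit 0x10324ed) (nat_lit 1026))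
 (.leaf (nat_lit 0x10324fd) (nat_lit 1280))
) (.node (nat_lit 0x1032514) (.leaf (nat_lit 0x1032504) (nat_lit 771))
 (.leaf (nat_lit 0x1032514) (nat_lit 1024))
)) (.node (nat_lit 0x1032622) (.node (nat_lit 0x10325db) (.leaf (nat_lit 0x10325cb) (nat_lit 1027))
 (.leaf (nat_lit 0x10325db) (nat_lit 1280))
) (.node (nat_lit 0x1032632) (.leaf (nat_lit 0x1032622) (nat_lit 1025))
 (.leaf (nat_lit 0x1032632) (nat_lit 1032))
))))) (.node (nat_lit 0x1033e33) (.node (nat_lit 0x1033c33) (.node (nat_lit 0x1032714) (.node (nat_lit 0x10326fd) (.leaf (nat_lit 0x10326ed) (nat_lit 1281))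
 (.node (nat_lit 0x1032704) (.leaf (nat_lit 0x10326fd) (nat_lit 1287))
 (.leaf (nat_lit 0x1032704) (nat_lit 1025))
)) (.node (nat_lit 0x10327db) (.node (nat_lit 0x10327cb) (.leaf (nat_lit 0x1032714) (nat_lit 1283))
 (.leaf (nat_lit 0x10327cb) (nat_lit 1281))
) (.node (nat_lit 0x1033c23) (.leaf (nat_lit 0x10327db) (nat_lit 1286))
 (.leaf (nat_lit 0x1033c23) (nat_lit 515))
))) (.node (nat_lit 0x1033d1c) (.node (nat_lit 0x1033cfa) (.node (nat_lit 0x1033cea) (.leaf (nat_lit 0x1033c33) (nat_lit 768))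
 (.leaf (nat_lit 0x1033cea) (nat_lit 1282))
) (.node (nat_lit 0x1033d0c) (.leaf (nat_lit 0x1033cfa) (nat_lit 1536))
 (.leaf (nat_lit 0x1033d0c) (nat_lit 771))
)) (.node (nat_lit 0x1033dd5) (.node (nat_lit 0x1033dc5) (.leaf (nat_lit 0x1033d1c) (nat_lit 1024))
 (.leaf (nat_lit 0x1033dc5) (nat_lit 1026))
) (.node (nat_lit 0x1033e23) (.leaf (nat_lit 0x1033dd5) (nat_lit 1280))
 (.leaf (nat_lit 0x1033e23) (nat_lit 769))
)))) (.node (nat_lit 0x1036422) (.node (nat_lit 0x1033f0c) (.node (nat_lit 0x1033eea) (.leaf (nat_lit 0x1033e33) (nat_lit 1027))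
 (.node (nat_lit 0x1033efa) (.leaf (nat_lit 0x1033eea) (nat_lit 1537))
 (.leaf (nat_lit 0x1033efa) (nat_lit 1544))
)) (.node (nat_lit 0x1033fc5) (.node (nat_lit 0x1033f1c) (.leaf (nat_lit 0x1033f0c) (nat_lit 1025))
 (.leaf (nat_lit 0x1033f1c) (nat_lit 1283))
) (.node (nat_lit 0x1033fd5) (.leaf (nat_lit 0x1033fc5) (nat_lit 1281))
 (.leaf (nat_lit 0x1033fd5) (nat_lit 1538))
))) (.node (nat_lit 0x1036504) (.node (nat_lit 0x10364ed) (.node (nat_lit 0x1036432) (.leaf (nat_lit 0x1036422) (nat_lit 1032))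
 (.leaf (nat_lit 0x1036432) (nat_lit 1288))
) (.node (nat_lit 0x10364fd) (.leaf (nat_lit 0x10364ed) (nat_lit 1282))
 (.leaf (nat_lit 0x10364fd) (nat_lit 1282))
)) (.node (nat_lit 0x10365cb) (.node (nat_lit 0x1036514) (.leaf (nat_lit 0x1036504) (nat_lit 1027))
 (.leaf (nat_lit 0x1036514) (nat_lit 1026))
) (.node (nat_lit 0x10365db) (.leaf (nat_lit 0x10365cb) (nat_lit 1283))
 (.leaf (nat_lit 0x10365db) (nat_lit 1283))
))))))) (.node (nat_lit 0x103e965) (.node (nat_lit 0x103a988) (.node (nat_lit 0x1037dd5) (.node (nat_lit 0x10367db) (.node (nat_lit 0x10366fd) (.node (nat_lit 0x1036632) (.leaf (nat_lit 0x1036622) (nat_lit 1032))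
 (.node (nat_lit 0x10366ed) (.leaf (nat_lit 0x1036632) (nat_lit 1288))
 (.leaf (nat_lit 0x10366ed) (nat_lit 1536))
)) (.node (nat_lit 0x1036714) (.node (nat_lit 0x1036704) (.leaf (nat_lit 0x10366fd) (nat_lit 1282))
 (.leaf (nat_lit 0x1036704) (nat_lit 1027))
) (.node (nat_lit 0x10367cb) (.leaf (nat_lit 0x1036714) (nat_lit 1282))
 (.leaf (nat_lit 0x10367cb) (nat_lit 1542))
))) (.node (nat_lit 0x1037cfa) (.node (nat_lit 0x1037c33) (.node (nat_lit 0x1037c23) (.leaf (nat_lit 0x10367db) (nat_lit 1283))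
 (.leaf (nat_lit 0x1037c23) (nat_lit 771))
) (.node (nat_lit 0x1037cea) (.leaf (nat_lit 0x1037c33) (nat_lit 1025))
 (.leaf (nat_lit 0x1037cea) (nat_lit 1538))
)) (.node (nat_lit 0x1037d1c) (.node (nat_lit 0x1037d0c) (.leaf (nat_lit 0x1037cfa) (nat_lit 1538))
 (.leaf (nat_lit 0x1037d0c) (nat_lit 1027))
) (.node (nat_lit 0x1037dc5) (.leaf (nat_lit 0x1037d1c) (nat_lit 1280))
 (.leaf (nat_lit 0x1037dc5) (nat_lit 1282))
)))) (.node (nat_lit 0x1037fc5) (.node (nat_lit 0x1037eea) (.node (nat_lit 0x1037e23) (.leaf (nat_lit 0x1037dd5) (nat_lit 1282))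
 (.node (nat_lit 0x1037e33) (.leaf (nat_lit 0x1037e23) (nat_lit 1024))
 (.leaf (nat_lit 0x1037e33) (nat_lit 771))
)) (.node (nat_lit 0x1037f0c) (.node (nat_lit 0x1037efa) (.leaf (nat_lit 0x1037eea) (nat_lit 1538))
 (.leaf (nat_lit 0x1037efa) (nat_lit 1792))
) (.node (nat_lit 0x1037f1c) (.leaf (nat_lit 0x1037f0c) (nat_lit 1281))
 (.leaf (nat_lit 0x1037f1c) (nat_lit 1027))
))) (.node (nat_lit 0x103a8cf) (.node (nat_lit 0x103a822) (.node (nat_lit 0x1037fd5) (.leaf (nat_lit 0x1037fc5) (nat_lit 1282))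
 (.leaf (nat_lit 0x1037fd5) (nat_lit 1537))
) (.node (nat_lit 0x103a832) (.leaf (nat_lit 0x103a822) (nat_lit 776))
 (.leaf (nat_lit 0x103a832) (nat_lit 1032))
)) (.node (nat_lit 0x103a965) (.node (nat_lit 0x103a8df) (.leaf (nat_lit 0x103a8cf) (nat_lit 1026))
 (.leaf (nat_lit 0x103a8df) (nat_lit 1280))
) (.node (nat_lit 0x103a975) (.leaf (nat_lit 0x103a965) (nat_lit 1027))
 (.leaf (nat_lit 0x103a975) (nat_lit 1280))
))))) (.node (nat_lit 0x103b57e) (.node (nat_lit 0x103ab75) (.node (nat_lit 0x103aa32) (.node (nat_lit 0x103a998) (.leaf (nat_lit 0x103a988) (nat_lit 771))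
 (.node (nat_lit 0x103aa22) (.leaf (nat_lit 0x103a998) (nat_lit 1024))
 (.leaf (nat_lit 0x103aa22) (nat_lit 1032))
)) (.node (nat_lit 0x103aadf) (.node (nat_lit 0x103aacf) (.leaf (nat_lit 0x103aa32) (nat_lit 1032))
 (.leaf (nat_lit 0x103aacf) (nat_lit 1281))
) (.node (nat_lit 0x103ab65) (.leaf (nat_lit 0x103aadf) (nat_lit 1543))
 (.leaf (nat_lit 0x103ab65) (nat_lit 1281))
))) (.node (nat_lit 0x103b433) (.node (nat_lit 0x103ab98) (.node (nat_lit 0x103ab88) (.leaf (nat_lit 0x103ab75) (nat_lit 1539))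
 (.leaf (nat_lit 0x103ab88) (nat_lit 1025))
) (.node (nat_lit 0x103b423) (.leaf (nat_lit 0x103ab98) (nat_lit 1030))
 (.leaf (nat_lit 0x103b423) (nat_lit 519))
)) (.node (nat_lit 0x103b4d9) (.node (nat_lit 0x103b4c9) (.leaf (nat_lit 0x103b433) (nat_lit 775))
 (.leaf (nat_lit 0x103b4c9) (nat_lit 1289))
) (.node (nat_lit 0x103b56e) (.leaf (nat_lit 0x103b4d9) (nat_lit 1545))
 (.leaf (nat_lit 0x103b56e) (nat_lit 1027))
)))) (.node (nat_lit 0x103b76e) (.node (nat_lit 0x103b623) (.node (nat_lit 0x103b584) (.leaf (nat_lit 0x103b57e) (nat_lit 1280))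
 (.node (nat_lit 0x103b594) (.leaf (nat_lit 0x103b584) (nat_lit 1032))
 (.leaf (nat_lit 0x103b594) (nat_lit 1288))
)) (.node (nat_lit 0x103b6c9) (.node (nat_lit 0x103b633) (.leaf (nat_lit 0x103b623) (nat_lit 769))
 (.leaf (nat_lit 0x103b633) (nat_lit 775))
) (.node (nat_lit 0x103b6d9) (.leaf (nat_lit 0x103b6c9) (nat_lit 1545))
 (.leaf (nat_lit 0x103b6d9) (nat_lit 1545))
))) (.node (nat_lit 0x103e822) (.node (nat_lit 0x103b784) (.node (nat_lit 0x103b77e) (.leaf (nat_lit 0x103b76e) (nat_lit 1281))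
 (.leaf (nat_lit 0x103b77e) (nat_lit 1539))
) (.node (nat_lit 0x103b794) (.leaf (nat_lit 0x103b784) (nat_lit 1281))
 (.leaf (nat_lit 0x103b794) (nat_lit 1288))
)) (.node (nat_lit 0x103e8cf) (.node (nat_lit 0x103e832) (.leaf (nat_lit 0x103e822) (nat_lit 1032))
 (.leaf (nat_lit 0x103e832) (nat_lit 1288))
) (.node (nat_lit 0x103e8df) (.leaf (nat_lit 0x103e8cf) (nat_lit 1282))
 (.leaf (nat_lit 0x103e8df) (nat_lit 1282))
)))))) (.node (nat_lit 0x10410c9) (.node (nat_lit 0x103f4d9) (.node (nat_lit 0x103eadf) (.node (nat_lit 0x103e998) (.node (nat_lit 0x103e975) (.leaf (nat_lit 0x103e965) (nat_lit 1283))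
 (.node (nat_lit 0x103e988) (.leaf (nat_lit 0x103e975) (nat_lit 1282))
 (.leaf (nat_lit 0x103e988) (nat_lit 1027))
)) (.node (nat_lit 0x103ea32) (.node (nat_lit 0x103ea22) (.leaf (nat_lit 0x103e998) (nat_lit 1283))
 (.leaf (nat_lit 0x103ea22) (nat_lit 1288))
) (.node (nat_lit 0x103eacf) (.leaf (nat_lit 0x103ea32) (nat_lit 1027))
 (.leaf (nat_lit 0x103eacf) (nat_lit 1282))
))) (.node (nat_lit 0x103eb98) (.node (nat_lit 0x103eb75) (.node (nat_lit 0x103eb65) (.leaf (nat_lit 0x103eadf) (nat_lit 1538))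
 (.leaf (nat_lit 0x103eb65) (nat_lit 1283))
) (.node (nat_lit 0x103eb88) (.leaf (nat_lit 0x103eb75) (nat_lit 1539))
 (.leaf (nat_lit 0x103eb88) (nat_lit 1283))
)) (.node (nat_lit 0x103f433) (.node (nat_lit 0x103f423) (.leaf (nat_lit 0x103eb98) (nat_lit 1027))
 (.leaf (nat_lit 0x103f423) (nat_lit 775))
) (.node (nat_lit 0x103f4c9) (.leaf (nat_lit 0x103f433) (nat_lit 1031))
 (.leaf (nat_lit 0x103f4c9) (nat_lit 1545))
)))) (.node (nat_lit 0x103f6c9) (.node (nat_lit 0x103f584) (.node (nat_lit 0x103f56e) (.leaf (nat_lit 0x103f4d9) (nat_lit 1545))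
 (.node (nat_lit 0x103f57e) (.leaf (nat_lit 0x103f56e) (nat_lit 1283))
 (.leaf (nat_lit 0x103f57e) (nat_lit 1539))
)) (.node (nat_lit 0x103f623) (.node (nat_lit 0x103f594) (.leaf (nat_lit 0x103f584) (nat_lit 1288))
 (.leaf (nat_lit 0x103f594) (nat_lit 1544))
) (.node (nat_lit 0x103f633) (.leaf (nat_lit 0x103f623) (nat_lit 1031))
 (.leaf (nat_lit 0x103f633) (nat_lit 1029))
))) (.node (nat_lit 0x103f784) (.node (nat_lit 0x103f76e) (.node (nat_lit 0x103f6d9) (.leaf (nat_lit 0x103f6c9) (nat_lit 1801))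
 (.leaf (nat_lit 0x103f6d9) (nat_lit 1538))
) (.node (nat_lit 0x103f77e) (.leaf (nat_lit 0x103f76e) (nat_lit 1539))
 (.leaf (nat_lit 0x103f77e) (nat_lit 1283))
)) (.node (nat_lit 0x1041041) (.node (nat_lit 0x103f794) (.leaf (nat_lit 0x103f784) (nat_lit 1288))
 (.leaf (nat_lit 0x103f794) (nat_lit 1544))
) (.node (nat_lit 0x1041051) (.leaf (nat_lit 0x1041041) (nat_lit 0))
 (.leaf (nat_lit 0x1041051) (nat_lit 256))
))))) (.node (nat_lit 0x1043053) (.node (nat_lit 0x1041251) (.node (nat_lit 0x104115d) (.node (nat_lit 0x10410d9) (.leaf (nat_lit 0x10410c9) (nat_lit 1033))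
 (.node (nat_lit 0x104114d) (.leaf (nat_lit 0x10410d9) (nat_lit 1289))
 (.leaf (nat_lit 0x104114d) (nat_lit 777))
)) (.node (nat_lit 0x10411d5) (.node (nat_lit 0x10411c5) (.leaf (nat_lit 0x104115d) (nat_lit 1033))
 (.leaf (nat_lit 0x10411c5) (nat_lit 777))
) (.node (nat_lit 0x1041241) (.leaf (nat_lit 0x10411d5) (nat_lit 1033))
 (.leaf (nat_lit 0x1041241) (nat_lit 257))
))) (.node (nat_lit 0x104135d) (.node (nat_lit 0x10412d9) (.node (nat_lit 0x10412c9) (.leaf (nat_lit 0x1041251) (nat_lit 513))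
 (.leaf (nat_lit 0x10412c9) (nat_lit 1289))
) (.node (nat_lit 0x104134d) (.leaf (nat_lit 0x10412d9) (nat_lit 1545))
 (.leaf (nat_lit 0x104134d) (nat_lit 1033))
)) (.node (nat_lit 0x10413d5) (.node (nat_lit 0x10413c5) (.leaf (nat_lit 0x104135d) (nat_lit 1289))
 (.leaf (nat_lit 0x10413c5) (nat_lit 1033))
) (.node (nat_lit 0x1043043) (.leaf (nat_lit 0x10413d5) (nat_lit 1289))
 (.leaf (nat_lit 0x1043043) (nat_lit 264))
)))) (.node (nat_lit 0x1043243) (.node (nat_lit 0x1043147) (.node (nat_lit 0x10430cf) (.leaf (nat_lit 0x1043053) (nat_lit 520))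
 (.node (nat_lit 0x10430df) (.leaf (nat_lit 0x10430cf) (nat_lit 1027))
 (.leaf (nat_lit 0x10430df) (nat_lit 1283))
)) (.node (nat_lit 0x10431cb) (.node (nat_lit 0x1043157) (.leaf (nat_lit 0x1043147) (nat_lit 770))
 (.leaf (nat_lit 0x1043157) (nat_lit 1026))
) (.node (nat_lit 0x10431db) (.leaf (nat_lit 0x10431cb) (nat_lit 1030))
 (.leaf (nat_lit 0x10431db) (nat_lit 1286))
))) (.node (nat_lit 0x1043347) (.node (nat_lit 0x10432cf) (.node (nat_lit 0x1043253) (.leaf (nat_lit 0x1043243) (nat_lit 513))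
 (.leaf (nat_lit 0x1043253) (nat_lit 520))
) (.node (nat_lit 0x10432df) (.leaf (nat_lit 0x10432cf) (nat_lit 1283))
 (.leaf (nat_lit 0x10432df) (nat_lit 1283))
)) (.node (nat_lit 0x10433cb) (.node (nat_lit 0x1043357) (.leaf (nat_lit 0x1043347) (nat_lit 1025))
 (.leaf (nat_lit 0x1043357) (nat_lit 1026))
) (.node (nat_lit 0x10433db) (.leaf (nat_lit 0x10433cb) (nat_lit 1286))
 (.leaf (nat_lit 0x10433db) (nat_lit 1286))
))))))))) (.node (nat_lit 0x1062062) (.node (nat_lit 0x1053643) (.node (nat_lit 0x104bf65) (.node (nat_lit 0x10473cb) (.node (nat_lit 0x10453d5) (.node (nat_lit 0x10451d5) (.node (nat_lit 0x10450d9) (.node (nat_lit 0x1045051) (.leaf (nat_lit 0x1045041) (nat_lit 260))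
 (.node (nat_lit 0x10450c9) (.leaf (nat_lit 0x1045051) (nat_lit 516))
 (.leaf (nat_lit 0x10450c9) (nat_lit 1289))
)) (.node (nat_lit 0x104515d) (.node (nat_lit 0x104514d) (.leaf (nat_lit 0x10450d9) (nat_lit 1289))
 (.leaf (nat_lit 0x104514d) (nat_lit 1033))
) (.node (nat_lit 0x10451c5) (.leaf (nat_lit 0x104515d) (nat_lit 1033))
 (.leaf (nat_lit 0x10451c5) (nat_lit 1033))
))) (.node (nat_lit 0x10452d9) (.node (nat_lit 0x1045251) (.node (nat_lit 0x1045241) (.leaf (nat_lit 0x10451d5) (nat_lit 1289))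
 (.leaf (nat_lit 0x1045241) (nat_lit 516))
) (.node (nat_lit 0x10452c9) (.leaf (nat_lit 0x1045251) (nat_lit 772))
 (.leaf (nat_lit 0x10452c9) (nat_lit 1289))
)) (.node (nat_lit 0x104535d) (.node (nat_lit 0x104534d) (.leaf (nat_lit 0x10452d9) (nat_lit 1289))
 (.leaf (nat_lit 0x104534d) (nat_lit 1289))
) (.node (nat_lit 0x10453c5) (.leaf (nat_lit 0x104535d) (nat_lit 1289))
 (.leaf (nat_lit 0x10453c5) (nat_lit 1289))
)))) (.node (nat_lit 0x10471cb) (.node (nat_lit 0x10470cf) (.node (nat_lit 0x1047043) (.leaf (nat_lit 0x10453d5) (nat_lit 1033))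
 (.node (nat_lit 0x1047053) (.leaf (nat_lit 0x1047043) (nat_lit 520))
 (.leaf (nat_lit 0x1047053) (nat_lit 776))
)) (.node (nat_lit 0x1047147) (.node (nat_lit 0x10470df) (.leaf (nat_lit 0x10470cf) (nat_lit 1283))
 (.leaf (nat_lit 0x10470df) (nat_lit 1539))
) (.node (nat_lit 0x1047157) (.leaf (nat_lit 0x1047147) (nat_lit 1026))
 (.leaf (nat_lit 0x1047157) (nat_lit 1026))
))) (.node (nat_lit 0x10472cf) (.node (nat_lit 0x1047243) (.node (nat_lit 0x10471db) (.leaf (nat_lit 0x10471cb) (nat_lit 1284))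
 (.leaf (nat_lit 0x10471db) (nat_lit 1540))
) (.node (nat_lit 0x1047253) (.leaf (nat_lit 0x1047243) (nat_lit 769))
 (.leaf (nat_lit 0x1047253) (nat_lit 776))
)) (.node (nat_lit 0x1047347) (.node (nat_lit 0x10472df) (.leaf (nat_lit 0x10472cf) (nat_lit 1539))
 (.leaf (nat_lit 0x10472df) (nat_lit 1283))
) (.node (nat_lit 0x1047357) (.leaf (nat_lit 0x1047347) (nat_lit 1282))
 (.leaf (nat_lit 0x1047357) (nat_lit 1282))
))))) (.node (nat_lit 0x1049b7e) (.node (nat_lit 0x104997e) (.node (nat_lit 0x1049851) (.node (nat_lit 0x10473db) (.leaf (nat_lit 0x10473cb) (nat_lit 1286))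
 (.node (nat_lit 0x1049841) (.leaf (nat_lit 0x10473db) (nat_lit 1542))
 (.leaf (nat_lit 0x1049841) (nat_lit 515))
)) (.node (nat_lit 0x1049898) (.node (nat_lit 0x1049888) (.leaf (nat_lit 0x1049851) (nat_lit 768))
 (.leaf (nat_lit 0x1049888) (nat_lit 1032))
) (.node (nat_lit 0x104996e) (.leaf (nat_lit 0x1049898) (nat_lit 1288))
 (.leaf (nat_lit 0x104996e) (nat_lit 1026))
))) (.node (nat_lit 0x1049a51) (.node (nat_lit 0x10499b7) (.node (nat_lit 0x10499a7) (.leaf (nat_lit 0x104997e) (nat_lit 1280))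
 (.leaf (nat_lit 0x10499a7) (nat_lit 1289))
) (.node (nat_lit 0x1049a41) (.leaf (nat_lit 0x10499b7) (nat_lit 1545))
 (.leaf (nat_lit 0x1049a41) (nat_lit 769))
)) (.node (nat_lit 0x1049a98) (.node (nat_lit 0x1049a88) (.leaf (nat_lit 0x1049a51) (nat_lit 1027))
 (.leaf (nat_lit 0x1049a88) (nat_lit 1281))
) (.node (nat_lit 0x1049b6e) (.leaf (nat_lit 0x1049a98) (nat_lit 1288))
 (.leaf (nat_lit 0x1049b6e) (nat_lit 1281))
)))) (.node (nat_lit 0x104bd65) (.node (nat_lit 0x104bc43) (.node (nat_lit 0x1049ba7) (.leaf (nat_lit 0x1049b7e) (nat_lit 1288))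
 (.node (nat_lit 0x1049bb7) (.leaf (nat_lit 0x1049ba7) (nat_lit 1545))
 (.leaf (nat_lit 0x1049bb7) (nat_lit 1544))
)) (.node (nat_lit 0x104bc8c) (.node (nat_lit 0x104bc53) (.leaf (nat_lit 0x104bc43) (nat_lit 515))
 (.leaf (nat_lit 0x104bc53) (nat_lit 768))
) (.node (nat_lit 0x104bc9c) (.leaf (nat_lit 0x104bc8c) (nat_lit 771))
 (.leaf (nat_lit 0x104bc9c) (nat_lit 1024))
))) (.node (nat_lit 0x104be43) (.node (nat_lit 0x104bdaa) (.node (nat_lit 0x104bd75) (.leaf (nat_lit 0x104bd65) (nat_lit 770))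
 (.leaf (nat_lit 0x104bd75) (nat_lit 1024))
) (.node (nat_lit 0x104bdba) (.leaf (nat_lit 0x104bdaa) (nat_lit 1030))
 (.leaf (nat_lit 0x104bdba) (nat_lit 1280))
)) (.node (nat_lit 0x104be8c) (.node (nat_lit 0x104be53) (.leaf (nat_lit 0x104be43) (nat_lit 769))
 (.leaf (nat_lit 0x104be53) (nat_lit 1027))
) (.node (nat_lit 0x104be9c) (.leaf (nat_lit 0x104be8c) (nat_lit 1025))
 (.leaf (nat_lit 0x104be9c) (nat_lit 1283))
)))))) (.node (nat_lit 0x104fe8c) (.node (nat_lit 0x104da98) (.node (nat_lit 0x104d898) (.node (nat_lit 0x104bfba) (.node (nat_lit 0x104bf75) (.leaf (nat_lit 0x104bf65) (nat_lit 1025))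
 (.node (nat_lit 0x104bfaa) (.leaf (nat_lit 0x104bf75) (nat_lit 1282))
 (.leaf (nat_lit 0x104bfaa) (nat_lit 1286))
)) (.node (nat_lit 0x104d851) (.node (nat_lit 0x104d841) (.leaf (nat_lit 0x104bfba) (nat_lit 1286))
 (.leaf (nat_lit 0x104d841) (nat_lit 772))
) (.node (nat_lit 0x104d888) (.leaf (nat_lit 0x104d851) (nat_lit 770))
 (.leaf (nat_lit 0x104d888) (nat_lit 1288))
))) (.node (nat_lit 0x104d9b7) (.node (nat_lit 0x104d97e) (.node (nat_lit 0x104d96e) (.leaf (nat_lit 0x104d898) (nat_lit 1544))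
 (.leaf (nat_lit 0x104d96e) (nat_lit 1282))
) (.node (nat_lit 0x104d9a7) (.leaf (nat_lit 0x104d97e) (nat_lit 1282))
 (.leaf (nat_lit 0x104d9a7) (nat_lit 1545))
)) (.node (nat_lit 0x104da51) (.node (nat_lit 0x104da41) (.leaf (nat_lit 0x104d9b7) (nat_lit 1545))
 (.leaf (nat_lit 0x104da41) (nat_lit 771))
) (.node (nat_lit 0x104da88) (.leaf (nat_lit 0x104da51) (nat_lit 1026))
 (.leaf (nat_lit 0x104da88) (nat_lit 1288))
)))) (.node (nat_lit 0x104fc8c) (.node (nat_lit 0x104dba7) (.node (nat_lit 0x104db6e) (.leaf (nat_lit 0x104da98) (nat_lit 1544))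
 (.node (nat_lit 0x104db7e) (.leaf (nat_lit 0x104db6e) (nat_lit 1538))
 (.leaf (nat_lit 0x104db7e) (nat_lit 1282))
)) (.node (nat_lit 0x104fc43) (.node (nat_lit 0x104dbb7) (.leaf (nat_lit 0x104dba7) (nat_lit 1545))
 (.leaf (nat_lit 0x104dbb7) (nat_lit 1545))
) (.node (nat_lit 0x104fc53) (.leaf (nat_lit 0x104fc43) (nat_lit 771))
 (.leaf (nat_lit 0x104fc53) (nat_lit 1029))
))) (.node (nat_lit 0x104fdaa) (.node (nat_lit 0x104fd65) (.node (nat_lit 0x104fc9c) (.leaf (nat_lit 0x104fc8c) (nat_lit 1027))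
 (.leaf (nat_lit 0x104fc9c) (nat_lit 1280))
) (.node (nat_lit 0x104fd75) (.leaf (nat_lit 0x104fd65) (nat_lit 1026))
 (.leaf (nat_lit 0x104fd75) (nat_lit 1026))
)) (.node (nat_lit 0x104fe43) (.node (nat_lit 0x104fdba) (.leaf (nat_lit 0x104fdaa) (nat_lit 1284))
 (.leaf (nat_lit 0x104fdba) (nat_lit 1286))
) (.node (nat_lit 0x104fe53) (.leaf (nat_lit 0x104fe43) (nat_lit 1024))
 (.leaf (nat_lit 0x104fe53) (nat_lit 771))
))))) (.node (nat_lit 0x1051e51) (.node (nat_lit 0x1051c51) (.node (nat_lit 0x104ff75) (.node (nat_lit 0x104fe9c) (.leaf (nat_lit 0x104fe8c) (nat_lit 1283))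
 (.node (nat_lit 0x104ff65) (.leaf (nat_lit 0x104fe9c) (nat_lit 1027))
 (.leaf (nat_lit 0x104ff65) (nat_lit 1026))
)) (.node (nat_lit 0x104ffba) (.node (nat_lit 0x104ffaa) (.leaf (nat_lit 0x104ff75) (nat_lit 1282))
 (.leaf (nat_lit 0x104ffaa) (nat_lit 1286))
) (.node (nat_lit 0x1051c41) (.leaf (nat_lit 0x104ffba) (nat_lit 1542))
 (.leaf (nat_lit 0x1051c41) (nat_lit 258))
))) (.node (nat_lit 0x1051d1c) (.node (nat_lit 0x1051cbb) (.node (nat_lit 0x1051cab) (.leaf (nat_lit 0x1051c51) (nat_lit 512))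
 (.leaf (nat_lit 0x1051cab) (nat_lit 1289))
) (.node (nat_lit 0x1051d0c) (.leaf (nat_lit 0x1051cbb) (nat_lit 1545))
 (.leaf (nat_lit 0x1051d0c) (nat_lit 770))
)) (.node (nat_lit 0x1051df6) (.node (nat_lit 0x1051de6) (.leaf (nat_lit 0x1051d1c) (nat_lit 1024))
 (.leaf (nat_lit 0x1051de6) (nat_lit 1033))
) (.node (nat_lit 0x1051e41) (.leaf (nat_lit 0x1051df6) (nat_lit 1289))
 (.leaf (nat_lit 0x1051e41) (nat_lit 513))
)))) (.node (nat_lit 0x1053443) (.node (nat_lit 0x1051f0c) (.node (nat_lit 0x1051eab) (.leaf (nat_lit 0x1051e51) (nat_lit 769))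
 (.node (nat_lit 0x1051ebb) (.leaf (nat_lit 0x1051eab) (nat_lit 1545))
 (.leaf (nat_lit 0x1051ebb) (nat_lit 1544))
)) (.node (nat_lit 0x1051fe6) (.node (nat_lit 0x1051f1c) (.leaf (nat_lit 0x1051f0c) (nat_lit 1025))
 (.leaf (nat_lit 0x1051f1c) (nat_lit 1032))
) (.node (nat_lit 0x1051ff6) (.leaf (nat_lit 0x1051fe6) (nat_lit 1289))
 (.leaf (nat_lit 0x1051ff6) (nat_lit 1545))
))) (.node (nat_lit 0x1053504) (.node (nat_lit 0x10534ae) (.node (nat_lit 0x1053453) (.leaf (nat_lit 0x1053443) (nat_lit 520))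
 (.leaf (nat_lit 0x1053453) (nat_lit 776))
) (.node (nat_lit 0x10534be) (.leaf (nat_lit 0x10534ae) (nat_lit 1027))
 (.leaf (nat_lit 0x10534be) (nat_lit 1280))
)) (.node (nat_lit 0x10535e9) (.node (nat_lit 0x1053514) (.leaf (nat_lit 0x1053504) (nat_lit 514))
 (.leaf (nat_lit 0x1053514) (nat_lit 768))
) (.node (nat_lit 0x10535f9) (.leaf (nat_lit 0x10535e9) (nat_lit 1286))
 (.leaf (nat_lit 0x10535f9) (nat_lit 1542))
))))))) (.node (nat_lit 0x105b926) (.node (nat_lit 0x10575e9) (.node (nat_lit 0x1055df6) (.node (nat_lit 0x10537f9) (.node (nat_lit 0x10536be) (.node (nat_lit 0x1053653) (.leaf (nat_lit 0x1053643) (nat_lit 769))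
 (.node (nat_lit 0x10536ae) (.leaf (nat_lit 0x1053653) (nat_lit 776))
 (.leaf (nat_lit 0x10536ae) (nat_lit 1281))
)) (.node (nat_lit 0x1053714) (.node (nat_lit 0x1053704) (.leaf (nat_lit 0x10536be) (nat_lit 1539))
 (.leaf (nat_lit 0x1053704) (nat_lit 769))
) (.node (nat_lit 0x10537e9) (.leaf (nat_lit 0x1053714) (nat_lit 1025))
 (.leaf (nat_lit 0x10537e9) (nat_lit 1542))
))) (.node (nat_lit 0x1055cbb) (.node (nat_lit 0x1055c51) (.node (nat_lit 0x1055c41) (.leaf (nat_lit 0x10537f9) (nat_lit 1542))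
 (.leaf (nat_lit 0x1055c41) (nat_lit 516))
) (.node (nat_lit 0x1055cab) (.leaf (nat_lit 0x1055c51) (nat_lit 514))
 (.leaf (nat_lit 0x1055cab) (nat_lit 1545))
)) (.node (nat_lit 0x1055d1c) (.node (nat_lit 0x1055d0c) (.leaf (nat_lit 0x1055cbb) (nat_lit 1545))
 (.leaf (nat_lit 0x1055d0c) (nat_lit 1026))
) (.node (nat_lit 0x1055de6) (.leaf (nat_lit 0x1055d1c) (nat_lit 1026))
 (.leaf (nat_lit 0x1055de6) (nat_lit 1289))
)))) (.node (nat_lit 0x1055fe6) (.node (nat_lit 0x1055eab) (.node (nat_lit 0x1055e41) (.leaf (nat_lit 0x1055df6) (nat_lit 1545))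
 (.node (nat_lit 0x1055e51) (.leaf (nat_lit 0x1055e41) (nat_lit 773))
 (.leaf (nat_lit 0x1055e51) (nat_lit 769))
)) (.node (nat_lit 0x1055f0c) (.node (nat_lit 0x1055ebb) (.leaf (nat_lit 0x1055eab) (nat_lit 1545))
 (.leaf (nat_lit 0x1055ebb) (nat_lit 1545))
) (.node (nat_lit 0x1055f1c) (.leaf (nat_lit 0x1055f0c) (nat_lit 1281))
 (.leaf (nat_lit 0x1055f1c) (nat_lit 1288))
))) (.node (nat_lit 0x10574ae) (.node (nat_lit 0x1057443) (.node (nat_lit 0x1055ff6) (.leaf (nat_lit 0x1055fe6) (nat_lit 1289))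
 (.leaf (nat_lit 0x1055ff6) (nat_lit 1289))
) (.node (nat_lit 0x1057453) (.leaf (nat_lit 0x1057443) (nat_lit 776))
 (.leaf (nat_lit 0x1057453) (nat_lit 776))
)) (.node (nat_lit 0x1057504) (.node (nat_lit 0x10574be) (.leaf (nat_lit 0x10574ae) (nat_lit 1283))
 (.leaf (nat_lit 0x10574be) (nat_lit 1539))
) (.node (nat_lit 0x1057514) (.leaf (nat_lit 0x1057504) (nat_lit 770))
 (.leaf (nat_lit 0x1057514) (nat_lit 770))
))))) (.node (nat_lit 0x105953f) (.node (nat_lit 0x1057714) (.node (nat_lit 0x1057653) (.node (nat_lit 0x10575f9) (.leaf (nat_lit 0x10575e9) (nat_lit 1540))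
 (.node (nat_lit 0x1057643) (.leaf (nat_lit 0x10575f9) (nat_lit 1542))
 (.leaf (nat_lit 0x1057643) (nat_lit 1032))
)) (.node (nat_lit 0x10576be) (.node (nat_lit 0x10576ae) (.leaf (nat_lit 0x1057653) (nat_lit 1025))
 (.leaf (nat_lit 0x10576ae) (nat_lit 1283))
) (.node (nat_lit 0x1057704) (.leaf (nat_lit 0x10576be) (nat_lit 1283))
 (.leaf (nat_lit 0x1057704) (nat_lit 1025))
))) (.node (nat_lit 0x1059451) (.node (nat_lit 0x10577f9) (.node (nat_lit 0x10577e9) (.leaf (nat_lit 0x1057714) (nat_lit 1025))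
 (.leaf (nat_lit 0x10577e9) (nat_lit 1542))
) (.node (nat_lit 0x1059441) (.leaf (nat_lit 0x10577f9) (nat_lit 1542))
 (.leaf (nat_lit 0x1059441) (nat_lit 259))
)) (.node (nat_lit 0x10594fa) (.node (nat_lit 0x10594ea) (.leaf (nat_lit 0x1059451) (nat_lit 512))
 (.leaf (nat_lit 0x10594ea) (nat_lit 1288))
) (.node (nat_lit 0x105952f) (.leaf (nat_lit 0x10594fa) (nat_lit 1544))
 (.leaf (nat_lit 0x105952f) (nat_lit 1033))
)))) (.node (nat_lit 0x105972f) (.node (nat_lit 0x1059641) (.node (nat_lit 0x1059584) (.leaf (nat_lit 0x105953f) (nat_lit 1289))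
 (.node (nat_lit 0x1059594) (.leaf (nat_lit 0x1059584) (nat_lit 1033))
 (.leaf (nat_lit 0x1059594) (nat_lit 1289))
)) (.node (nat_lit 0x10596ea) (.node (nat_lit 0x1059651) (.leaf (nat_lit 0x1059641) (nat_lit 513))
 (.leaf (nat_lit 0x1059651) (nat_lit 769))
) (.node (nat_lit 0x10596fa) (.leaf (nat_lit 0x10596ea) (nat_lit 1537))
 (.leaf (nat_lit 0x10596fa) (nat_lit 1544))
))) (.node (nat_lit 0x105b843) (.node (nat_lit 0x1059784) (.node (nat_lit 0x105973f) (.leaf (nat_lit 0x105972f) (nat_lit 1289))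
 (.leaf (nat_lit 0x105973f) (nat_lit 1544))
) (.node (nat_lit 0x1059794) (.leaf (nat_lit 0x1059784) (nat_lit 1289))
 (.leaf (nat_lit 0x1059794) (nat_lit 1288))
)) (.node (nat_lit 0x105b8ed) (.node (nat_lit 0x105b853) (.leaf (nat_lit 0x105b843) (nat_lit 520))
 (.leaf (nat_lit 0x105b853) (nat_lit 776))
) (.node (nat_lit 0x105b8fd) (.leaf (nat_lit 0x105b8ed) (nat_lit 1027))
 (.leaf (nat_lit 0x105b8fd) (nat_lit 1280))
)))))) (.node (nat_lit 0x105f8ed) (.node (nat_lit 0x105d4fa) (.node (nat_lit 0x105bafd) (.node (nat_lit 0x105b998) (.node (nat_lit 0x105b936) (.leaf (nat_lit 0x105b926) (nat_lit 1026))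
 (.node (nat_lit 0x105b988) (.leaf (nat_lit 0x105b936) (nat_lit 1280))
 (.leaf (nat_lit 0x105b988) (nat_lit 774))
)) (.node (nat_lit 0x105ba53) (.node (nat_lit 0x105ba43) (.leaf (nat_lit 0x105b998) (nat_lit 1024))
 (.leaf (nat_lit 0x105ba43) (nat_lit 769))
) (.node (nat_lit 0x105baed) (.leaf (nat_lit 0x105ba53) (nat_lit 776))
 (.leaf (nat_lit 0x105baed) (nat_lit 1281))
))) (.node (nat_lit 0x105bb98) (.node (nat_lit 0x105bb36) (.node (nat_lit 0x105bb26) (.leaf (nat_lit 0x105bafd) (nat_lit 1539))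
 (.leaf (nat_lit 0x105bb26) (nat_lit 1281))
) (.node (nat_lit 0x105bb88) (.leaf (nat_lit 0x105bb36) (nat_lit 1282))
 (.leaf (nat_lit 0x105bb88) (nat_lit 1030))
)) (.node (nat_lit 0x105d451) (.node (nat_lit 0x105d441) (.leaf (nat_lit 0x105bb98) (nat_lit 1030))
 (.leaf (nat_lit 0x105d441) (nat_lit 516))
) (.node (nat_lit 0x105d4ea) (.leaf (nat_lit 0x105d451) (nat_lit 773))
 (.leaf (nat_lit 0x105d4ea) (nat_lit 1544))
)))) (.node (nat_lit 0x105d6ea) (.node (nat_lit 0x105d584) (.node (nat_lit 0x105d52f) (.leaf (nat_lit 0x105d4fa) (nat_lit 1545))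
 (.node (nat_lit 0x105d53f) (.leaf (nat_lit 0x105d52f) (nat_lit 1289))
 (.leaf (nat_lit 0x105d53f) (nat_lit 1289))
)) (.node (nat_lit 0x105d641) (.node (nat_lit 0x105d594) (.leaf (nat_lit 0x105d584) (nat_lit 1289))
 (.leaf (nat_lit 0x105d594) (nat_lit 1539))
) (.node (nat_lit 0x105d651) (.leaf (nat_lit 0x105d641) (nat_lit 772))
 (.leaf (nat_lit 0x105d651) (nat_lit 771))
))) (.node (nat_lit 0x105d784) (.node (nat_lit 0x105d72f) (.node (nat_lit 0x105d6fa) (.leaf (nat_lit 0x105d6ea) (nat_lit 1544))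
 (.leaf (nat_lit 0x105d6fa) (nat_lit 1545))
) (.node (nat_lit 0x105d73f) (.leaf (nat_lit 0x105d72f) (nat_lit 1282))
 (.leaf (nat_lit 0x105d73f) (nat_lit 1545))
)) (.node (nat_lit 0x105f843) (.node (nat_lit 0x105d794) (.leaf (nat_lit 0x105d784) (nat_lit 1545))
 (.leaf (nat_lit 0x105d794) (nat_lit 1289))
) (.node (nat_lit 0x105f853) (.leaf (nat_lit 0x105f843) (nat_lit 776))
 (.leaf (nat_lit 0x105f853) (nat_lit 1032))
))))) (.node (nat_lit 0x1061071) (.node (nat_lit 0x105fa53) (.node (nat_lit 0x105f936) (.node (nat_lit 0x105f8fd) (.leaf (nat_lit 0x105f8ed) (nat_lit 1283))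
 (.node (nat_lit 0x105f926) (.leaf (nat_lit 0x105f8fd) (nat_lit 1539))
 (.leaf (nat_lit 0x105f926) (nat_lit 1282))
)) (.node (nat_lit 0x105f998) (.node (nat_lit 0x105f988) (.leaf (nat_lit 0x105f936) (nat_lit 1282))
 (.leaf (nat_lit 0x105f988) (nat_lit 1028))
) (.node (nat_lit 0x105fa43) (.leaf (nat_lit 0x105f998) (nat_lit 1286))
 (.leaf (nat_lit 0x105fa43) (nat_lit 1032))
))) (.node (nat_lit 0x105fb36) (.node (nat_lit 0x105fafd) (.node (nat_lit 0x105faed) (.leaf (nat_lit 0x105fa53) (nat_lit 1029))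
 (.leaf (nat_lit 0x105faed) (nat_lit 1539))
) (.node (nat_lit 0x105fb26) (.leaf (nat_lit 0x105fafd) (nat_lit 1283))
 (.leaf (nat_lit 0x105fb26) (nat_lit 1282))
)) (.node (nat_lit 0x105fb98) (.node (nat_lit 0x105fb88) (.leaf (nat_lit 0x105fb36) (nat_lit 1538))
 (.leaf (nat_lit 0x105fb88) (nat_lit 1030))
) (.node (nat_lit 0x1061061) (.leaf (nat_lit 0x105fb98) (nat_lit 1286))
 (.leaf (nat_lit 0x1061061) (nat_lit 520))
)))) (.node (nat_lit 0x1061261) (.node (nat_lit 0x1061165) (.node (nat_lit 0x10610ed) (.leaf (nat_lit 0x1061071) (nat_lit 776))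
 (.node (nat_lit 0x10610fd) (.leaf (nat_lit 0x10610ed) (nat_lit 1031))
 (.leaf (nat_lit 0x10610fd) (nat_lit 1287))
)) (.node (nat_lit 0x10611e9) (.node (nat_lit 0x1061175) (.leaf (nat_lit 0x1061165) (nat_lit 771))
 (.leaf (nat_lit 0x1061175) (nat_lit 1024))
) (.node (nat_lit 0x10611f9) (.leaf (nat_lit 0x10611e9) (nat_lit 1026))
 (.leaf (nat_lit 0x10611f9) (nat_lit 1282))
))) (.node (nat_lit 0x1061365) (.node (nat_lit 0x10612ed) (.node (nat_lit 0x1061271) (.leaf (nat_lit 0x1061261) (nat_lit 776))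
 (.leaf (nat_lit 0x1061271) (nat_lit 776))
) (.node (nat_lit 0x10612fd) (.leaf (nat_lit 0x10612ed) (nat_lit 1287))
 (.leaf (nat_lit 0x10612fd) (nat_lit 1287))
)) (.node (nat_lit 0x10613e9) (.node (nat_lit 0x1061375) (.leaf (nat_lit 0x1061365) (nat_lit 1027))
 (.leaf (nat_lit 0x1061375) (nat_lit 1027))
) (.node (nat_lit 0x10613f9) (.leaf (nat_lit 0x10613e9) (nat_lit 1282))
 (.leaf (nat_lit 0x10613f9) (nat_lit 1282))
)))))))) (.node (nat_lit 0x1071661) (.node (nat_lit 0x1069f26) (.node (nat_lit 0x10653e9) (.node (nat_lit 0x10623f6) (.node (nat_lit 0x10621f6) (.node (nat_lit 0x10620fa) (.node (nat_lit 0x1062072) (.leaf (nat_lit 0x1062062) (nat_lit 262))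
 (.node (nat_lit 0x10620ea) (.leaf (nat_lit 0x1062072) (nat_lit 512))
 (.leaf (nat_lit 0x10620ea) (nat_lit 1033))
)) (.node (nat_lit 0x106217e) (.node (nat_lit 0x106216e) (.leaf (nat_lit 0x10620fa) (nat_lit 1289))
 (.leaf (nat_lit 0x106216e) (nat_lit 1032))
) (.node (nat_lit 0x10621e6) (.leaf (nat_lit 0x106217e) (nat_lit 1288))
 (.leaf (nat_lit 0x10621e6) (nat_lit 1033))
))) (.node (nat_lit 0x10622fa) (.node (nat_lit 0x1062272) (.node (nat_lit 0x1062262) (.leaf (nat_lit 0x10621f6) (nat_lit 1289))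
 (.leaf (nat_lit 0x1062262) (nat_lit 518))
) (.node (nat_lit 0x10622ea) (.leaf (nat_lit 0x1062272) (nat_lit 518))
 (.leaf (nat_lit 0x10622ea) (nat_lit 1289))
)) (.node (nat_lit 0x106237e) (.node (nat_lit 0x106236e) (.leaf (nat_lit 0x10622fa) (nat_lit 1289))
 (.leaf (nat_lit 0x106236e) (nat_lit 1288))
) (.node (nat_lit 0x10623e6) (.leaf (nat_lit 0x106237e) (nat_lit 1288))
 (.leaf (nat_lit 0x10623e6) (nat_lit 1289))
)))) (.node (nat_lit 0x10651e9) (.node (nat_lit 0x10650ed) (.node (nat_lit 0x1065061) (.leaf (nat_lit 0x10623f6) (nat_lit 1289))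
 (.node (nat_lit 0x1065071) (.leaf (nat_lit 0x1065061) (nat_lit 776))
 (.leaf (nat_lit 0x1065071) (nat_lit 1032))
)) (.node (nat_lit 0x1065165) (.node (nat_lit 0x10650fd) (.leaf (nat_lit 0x10650ed) (nat_lit 1287))
 (.leaf (nat_lit 0x10650fd) (nat_lit 1543))
) (.node (nat_lit 0x1065175) (.leaf (nat_lit 0x1065165) (nat_lit 1027))
 (.leaf (nat_lit 0x1065175) (nat_lit 1280))
))) (.node (nat_lit 0x10652ed) (.node (nat_lit 0x1065261) (.node (nat_lit 0x10651f9) (.leaf (nat_lit 0x10651e9) (nat_lit 1282))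
 (.leaf (nat_lit 0x10651f9) (nat_lit 1282))
) (.node (nat_lit 0x1065271) (.leaf (nat_lit 0x1065261) (nat_lit 1032))
 (.leaf (nat_lit 0x1065271) (nat_lit 1032))
)) (.node (nat_lit 0x1065365) (.node (nat_lit 0x10652fd) (.leaf (nat_lit 0x10652ed) (nat_lit 1543))
 (.leaf (nat_lit 0x10652fd) (nat_lit 1543))
) (.node (nat_lit 0x1065375) (.leaf (nat_lit 0x1065365) (nat_lit 1283))
 (.leaf (nat_lit 0x1065375) (nat_lit 1283))
))))) (.node (nat_lit 0x106637e) (.node (nat_lit 0x106617e) (.node (nat_lit 0x1066072) (.node (nat_lit 0x10653f9) (.leaf (nat_lit 0x10653e9) (nat_lit 1538))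
 (.node (nat_lit 0x1066062) (.leaf (nat_lit 0x10653f9) (nat_lit 1538))
 (.leaf (nat_lit 0x1066062) (nat_lit 516))
)) (.node (nat_lit 0x10660fa) (.node (nat_lit 0x10660ea) (.leaf (nat_lit 0x1066072) (nat_lit 772))
 (.leaf (nat_lit 0x10660ea) (nat_lit 1289))
) (.node (nat_lit 0x106616e) (.leaf (nat_lit 0x10660fa) (nat_lit 1545))
 (.leaf (nat_lit 0x106616e) (nat_lit 1288))
))) (.node (nat_lit 0x1066272) (.node (nat_lit 0x10661f6) (.node (nat_lit 0x10661e6) (.leaf (nat_lit 0x106617e) (nat_lit 1544))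
 (.leaf (nat_lit 0x10661e6) (nat_lit 1289))
) (.node (nat_lit 0x1066262) (.leaf (nat_lit 0x10661f6) (nat_lit 1289))
 (.leaf (nat_lit 0x1066262) (nat_lit 772))
)) (.node (nat_lit 0x10662fa) (.node (nat_lit 0x10662ea) (.leaf (nat_lit 0x1066272) (nat_lit 772))
 (.leaf (nat_lit 0x10662ea) (nat_lit 1545))
) (.node (nat_lit 0x106636e) (.leaf (nat_lit 0x10662fa) (nat_lit 1289))
 (.leaf (nat_lit 0x106636e) (nat_lit 1544))
)))) (.node (nat_lit 0x1069d26) (.node (nat_lit 0x1069c61) (.node (nat_lit 0x10663e6) (.leaf (nat_lit 0x106637e) (nat_lit 1544))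
 (.node (nat_lit 0x10663f6) (.leaf (nat_lit 0x10663e6) (nat_lit 1545))
 (.leaf (nat_lit 0x10663f6) (nat_lit 1545))
)) (.node (nat_lit 0x1069c8c) (.node (nat_lit 0x1069c71) (.leaf (nat_lit 0x1069c61) (nat_lit 776))
 (.leaf (nat_lit 0x1069c71) (nat_lit 1032))
) (.node (nat_lit 0x1069c9c) (.leaf (nat_lit 0x1069c8c) (nat_lit 775))
 (.leaf (nat_lit 0x1069c9c) (nat_lit 1031))
))) (.node (nat_lit 0x1069e61) (.node (nat_lit 0x1069dcb) (.node (nat_lit 0x1069d36) (.leaf (nat_lit 0x1069d26) (nat_lit 1027))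
 (.leaf (nat_lit 0x1069d36) (nat_lit 1280))
) (.node (nat_lit 0x1069ddb) (.leaf (nat_lit 0x1069dcb) (nat_lit 1026))
 (.leaf (nat_lit 0x1069ddb) (nat_lit 1280))
)) (.node (nat_lit 0x1069e8c) (.node (nat_lit 0x1069e71) (.leaf (nat_lit 0x1069e61) (nat_lit 1032))
 (.leaf (nat_lit 0x1069e71) (nat_lit 1032))
) (.node (nat_lit 0x1069e9c) (.leaf (nat_lit 0x1069e8c) (nat_lit 1025))
 (.leaf (nat_lit 0x1069e9c) (nat_lit 1031))
)))))) (.node (nat_lit 0x106de8c) (.node (nat_lit 0x106aa98) (.node (nat_lit 0x106a898) (.node (nat_lit 0x1069fdb) (.node (nat_lit 0x1069f36) (.leaf (nat_lit 0x1069f26) (nat_lit 1283))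
 (.node (nat_lit 0x1069fcb) (.leaf (nat_lit 0x1069f36) (nat_lit 1283))
 (.leaf (nat_lit 0x1069fcb) (nat_lit 1281))
)) (.node (nat_lit 0x106a872) (.node (nat_lit 0x106a862) (.leaf (nat_lit 0x1069fdb) (nat_lit 1538))
 (.leaf (nat_lit 0x106a862) (nat_lit 518))
) (.node (nat_lit 0x106a888) (.leaf (nat_lit 0x106a872) (nat_lit 768))
 (.leaf (nat_lit 0x106a888) (nat_lit 1027))
))) (.node (nat_lit 0x106a9d5) (.node (nat_lit 0x106a93f) (.node (nat_lit 0x106a92f) (.leaf (nat_lit 0x106a898) (nat_lit 1280))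
 (.leaf (nat_lit 0x106a92f) (nat_lit 1288))
) (.node (nat_lit 0x106a9c5) (.leaf (nat_lit 0x106a93f) (nat_lit 1544))
 (.leaf (nat_lit 0x106a9c5) (nat_lit 1289))
)) (.node (nat_lit 0x106aa72) (.node (nat_lit 0x106aa62) (.leaf (nat_lit 0x106a9d5) (nat_lit 1545))
 (.leaf (nat_lit 0x106aa62) (nat_lit 774))
) (.node (nat_lit 0x106aa88) (.leaf (nat_lit 0x106aa72) (nat_lit 774))
 (.leaf (nat_lit 0x106aa88) (nat_lit 1281))
)))) (.node (nat_lit 0x106dc8c) (.node (nat_lit 0x106abc5) (.node (nat_lit 0x106ab2f) (.leaf (nat_lit 0x106aa98) (nat_lit 1286))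
 (.node (nat_lit 0x106ab3f) (.leaf (nat_lit 0x106ab2f) (nat_lit 1544))
 (.leaf (nat_lit 0x106ab3f) (nat_lit 1544))
)) (.node (nat_lit 0x106dc61) (.node (nat_lit 0x106abd5) (.leaf (nat_lit 0x106abc5) (nat_lit 1545))
 (.leaf (nat_lit 0x106abd5) (nat_lit 1545))
) (.node (nat_lit 0x106dc71) (.leaf (nat_lit 0x106dc61) (nat_lit 1032))
 (.leaf (nat_lit 0x106dc71) (nat_lit 1288))
))) (.node (nat_lit 0x106ddcb) (.node (nat_lit 0x106dd26) (.node (nat_lit 0x106dc9c) (.leaf (nat_lit 0x106dc8c) (nat_lit 1031))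
 (.leaf (nat_lit 0x106dc9c) (nat_lit 1287))
) (.node (nat_lit 0x106dd36) (.leaf (nat_lit 0x106dd26) (nat_lit 1283))
 (.leaf (nat_lit 0x106dd36) (nat_lit 1283))
)) (.node (nat_lit 0x106de61) (.node (nat_lit 0x106dddb) (.leaf (nat_lit 0x106ddcb) (nat_lit 1282))
 (.leaf (nat_lit 0x106dddb) (nat_lit 1282))
) (.node (nat_lit 0x106de71) (.leaf (nat_lit 0x106de61) (nat_lit 1032))
 (.leaf (nat_lit 0x106de71) (nat_lit 1288))
))))) (.node (nat_lit 0x106ea72) (.node (nat_lit 0x106e872) (.node (nat_lit 0x106df36) (.node (nat_lit 0x106de9c) (.leaf (nat_lit 0x106de8c) (nat_lit 1281))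
 (.node (nat_lit 0x106df26) (.leaf (nat_lit 0x106de9c) (nat_lit 1287))
 (.leaf (nat_lit 0x106df26) (nat_lit 1539))
)) (.node (nat_lit 0x106dfdb) (.node (nat_lit 0x106dfcb) (.leaf (nat_lit 0x106df36) (nat_lit 1539))
 (.leaf (nat_lit 0x106dfcb) (nat_lit 1538))
) (.node (nat_lit 0x106e862) (.leaf (nat_lit 0x106dfdb) (nat_lit 1282))
 (.leaf (nat_lit 0x106e862) (nat_lit 772))
))) (.node (nat_lit 0x106e93f) (.node (nat_lit 0x106e898) (.node (nat_lit 0x106e888) (.leaf (nat_lit 0x106e872) (nat_lit 1030))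
 (.leaf (nat_lit 0x106e888) (nat_lit 1283))
) (.node (nat_lit 0x106e92f) (.leaf (nat_lit 0x106e898) (nat_lit 1539))
 (.leaf (nat_lit 0x106e92f) (nat_lit 1544))
)) (.node (nat_lit 0x106e9d5) (.node (nat_lit 0x106e9c5) (.leaf (nat_lit 0x106e93f) (nat_lit 1544))
 (.leaf (nat_lit 0x106e9c5) (nat_lit 1545))
) (.node (nat_lit 0x106ea62) (.leaf (nat_lit 0x106e9d5) (nat_lit 1545))
 (.leaf (nat_lit 0x106ea62) (nat_lit 1030))
)))) (.node (nat_lit 0x1071461) (.node (nat_lit 0x106eb2f) (.node (nat_lit 0x106ea88) (.leaf (nat_lit 0x106ea72) (nat_lit 774))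
 (.node (nat_lit 0x106ea98) (.leaf (nat_lit 0x106ea88) (nat_lit 1537))
 (.leaf (nat_lit 0x106ea98) (nat_lit 1283))
)) (.node (nat_lit 0x106ebc5) (.node (nat_lit 0x106eb3f) (.leaf (nat_lit 0x106eb2f) (nat_lit 1538))
 (.leaf (nat_lit 0x106eb3f) (nat_lit 1800))
) (.node (nat_lit 0x106ebd5) (.leaf (nat_lit 0x106ebc5) (nat_lit 1545))
 (.leaf (nat_lit 0x106ebd5) (nat_lit 1801))
))) (.node (nat_lit 0x1071504) (.node (nat_lit 0x10714cf) (.node (nat_lit 0x1071471) (.leaf (nat_lit 0x1071461) (nat_lit 776))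
 (.leaf (nat_lit 0x1071471) (nat_lit 1032))
) (.node (nat_lit 0x10714df) (.leaf (nat_lit 0x10714cf) (nat_lit 1287))
 (.leaf (nat_lit 0x10714df) (nat_lit 1543))
)) (.node (nat_lit 0x10715aa) (.node (nat_lit 0x1071514) (.leaf (nat_lit 0x1071504) (nat_lit 515))
 (.leaf (nat_lit 0x1071514) (nat_lit 768))
) (.node (nat_lit 0x10715ba) (.leaf (nat_lit 0x10715aa) (nat_lit 1026))
 (.leaf (nat_lit 0x10715ba) (nat_lit 1280))
))))))) (.node (nat_lit 0x1079947) (.node (nat_lit 0x10755aa) (.node (nat_lit 0x1072db7) (.node (nat_lit 0x10717ba) (.node (nat_lit 0x10716df) (.node (nat_lit 0x1071671) (.leaf (nat_lit 0x1071661) (nat_lit 1032))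
 (.node (nat_lit 0x10716cf) (.leaf (nat_lit 0x1071671) (nat_lit 1032))
 (.leaf (nat_lit 0x10716cf) (nat_lit 1537))
)) (.node (nat_lit 0x1071714) (.node (nat_lit 0x1071704) (.leaf (nat_lit 0x10716df) (nat_lit 1543))
 (.leaf (nat_lit 0x1071704) (nat_lit 769))
) (.node (nat_lit 0x10717aa) (.leaf (nat_lit 0x1071714) (nat_lit 1025))
 (.leaf (nat_lit 0x10717aa) (nat_lit 1281))
))) (.node (nat_lit 0x1072cd9) (.node (nat_lit 0x1072c72) (.node (nat_lit 0x1072c62) (.leaf (nat_lit 0x10717ba) (nat_lit 1538))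
 (.leaf (nat_lit 0x1072c62) (nat_lit 518))
) (.node (nat_lit 0x1072cc9) (.leaf (nat_lit 0x1072c72) (nat_lit 768))
 (.leaf (nat_lit 0x1072cc9) (nat_lit 1289))
)) (.node (nat_lit 0x1072d1c) (.node (nat_lit 0x1072d0c) (.leaf (nat_lit 0x1072cd9) (nat_lit 1545))
 (.leaf (nat_lit 0x1072d0c) (nat_lit 776))
) (.node (nat_lit 0x1072da7) (.leaf (nat_lit 0x1072d1c) (nat_lit 1032))
 (.leaf (nat_lit 0x1072da7) (nat_lit 1282))
)))) (.node (nat_lit 0x1072fa7) (.node (nat_lit 0x1072ec9) (.node (nat_lit 0x1072e62) (.leaf (nat_lit 0x1072db7) (nat_lit 1536))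
 (.node (nat_lit 0x1072e72) (.leaf (nat_lit 0x1072e62) (nat_lit 774))
 (.leaf (nat_lit 0x1072e72) (nat_lit 774))
)) (.node (nat_lit 0x1072f0c) (.node (nat_lit 0x1072ed9) (.leaf (nat_lit 0x1072ec9) (nat_lit 1545))
 (.leaf (nat_lit 0x1072ed9) (nat_lit 1545))
) (.node (nat_lit 0x1072f1c) (.leaf (nat_lit 0x1072f0c) (nat_lit 1025))
 (.leaf (nat_lit 0x1072f1c) (nat_lit 1032))
))) (.node (nat_lit 0x10754cf) (.node (nat_lit 0x1075461) (.node (nat_lit 0x1072fb7) (.leaf (nat_lit 0x1072fa7) (nat_lit 1537))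
 (.leaf (nat_lit 0x1072fb7) (nat_lit 1544))
) (.node (nat_lit 0x1075471) (.leaf (nat_lit 0x1075461) (nat_lit 1032))
 (.leaf (nat_lit 0x1075471) (nat_lit 1288))
)) (.node (nat_lit 0x1075504) (.node (nat_lit 0x10754df) (.leaf (nat_lit 0x10754cf) (nat_lit 1543))
 (.leaf (nat_lit 0x10754df) (nat_lit 1543))
) (.node (nat_lit 0x1075514) (.leaf (nat_lit 0x1075504) (nat_lit 771))
 (.leaf (nat_lit 0x1075514) (nat_lit 1024))
))))) (.node (nat_lit 0x1076d1c) (.node (nat_lit 0x1075714) (.node (nat_lit 0x1075671) (.node (nat_lit 0x10755ba) (.leaf (nat_lit 0x10755aa) (nat_lit 1282))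
 (.node (nat_lit 0x1075661) (.leaf (nat_lit 0x10755ba) (nat_lit 1282))
 (.leaf (nat_lit 0x1075661) (nat_lit 1288))
)) (.node (nat_lit 0x10756df) (.node (nat_lit 0x10756cf) (.leaf (nat_lit 0x1075671) (nat_lit 1032))
 (.leaf (nat_lit 0x10756cf) (nat_lit 1542))
) (.node (nat_lit 0x1075704) (.leaf (nat_lit 0x10756df) (nat_lit 1793))
 (.leaf (nat_lit 0x1075704) (nat_lit 1025))
))) (.node (nat_lit 0x1076c72) (.node (nat_lit 0x10757ba) (.node (nat_lit 0x10757aa) (.leaf (nat_lit 0x1075714) (nat_lit 1027))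
 (.leaf (nat_lit 0x10757aa) (nat_lit 1282))
) (.node (nat_lit 0x1076c62) (.leaf (nat_lit 0x10757ba) (nat_lit 1536))
 (.leaf (nat_lit 0x1076c62) (nat_lit 772))
)) (.node (nat_lit 0x1076cd9) (.node (nat_lit 0x1076cc9) (.leaf (nat_lit 0x1076c72) (nat_lit 1030))
 (.leaf (nat_lit 0x1076cc9) (nat_lit 1545))
) (.node (nat_lit 0x1076d0c) (.leaf (nat_lit 0x1076cd9) (nat_lit 1545))
 (.leaf (nat_lit 0x1076d0c) (nat_lit 1032))
)))) (.node (nat_lit 0x1076f0c) (.node (nat_lit 0x1076e62) (.node (nat_lit 0x1076da7) (.leaf (nat_lit 0x1076d1c) (nat_lit 1288))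
 (.node (nat_lit 0x1076db7) (.leaf (nat_lit 0x1076da7) (nat_lit 1538))
 (.leaf (nat_lit 0x1076db7) (nat_lit 1538))
)) (.node (nat_lit 0x1076ec9) (.node (nat_lit 0x1076e72) (.leaf (nat_lit 0x1076e62) (nat_lit 774))
 (.leaf (nat_lit 0x1076e72) (nat_lit 1024))
) (.node (nat_lit 0x1076ed9) (.leaf (nat_lit 0x1076ec9) (nat_lit 1538))
 (.leaf (nat_lit 0x1076ed9) (nat_lit 1545))
))) (.node (nat_lit 0x1079861) (.node (nat_lit 0x1076fa7) (.node (nat_lit 0x1076f1c) (.leaf (nat_lit 0x1076f0c) (nat_lit 1281))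
 (.leaf (nat_lit 0x1076f1c) (nat_lit 1288))
) (.node (nat_lit 0x1076fb7) (.leaf (nat_lit 0x1076fa7) (nat_lit 1792))
 (.leaf (nat_lit 0x1076fb7) (nat_lit 1538))
)) (.node (nat_lit 0x10798ae) (.node (nat_lit 0x1079871) (.leaf (nat_lit 0x1079861) (nat_lit 776))
 (.leaf (nat_lit 0x1079871) (nat_lit 1032))
) (.node (nat_lit 0x10798be) (.leaf (nat_lit 0x10798ae) (nat_lit 1031))
 (.leaf (nat_lit 0x10798be) (nat_lit 1287))
)))))) (.node (nat_lit 0x107d8ae) (.node (nat_lit 0x107a4bb) (.node (nat_lit 0x1079abe) (.node (nat_lit 0x1079998) (.node (nat_lit 0x1079957) (.leaf (nat_lit 0x1079947) (nat_lit 771))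
 (.node (nat_lit 0x1079988) (.leaf (nat_lit 0x1079957) (nat_lit 1024))
 (.leaf (nat_lit 0x1079988) (nat_lit 770))
)) (.node (nat_lit 0x1079a71) (.node (nat_lit 0x1079a61) (.leaf (nat_lit 0x1079998) (nat_lit 1024))
 (.leaf (nat_lit 0x1079a61) (nat_lit 1025))
) (.node (nat_lit 0x1079aae) (.leaf (nat_lit 0x1079a71) (nat_lit 1032))
 (.leaf (nat_lit 0x1079aae) (nat_lit 1281))
))) (.node (nat_lit 0x1079b98) (.node (nat_lit 0x1079b57) (.node (nat_lit 0x1079b47) (.leaf (nat_lit 0x1079abe) (nat_lit 1287))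
 (.leaf (nat_lit 0x1079b47) (nat_lit 1025))
) (.node (nat_lit 0x1079b88) (.leaf (nat_lit 0x1079b57) (nat_lit 1283))
 (.leaf (nat_lit 0x1079b88) (nat_lit 1025))
)) (.node (nat_lit 0x107a472) (.node (nat_lit 0x107a462) (.leaf (nat_lit 0x1079b98) (nat_lit 1282))
 (.leaf (nat_lit 0x107a462) (nat_lit 514))
) (.node (nat_lit 0x107a4ab) (.leaf (nat_lit 0x107a472) (nat_lit 768))
 (.leaf (nat_lit 0x107a4ab) (nat_lit 1283))
)))) (.node (nat_lit 0x107a6ab) (.node (nat_lit 0x107a584) (.node (nat_lit 0x107a54d) (.leaf (nat_lit 0x107a4bb) (nat_lit 1536))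
 (.node (nat_lit 0x107a55d) (.leaf (nat_lit 0x107a54d) (nat_lit 1032))
 (.leaf (nat_lit 0x107a55d) (nat_lit 1288))
)) (.node (nat_lit 0x107a662) (.node (nat_lit 0x107a594) (.leaf (nat_lit 0x107a584) (nat_lit 1026))
 (.leaf (nat_lit 0x107a594) (nat_lit 1280))
) (.node (nat_lit 0x107a672) (.leaf (nat_lit 0x107a662) (nat_lit 769))
 (.leaf (nat_lit 0x107a672) (nat_lit 1026))
))) (.node (nat_lit 0x107a784) (.node (nat_lit 0x107a74d) (.node (nat_lit 0x107a6bb) (.leaf (nat_lit 0x107a6ab) (nat_lit 1537))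
 (.leaf (nat_lit 0x107a6bb) (nat_lit 1542))
) (.node (nat_lit 0x107a75d) (.leaf (nat_lit 0x107a74d) (nat_lit 1281))
 (.leaf (nat_lit 0x107a75d) (nat_lit 1288))
)) (.node (nat_lit 0x107d861) (.node (nat_lit 0x107a794) (.leaf (nat_lit 0x107a784) (nat_lit 1281))
 (.leaf (nat_lit 0x107a794) (nat_lit 1288))
) (.node (nat_lit 0x107d871) (.leaf (nat_lit 0x107d861) (nat_lit 1032))
 (.leaf (nat_lit 0x107d871) (nat_lit 1032))
))))) (.node (nat_lit 0x107e472) (.node (nat_lit 0x107da71) (.node (nat_lit 0x107d957) (.node (nat_lit 0x107d8be) (.leaf (nat_lit 0x107d8ae) (nat_lit 1287))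
 (.node (nat_lit 0x107d947) (.leaf (nat_lit 0x107d8be) (nat_lit 1543))
 (.leaf (nat_lit 0x107d947) (nat_lit 1027))
)) (.node (nat_lit 0x107d998) (.node (nat_lit 0x107d988) (.leaf (nat_lit 0x107d957) (nat_lit 1283))
 (.leaf (nat_lit 0x107d988) (nat_lit 1026))
) (.node (nat_lit 0x107da61) (.leaf (nat_lit 0x107d998) (nat_lit 1026))
 (.leaf (nat_lit 0x107da61) (nat_lit 1288))
))) (.node (nat_lit 0x107db57) (.node (nat_lit 0x107dabe) (.node (nat_lit 0x107daae) (.leaf (nat_lit 0x107da71) (nat_lit 1288))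
 (.leaf (nat_lit 0x107daae) (nat_lit 1543))
) (.node (nat_lit 0x107db47) (.leaf (nat_lit 0x107dabe) (nat_lit 1543))
 (.leaf (nat_lit 0x107db47) (nat_lit 1283))
)) (.node (nat_lit 0x107db98) (.node (nat_lit 0x107db88) (.leaf (nat_lit 0x107db57) (nat_lit 1283))
 (.leaf (nat_lit 0x107db88) (nat_lit 1282))
) (.node (nat_lit 0x107e462) (.leaf (nat_lit 0x107db98) (nat_lit 1282))
 (.leaf (nat_lit 0x107e462) (nat_lit 772))
)))) (.node (nat_lit 0x107e662) (.node (nat_lit 0x107e54d) (.node (nat_lit 0x107e4ab) (.leaf (nat_lit 0x107e472) (nat_lit 770))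
 (.node (nat_lit 0x107e4bb) (.leaf (nat_lit 0x107e4ab) (nat_lit 1539))
 (.leaf (nat_lit 0x107e4bb) (nat_lit 1795))
)) (.node (nat_lit 0x107e584) (.node (nat_lit 0x107e55d) (.leaf (nat_lit 0x107e54d) (nat_lit 1288))
 (.leaf (nat_lit 0x107e55d) (nat_lit 1541))
) (.node (nat_lit 0x107e594) (.leaf (nat_lit 0x107e584) (nat_lit 1282))
 (.leaf (nat_lit 0x107e594) (nat_lit 1282))
))) (.node (nat_lit 0x107e74d) (.node (nat_lit 0x107e6ab) (.node (nat_lit 0x107e672) (.leaf (nat_lit 0x107e662) (nat_lit 1026))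
 (.leaf (nat_lit 0x107e672) (nat_lit 1026))
) (.node (nat_lit 0x107e6bb) (.leaf (nat_lit 0x107e6ab) (nat_lit 1545))
 (.leaf (nat_lit 0x107e6bb) (nat_lit 1539))
)) (.node (nat_lit 0x107e784) (.node (nat_lit 0x107e75d) (.leaf (nat_lit 0x107e74d) (nat_lit 1544))
 (.leaf (nat_lit 0x107e75d) (nat_lit 1544))
) (.node (nat_lit 0x107e794) (.leaf (nat_lit 0x107e784) (nat_lit 1538))
 (.leaf (nat_lit 0x107e794) (nat_lit 1538))
)))))))))) (.node (nat_lit 0x10c5041) (.node (nat_lit 0x10a7023) (.node (nat_lit 0x1094f0c) (.node (nat_lit 0x108cecf) (.node (nat_lit 0x1088eed) (.node (nat_lit 0x1088afa) (.node (nat_lit 0x10888fa) (.node (nat_lit 0x10888bb) (.node (nat_lit 0x1088898) (.leaf (nat_lit 0x1088888) (nat_lit 1033))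
 (.node (nat_lit 0x10888ab) (.leaf (nat_lit 0x1088898) (nat_lit 1289))
 (.leaf (nat_lit 0x10888ab) (nat_lit 1289))
)) (.node (nat_lit 0x10888d9) (.node (nat_lit 0x10888c9) (.leaf (nat_lit 0x10888bb) (nat_lit 1545))
 (.leaf (nat_lit 0x10888c9) (nat_lit 1289))
) (.node (nat_lit 0x10888ea) (.leaf (nat_lit 0x10888d9) (nat_lit 1289))
 (.leaf (nat_lit 0x10888ea) (nat_lit 1289))
))) (.node (nat_lit 0x1088abb) (.node (nat_lit 0x1088a98) (.node (nat_lit 0x1088a88) (.leaf (nat_lit 0x10888fa) (nat_lit 1545))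
 (.leaf (nat_lit 0x1088a88) (nat_lit 1289))
) (.node (nat_lit 0x1088aab) (.leaf (nat_lit 0x1088a98) (nat_lit 1289))
 (.leaf (nat_lit 0x1088aab) (nat_lit 1545))
)) (.node (nat_lit 0x1088ad9) (.node (nat_lit 0x1088ac9) (.leaf (nat_lit 0x1088abb) (nat_lit 1289))
 (.leaf (nat_lit 0x1088ac9) (nat_lit 1545))
) (.node (nat_lit 0x1088aea) (.leaf (nat_lit 0x1088ad9) (nat_lit 1545))
 (.leaf (nat_lit 0x1088aea) (nat_lit 1289))
)))) (.node (nat_lit 0x1088ced) (.node (nat_lit 0x1088cae) (.node (nat_lit 0x1088c8c) (.leaf (nat_lit 0x1088afa) (nat_lit 1545))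
 (.node (nat_lit 0x1088c9c) (.leaf (nat_lit 0x1088c8c) (nat_lit 777))
 (.leaf (nat_lit 0x1088c9c) (nat_lit 1033))
)) (.node (nat_lit 0x1088ccf) (.node (nat_lit 0x1088cbe) (.leaf (nat_lit 0x1088cae) (nat_lit 1033))
 (.leaf (nat_lit 0x1088cbe) (nat_lit 1289))
) (.node (nat_lit 0x1088cdf) (.leaf (nat_lit 0x1088ccf) (nat_lit 1033))
 (.leaf (nat_lit 0x1088cdf) (nat_lit 1289))
))) (.node (nat_lit 0x1088eae) (.node (nat_lit 0x1088e8c) (.node (nat_lit 0x1088cfd) (.leaf (nat_lit 0x1088ced) (nat_lit 1033))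
 (.leaf (nat_lit 0x1088cfd) (nat_lit 1289))
) (.node (nat_lit 0x1088e9c) (.leaf (nat_lit 0x1088e8c) (nat_lit 1033))
 (.leaf (nat_lit 0x1088e9c) (nat_lit 1033))
)) (.node (nat_lit 0x1088ecf) (.node (nat_lit 0x1088ebe) (.leaf (nat_lit 0x1088eae) (nat_lit 1289))
 (.leaf (nat_lit 0x1088ebe) (nat_lit 1033))
) (.node (nat_lit 0x1088edf) (.leaf (nat_lit 0x1088ecf) (nat_lit 1033))
 (.leaf (nat_lit 0x1088edf) (nat_lit 1289))
))))) (.node (nat_lit 0x108cad9) (.node (nat_lit 0x108c8d9) (.node (nat_lit 0x108c898) (.node (nat_lit 0x1088efd) (.leaf (nat_lit 0x1088eed) (nat_lit 1289))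
 (.node (nat_lit 0x108c888) (.leaf (nat_lit 0x1088efd) (nat_lit 1289))
 (.leaf (nat_lit 0x108c888) (nat_lit 1033))
)) (.node (nat_lit 0x108c8bb) (.node (nat_lit 0x108c8ab) (.leaf (nat_lit 0x108c898) (nat_lit 1289))
 (.leaf (nat_lit 0x108c8ab) (nat_lit 1289))
) (.node (nat_lit 0x108c8c9) (.leaf (nat_lit 0x108c8bb) (nat_lit 1545))
 (.leaf (nat_lit 0x108c8c9) (nat_lit 1289))
))) (.node (nat_lit 0x108ca98) (.node (nat_lit 0x108c8fa) (.node (nat_lit 0x108c8ea) (.leaf (nat_lit 0x108c8d9) (nat_lit 1545))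
 (.leaf (nat_lit 0x108c8ea) (nat_lit 1289))
) (.node (nat_lit 0x108ca88) (.leaf (nat_lit 0x108c8fa) (nat_lit 1289))
 (.leaf (nat_lit 0x108ca88) (nat_lit 1289))
)) (.node (nat_lit 0x108cabb) (.node (nat_lit 0x108caab) (.leaf (nat_lit 0x108ca98) (nat_lit 1289))
 (.leaf (nat_lit 0x108caab) (nat_lit 1289))
) (.node (nat_lit 0x108cac9) (.leaf (nat_lit 0x108cabb) (nat_lit 1545))
 (.leaf (nat_lit 0x108cac9) (nat_lit 1545))
)))) (.node (nat_lit 0x108cccf) (.node (nat_lit 0x108cc8c) (.node (nat_lit 0x108caea) (.leaf (nat_lit 0x108cad9) (nat_lit 1289))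
 (.node (nat_lit 0x108cafa) (.leaf (nat_lit 0x108caea) (nat_lit 1545))
 (.leaf (nat_lit 0x108cafa) (nat_lit 1545))
)) (.node (nat_lit 0x108ccae) (.node (nat_lit 0x108cc9c) (.leaf (nat_lit 0x108cc8c) (nat_lit 777))
 (.leaf (nat_lit 0x108cc9c) (nat_lit 1033))
) (.node (nat_lit 0x108ccbe) (.leaf (nat_lit 0x108ccae) (nat_lit 1033))
 (.leaf (nat_lit 0x108ccbe) (nat_lit 1289))
))) (.node (nat_lit 0x108ce8c) (.node (nat_lit 0x108cced) (.node (nat_lit 0x108ccdf) (.leaf (nat_lit 0x108cccf) (nat_lit 1289))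
 (.leaf (nat_lit 0x108ccdf) (nat_lit 1033))
) (.node (nat_lit 0x108ccfd) (.leaf (nat_lit 0x108cced) (nat_lit 1033))
 (.leaf (nat_lit 0x108ccfd) (nat_lit 1289))
)) (.node (nat_lit 0x108ceae) (.node (nat_lit 0x108ce9c) (.leaf (nat_lit 0x108ce8c) (nat_lit 1033))
 (.leaf (nat_lit 0x108ce9c) (nat_lit 1033))
) (.node (nat_lit 0x108cebe) (.leaf (nat_lit 0x108ceae) (nat_lit 1033))
 (.leaf (nat_lit 0x108cebe) (nat_lit 1289))
)))))) (.node (nat_lit 0x1090f2f) (.node (nat_lit 0x1090736) (.node (nat_lit 0x1090536) (.node (nat_lit 0x108cefd) (.node (nat_lit 0x108cedf) (.leaf (nat_lit 0x108cecf) (nat_lit 1289))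
 (.node (nat_lit 0x108ceed) (.leaf (nat_lit 0x108cedf) (nat_lit 1289))
 (.leaf (nat_lit 0x108ceed) (nat_lit 1289))
)) (.node (nat_lit 0x1090514) (.node (nat_lit 0x1090504) (.leaf (nat_lit 0x108cefd) (nat_lit 1033))
 (.leaf (nat_lit 0x1090504) (nat_lit 521))
) (.node (nat_lit 0x1090526) (.leaf (nat_lit 0x1090514) (nat_lit 777))
 (.leaf (nat_lit 0x1090526) (nat_lit 1033))
))) (.node (nat_lit 0x1090575) (.node (nat_lit 0x1090557) (.node (nat_lit 0x1090547) (.leaf (nat_lit 0x1090536) (nat_lit 1033))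
 (.leaf (nat_lit 0x1090547) (nat_lit 777))
) (.node (nat_lit 0x1090565) (.leaf (nat_lit 0x1090557) (nat_lit 1033))
 (.leaf (nat_lit 0x1090565) (nat_lit 777))
)) (.node (nat_lit 0x1090714) (.node (nat_lit 0x1090704) (.leaf (nat_lit 0x1090575) (nat_lit 1033))
 (.leaf (nat_lit 0x1090704) (nat_lit 777))
) (.node (nat_lit 0x1090726) (.leaf (nat_lit 0x1090714) (nat_lit 1033))
 (.leaf (nat_lit 0x1090726) (nat_lit 1033))
)))) (.node (nat_lit 0x1090d2f) (.node (nat_lit 0x1090765) (.node (nat_lit 0x1090747) (.leaf (nat_lit 0x1090736) (nat_lit 1033))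
 (.node (nat_lit 0x1090757) (.leaf (nat_lit 0x1090747) (nat_lit 1033))
 (.leaf (nat_lit 0x1090757) (nat_lit 777))
)) (.node (nat_lit 0x1090d0c) (.node (nat_lit 0x1090775) (.leaf (nat_lit 0x1090765) (nat_lit 777))
 (.leaf (nat_lit 0x1090775) (nat_lit 1033))
) (.node (nat_lit 0x1090d1c) (.leaf (nat_lit 0x1090d0c) (nat_lit 777))
 (.leaf (nat_lit 0x1090d1c) (nat_lit 1033))
))) (.node (nat_lit 0x1090d6e) (.node (nat_lit 0x1090d4d) (.node (nat_lit 0x1090d3f) (.leaf (nat_lit 0x1090d2f) (nat_lit 1033))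
 (.leaf (nat_lit 0x1090d3f) (nat_lit 1289))
) (.node (nat_lit 0x1090d5d) (.leaf (nat_lit 0x1090d4d) (nat_lit 1033))
 (.leaf (nat_lit 0x1090d5d) (nat_lit 1289))
)) (.node (nat_lit 0x1090f0c) (.node (nat_lit 0x1090d7e) (.leaf (nat_lit 0x1090d6e) (nat_lit 1033))
 (.leaf (nat_lit 0x1090d7e) (nat_lit 1289))
) (.node (nat_lit 0x1090f1c) (.leaf (nat_lit 0x1090f0c) (nat_lit 1033))
 (.leaf (nat_lit 0x1090f1c) (nat_lit 1033))
))))) (.node (nat_lit 0x1094714) (.node (nat_lit 0x1094514) (.node (nat_lit 0x1090f5d) (.node (nat_lit 0x1090f3f) (.leaf (nat_lit 0x1090f2f) (nat_lit 1033))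
 (.node (nat_lit 0x1090f4d) (.leaf (nat_lit 0x1090f3f) (nat_lit 1289))
 (.leaf (nat_lit 0x1090f4d) (nat_lit 1289))
)) (.node (nat_lit 0x1090f7e) (.node (nat_lit 0x1090f6e) (.leaf (nat_lit 0x1090f5d) (nat_lit 1033))
 (.leaf (nat_lit 0x1090f6e) (nat_lit 1289))
) (.node (nat_lit 0x1094504) (.leaf (nat_lit 0x1090f7e) (nat_lit 1289))
 (.leaf (nat_lit 0x1094504) (nat_lit 777))
))) (.node (nat_lit 0x1094557) (.node (nat_lit 0x1094536) (.node (nat_lit 0x1094526) (.leaf (nat_lit 0x1094514) (nat_lit 1033))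
 (.leaf (nat_lit 0x1094526) (nat_lit 1289))
) (.node (nat_lit 0x1094547) (.leaf (nat_lit 0x1094536) (nat_lit 1289))
 (.leaf (nat_lit 0x1094547) (nat_lit 1033))
)) (.node (nat_lit 0x1094575) (.node (nat_lit 0x1094565) (.leaf (nat_lit 0x1094557) (nat_lit 1033))
 (.leaf (nat_lit 0x1094565) (nat_lit 1033))
) (.node (nat_lit 0x1094704) (.leaf (nat_lit 0x1094575) (nat_lit 1033))
 (.leaf (nat_lit 0x1094704) (nat_lit 1033))
)))) (.node (nat_lit 0x1094d0c) (.node (nat_lit 0x1094747) (.node (nat_lit 0x1094726) (.leaf (nat_lit 0x1094714) (nat_lit 1289))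
 (.node (nat_lit 0x1094736) (.leaf (nat_lit 0x1094726) (nat_lit 1289))
 (.leaf (nat_lit 0x1094736) (nat_lit 1289))
)) (.node (nat_lit 0x1094765) (.node (nat_lit 0x1094757) (.leaf (nat_lit 0x1094747) (nat_lit 1033))
 (.leaf (nat_lit 0x1094757) (nat_lit 1033))
) (.node (nat_lit 0x1094775) (.leaf (nat_lit 0x1094765) (nat_lit 1033))
 (.leaf (nat_lit 0x1094775) (nat_lit 1033))
))) (.node (nat_lit 0x1094d4d) (.node (nat_lit 0x1094d2f) (.node (nat_lit 0x1094d1c) (.leaf (nat_lit 0x1094d0c) (nat_lit 777))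
 (.leaf (nat_lit 0x1094d1c) (nat_lit 1033))
) (.node (nat_lit 0x1094d3f) (.leaf (nat_lit 0x1094d2f) (nat_lit 1289))
 (.leaf (nat_lit 0x1094d3f) (nat_lit 1033))
)) (.node (nat_lit 0x1094d6e) (.node (nat_lit 0x1094d5d) (.leaf (nat_lit 0x1094d4d) (nat_lit 1033))
 (.leaf (nat_lit 0x1094d5d) (nat_lit 1289))
) (.node (nat_lit 0x1094d7e) (.leaf (nat_lit 0x1094d6e) (nat_lit 1033))
 (.leaf (nat_lit 0x1094d7e) (nat_lit 1289))
))))))) (.node (nat_lit 0x109c9cb) (.node (nat_lit 0x10989e9) (.node (nat_lit 0x10985f6) (.node (nat_lit 0x1094f7e) (.node (nat_lit 0x1094f3f) (.node (nat_lit 0x1094f1c) (.leaf (nat_lit 0x1094f0c) (nat_lit 1033))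
 (.node (nat_lit 0x1094f2f) (.leaf (nat_lit 0x1094f1c) (nat_lit 1033))
 (.leaf (nat_lit 0x1094f2f) (nat_lit 1289))
)) (.node (nat_lit 0x1094f5d) (.node (nat_lit 0x1094f4d) (.leaf (nat_lit 0x1094f3f) (nat_lit 1289))
 (.leaf (nat_lit 0x1094f4d) (nat_lit 1033))
) (.node (nat_lit 0x1094f6e) (.leaf (nat_lit 0x1094f5d) (nat_lit 1289))
 (.leaf (nat_lit 0x1094f6e) (nat_lit 1289))
))) (.node (nat_lit 0x10985b7) (.node (nat_lit 0x1098594) (.node (nat_lit 0x1098584) (.leaf (nat_lit 0x1094f7e) (nat_lit 1033))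
 (.leaf (nat_lit 0x1098584) (nat_lit 1033))
) (.node (nat_lit 0x10985a7) (.leaf (nat_lit 0x1098594) (nat_lit 1289))
 (.leaf (nat_lit 0x10985a7) (nat_lit 1289))
)) (.node (nat_lit 0x10985d5) (.node (nat_lit 0x10985c5) (.leaf (nat_lit 0x10985b7) (nat_lit 1289))
 (.leaf (nat_lit 0x10985c5) (nat_lit 1289))
) (.node (nat_lit 0x10985e6) (.leaf (nat_lit 0x10985d5) (nat_lit 1545))
 (.leaf (nat_lit 0x10985e6) (nat_lit 1289))
)))) (.node (nat_lit 0x10987e6) (.node (nat_lit 0x10987a7) (.node (nat_lit 0x1098784) (.leaf (nat_lit 0x10985f6) (nat_lit 1545))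
 (.node (nat_lit 0x1098794) (.leaf (nat_lit 0x1098784) (nat_lit 1289))
 (.leaf (nat_lit 0x1098794) (nat_lit 1289))
)) (.node (nat_lit 0x10987c5) (.node (nat_lit 0x10987b7) (.leaf (nat_lit 0x10987a7) (nat_lit 1545))
 (.leaf (nat_lit 0x10987b7) (nat_lit 1545))
) (.node (nat_lit 0x10987d5) (.leaf (nat_lit 0x10987c5) (nat_lit 1289))
 (.leaf (nat_lit 0x10987d5) (nat_lit 1545))
))) (.node (nat_lit 0x10989aa) (.node (nat_lit 0x1098988) (.node (nat_lit 0x10987f6) (.leaf (nat_lit 0x10987e6) (nat_lit 1545))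
 (.leaf (nat_lit 0x10987f6) (nat_lit 1289))
) (.node (nat_lit 0x1098998) (.leaf (nat_lit 0x1098988) (nat_lit 777))
 (.leaf (nat_lit 0x1098998) (nat_lit 1033))
)) (.node (nat_lit 0x10989cb) (.node (nat_lit 0x10989ba) (.leaf (nat_lit 0x10989aa) (nat_lit 1033))
 (.leaf (nat_lit 0x10989ba) (nat_lit 1289))
) (.node (nat_lit 0x10989db) (.leaf (nat_lit 0x10989cb) (nat_lit 1033))
 (.leaf (nat_lit 0x10989db) (nat_lit 1033))
))))) (.node (nat_lit 0x109c5d5) (.node (nat_lit 0x1098bdb) (.node (nat_lit 0x1098b98) (.node (nat_lit 0x10989f9) (.leaf (nat_lit 0x10989e9) (nat_lit 1033))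
 (.node (nat_lit 0x1098b88) (.leaf (nat_lit 0x10989f9) (nat_lit 1289))
 (.leaf (nat_lit 0x1098b88) (nat_lit 1033))
)) (.node (nat_lit 0x1098bba) (.node (nat_lit 0x1098baa) (.leaf (nat_lit 0x1098b98) (nat_lit 1033))
 (.leaf (nat_lit 0x1098baa) (nat_lit 1033))
) (.node (nat_lit 0x1098bcb) (.leaf (nat_lit 0x1098bba) (nat_lit 1289))
 (.leaf (nat_lit 0x1098bcb) (nat_lit 1289))
))) (.node (nat_lit 0x109c594) (.node (nat_lit 0x1098bf9) (.node (nat_lit 0x1098be9) (.leaf (nat_lit 0x1098bdb) (nat_lit 1289))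
 (.leaf (nat_lit 0x1098be9) (nat_lit 1289))
) (.node (nat_lit 0x109c584) (.leaf (nat_lit 0x1098bf9) (nat_lit 1033))
 (.leaf (nat_lit 0x109c584) (nat_lit 1033))
)) (.node (nat_lit 0x109c5b7) (.node (nat_lit 0x109c5a7) (.leaf (nat_lit 0x109c594) (nat_lit 1289))
 (.leaf (nat_lit 0x109c5a7) (nat_lit 1289))
) (.node (nat_lit 0x109c5c5) (.leaf (nat_lit 0x109c5b7) (nat_lit 1545))
 (.leaf (nat_lit 0x109c5c5) (nat_lit 1289))
)))) (.node (nat_lit 0x109c7c5) (.node (nat_lit 0x109c784) (.node (nat_lit 0x109c5e6) (.leaf (nat_lit 0x109c5d5) (nat_lit 1289))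
 (.node (nat_lit 0x109c5f6) (.leaf (nat_lit 0x109c5e6) (nat_lit 1289))
 (.leaf (nat_lit 0x109c5f6) (nat_lit 1545))
)) (.node (nat_lit 0x109c7a7) (.node (nat_lit 0x109c794) (.leaf (nat_lit 0x109c784) (nat_lit 1289))
 (.leaf (nat_lit 0x109c794) (nat_lit 1289))
) (.node (nat_lit 0x109c7b7) (.leaf (nat_lit 0x109c7a7) (nat_lit 1545))
 (.leaf (nat_lit 0x109c7b7) (nat_lit 1289))
))) (.node (nat_lit 0x109c988) (.node (nat_lit 0x109c7e6) (.node (nat_lit 0x109c7d5) (.leaf (nat_lit 0x109c7c5) (nat_lit 1545))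
 (.leaf (nat_lit 0x109c7d5) (nat_lit 1545))
) (.node (nat_lit 0x109c7f6) (.leaf (nat_lit 0x109c7e6) (nat_lit 1289))
 (.leaf (nat_lit 0x109c7f6) (nat_lit 1545))
)) (.node (nat_lit 0x109c9aa) (.node (nat_lit 0x109c998) (.leaf (nat_lit 0x109c988) (nat_lit 777))
 (.leaf (nat_lit 0x109c998) (nat_lit 1033))
) (.node (nat_lit 0x109c9ba) (.leaf (nat_lit 0x109c9aa) (nat_lit 1033))
 (.leaf (nat_lit 0x109c9ba) (nat_lit 1033))
)))))) (.node (nat_lit 0x10a30ab) (.node (nat_lit 0x10a20be) (.node (nat_lit 0x109cbba) (.node (nat_lit 0x109c9f9) (.node (nat_lit 0x109c9db) (.leaf (nat_lit 0x109c9cb) (nat_lit 1033))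
 (.node (nat_lit 0x109c9e9) (.leaf (nat_lit 0x109c9db) (nat_lit 1289))
 (.leaf (nat_lit 0x109c9e9) (nat_lit 1289))
)) (.node (nat_lit 0x109cb98) (.node (nat_lit 0x109cb88) (.leaf (nat_lit 0x109c9f9) (nat_lit 1289))
 (.leaf (nat_lit 0x109cb88) (nat_lit 1033))
) (.node (nat_lit 0x109cbaa) (.leaf (nat_lit 0x109cb98) (nat_lit 1033))
 (.leaf (nat_lit 0x109cbaa) (nat_lit 1289))
))) (.node (nat_lit 0x109cbf9) (.node (nat_lit 0x109cbdb) (.node (nat_lit 0x109cbcb) (.leaf (nat_lit 0x109cbba) (nat_lit 1289))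
 (.leaf (nat_lit 0x109cbcb) (nat_lit 1289))
) (.node (nat_lit 0x109cbe9) (.leaf (nat_lit 0x109cbdb) (nat_lit 1033))
 (.leaf (nat_lit 0x109cbe9) (nat_lit 1033))
)) (.node (nat_lit 0x10a2032) (.node (nat_lit 0x10a2022) (.leaf (nat_lit 0x109cbf9) (nat_lit 1289))
 (.leaf (nat_lit 0x10a2022) (nat_lit 776))
) (.node (nat_lit 0x10a20ae) (.leaf (nat_lit 0x10a2032) (nat_lit 1032))
 (.leaf (nat_lit 0x10a20ae) (nat_lit 1282))
)))) (.node (nat_lit 0x10a22ae) (.node (nat_lit 0x10a21aa) (.node (nat_lit 0x10a2126) (.leaf (nat_lit 0x10a20be) (nat_lit 1538))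
 (.node (nat_lit 0x10a2136) (.leaf (nat_lit 0x10a2126) (nat_lit 1539))
 (.leaf (nat_lit 0x10a2136) (nat_lit 1539))
)) (.node (nat_lit 0x10a2222) (.node (nat_lit 0x10a21ba) (.leaf (nat_lit 0x10a21aa) (nat_lit 1283))
 (.leaf (nat_lit 0x10a21ba) (nat_lit 1539))
) (.node (nat_lit 0x10a2232) (.leaf (nat_lit 0x10a2222) (nat_lit 1032))
 (.leaf (nat_lit 0x10a2232) (nat_lit 1032))
))) (.node (nat_lit 0x10a23aa) (.node (nat_lit 0x10a2326) (.node (nat_lit 0x10a22be) (.leaf (nat_lit 0x10a22ae) (nat_lit 1538))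
 (.leaf (nat_lit 0x10a22be) (nat_lit 1282))
) (.node (nat_lit 0x10a2336) (.leaf (nat_lit 0x10a2326) (nat_lit 1539))
 (.leaf (nat_lit 0x10a2336) (nat_lit 1539))
)) (.node (nat_lit 0x10a3023) (.node (nat_lit 0x10a23ba) (.leaf (nat_lit 0x10a23aa) (nat_lit 1283))
 (.leaf (nat_lit 0x10a23ba) (nat_lit 1539))
) (.node (nat_lit 0x10a3033) (.leaf (nat_lit 0x10a3023) (nat_lit 517))
 (.leaf (nat_lit 0x10a3033) (nat_lit 773))
))))) (.node (nat_lit 0x10a6032) (.node (nat_lit 0x10a3233) (.node (nat_lit 0x10a313f) (.node (nat_lit 0x10a30bb) (.leaf (nat_lit 0x10a30ab) (nat_lit 1289))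
 (.node (nat_lit 0x10a312f) (.leaf (nat_lit 0x10a30bb) (nat_lit 1545))
 (.leaf (nat_lit 0x10a312f) (nat_lit 1289))
)) (.node (nat_lit 0x10a31b7) (.node (nat_lit 0x10a31a7) (.leaf (nat_lit 0x10a313f) (nat_lit 1545))
 (.leaf (nat_lit 0x10a31a7) (nat_lit 1289))
) (.node (nat_lit 0x10a3223) (.leaf (nat_lit 0x10a31b7) (nat_lit 1545))
 (.leaf (nat_lit 0x10a3223) (nat_lit 773))
))) (.node (nat_lit 0x10a333f) (.node (nat_lit 0x10a32bb) (.node (nat_lit 0x10a32ab) (.leaf (nat_lit 0x10a3233) (nat_lit 773))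
 (.leaf (nat_lit 0x10a32ab) (nat_lit 1545))
) (.node (nat_lit 0x10a332f) (.leaf (nat_lit 0x10a32bb) (nat_lit 1289))
 (.leaf (nat_lit 0x10a332f) (nat_lit 1289))
)) (.node (nat_lit 0x10a33b7) (.node (nat_lit 0x10a33a7) (.leaf (nat_lit 0x10a333f) (nat_lit 1545))
 (.leaf (nat_lit 0x10a33a7) (nat_lit 1545))
) (.node (nat_lit 0x10a6022) (.leaf (nat_lit 0x10a33b7) (nat_lit 1545))
 (.leaf (nat_lit 0x10a6022) (nat_lit 776))
)))) (.node (nat_lit 0x10a6222) (.node (nat_lit 0x10a6126) (.node (nat_lit 0x10a60ae) (.leaf (nat_lit 0x10a6032) (nat_lit 1032))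
 (.node (nat_lit 0x10a60be) (.leaf (nat_lit 0x10a60ae) (nat_lit 1282))
 (.leaf (nat_lit 0x10a60be) (nat_lit 1538))
)) (.node (nat_lit 0x10a61aa) (.node (nat_lit 0x10a6136) (.leaf (nat_lit 0x10a6126) (nat_lit 1543))
 (.leaf (nat_lit 0x10a6136) (nat_lit 1539))
) (.node (nat_lit 0x10a61ba) (.leaf (nat_lit 0x10a61aa) (nat_lit 1283))
 (.leaf (nat_lit 0x10a61ba) (nat_lit 1283))
))) (.node (nat_lit 0x10a6326) (.node (nat_lit 0x10a62ae) (.node (nat_lit 0x10a6232) (.leaf (nat_lit 0x10a6222) (nat_lit 1032))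
 (.leaf (nat_lit 0x10a6232) (nat_lit 1032))
) (.node (nat_lit 0x10a62be) (.leaf (nat_lit 0x10a62ae) (nat_lit 1282))
 (.leaf (nat_lit 0x10a62be) (nat_lit 1538))
)) (.node (nat_lit 0x10a63aa) (.node (nat_lit 0x10a6336) (.leaf (nat_lit 0x10a6326) (nat_lit 1539))
 (.leaf (nat_lit 0x10a6336) (nat_lit 1543))
) (.node (nat_lit 0x10a63ba) (.leaf (nat_lit 0x10a63aa) (nat_lit 1539))
 (.leaf (nat_lit 0x10a63ba) (nat_lit 1539))
)))))))) (.node (nat_lit 0x10b6622) (.node (nat_lit 0x10aef47) (.node (nat_lit 0x10aafe9) (.node (nat_lit 0x10a73b7) (.node (nat_lit 0x10a71b7) (.node (nat_lit 0x10a70bb) (.node (nat_lit 0x10a7033) (.leaf (nat_lit 0x10a7023) (nat_lit 519))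
 (.node (nat_lit 0x10a70ab) (.leaf (nat_lit 0x10a7033) (nat_lit 775))
 (.leaf (nat_lit 0x10a70ab) (nat_lit 1289))
)) (.node (nat_lit 0x10a713f) (.node (nat_lit 0x10a712f) (.leaf (nat_lit 0x10a70bb) (nat_lit 1545))
 (.leaf (nat_lit 0x10a712f) (nat_lit 1545))
) (.node (nat_lit 0x10a71a7) (.leaf (nat_lit 0x10a713f) (nat_lit 1289))
 (.leaf (nat_lit 0x10a71a7) (nat_lit 1289))
))) (.node (nat_lit 0x10a72bb) (.node (nat_lit 0x10a7233) (.node (nat_lit 0x10a7223) (.leaf (nat_lit 0x10a71b7) (nat_lit 1545))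
 (.leaf (nat_lit 0x10a7223) (nat_lit 769))
) (.node (nat_lit 0x10a72ab) (.leaf (nat_lit 0x10a7233) (nat_lit 775))
 (.leaf (nat_lit 0x10a72ab) (nat_lit 1289))
)) (.node (nat_lit 0x10a733f) (.node (nat_lit 0x10a732f) (.leaf (nat_lit 0x10a72bb) (nat_lit 1545))
 (.leaf (nat_lit 0x10a732f) (nat_lit 1545))
) (.node (nat_lit 0x10a73a7) (.leaf (nat_lit 0x10a733f) (nat_lit 1539))
 (.leaf (nat_lit 0x10a73a7) (nat_lit 1545))
)))) (.node (nat_lit 0x10aade9) (.node (nat_lit 0x10aac8c) (.node (nat_lit 0x10aac22) (.leaf (nat_lit 0x10a73b7) (nat_lit 1289))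
 (.node (nat_lit 0x10aac32) (.leaf (nat_lit 0x10aac22) (nat_lit 1032))
 (.leaf (nat_lit 0x10aac32) (nat_lit 1288))
)) (.node (nat_lit 0x10aad47) (.node (nat_lit 0x10aac9c) (.leaf (nat_lit 0x10aac8c) (nat_lit 1026))
 (.leaf (nat_lit 0x10aac9c) (nat_lit 1282))
) (.node (nat_lit 0x10aad57) (.leaf (nat_lit 0x10aad47) (nat_lit 1283))
 (.leaf (nat_lit 0x10aad57) (nat_lit 1283))
))) (.node (nat_lit 0x10aae8c) (.node (nat_lit 0x10aae22) (.node (nat_lit 0x10aadf9) (.leaf (nat_lit 0x10aade9) (nat_lit 1283))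
 (.leaf (nat_lit 0x10aadf9) (nat_lit 1283))
) (.node (nat_lit 0x10aae32) (.leaf (nat_lit 0x10aae22) (nat_lit 1288))
 (.leaf (nat_lit 0x10aae32) (nat_lit 1032))
)) (.node (nat_lit 0x10aaf47) (.node (nat_lit 0x10aae9c) (.leaf (nat_lit 0x10aae8c) (nat_lit 1282))
 (.leaf (nat_lit 0x10aae9c) (nat_lit 1026))
) (.node (nat_lit 0x10aaf57) (.leaf (nat_lit 0x10aaf47) (nat_lit 1283))
 (.leaf (nat_lit 0x10aaf57) (nat_lit 1539))
))))) (.node (nat_lit 0x10abb5d) (.node (nat_lit 0x10ab95d) (.node (nat_lit 0x10ab833) (.node (nat_lit 0x10aaff9) (.leaf (nat_lit 0x10aafe9) (nat_lit 1283))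
 (.node (nat_lit 0x10ab823) (.leaf (nat_lit 0x10aaff9) (nat_lit 1539))
 (.leaf (nat_lit 0x10ab823) (nat_lit 773))
)) (.node (nat_lit 0x10ab898) (.node (nat_lit 0x10ab888) (.leaf (nat_lit 0x10ab833) (nat_lit 1025))
 (.leaf (nat_lit 0x10ab888) (nat_lit 1282))
) (.node (nat_lit 0x10ab94d) (.leaf (nat_lit 0x10ab898) (nat_lit 1536))
 (.leaf (nat_lit 0x10ab94d) (nat_lit 1283))
))) (.node (nat_lit 0x10aba33) (.node (nat_lit 0x10ab9f6) (.node (nat_lit 0x10ab9e6) (.leaf (nat_lit 0x10ab95d) (nat_lit 1283))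
 (.leaf (nat_lit 0x10ab9e6) (nat_lit 1538))
) (.node (nat_lit 0x10aba23) (.leaf (nat_lit 0x10ab9f6) (nat_lit 1544))
 (.leaf (nat_lit 0x10aba23) (nat_lit 1031))
)) (.node (nat_lit 0x10aba98) (.node (nat_lit 0x10aba88) (.leaf (nat_lit 0x10aba33) (nat_lit 775))
 (.leaf (nat_lit 0x10aba88) (nat_lit 1537))
) (.node (nat_lit 0x10abb4d) (.leaf (nat_lit 0x10aba98) (nat_lit 1282))
 (.leaf (nat_lit 0x10abb4d) (nat_lit 1283))
)))) (.node (nat_lit 0x10aed47) (.node (nat_lit 0x10aec22) (.node (nat_lit 0x10abbe6) (.leaf (nat_lit 0x10abb5d) (nat_lit 1537))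
 (.node (nat_lit 0x10abbf6) (.leaf (nat_lit 0x10abbe6) (nat_lit 1538))
 (.leaf (nat_lit 0x10abbf6) (nat_lit 1792))
)) (.node (nat_lit 0x10aec8c) (.node (nat_lit 0x10aec32) (.leaf (nat_lit 0x10aec22) (nat_lit 1032))
 (.leaf (nat_lit 0x10aec32) (nat_lit 1288))
) (.node (nat_lit 0x10aec9c) (.leaf (nat_lit 0x10aec8c) (nat_lit 1026))
 (.leaf (nat_lit 0x10aec9c) (nat_lit 1280))
))) (.node (nat_lit 0x10aee22) (.node (nat_lit 0x10aede9) (.node (nat_lit 0x10aed57) (.leaf (nat_lit 0x10aed47) (nat_lit 1536))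
 (.leaf (nat_lit 0x10aed57) (nat_lit 1283))
) (.node (nat_lit 0x10aedf9) (.leaf (nat_lit 0x10aede9) (nat_lit 1539))
 (.leaf (nat_lit 0x10aedf9) (nat_lit 1283))
)) (.node (nat_lit 0x10aee8c) (.node (nat_lit 0x10aee32) (.leaf (nat_lit 0x10aee22) (nat_lit 1032))
 (.leaf (nat_lit 0x10aee32) (nat_lit 1288))
) (.node (nat_lit 0x10aee9c) (.leaf (nat_lit 0x10aee8c) (nat_lit 1026))
 (.leaf (nat_lit 0x10aee9c) (nat_lit 1287))
)))))) (.node (nat_lit 0x10b26ed) (.node (nat_lit 0x10afa98) (.node (nat_lit 0x10af898) (.node (nat_lit 0x10aeff9) (.node (nat_lit 0x10aef57) (.leaf (nat_lit 0x10aef47) (nat_lit 1282))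
 (.node (nat_lit 0x10aefe9) (.leaf (nat_lit 0x10aef57) (nat_lit 1537))
 (.leaf (nat_lit 0x10aefe9) (nat_lit 1536))
)) (.node (nat_lit 0x10af833) (.node (nat_lit 0x10af823) (.leaf (nat_lit 0x10aeff9) (nat_lit 1283))
 (.leaf (nat_lit 0x10af823) (nat_lit 775))
) (.node (nat_lit 0x10af888) (.leaf (nat_lit 0x10af833) (nat_lit 1029))
 (.leaf (nat_lit 0x10af888) (nat_lit 1282))
))) (.node (nat_lit 0x10af9f6) (.node (nat_lit 0x10af95d) (.node (nat_lit 0x10af94d) (.leaf (nat_lit 0x10af898) (nat_lit 1538))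
 (.leaf (nat_lit 0x10af94d) (nat_lit 1283))
) (.node (nat_lit 0x10af9e6) (.leaf (nat_lit 0x10af95d) (nat_lit 1283))
 (.leaf (nat_lit 0x10af9e6) (nat_lit 1545))
)) (.node (nat_lit 0x10afa33) (.node (nat_lit 0x10afa23) (.leaf (nat_lit 0x10af9f6) (nat_lit 1544))
 (.leaf (nat_lit 0x10afa23) (nat_lit 770))
) (.node (nat_lit 0x10afa88) (.leaf (nat_lit 0x10afa33) (nat_lit 1031))
 (.leaf (nat_lit 0x10afa88) (nat_lit 1282))
)))) (.node (nat_lit 0x10b24ed) (.node (nat_lit 0x10afbe6) (.node (nat_lit 0x10afb4d) (.leaf (nat_lit 0x10afa98) (nat_lit 1538))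
 (.node (nat_lit 0x10afb5d) (.leaf (nat_lit 0x10afb4d) (nat_lit 1539))
 (.leaf (nat_lit 0x10afb5d) (nat_lit 1283))
)) (.node (nat_lit 0x10b2422) (.node (nat_lit 0x10afbf6) (.leaf (nat_lit 0x10afbe6) (nat_lit 1538))
 (.leaf (nat_lit 0x10afbf6) (nat_lit 1538))
) (.node (nat_lit 0x10b2432) (.leaf (nat_lit 0x10b2422) (nat_lit 1032))
 (.leaf (nat_lit 0x10b2432) (nat_lit 1032))
))) (.node (nat_lit 0x10b25cb) (.node (nat_lit 0x10b2504) (.node (nat_lit 0x10b24fd) (.leaf (nat_lit 0x10b24ed) (nat_lit 1282))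
 (.leaf (nat_lit 0x10b24fd) (nat_lit 1538))
) (.node (nat_lit 0x10b2514) (.leaf (nat_lit 0x10b2504) (nat_lit 1027))
 (.leaf (nat_lit 0x10b2514) (nat_lit 1027))
)) (.node (nat_lit 0x10b2622) (.node (nat_lit 0x10b25db) (.leaf (nat_lit 0x10b25cb) (nat_lit 1283))
 (.leaf (nat_lit 0x10b25db) (nat_lit 1539))
) (.node (nat_lit 0x10b2632) (.leaf (nat_lit 0x10b2622) (nat_lit 1288))
 (.leaf (nat_lit 0x10b2632) (nat_lit 1281))
))))) (.node (nat_lit 0x10b3e33) (.node (nat_lit 0x10b3c33) (.node (nat_lit 0x10b2714) (.node (nat_lit 0x10b26fd) (.leaf (nat_lit 0x10b26ed) (nat_lit 1282))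
 (.node (nat_lit 0x10b2704) (.leaf (nat_lit 0x10b26fd) (nat_lit 1282))
 (.leaf (nat_lit 0x10b2704) (nat_lit 1027))
)) (.node (nat_lit 0x10b27db) (.node (nat_lit 0x10b27cb) (.leaf (nat_lit 0x10b2714) (nat_lit 1281))
 (.leaf (nat_lit 0x10b27cb) (nat_lit 1283))
) (.node (nat_lit 0x10b3c23) (.leaf (nat_lit 0x10b27db) (nat_lit 1283))
 (.leaf (nat_lit 0x10b3c23) (nat_lit 773))
))) (.node (nat_lit 0x10b3d1c) (.node (nat_lit 0x10b3cfa) (.node (nat_lit 0x10b3cea) (.leaf (nat_lit 0x10b3c33) (nat_lit 1027))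
 (.leaf (nat_lit 0x10b3cea) (nat_lit 1538))
) (.node (nat_lit 0x10b3d0c) (.leaf (nat_lit 0x10b3cfa) (nat_lit 1545))
 (.leaf (nat_lit 0x10b3d0c) (nat_lit 1027))
)) (.node (nat_lit 0x10b3dd5) (.node (nat_lit 0x10b3dc5) (.leaf (nat_lit 0x10b3d1c) (nat_lit 1283))
 (.leaf (nat_lit 0x10b3dc5) (nat_lit 1282))
) (.node (nat_lit 0x10b3e23) (.leaf (nat_lit 0x10b3dd5) (nat_lit 1544))
 (.leaf (nat_lit 0x10b3e23) (nat_lit 771))
)))) (.node (nat_lit 0x10b6422) (.node (nat_lit 0x10b3f0c) (.node (nat_lit 0x10b3eea) (.leaf (nat_lit 0x10b3e33) (nat_lit 1027))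
 (.node (nat_lit 0x10b3efa) (.leaf (nat_lit 0x10b3eea) (nat_lit 1794))
 (.leaf (nat_lit 0x10b3efa) (nat_lit 1538))
)) (.node (nat_lit 0x10b3fc5) (.node (nat_lit 0x10b3f1c) (.leaf (nat_lit 0x10b3f0c) (nat_lit 1027))
 (.leaf (nat_lit 0x10b3f1c) (nat_lit 1283))
) (.node (nat_lit 0x10b3fd5) (.leaf (nat_lit 0x10b3fc5) (nat_lit 1538))
 (.leaf (nat_lit 0x10b3fd5) (nat_lit 1538))
))) (.node (nat_lit 0x10b6504) (.node (nat_lit 0x10b64ed) (.node (nat_lit 0x10b6432) (.leaf (nat_lit 0x10b6422) (nat_lit 1032))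
 (.leaf (nat_lit 0x10b6432) (nat_lit 1288))
) (.node (nat_lit 0x10b64fd) (.leaf (nat_lit 0x10b64ed) (nat_lit 1282))
 (.leaf (nat_lit 0x10b64fd) (nat_lit 1538))
)) (.node (nat_lit 0x10b65cb) (.node (nat_lit 0x10b6514) (.leaf (nat_lit 0x10b6504) (nat_lit 1283))
 (.leaf (nat_lit 0x10b6514) (nat_lit 1027))
) (.node (nat_lit 0x10b65db) (.leaf (nat_lit 0x10b65cb) (nat_lit 1283))
 (.leaf (nat_lit 0x10b65db) (nat_lit 1283))
))))))) (.node (nat_lit 0x10be965) (.node (nat_lit 0x10ba988) (.node (nat_lit 0x10b7dd5) (.node (nat_lit 0x10b67db) (.node (nat_lit 0x10b66fd) (.node (nat_lit 0x10b6632) (.leaf (nat_lit 0x10b6622) (nat_lit 1288))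
 (.node (nat_lit 0x10b66ed) (.leaf (nat_lit 0x10b6632) (nat_lit 1032))
 (.leaf (nat_lit 0x10b66ed) (nat_lit 1282))
)) (.node (nat_lit 0x10b6714) (.node (nat_lit 0x10b6704) (.leaf (nat_lit 0x10b66fd) (nat_lit 1538))
 (.leaf (nat_lit 0x10b6704) (nat_lit 1026))
) (.node (nat_lit 0x10b67cb) (.leaf (nat_lit 0x10b6714) (nat_lit 1283))
 (.leaf (nat_lit 0x10b67cb) (nat_lit 1539))
))) (.node (nat_lit 0x10b7cfa) (.node (nat_lit 0x10b7c33) (.node (nat_lit 0x10b7c23) (.leaf (nat_lit 0x10b67db) (nat_lit 1539))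
 (.leaf (nat_lit 0x10b7c23) (nat_lit 771))
) (.node (nat_lit 0x10b7cea) (.leaf (nat_lit 0x10b7c33) (nat_lit 771))
 (.leaf (nat_lit 0x10b7cea) (nat_lit 1538))
)) (.node (nat_lit 0x10b7d1c) (.node (nat_lit 0x10b7d0c) (.leaf (nat_lit 0x10b7cfa) (nat_lit 1794))
 (.leaf (nat_lit 0x10b7d0c) (nat_lit 1027))
) (.node (nat_lit 0x10b7dc5) (.leaf (nat_lit 0x10b7d1c) (nat_lit 1027))
 (.leaf (nat_lit 0x10b7dc5) (nat_lit 1537))
)))) (.node (nat_lit 0x10b7fc5) (.node (nat_lit 0x10b7eea) (.node (nat_lit 0x10b7e23) (.leaf (nat_lit 0x10b7dd5) (nat_lit 1538))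
 (.node (nat_lit 0x10b7e33) (.leaf (nat_lit 0x10b7e23) (nat_lit 1026))
 (.leaf (nat_lit 0x10b7e33) (nat_lit 1029))
)) (.node (nat_lit 0x10b7f0c) (.node (nat_lit 0x10b7efa) (.leaf (nat_lit 0x10b7eea) (nat_lit 1538))
 (.leaf (nat_lit 0x10b7efa) (nat_lit 1538))
) (.node (nat_lit 0x10b7f1c) (.leaf (nat_lit 0x10b7f0c) (nat_lit 1283))
 (.leaf (nat_lit 0x10b7f1c) (nat_lit 1281))
))) (.node (nat_lit 0x10ba8cf) (.node (nat_lit 0x10ba822) (.node (nat_lit 0x10b7fd5) (.leaf (nat_lit 0x10b7fc5) (nat_lit 1282))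
 (.leaf (nat_lit 0x10b7fd5) (nat_lit 1282))
) (.node (nat_lit 0x10ba832) (.leaf (nat_lit 0x10ba822) (nat_lit 1032))
 (.leaf (nat_lit 0x10ba832) (nat_lit 1288))
)) (.node (nat_lit 0x10ba965) (.node (nat_lit 0x10ba8df) (.leaf (nat_lit 0x10ba8cf) (nat_lit 1282))
 (.leaf (nat_lit 0x10ba8df) (nat_lit 1282))
) (.node (nat_lit 0x10ba975) (.leaf (nat_lit 0x10ba965) (nat_lit 1283))
 (.leaf (nat_lit 0x10ba975) (nat_lit 1283))
))))) (.node (nat_lit 0x10bb57e) (.node (nat_lit 0x10bab75) (.node (nat_lit 0x10baa32) (.node (nat_lit 0x10ba998) (.leaf (nat_lit 0x10ba988) (nat_lit 1027))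
 (.node (nat_lit 0x10baa22) (.leaf (nat_lit 0x10ba998) (nat_lit 1280))
 (.leaf (nat_lit 0x10baa22) (nat_lit 1032))
)) (.node (nat_lit 0x10baadf) (.node (nat_lit 0x10baacf) (.leaf (nat_lit 0x10baa32) (nat_lit 1288))
 (.leaf (nat_lit 0x10baacf) (nat_lit 1538))
) (.node (nat_lit 0x10bab65) (.leaf (nat_lit 0x10baadf) (nat_lit 1282))
 (.leaf (nat_lit 0x10bab65) (nat_lit 1283))
))) (.node (nat_lit 0x10bb433) (.node (nat_lit 0x10bab98) (.node (nat_lit 0x10bab88) (.leaf (nat_lit 0x10bab75) (nat_lit 1283))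
 (.leaf (nat_lit 0x10bab88) (nat_lit 1027))
) (.node (nat_lit 0x10bb423) (.leaf (nat_lit 0x10bab98) (nat_lit 1286))
 (.leaf (nat_lit 0x10bb423) (nat_lit 773))
)) (.node (nat_lit 0x10bb4d9) (.node (nat_lit 0x10bb4c9) (.leaf (nat_lit 0x10bb433) (nat_lit 775))
 (.leaf (nat_lit 0x10bb4c9) (nat_lit 1545))
) (.node (nat_lit 0x10bb56e) (.leaf (nat_lit 0x10bb4d9) (nat_lit 1539))
 (.leaf (nat_lit 0x10bb56e) (nat_lit 1283))
)))) (.node (nat_lit 0x10bb76e) (.node (nat_lit 0x10bb623) (.node (nat_lit 0x10bb584) (.leaf (nat_lit 0x10bb57e) (nat_lit 1539))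
 (.node (nat_lit 0x10bb594) (.leaf (nat_lit 0x10bb584) (nat_lit 1288))
 (.leaf (nat_lit 0x10bb594) (nat_lit 1288))
)) (.node (nat_lit 0x10bb6c9) (.node (nat_lit 0x10bb633) (.leaf (nat_lit 0x10bb623) (nat_lit 1031))
 (.leaf (nat_lit 0x10bb633) (nat_lit 1031))
) (.node (nat_lit 0x10bb6d9) (.leaf (nat_lit 0x10bb6c9) (nat_lit 1545))
 (.leaf (nat_lit 0x10bb6d9) (nat_lit 1545))
))) (.node (nat_lit 0x10be822) (.node (nat_lit 0x10bb784) (.node (nat_lit 0x10bb77e) (.leaf (nat_lit 0x10bb76e) (nat_lit 1283))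
 (.leaf (nat_lit 0x10bb77e) (nat_lit 1283))
) (.node (nat_lit 0x10bb794) (.leaf (nat_lit 0x10bb784) (nat_lit 1544))
 (.leaf (nat_lit 0x10bb794) (nat_lit 1544))
)) (.node (nat_lit 0x10be8cf) (.node (nat_lit 0x10be832) (.leaf (nat_lit 0x10be822) (nat_lit 1032))
 (.leaf (nat_lit 0x10be832) (nat_lit 1032))
) (.node (nat_lit 0x10be8df) (.leaf (nat_lit 0x10be8cf) (nat_lit 1538))
 (.leaf (nat_lit 0x10be8df) (nat_lit 1538))
)))))) (.node (nat_lit 0x10c10c9) (.node (nat_lit 0x10bf4d9) (.node (nat_lit 0x10beadf) (.node (nat_lit 0x10be998) (.node (nat_lit 0x10be975) (.leaf (nat_lit 0x10be965) (nat_lit 1537))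
 (.node (nat_lit 0x10be988) (.leaf (nat_lit 0x10be975) (nat_lit 1283))
 (.leaf (nat_lit 0x10be988) (nat_lit 1027))
)) (.node (nat_lit 0x10bea32) (.node (nat_lit 0x10bea22) (.leaf (nat_lit 0x10be998) (nat_lit 1027))
 (.leaf (nat_lit 0x10bea22) (nat_lit 1288))
) (.node (nat_lit 0x10beacf) (.leaf (nat_lit 0x10bea32) (nat_lit 1288))
 (.leaf (nat_lit 0x10beacf) (nat_lit 1282))
))) (.node (nat_lit 0x10beb98) (.node (nat_lit 0x10beb75) (.node (nat_lit 0x10beb65) (.leaf (nat_lit 0x10beadf) (nat_lit 1282))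
 (.leaf (nat_lit 0x10beb65) (nat_lit 1283))
) (.node (nat_lit 0x10beb88) (.leaf (nat_lit 0x10beb75) (nat_lit 1539))
 (.leaf (nat_lit 0x10beb88) (nat_lit 1281))
)) (.node (nat_lit 0x10bf433) (.node (nat_lit 0x10bf423) (.leaf (nat_lit 0x10beb98) (nat_lit 1283))
 (.leaf (nat_lit 0x10bf423) (nat_lit 775))
) (.node (nat_lit 0x10bf4c9) (.leaf (nat_lit 0x10bf433) (nat_lit 1025))
 (.leaf (nat_lit 0x10bf4c9) (nat_lit 1545))
)))) (.node (nat_lit 0x10bf6c9) (.node (nat_lit 0x10bf584) (.node (nat_lit 0x10bf56e) (.leaf (nat_lit 0x10bf4d9) (nat_lit 1545))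
 (.node (nat_lit 0x10bf57e) (.leaf (nat_lit 0x10bf56e) (nat_lit 1283))
 (.leaf (nat_lit 0x10bf57e) (nat_lit 1283))
)) (.node (nat_lit 0x10bf623) (.node (nat_lit 0x10bf594) (.leaf (nat_lit 0x10bf584) (nat_lit 1288))
 (.leaf (nat_lit 0x10bf594) (nat_lit 1544))
) (.node (nat_lit 0x10bf633) (.leaf (nat_lit 0x10bf623) (nat_lit 1031))
 (.leaf (nat_lit 0x10bf633) (nat_lit 775))
))) (.node (nat_lit 0x10bf784) (.node (nat_lit 0x10bf76e) (.node (nat_lit 0x10bf6d9) (.leaf (nat_lit 0x10bf6c9) (nat_lit 1545))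
 (.leaf (nat_lit 0x10bf6d9) (nat_lit 1539))
) (.node (nat_lit 0x10bf77e) (.leaf (nat_lit 0x10bf76e) (nat_lit 1283))
 (.leaf (nat_lit 0x10bf77e) (nat_lit 1536))
)) (.node (nat_lit 0x10c1041) (.node (nat_lit 0x10bf794) (.leaf (nat_lit 0x10bf784) (nat_lit 1537))
 (.leaf (nat_lit 0x10bf794) (nat_lit 1288))
) (.node (nat_lit 0x10c1051) (.leaf (nat_lit 0x10c1041) (nat_lit 261))
 (.leaf (nat_lit 0x10c1051) (nat_lit 517))
))))) (.node (nat_lit 0x10c3053) (.node (nat_lit 0x10c1251) (.node (nat_lit 0x10c115d) (.node (nat_lit 0x10c10d9) (.leaf (nat_lit 0x10c10c9) (nat_lit 1289))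
 (.node (nat_lit 0x10c114d) (.leaf (nat_lit 0x10c10d9) (nat_lit 1289))
 (.leaf (nat_lit 0x10c114d) (nat_lit 1033))
)) (.node (nat_lit 0x10c11d5) (.node (nat_lit 0x10c11c5) (.leaf (nat_lit 0x10c115d) (nat_lit 1289))
 (.leaf (nat_lit 0x10c11c5) (nat_lit 1033))
) (.node (nat_lit 0x10c1241) (.leaf (nat_lit 0x10c11d5) (nat_lit 1289))
 (.leaf (nat_lit 0x10c1241) (nat_lit 517))
))) (.node (nat_lit 0x10c135d) (.node (nat_lit 0x10c12d9) (.node (nat_lit 0x10c12c9) (.leaf (nat_lit 0x10c1251) (nat_lit 773))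
 (.leaf (nat_lit 0x10c12c9) (nat_lit 1289))
) (.node (nat_lit 0x10c134d) (.leaf (nat_lit 0x10c12d9) (nat_lit 1289))
 (.leaf (nat_lit 0x10c134d) (nat_lit 1289))
)) (.node (nat_lit 0x10c13d5) (.node (nat_lit 0x10c13c5) (.leaf (nat_lit 0x10c135d) (nat_lit 1033))
 (.leaf (nat_lit 0x10c13c5) (nat_lit 1033))
) (.node (nat_lit 0x10c3043) (.leaf (nat_lit 0x10c13d5) (nat_lit 1289))
 (.leaf (nat_lit 0x10c3043) (nat_lit 517))
)))) (.node (nat_lit 0x10c3243) (.node (nat_lit 0x10c3147) (.node (nat_lit 0x10c30cf) (.leaf (nat_lit 0x10c3053) (nat_lit 773))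
 (.node (nat_lit 0x10c30df) (.leaf (nat_lit 0x10c30cf) (nat_lit 1283))
 (.leaf (nat_lit 0x10c30df) (nat_lit 1539))
)) (.node (nat_lit 0x10c31cb) (.node (nat_lit 0x10c3157) (.leaf (nat_lit 0x10c3147) (nat_lit 1026))
 (.leaf (nat_lit 0x10c3157) (nat_lit 1282))
) (.node (nat_lit 0x10c31db) (.leaf (nat_lit 0x10c31cb) (nat_lit 1286))
 (.leaf (nat_lit 0x10c31db) (nat_lit 1542))
))) (.node (nat_lit 0x10c3347) (.node (nat_lit 0x10c32cf) (.node (nat_lit 0x10c3253) (.leaf (nat_lit 0x10c3243) (nat_lit 773))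
 (.leaf (nat_lit 0x10c3253) (nat_lit 773))
) (.node (nat_lit 0x10c32df) (.leaf (nat_lit 0x10c32cf) (nat_lit 1283))
 (.leaf (nat_lit 0x10c32df) (nat_lit 1539))
)) (.node (nat_lit 0x10c33cb) (.node (nat_lit 0x10c3357) (.leaf (nat_lit 0x10c3347) (nat_lit 1282))
 (.leaf (nat_lit 0x10c3357) (nat_lit 1282))
) (.node (nat_lit 0x10c33db) (.leaf (nat_lit 0x10c33cb) (nat_lit 1542))
 (.leaf (nat_lit 0x10c33db) (nat_lit 1542))
))))))))) (.node (nat_lit 0x10e2062) (.node (nat_lit 0x10d3643) (.node (nat_lit 0x10cbf65) (.node (nat_lit 0x10c73cb) (.node (nat_lit 0x10c53d5) (.node (nat_lit 0x10c51d5) (.node (nat_lit 0x10c50d9) (.node (nat_lit 0x10c5051) (.leaf (nat_lit 0x10c5041) (nat_lit 517))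
 (.node (nat_lit 0x10c50c9) (.leaf (nat_lit 0x10c5051) (nat_lit 773))
 (.leaf (nat_lit 0x10c50c9) (nat_lit 1545))
)) (.node (nat_lit 0x10c515d) (.node (nat_lit 0x10c514d) (.leaf (nat_lit 0x10c50d9) (nat_lit 1545))
 (.leaf (nat_lit 0x10c514d) (nat_lit 1282))
) (.node (nat_lit 0x10c51c5) (.leaf (nat_lit 0x10c515d) (nat_lit 1289))
 (.leaf (nat_lit 0x10c51c5) (nat_lit 1289))
))) (.node (nat_lit 0x10c52d9) (.node (nat_lit 0x10c5251) (.node (nat_lit 0x10c5241) (.leaf (nat_lit 0x10c51d5) (nat_lit 1289))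
 (.leaf (nat_lit 0x10c5241) (nat_lit 773))
) (.node (nat_lit 0x10c52c9) (.leaf (nat_lit 0x10c5251) (nat_lit 1029))
 (.leaf (nat_lit 0x10c52c9) (nat_lit 1545))
)) (.node (nat_lit 0x10c535d) (.node (nat_lit 0x10c534d) (.leaf (nat_lit 0x10c52d9) (nat_lit 1545))
 (.leaf (nat_lit 0x10c534d) (nat_lit 1282))
) (.node (nat_lit 0x10c53c5) (.leaf (nat_lit 0x10c535d) (nat_lit 1289))
 (.leaf (nat_lit 0x10c53c5) (nat_lit 1289))
)))) (.node (nat_lit 0x10c71cb) (.node (nat_lit 0x10c70cf) (.node (nat_lit 0x10c7043) (.leaf (nat_lit 0x10c53d5) (nat_lit 1289))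
 (.node (nat_lit 0x10c7053) (.leaf (nat_lit 0x10c7043) (nat_lit 520))
 (.leaf (nat_lit 0x10c7053) (nat_lit 776))
)) (.node (nat_lit 0x10c7147) (.node (nat_lit 0x10c70df) (.leaf (nat_lit 0x10c70cf) (nat_lit 1539))
 (.leaf (nat_lit 0x10c70df) (nat_lit 1283))
) (.node (nat_lit 0x10c7157) (.leaf (nat_lit 0x10c7147) (nat_lit 1282))
 (.leaf (nat_lit 0x10c7157) (nat_lit 1282))
))) (.node (nat_lit 0x10c72cf) (.node (nat_lit 0x10c7243) (.node (nat_lit 0x10c71db) (.leaf (nat_lit 0x10c71cb) (nat_lit 1286))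
 (.leaf (nat_lit 0x10c71db) (nat_lit 1542))
) (.node (nat_lit 0x10c7253) (.leaf (nat_lit 0x10c7243) (nat_lit 769))
 (.leaf (nat_lit 0x10c7253) (nat_lit 776))
)) (.node (nat_lit 0x10c7347) (.node (nat_lit 0x10c72df) (.leaf (nat_lit 0x10c72cf) (nat_lit 1539))
 (.leaf (nat_lit 0x10c72df) (nat_lit 1539))
) (.node (nat_lit 0x10c7357) (.leaf (nat_lit 0x10c7347) (nat_lit 1026))
 (.leaf (nat_lit 0x10c7357) (nat_lit 1282))
))))) (.node (nat_lit 0x10c9b7e) (.node (nat_lit 0x10c997e) (.node (nat_lit 0x10c9851) (.node (nat_lit 0x10c73db) (.leaf (nat_lit 0x10c73cb) (nat_lit 1542))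
 (.node (nat_lit 0x10c9841) (.leaf (nat_lit 0x10c73db) (nat_lit 1286))
 (.leaf (nat_lit 0x10c9841) (nat_lit 773))
)) (.node (nat_lit 0x10c9898) (.node (nat_lit 0x10c9888) (.leaf (nat_lit 0x10c9851) (nat_lit 771))
 (.leaf (nat_lit 0x10c9888) (nat_lit 1288))
) (.node (nat_lit 0x10c996e) (.leaf (nat_lit 0x10c9898) (nat_lit 1288))
 (.leaf (nat_lit 0x10c996e) (nat_lit 1282))
))) (.node (nat_lit 0x10c9a51) (.node (nat_lit 0x10c99b7) (.node (nat_lit 0x10c99a7) (.leaf (nat_lit 0x10c997e) (nat_lit 1544))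
 (.leaf (nat_lit 0x10c99a7) (nat_lit 1545))
) (.node (nat_lit 0x10c9a41) (.leaf (nat_lit 0x10c99b7) (nat_lit 1801))
 (.leaf (nat_lit 0x10c9a41) (nat_lit 771))
)) (.node (nat_lit 0x10c9a98) (.node (nat_lit 0x10c9a88) (.leaf (nat_lit 0x10c9a51) (nat_lit 1025))
 (.leaf (nat_lit 0x10c9a88) (nat_lit 1537))
) (.node (nat_lit 0x10c9b6e) (.leaf (nat_lit 0x10c9a98) (nat_lit 1544))
 (.leaf (nat_lit 0x10c9b6e) (nat_lit 1282))
)))) (.node (nat_lit 0x10cbd65) (.node (nat_lit 0x10cbc43) (.node (nat_lit 0x10c9ba7) (.leaf (nat_lit 0x10c9b7e) (nat_lit 1282))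
 (.node (nat_lit 0x10c9bb7) (.leaf (nat_lit 0x10c9ba7) (nat_lit 1545))
 (.leaf (nat_lit 0x10c9bb7) (nat_lit 1545))
)) (.node (nat_lit 0x10cbc8c) (.node (nat_lit 0x10cbc53) (.leaf (nat_lit 0x10cbc43) (nat_lit 773))
 (.leaf (nat_lit 0x10cbc53) (nat_lit 1027))
) (.node (nat_lit 0x10cbc9c) (.leaf (nat_lit 0x10cbc8c) (nat_lit 1027))
 (.leaf (nat_lit 0x10cbc9c) (nat_lit 1283))
))) (.node (nat_lit 0x10cbe43) (.node (nat_lit 0x10cbdaa) (.node (nat_lit 0x10cbd75) (.leaf (nat_lit 0x10cbd65) (nat_lit 1026))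
 (.leaf (nat_lit 0x10cbd75) (nat_lit 1282))
) (.node (nat_lit 0x10cbdba) (.leaf (nat_lit 0x10cbdaa) (nat_lit 1286))
 (.leaf (nat_lit 0x10cbdba) (nat_lit 1542))
)) (.node (nat_lit 0x10cbe8c) (.node (nat_lit 0x10cbe53) (.leaf (nat_lit 0x10cbe43) (nat_lit 771))
 (.leaf (nat_lit 0x10cbe53) (nat_lit 1027))
) (.node (nat_lit 0x10cbe9c) (.leaf (nat_lit 0x10cbe8c) (nat_lit 1027))
 (.leaf (nat_lit 0x10cbe9c) (nat_lit 1283))
)))))) (.node (nat_lit 0x10cfe8c) (.node (nat_lit 0x10cda98) (.node (nat_lit 0x10cd898) (.node (nat_lit 0x10cbfba) (.node (nat_lit 0x10cbf75) (.leaf (nat_lit 0x10cbf65) (nat_lit 1282))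
 (.node (nat_lit 0x10cbfaa) (.leaf (nat_lit 0x10cbf75) (nat_lit 1282))
 (.leaf (nat_lit 0x10cbfaa) (nat_lit 1540))
)) (.node (nat_lit 0x10cd851) (.node (nat_lit 0x10cd841) (.leaf (nat_lit 0x10cbfba) (nat_lit 1542))
 (.leaf (nat_lit 0x10cd841) (nat_lit 1026))
) (.node (nat_lit 0x10cd888) (.leaf (nat_lit 0x10cd851) (nat_lit 771))
 (.leaf (nat_lit 0x10cd888) (nat_lit 1288))
))) (.node (nat_lit 0x10cd9b7) (.node (nat_lit 0x10cd97e) (.node (nat_lit 0x10cd96e) (.leaf (nat_lit 0x10cd898) (nat_lit 1544))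
 (.leaf (nat_lit 0x10cd96e) (nat_lit 1282))
) (.node (nat_lit 0x10cd9a7) (.leaf (nat_lit 0x10cd97e) (nat_lit 1538))
 (.leaf (nat_lit 0x10cd9a7) (nat_lit 1545))
)) (.node (nat_lit 0x10cda51) (.node (nat_lit 0x10cda41) (.leaf (nat_lit 0x10cd9b7) (nat_lit 1539))
 (.leaf (nat_lit 0x10cda41) (nat_lit 770))
) (.node (nat_lit 0x10cda88) (.leaf (nat_lit 0x10cda51) (nat_lit 1027))
 (.leaf (nat_lit 0x10cda88) (nat_lit 1544))
)))) (.node (nat_lit 0x10cfc8c) (.node (nat_lit 0x10cdba7) (.node (nat_lit 0x10cdb6e) (.leaf (nat_lit 0x10cda98) (nat_lit 1288))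
 (.node (nat_lit 0x10cdb7e) (.leaf (nat_lit 0x10cdb6e) (nat_lit 1282))
 (.leaf (nat_lit 0x10cdb7e) (nat_lit 1538))
)) (.node (nat_lit 0x10cfc43) (.node (nat_lit 0x10cdbb7) (.leaf (nat_lit 0x10cdba7) (nat_lit 1539))
 (.leaf (nat_lit 0x10cdbb7) (nat_lit 1545))
) (.node (nat_lit 0x10cfc53) (.leaf (nat_lit 0x10cfc43) (nat_lit 771))
 (.leaf (nat_lit 0x10cfc53) (nat_lit 771))
))) (.node (nat_lit 0x10cfdaa) (.node (nat_lit 0x10cfd65) (.node (nat_lit 0x10cfc9c) (.leaf (nat_lit 0x10cfc8c) (nat_lit 1027))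
 (.leaf (nat_lit 0x10cfc9c) (nat_lit 1027))
) (.node (nat_lit 0x10cfd75) (.leaf (nat_lit 0x10cfd65) (nat_lit 1282))
 (.leaf (nat_lit 0x10cfd75) (nat_lit 1281))
)) (.node (nat_lit 0x10cfe43) (.node (nat_lit 0x10cfdba) (.leaf (nat_lit 0x10cfdaa) (nat_lit 1286))
 (.leaf (nat_lit 0x10cfdba) (nat_lit 1542))
) (.node (nat_lit 0x10cfe53) (.leaf (nat_lit 0x10cfe43) (nat_lit 1026))
 (.leaf (nat_lit 0x10cfe53) (nat_lit 1025))
))))) (.node (nat_lit 0x10d1e51) (.node (nat_lit 0x10d1c51) (.node (nat_lit 0x10cff75) (.node (nat_lit 0x10cfe9c) (.leaf (nat_lit 0x10cfe8c) (nat_lit 1281))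
 (.node (nat_lit 0x10cff65) (.leaf (nat_lit 0x10cfe9c) (nat_lit 1283))
 (.leaf (nat_lit 0x10cff65) (nat_lit 1026))
)) (.node (nat_lit 0x10cffba) (.node (nat_lit 0x10cffaa) (.leaf (nat_lit 0x10cff75) (nat_lit 1026))
 (.leaf (nat_lit 0x10cffaa) (nat_lit 1286))
) (.node (nat_lit 0x10d1c41) (.leaf (nat_lit 0x10cffba) (nat_lit 1286))
 (.leaf (nat_lit 0x10d1c41) (nat_lit 517))
))) (.node (nat_lit 0x10d1d1c) (.node (nat_lit 0x10d1cbb) (.node (nat_lit 0x10d1cab) (.leaf (nat_lit 0x10d1c51) (nat_lit 773))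
 (.leaf (nat_lit 0x10d1cab) (nat_lit 1545))
) (.node (nat_lit 0x10d1d0c) (.leaf (nat_lit 0x10d1cbb) (nat_lit 1545))
 (.leaf (nat_lit 0x10d1d0c) (nat_lit 1026))
)) (.node (nat_lit 0x10d1df6) (.node (nat_lit 0x10d1de6) (.leaf (nat_lit 0x10d1d1c) (nat_lit 1282))
 (.leaf (nat_lit 0x10d1de6) (nat_lit 1289))
) (.node (nat_lit 0x10d1e41) (.leaf (nat_lit 0x10d1df6) (nat_lit 1545))
 (.leaf (nat_lit 0x10d1e41) (nat_lit 772))
)))) (.node (nat_lit 0x10d3443) (.node (nat_lit 0x10d1f0c) (.node (nat_lit 0x10d1eab) (.leaf (nat_lit 0x10d1e51) (nat_lit 770))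
 (.node (nat_lit 0x10d1ebb) (.leaf (nat_lit 0x10d1eab) (nat_lit 1545))
 (.leaf (nat_lit 0x10d1ebb) (nat_lit 1545))
)) (.node (nat_lit 0x10d1fe6) (.node (nat_lit 0x10d1f1c) (.leaf (nat_lit 0x10d1f0c) (nat_lit 1282))
 (.leaf (nat_lit 0x10d1f1c) (nat_lit 1026))
) (.node (nat_lit 0x10d1ff6) (.leaf (nat_lit 0x10d1fe6) (nat_lit 1289))
 (.leaf (nat_lit 0x10d1ff6) (nat_lit 1545))
))) (.node (nat_lit 0x10d3504) (.node (nat_lit 0x10d34ae) (.node (nat_lit 0x10d3453) (.leaf (nat_lit 0x10d3443) (nat_lit 773))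
 (.leaf (nat_lit 0x10d3453) (nat_lit 1032))
) (.node (nat_lit 0x10d34be) (.leaf (nat_lit 0x10d34ae) (nat_lit 1283))
 (.leaf (nat_lit 0x10d34be) (nat_lit 1283))
)) (.node (nat_lit 0x10d35e9) (.node (nat_lit 0x10d3514) (.leaf (nat_lit 0x10d3504) (nat_lit 770))
 (.leaf (nat_lit 0x10d3514) (nat_lit 1024))
) (.node (nat_lit 0x10d35f9) (.leaf (nat_lit 0x10d35e9) (nat_lit 1542))
 (.leaf (nat_lit 0x10d35f9) (nat_lit 1539))
))))))) (.node (nat_lit 0x10db926) (.node (nat_lit 0x10d75e9) (.node (nat_lit 0x10d5df6) (.node (nat_lit 0x10d37f9) (.node (nat_lit 0x10d36be) (.node (nat_lit 0x10d3653) (.leaf (nat_lit 0x10d3643) (nat_lit 1032))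
 (.node (nat_lit 0x10d36ae) (.leaf (nat_lit 0x10d3653) (nat_lit 776))
 (.leaf (nat_lit 0x10d36ae) (nat_lit 1283))
)) (.node (nat_lit 0x10d3714) (.node (nat_lit 0x10d3704) (.leaf (nat_lit 0x10d36be) (nat_lit 1539))
 (.leaf (nat_lit 0x10d3704) (nat_lit 1026))
) (.node (nat_lit 0x10d37e9) (.leaf (nat_lit 0x10d3714) (nat_lit 1026))
 (.leaf (nat_lit 0x10d37e9) (nat_lit 1542))
))) (.node (nat_lit 0x10d5cbb) (.node (nat_lit 0x10d5c51) (.node (nat_lit 0x10d5c41) (.leaf (nat_lit 0x10d37f9) (nat_lit 1798))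
 (.leaf (nat_lit 0x10d5c41) (nat_lit 769))
) (.node (nat_lit 0x10d5cab) (.leaf (nat_lit 0x10d5c51) (nat_lit 773))
 (.leaf (nat_lit 0x10d5cab) (nat_lit 1544))
)) (.node (nat_lit 0x10d5d1c) (.node (nat_lit 0x10d5d0c) (.leaf (nat_lit 0x10d5cbb) (nat_lit 1545))
 (.leaf (nat_lit 0x10d5d0c) (nat_lit 1026))
) (.node (nat_lit 0x10d5de6) (.leaf (nat_lit 0x10d5d1c) (nat_lit 1280))
 (.leaf (nat_lit 0x10d5de6) (nat_lit 1545))
)))) (.node (nat_lit 0x10d5fe6) (.node (nat_lit 0x10d5eab) (.node (nat_lit 0x10d5e41) (.leaf (nat_lit 0x10d5df6) (nat_lit 1545))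
 (.node (nat_lit 0x10d5e51) (.leaf (nat_lit 0x10d5e41) (nat_lit 514))
 (.leaf (nat_lit 0x10d5e51) (nat_lit 768))
)) (.node (nat_lit 0x10d5f0c) (.node (nat_lit 0x10d5ebb) (.leaf (nat_lit 0x10d5eab) (nat_lit 1801))
 (.leaf (nat_lit 0x10d5ebb) (nat_lit 1544))
) (.node (nat_lit 0x10d5f1c) (.leaf (nat_lit 0x10d5f0c) (nat_lit 1026))
 (.leaf (nat_lit 0x10d5f1c) (nat_lit 1282))
))) (.node (nat_lit 0x10d74ae) (.node (nat_lit 0x10d7443) (.node (nat_lit 0x10d5ff6) (.leaf (nat_lit 0x10d5fe6) (nat_lit 1545))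
 (.leaf (nat_lit 0x10d5ff6) (nat_lit 1289))
) (.node (nat_lit 0x10d7453) (.leaf (nat_lit 0x10d7443) (nat_lit 776))
 (.leaf (nat_lit 0x10d7453) (nat_lit 1029))
)) (.node (nat_lit 0x10d7504) (.node (nat_lit 0x10d74be) (.leaf (nat_lit 0x10d74ae) (nat_lit 1283))
 (.leaf (nat_lit 0x10d74be) (nat_lit 1283))
) (.node (nat_lit 0x10d7514) (.leaf (nat_lit 0x10d7504) (nat_lit 1026))
 (.leaf (nat_lit 0x10d7514) (nat_lit 1026))
))))) (.node (nat_lit 0x10d953f) (.node (nat_lit 0x10d7714) (.node (nat_lit 0x10d7653) (.node (nat_lit 0x10d75f9) (.leaf (nat_lit 0x10d75e9) (nat_lit 1542))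
 (.node (nat_lit 0x10d7643) (.leaf (nat_lit 0x10d75f9) (nat_lit 1539))
 (.leaf (nat_lit 0x10d7643) (nat_lit 770))
)) (.node (nat_lit 0x10d76be) (.node (nat_lit 0x10d76ae) (.leaf (nat_lit 0x10d7653) (nat_lit 1032))
 (.leaf (nat_lit 0x10d76ae) (nat_lit 1539))
) (.node (nat_lit 0x10d7704) (.leaf (nat_lit 0x10d76be) (nat_lit 1283))
 (.leaf (nat_lit 0x10d7704) (nat_lit 770))
))) (.node (nat_lit 0x10d9451) (.node (nat_lit 0x10d77f9) (.node (nat_lit 0x10d77e9) (.leaf (nat_lit 0x10d7714) (nat_lit 1024))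
 (.leaf (nat_lit 0x10d77e9) (nat_lit 1542))
) (.node (nat_lit 0x10d9441) (.leaf (nat_lit 0x10d77f9) (nat_lit 1542))
 (.leaf (nat_lit 0x10d9441) (nat_lit 517))
)) (.node (nat_lit 0x10d94fa) (.node (nat_lit 0x10d94ea) (.leaf (nat_lit 0x10d9451) (nat_lit 772))
 (.leaf (nat_lit 0x10d94ea) (nat_lit 1544))
) (.node (nat_lit 0x10d952f) (.leaf (nat_lit 0x10d94fa) (nat_lit 1544))
 (.leaf (nat_lit 0x10d952f) (nat_lit 1289))
)))) (.node (nat_lit 0x10d972f) (.node (nat_lit 0x10d9641) (.node (nat_lit 0x10d9584) (.leaf (nat_lit 0x10d953f) (nat_lit 1289))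
 (.node (nat_lit 0x10d9594) (.leaf (nat_lit 0x10d9584) (nat_lit 1289))
 (.leaf (nat_lit 0x10d9594) (nat_lit 1545))
)) (.node (nat_lit 0x10d96ea) (.node (nat_lit 0x10d9651) (.leaf (nat_lit 0x10d9641) (nat_lit 515))
 (.leaf (nat_lit 0x10d9651) (nat_lit 768))
) (.node (nat_lit 0x10d96fa) (.leaf (nat_lit 0x10d96ea) (nat_lit 1545))
 (.leaf (nat_lit 0x10d96fa) (nat_lit 1544))
))) (.node (nat_lit 0x10db843) (.node (nat_lit 0x10d9784) (.node (nat_lit 0x10d973f) (.leaf (nat_lit 0x10d972f) (nat_lit 1545))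
 (.leaf (nat_lit 0x10d973f) (nat_lit 1289))
) (.node (nat_lit 0x10d9794) (.leaf (nat_lit 0x10d9784) (nat_lit 1289))
 (.leaf (nat_lit 0x10d9794) (nat_lit 1545))
)) (.node (nat_lit 0x10db8ed) (.node (nat_lit 0x10db853) (.leaf (nat_lit 0x10db843) (nat_lit 773))
 (.leaf (nat_lit 0x10db853) (nat_lit 776))
) (.node (nat_lit 0x10db8fd) (.leaf (nat_lit 0x10db8ed) (nat_lit 1283))
 (.leaf (nat_lit 0x10db8fd) (nat_lit 1537))
)))))) (.node (nat_lit 0x10df8ed) (.node (nat_lit 0x10dd4fa) (.node (nat_lit 0x10dbafd) (.node (nat_lit 0x10db998) (.node (nat_lit 0x10db936) (.leaf (nat_lit 0x10db926) (nat_lit 1282))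
 (.node (nat_lit 0x10db988) (.leaf (nat_lit 0x10db936) (nat_lit 1538))
 (.leaf (nat_lit 0x10db988) (nat_lit 1030))
)) (.node (nat_lit 0x10dba53) (.node (nat_lit 0x10dba43) (.leaf (nat_lit 0x10db998) (nat_lit 1280))
 (.leaf (nat_lit 0x10dba43) (nat_lit 1032))
) (.node (nat_lit 0x10dbaed) (.leaf (nat_lit 0x10dba53) (nat_lit 1025))
 (.leaf (nat_lit 0x10dbaed) (nat_lit 1283))
))) (.node (nat_lit 0x10dbb98) (.node (nat_lit 0x10dbb36) (.node (nat_lit 0x10dbb26) (.leaf (nat_lit 0x10dbafd) (nat_lit 1283))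
 (.leaf (nat_lit 0x10dbb26) (nat_lit 1282))
) (.node (nat_lit 0x10dbb88) (.leaf (nat_lit 0x10dbb36) (nat_lit 1536))
 (.leaf (nat_lit 0x10dbb88) (nat_lit 1286))
)) (.node (nat_lit 0x10dd451) (.node (nat_lit 0x10dd441) (.leaf (nat_lit 0x10dbb98) (nat_lit 1286))
 (.leaf (nat_lit 0x10dd441) (nat_lit 768))
) (.node (nat_lit 0x10dd4ea) (.leaf (nat_lit 0x10dd451) (nat_lit 515))
 (.leaf (nat_lit 0x10dd4ea) (nat_lit 1544))
)))) (.node (nat_lit 0x10dd6ea) (.node (nat_lit 0x10dd584) (.node (nat_lit 0x10dd52f) (.leaf (nat_lit 0x10dd4fa) (nat_lit 1800))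
 (.node (nat_lit 0x10dd53f) (.leaf (nat_lit 0x10dd52f) (nat_lit 1545))
 (.leaf (nat_lit 0x10dd53f) (nat_lit 1545))
)) (.node (nat_lit 0x10dd641) (.node (nat_lit 0x10dd594) (.leaf (nat_lit 0x10dd584) (nat_lit 1289))
 (.leaf (nat_lit 0x10dd594) (nat_lit 1283))
) (.node (nat_lit 0x10dd651) (.leaf (nat_lit 0x10dd641) (nat_lit 772))
 (.leaf (nat_lit 0x10dd651) (nat_lit 769))
))) (.node (nat_lit 0x10dd784) (.node (nat_lit 0x10dd72f) (.node (nat_lit 0x10dd6fa) (.leaf (nat_lit 0x10dd6ea) (nat_lit 1544))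
 (.leaf (nat_lit 0x10dd6fa) (nat_lit 1544))
) (.node (nat_lit 0x10dd73f) (.leaf (nat_lit 0x10dd72f) (nat_lit 1282))
 (.leaf (nat_lit 0x10dd73f) (nat_lit 1289))
)) (.node (nat_lit 0x10df843) (.node (nat_lit 0x10dd794) (.leaf (nat_lit 0x10dd784) (nat_lit 1545))
 (.leaf (nat_lit 0x10dd794) (nat_lit 1544))
) (.node (nat_lit 0x10df853) (.leaf (nat_lit 0x10df843) (nat_lit 776))
 (.leaf (nat_lit 0x10df853) (nat_lit 1032))
))))) (.node (nat_lit 0x10e1071) (.node (nat_lit 0x10dfa53) (.node (nat_lit 0x10df936) (.node (nat_lit 0x10df8fd) (.leaf (nat_lit 0x10df8ed) (nat_lit 1283))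
 (.node (nat_lit 0x10df926) (.leaf (nat_lit 0x10df8fd) (nat_lit 1283))
 (.leaf (nat_lit 0x10df926) (nat_lit 1538))
)) (.node (nat_lit 0x10df998) (.node (nat_lit 0x10df988) (.leaf (nat_lit 0x10df936) (nat_lit 1282))
 (.leaf (nat_lit 0x10df988) (nat_lit 1030))
) (.node (nat_lit 0x10dfa43) (.leaf (nat_lit 0x10df998) (nat_lit 1280))
 (.leaf (nat_lit 0x10dfa43) (nat_lit 1032))
))) (.node (nat_lit 0x10dfb36) (.node (nat_lit 0x10dfafd) (.node (nat_lit 0x10dfaed) (.leaf (nat_lit 0x10dfa53) (nat_lit 776))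
 (.leaf (nat_lit 0x10dfaed) (nat_lit 1283))
) (.node (nat_lit 0x10dfb26) (.leaf (nat_lit 0x10dfafd) (nat_lit 1539))
 (.leaf (nat_lit 0x10dfb26) (nat_lit 1282))
)) (.node (nat_lit 0x10dfb98) (.node (nat_lit 0x10dfb88) (.leaf (nat_lit 0x10dfb36) (nat_lit 1282))
 (.leaf (nat_lit 0x10dfb88) (nat_lit 1286))
) (.node (nat_lit 0x10e1061) (.leaf (nat_lit 0x10dfb98) (nat_lit 1030))
 (.leaf (nat_lit 0x10e1061) (nat_lit 776))
)))) (.node (nat_lit 0x10e1261) (.node (nat_lit 0x10e1165) (.node (nat_lit 0x10e10ed) (.leaf (nat_lit 0x10e1071) (nat_lit 1032))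
 (.node (nat_lit 0x10e10fd) (.leaf (nat_lit 0x10e10ed) (nat_lit 1285))
 (.leaf (nat_lit 0x10e10fd) (nat_lit 1287))
)) (.node (nat_lit 0x10e11e9) (.node (nat_lit 0x10e1175) (.leaf (nat_lit 0x10e1165) (nat_lit 1027))
 (.leaf (nat_lit 0x10e1175) (nat_lit 1283))
) (.node (nat_lit 0x10e11f9) (.leaf (nat_lit 0x10e11e9) (nat_lit 1282))
 (.leaf (nat_lit 0x10e11f9) (nat_lit 1538))
))) (.node (nat_lit 0x10e1365) (.node (nat_lit 0x10e12ed) (.node (nat_lit 0x10e1271) (.leaf (nat_lit 0x10e1261) (nat_lit 1032))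
 (.leaf (nat_lit 0x10e1271) (nat_lit 1032))
) (.node (nat_lit 0x10e12fd) (.leaf (nat_lit 0x10e12ed) (nat_lit 1543))
 (.leaf (nat_lit 0x10e12fd) (nat_lit 1541))
)) (.node (nat_lit 0x10e13e9) (.node (nat_lit 0x10e1375) (.leaf (nat_lit 0x10e1365) (nat_lit 1027))
 (.leaf (nat_lit 0x10e1375) (nat_lit 1283))
) (.node (nat_lit 0x10e13f9) (.leaf (nat_lit 0x10e13e9) (nat_lit 1538))
 (.leaf (nat_lit 0x10e13f9) (nat_lit 1282))
)))))))) (.node (nat_lit 0x10f1661) (.node (nat_lit 0x10e9f26) (.node (nat_lit 0x10e53e9) (.node (nat_lit 0x10e23f6) (.node (nat_lit 0x10e21f6) (.node (nat_lit 0x10e20fa) (.node (nat_lit 0x10e2072) (.leaf (nat_lit 0x10e2062) (nat_lit 518))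
 (.node (nat_lit 0x10e20ea) (.leaf (nat_lit 0x10e2072) (nat_lit 768))
 (.leaf (nat_lit 0x10e20ea) (nat_lit 1289))
)) (.node (nat_lit 0x10e217e) (.node (nat_lit 0x10e216e) (.leaf (nat_lit 0x10e20fa) (nat_lit 1545))
 (.leaf (nat_lit 0x10e216e) (nat_lit 1285))
) (.node (nat_lit 0x10e21e6) (.leaf (nat_lit 0x10e217e) (nat_lit 1288))
 (.leaf (nat_lit 0x10e21e6) (nat_lit 1289))
))) (.node (nat_lit 0x10e22fa) (.node (nat_lit 0x10e2272) (.node (nat_lit 0x10e2262) (.leaf (nat_lit 0x10e21f6) (nat_lit 1545))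
 (.leaf (nat_lit 0x10e2262) (nat_lit 774))
) (.node (nat_lit 0x10e22ea) (.leaf (nat_lit 0x10e2272) (nat_lit 774))
 (.leaf (nat_lit 0x10e22ea) (nat_lit 1289))
)) (.node (nat_lit 0x10e237e) (.node (nat_lit 0x10e236e) (.leaf (nat_lit 0x10e22fa) (nat_lit 1545))
 (.leaf (nat_lit 0x10e236e) (nat_lit 1541))
) (.node (nat_lit 0x10e23e6) (.leaf (nat_lit 0x10e237e) (nat_lit 1544))
 (.leaf (nat_lit 0x10e23e6) (nat_lit 1545))
)))) (.node (nat_lit 0x10e51e9) (.node (nat_lit 0x10e50ed) (.node (nat_lit 0x10e5061) (.leaf (nat_lit 0x10e23f6) (nat_lit 1289))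
 (.node (nat_lit 0x10e5071) (.leaf (nat_lit 0x10e5061) (nat_lit 776))
 (.leaf (nat_lit 0x10e5071) (nat_lit 1032))
)) (.node (nat_lit 0x10e5165) (.node (nat_lit 0x10e50fd) (.leaf (nat_lit 0x10e50ed) (nat_lit 1287))
 (.leaf (nat_lit 0x10e50fd) (nat_lit 1543))
) (.node (nat_lit 0x10e5175) (.leaf (nat_lit 0x10e5165) (nat_lit 1283))
 (.leaf (nat_lit 0x10e5175) (nat_lit 1027))
))) (.node (nat_lit 0x10e52ed) (.node (nat_lit 0x10e5261) (.node (nat_lit 0x10e51f9) (.leaf (nat_lit 0x10e51e9) (nat_lit 1538))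
 (.leaf (nat_lit 0x10e51f9) (nat_lit 1538))
) (.node (nat_lit 0x10e5271) (.leaf (nat_lit 0x10e5261) (nat_lit 1032))
 (.leaf (nat_lit 0x10e5271) (nat_lit 1032))
)) (.node (nat_lit 0x10e5365) (.node (nat_lit 0x10e52fd) (.leaf (nat_lit 0x10e52ed) (nat_lit 1543))
 (.leaf (nat_lit 0x10e52fd) (nat_lit 1287))
) (.node (nat_lit 0x10e5375) (.leaf (nat_lit 0x10e5365) (nat_lit 1283))
 (.leaf (nat_lit 0x10e5375) (nat_lit 1283))
))))) (.node (nat_lit 0x10e637e) (.node (nat_lit 0x10e617e) (.node (nat_lit 0x10e6072) (.node (nat_lit 0x10e53f9) (.leaf (nat_lit 0x10e53e9) (nat_lit 1282))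
 (.node (nat_lit 0x10e6062) (.leaf (nat_lit 0x10e53f9) (nat_lit 1538))
 (.leaf (nat_lit 0x10e6062) (nat_lit 518))
)) (.node (nat_lit 0x10e60fa) (.node (nat_lit 0x10e60ea) (.leaf (nat_lit 0x10e6072) (nat_lit 768))
 (.leaf (nat_lit 0x10e60ea) (nat_lit 1289))
) (.node (nat_lit 0x10e616e) (.leaf (nat_lit 0x10e60fa) (nat_lit 1289))
 (.leaf (nat_lit 0x10e616e) (nat_lit 1288))
))) (.node (nat_lit 0x10e6272) (.node (nat_lit 0x10e61f6) (.node (nat_lit 0x10e61e6) (.leaf (nat_lit 0x10e617e) (nat_lit 1544))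
 (.leaf (nat_lit 0x10e61e6) (nat_lit 1545))
) (.node (nat_lit 0x10e6262) (.leaf (nat_lit 0x10e61f6) (nat_lit 1545))
 (.leaf (nat_lit 0x10e6262) (nat_lit 774))
)) (.node (nat_lit 0x10e62fa) (.node (nat_lit 0x10e62ea) (.leaf (nat_lit 0x10e6272) (nat_lit 774))
 (.leaf (nat_lit 0x10e62ea) (nat_lit 1545))
) (.node (nat_lit 0x10e636e) (.leaf (nat_lit 0x10e62fa) (nat_lit 1545))
 (.leaf (nat_lit 0x10e636e) (nat_lit 1544))
)))) (.node (nat_lit 0x10e9d26) (.node (nat_lit 0x10e9c61) (.node (nat_lit 0x10e63e6) (.leaf (nat_lit 0x10e637e) (nat_lit 1288))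
 (.node (nat_lit 0x10e63f6) (.leaf (nat_lit 0x10e63e6) (nat_lit 1289))
 (.leaf (nat_lit 0x10e63f6) (nat_lit 1545))
)) (.node (nat_lit 0x10e9c8c) (.node (nat_lit 0x10e9c71) (.leaf (nat_lit 0x10e9c61) (nat_lit 1032))
 (.leaf (nat_lit 0x10e9c71) (nat_lit 1032))
) (.node (nat_lit 0x10e9c9c) (.leaf (nat_lit 0x10e9c8c) (nat_lit 1029))
 (.leaf (nat_lit 0x10e9c9c) (nat_lit 1031))
))) (.node (nat_lit 0x10e9e61) (.node (nat_lit 0x10e9dcb) (.node (nat_lit 0x10e9d36) (.leaf (nat_lit 0x10e9d26) (nat_lit 1283))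
 (.leaf (nat_lit 0x10e9d36) (nat_lit 1283))
) (.node (nat_lit 0x10e9ddb) (.leaf (nat_lit 0x10e9dcb) (nat_lit 1282))
 (.leaf (nat_lit 0x10e9ddb) (nat_lit 1538))
)) (.node (nat_lit 0x10e9e8c) (.node (nat_lit 0x10e9e71) (.leaf (nat_lit 0x10e9e61) (nat_lit 1288))
 (.leaf (nat_lit 0x10e9e71) (nat_lit 1288))
) (.node (nat_lit 0x10e9e9c) (.leaf (nat_lit 0x10e9e8c) (nat_lit 1287))
 (.leaf (nat_lit 0x10e9e9c) (nat_lit 1287))
)))))) (.node (nat_lit 0x10ede8c) (.node (nat_lit 0x10eaa98) (.node (nat_lit 0x10ea898) (.node (nat_lit 0x10e9fdb) (.node (nat_lit 0x10e9f36) (.leaf (nat_lit 0x10e9f26) (nat_lit 1283))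
 (.node (nat_lit 0x10e9fcb) (.leaf (nat_lit 0x10e9f36) (nat_lit 1539))
 (.leaf (nat_lit 0x10e9fcb) (nat_lit 1538))
)) (.node (nat_lit 0x10ea872) (.node (nat_lit 0x10ea862) (.leaf (nat_lit 0x10e9fdb) (nat_lit 1282))
 (.leaf (nat_lit 0x10ea862) (nat_lit 774))
) (.node (nat_lit 0x10ea888) (.leaf (nat_lit 0x10ea872) (nat_lit 1030))
 (.leaf (nat_lit 0x10ea888) (nat_lit 1283))
))) (.node (nat_lit 0x10ea9d5) (.node (nat_lit 0x10ea93f) (.node (nat_lit 0x10ea92f) (.leaf (nat_lit 0x10ea898) (nat_lit 1536))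
 (.leaf (nat_lit 0x10ea92f) (nat_lit 1541))
) (.node (nat_lit 0x10ea9c5) (.leaf (nat_lit 0x10ea93f) (nat_lit 1544))
 (.leaf (nat_lit 0x10ea9c5) (nat_lit 1545))
)) (.node (nat_lit 0x10eaa72) (.node (nat_lit 0x10eaa62) (.leaf (nat_lit 0x10ea9d5) (nat_lit 1545))
 (.leaf (nat_lit 0x10eaa62) (nat_lit 774))
) (.node (nat_lit 0x10eaa88) (.leaf (nat_lit 0x10eaa72) (nat_lit 1024))
 (.leaf (nat_lit 0x10eaa88) (nat_lit 1283))
)))) (.node (nat_lit 0x10edc8c) (.node (nat_lit 0x10eabc5) (.node (nat_lit 0x10eab2f) (.leaf (nat_lit 0x10eaa98) (nat_lit 1542))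
 (.node (nat_lit 0x10eab3f) (.leaf (nat_lit 0x10eab2f) (nat_lit 1544))
 (.leaf (nat_lit 0x10eab3f) (nat_lit 1544))
)) (.node (nat_lit 0x10edc61) (.node (nat_lit 0x10eabd5) (.leaf (nat_lit 0x10eabc5) (nat_lit 1539))
 (.leaf (nat_lit 0x10eabd5) (nat_lit 1545))
) (.node (nat_lit 0x10edc71) (.leaf (nat_lit 0x10edc61) (nat_lit 1032))
 (.leaf (nat_lit 0x10edc71) (nat_lit 1288))
))) (.node (nat_lit 0x10eddcb) (.node (nat_lit 0x10edd26) (.node (nat_lit 0x10edc9c) (.leaf (nat_lit 0x10edc8c) (nat_lit 1031))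
 (.leaf (nat_lit 0x10edc9c) (nat_lit 1287))
) (.node (nat_lit 0x10edd36) (.leaf (nat_lit 0x10edd26) (nat_lit 1539))
 (.leaf (nat_lit 0x10edd36) (nat_lit 1283))
)) (.node (nat_lit 0x10ede61) (.node (nat_lit 0x10edddb) (.leaf (nat_lit 0x10eddcb) (nat_lit 1282))
 (.leaf (nat_lit 0x10edddb) (nat_lit 1282))
) (.node (nat_lit 0x10ede71) (.leaf (nat_lit 0x10ede61) (nat_lit 1288))
 (.leaf (nat_lit 0x10ede71) (nat_lit 1032))
))))) (.node (nat_lit 0x10eea72) (.node (nat_lit 0x10ee872) (.node (nat_lit 0x10edf36) (.node (nat_lit 0x10ede9c) (.leaf (nat_lit 0x10ede8c) (nat_lit 1281))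
 (.node (nat_lit 0x10edf26) (.leaf (nat_lit 0x10ede9c) (nat_lit 1031))
 (.leaf (nat_lit 0x10edf26) (nat_lit 1283))
)) (.node (nat_lit 0x10edfdb) (.node (nat_lit 0x10edfcb) (.leaf (nat_lit 0x10edf36) (nat_lit 1283))
 (.leaf (nat_lit 0x10edfcb) (nat_lit 1282))
) (.node (nat_lit 0x10ee862) (.leaf (nat_lit 0x10edfdb) (nat_lit 1537))
 (.leaf (nat_lit 0x10ee862) (nat_lit 774))
))) (.node (nat_lit 0x10ee93f) (.node (nat_lit 0x10ee898) (.node (nat_lit 0x10ee888) (.leaf (nat_lit 0x10ee872) (nat_lit 771))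
 (.leaf (nat_lit 0x10ee888) (nat_lit 1283))
) (.node (nat_lit 0x10ee92f) (.leaf (nat_lit 0x10ee898) (nat_lit 1283))
 (.leaf (nat_lit 0x10ee92f) (nat_lit 1544))
)) (.node (nat_lit 0x10ee9d5) (.node (nat_lit 0x10ee9c5) (.leaf (nat_lit 0x10ee93f) (nat_lit 1544))
 (.leaf (nat_lit 0x10ee9c5) (nat_lit 1538))
) (.node (nat_lit 0x10eea62) (.leaf (nat_lit 0x10ee9d5) (nat_lit 1539))
 (.leaf (nat_lit 0x10eea62) (nat_lit 1028))
)))) (.node (nat_lit 0x10f1461) (.node (nat_lit 0x10eeb2f) (.node (nat_lit 0x10eea88) (.leaf (nat_lit 0x10eea72) (nat_lit 1030))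
 (.node (nat_lit 0x10eea98) (.leaf (nat_lit 0x10eea88) (nat_lit 1539))
 (.leaf (nat_lit 0x10eea98) (nat_lit 1539))
)) (.node (nat_lit 0x10eebc5) (.node (nat_lit 0x10eeb3f) (.leaf (nat_lit 0x10eeb2f) (nat_lit 1538))
 (.leaf (nat_lit 0x10eeb3f) (nat_lit 1544))
) (.node (nat_lit 0x10eebd5) (.leaf (nat_lit 0x10eebc5) (nat_lit 1545))
 (.leaf (nat_lit 0x10eebd5) (nat_lit 1545))
))) (.node (nat_lit 0x10f1504) (.node (nat_lit 0x10f14cf) (.node (nat_lit 0x10f1471) (.leaf (nat_lit 0x10f1461) (nat_lit 1032))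
 (.leaf (nat_lit 0x10f1471) (nat_lit 1288))
) (.node (nat_lit 0x10f14df) (.leaf (nat_lit 0x10f14cf) (nat_lit 1541))
 (.leaf (nat_lit 0x10f14df) (nat_lit 1543))
)) (.node (nat_lit 0x10f15aa) (.node (nat_lit 0x10f1514) (.leaf (nat_lit 0x10f1504) (nat_lit 771))
 (.leaf (nat_lit 0x10f1514) (nat_lit 1027))
) (.node (nat_lit 0x10f15ba) (.leaf (nat_lit 0x10f15aa) (nat_lit 1282))
 (.leaf (nat_lit 0x10f15ba) (nat_lit 1282))
))))))) (.node (nat_lit 0x10f9947) (.node (nat_lit 0x10f55aa) (.node (nat_lit 0x10f2db7) (.node (nat_lit 0x10f17ba) (.node (nat_lit 0x10f16df) (.node (nat_lit 0x10f1671) (.leaf (nat_lit 0x10f1661) (nat_lit 1032))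
 (.node (nat_lit 0x10f16cf) (.leaf (nat_lit 0x10f1671) (nat_lit 1288))
 (.leaf (nat_lit 0x10f16cf) (nat_lit 1543))
)) (.node (nat_lit 0x10f1714) (.node (nat_lit 0x10f1704) (.leaf (nat_lit 0x10f16df) (nat_lit 1543))
 (.leaf (nat_lit 0x10f1704) (nat_lit 771))
) (.node (nat_lit 0x10f17aa) (.leaf (nat_lit 0x10f1714) (nat_lit 1024))
 (.leaf (nat_lit 0x10f17aa) (nat_lit 1538))
))) (.node (nat_lit 0x10f2cd9) (.node (nat_lit 0x10f2c72) (.node (nat_lit 0x10f2c62) (.leaf (nat_lit 0x10f17ba) (nat_lit 1282))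
 (.leaf (nat_lit 0x10f2c62) (nat_lit 774))
) (.node (nat_lit 0x10f2cc9) (.leaf (nat_lit 0x10f2c72) (nat_lit 1030))
 (.leaf (nat_lit 0x10f2cc9) (nat_lit 1545))
)) (.node (nat_lit 0x10f2d1c) (.node (nat_lit 0x10f2d0c) (.leaf (nat_lit 0x10f2cd9) (nat_lit 1801))
 (.leaf (nat_lit 0x10f2d0c) (nat_lit 1029))
) (.node (nat_lit 0x10f2da7) (.leaf (nat_lit 0x10f2d1c) (nat_lit 1032))
 (.leaf (nat_lit 0x10f2da7) (nat_lit 1538))
)))) (.node (nat_lit 0x10f2fa7) (.node (nat_lit 0x10f2ec9) (.node (nat_lit 0x10f2e62) (.leaf (nat_lit 0x10f2db7) (nat_lit 1794))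
 (.node (nat_lit 0x10f2e72) (.leaf (nat_lit 0x10f2e62) (nat_lit 1030))
 (.leaf (nat_lit 0x10f2e72) (nat_lit 1028))
)) (.node (nat_lit 0x10f2f0c) (.node (nat_lit 0x10f2ed9) (.leaf (nat_lit 0x10f2ec9) (nat_lit 1545))
 (.leaf (nat_lit 0x10f2ed9) (nat_lit 1539))
) (.node (nat_lit 0x10f2f1c) (.leaf (nat_lit 0x10f2f0c) (nat_lit 1288))
 (.leaf (nat_lit 0x10f2f1c) (nat_lit 1288))
))) (.node (nat_lit 0x10f54cf) (.node (nat_lit 0x10f5461) (.node (nat_lit 0x10f2fb7) (.leaf (nat_lit 0x10f2fa7) (nat_lit 1538))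
 (.leaf (nat_lit 0x10f2fb7) (nat_lit 1538))
) (.node (nat_lit 0x10f5471) (.leaf (nat_lit 0x10f5461) (nat_lit 1032))
 (.leaf (nat_lit 0x10f5471) (nat_lit 1027))
)) (.node (nat_lit 0x10f5504) (.node (nat_lit 0x10f54df) (.leaf (nat_lit 0x10f54cf) (nat_lit 1543))
 (.leaf (nat_lit 0x10f54df) (nat_lit 1543))
) (.node (nat_lit 0x10f5514) (.leaf (nat_lit 0x10f5504) (nat_lit 1027))
 (.leaf (nat_lit 0x10f5514) (nat_lit 771))
))))) (.node (nat_lit 0x10f6d1c) (.node (nat_lit 0x10f5714) (.node (nat_lit 0x10f5671) (.node (nat_lit 0x10f55ba) (.leaf (nat_lit 0x10f55aa) (nat_lit 1282))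
 (.node (nat_lit 0x10f5661) (.leaf (nat_lit 0x10f55ba) (nat_lit 1538))
 (.leaf (nat_lit 0x10f5661) (nat_lit 1288))
)) (.node (nat_lit 0x10f56df) (.node (nat_lit 0x10f56cf) (.leaf (nat_lit 0x10f5671) (nat_lit 1288))
 (.leaf (nat_lit 0x10f56cf) (nat_lit 1542))
) (.node (nat_lit 0x10f5704) (.leaf (nat_lit 0x10f56df) (nat_lit 1543))
 (.leaf (nat_lit 0x10f5704) (nat_lit 1027))
))) (.node (nat_lit 0x10f6c72) (.node (nat_lit 0x10f57ba) (.node (nat_lit 0x10f57aa) (.leaf (nat_lit 0x10f5714) (nat_lit 1025))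
 (.leaf (nat_lit 0x10f57aa) (nat_lit 1282))
) (.node (nat_lit 0x10f6c62) (.leaf (nat_lit 0x10f57ba) (nat_lit 1282))
 (.leaf (nat_lit 0x10f6c62) (nat_lit 774))
)) (.node (nat_lit 0x10f6cd9) (.node (nat_lit 0x10f6cc9) (.leaf (nat_lit 0x10f6c72) (nat_lit 1030))
 (.leaf (nat_lit 0x10f6cc9) (nat_lit 1545))
) (.node (nat_lit 0x10f6d0c) (.leaf (nat_lit 0x10f6cd9) (nat_lit 1545))
 (.leaf (nat_lit 0x10f6d0c) (nat_lit 1032))
)))) (.node (nat_lit 0x10f6f0c) (.node (nat_lit 0x10f6e62) (.node (nat_lit 0x10f6da7) (.leaf (nat_lit 0x10f6d1c) (nat_lit 1288))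
 (.node (nat_lit 0x10f6db7) (.leaf (nat_lit 0x10f6da7) (nat_lit 1538))
 (.leaf (nat_lit 0x10f6db7) (nat_lit 1538))
)) (.node (nat_lit 0x10f6ec9) (.node (nat_lit 0x10f6e72) (.leaf (nat_lit 0x10f6e62) (nat_lit 1030))
 (.leaf (nat_lit 0x10f6e72) (nat_lit 774))
) (.node (nat_lit 0x10f6ed9) (.leaf (nat_lit 0x10f6ec9) (nat_lit 1545))
 (.leaf (nat_lit 0x10f6ed9) (nat_lit 1538))
))) (.node (nat_lit 0x10f9861) (.node (nat_lit 0x10f6fa7) (.node (nat_lit 0x10f6f1c) (.leaf (nat_lit 0x10f6f0c) (nat_lit 1281))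
 (.leaf (nat_lit 0x10f6f1c) (nat_lit 1032))
) (.node (nat_lit 0x10f6fb7) (.leaf (nat_lit 0x10f6fa7) (nat_lit 1538))
 (.leaf (nat_lit 0x10f6fb7) (nat_lit 1794))
)) (.node (nat_lit 0x10f98ae) (.node (nat_lit 0x10f9871) (.leaf (nat_lit 0x10f9861) (nat_lit 1032))
 (.leaf (nat_lit 0x10f9871) (nat_lit 1281))
) (.node (nat_lit 0x10f98be) (.leaf (nat_lit 0x10f98ae) (nat_lit 1285))
 (.leaf (nat_lit 0x10f98be) (nat_lit 1287))
)))))) (.node (nat_lit 0x10fd8ae) (.node (nat_lit 0x10fa4bb) (.node (nat_lit 0x10f9abe) (.node (nat_lit 0x10f9998) (.node (nat_lit 0x10f9957) (.leaf (nat_lit 0x10f9947) (nat_lit 1027))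
 (.node (nat_lit 0x10f9988) (.leaf (nat_lit 0x10f9957) (nat_lit 1027))
 (.leaf (nat_lit 0x10f9988) (nat_lit 1026))
)) (.node (nat_lit 0x10f9a71) (.node (nat_lit 0x10f9a61) (.leaf (nat_lit 0x10f9998) (nat_lit 1280))
 (.leaf (nat_lit 0x10f9a61) (nat_lit 1288))
) (.node (nat_lit 0x10f9aae) (.leaf (nat_lit 0x10f9a71) (nat_lit 1032))
 (.leaf (nat_lit 0x10f9aae) (nat_lit 1287))
))) (.node (nat_lit 0x10f9b98) (.node (nat_lit 0x10f9b57) (.node (nat_lit 0x10f9b47) (.leaf (nat_lit 0x10f9abe) (nat_lit 1543))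
 (.leaf (nat_lit 0x10f9b47) (nat_lit 1027))
) (.node (nat_lit 0x10f9b88) (.leaf (nat_lit 0x10f9b57) (nat_lit 1281))
 (.leaf (nat_lit 0x10f9b88) (nat_lit 1281))
)) (.node (nat_lit 0x10fa472) (.node (nat_lit 0x10fa462) (.leaf (nat_lit 0x10f9b98) (nat_lit 1026))
 (.leaf (nat_lit 0x10fa462) (nat_lit 770))
) (.node (nat_lit 0x10fa4ab) (.leaf (nat_lit 0x10fa472) (nat_lit 1025))
 (.leaf (nat_lit 0x10fa4ab) (nat_lit 1539))
)))) (.node (nat_lit 0x10fa6ab) (.node (nat_lit 0x10fa584) (.node (nat_lit 0x10fa54d) (.leaf (nat_lit 0x10fa4bb) (nat_lit 1539))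
 (.node (nat_lit 0x10fa55d) (.leaf (nat_lit 0x10fa54d) (nat_lit 1285))
 (.leaf (nat_lit 0x10fa55d) (nat_lit 1288))
)) (.node (nat_lit 0x10fa662) (.node (nat_lit 0x10fa594) (.leaf (nat_lit 0x10fa584) (nat_lit 1282))
 (.leaf (nat_lit 0x10fa594) (nat_lit 1538))
) (.node (nat_lit 0x10fa672) (.leaf (nat_lit 0x10fa662) (nat_lit 1028))
 (.leaf (nat_lit 0x10fa672) (nat_lit 770))
))) (.node (nat_lit 0x10fa784) (.node (nat_lit 0x10fa74d) (.node (nat_lit 0x10fa6bb) (.leaf (nat_lit 0x10fa6ab) (nat_lit 1539))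
 (.leaf (nat_lit 0x10fa6bb) (nat_lit 1795))
) (.node (nat_lit 0x10fa75d) (.leaf (nat_lit 0x10fa74d) (nat_lit 1288))
 (.leaf (nat_lit 0x10fa75d) (nat_lit 1544))
)) (.node (nat_lit 0x10fd861) (.node (nat_lit 0x10fa794) (.leaf (nat_lit 0x10fa784) (nat_lit 1537))
 (.leaf (nat_lit 0x10fa794) (nat_lit 1282))
) (.node (nat_lit 0x10fd871) (.leaf (nat_lit 0x10fd861) (nat_lit 1032))
 (.leaf (nat_lit 0x10fd871) (nat_lit 1288))
))))) (.node (nat_lit 0x10fe472) (.node (nat_lit 0x10fda71) (.node (nat_lit 0x10fd957) (.node (nat_lit 0x10fd8be) (.leaf (nat_lit 0x10fd8ae) (nat_lit 1287))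
 (.node (nat_lit 0x10fd947) (.leaf (nat_lit 0x10fd8be) (nat_lit 1287))
 (.leaf (nat_lit 0x10fd947) (nat_lit 1283))
)) (.node (nat_lit 0x10fd998) (.node (nat_lit 0x10fd988) (.leaf (nat_lit 0x10fd957) (nat_lit 1027))
 (.leaf (nat_lit 0x10fd988) (nat_lit 1026))
) (.node (nat_lit 0x10fda61) (.leaf (nat_lit 0x10fd998) (nat_lit 1282))
 (.leaf (nat_lit 0x10fda61) (nat_lit 1032))
))) (.node (nat_lit 0x10fdb57) (.node (nat_lit 0x10fdabe) (.node (nat_lit 0x10fdaae) (.leaf (nat_lit 0x10fda71) (nat_lit 1288))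
 (.leaf (nat_lit 0x10fdaae) (nat_lit 1543))
) (.node (nat_lit 0x10fdb47) (.leaf (nat_lit 0x10fdabe) (nat_lit 1287))
 (.leaf (nat_lit 0x10fdb47) (nat_lit 1280))
)) (.node (nat_lit 0x10fdb98) (.node (nat_lit 0x10fdb88) (.leaf (nat_lit 0x10fdb57) (nat_lit 1027))
 (.leaf (nat_lit 0x10fdb88) (nat_lit 1026))
) (.node (nat_lit 0x10fe462) (.leaf (nat_lit 0x10fdb98) (nat_lit 1280))
 (.leaf (nat_lit 0x10fe462) (nat_lit 770))
)))) (.node (nat_lit 0x10fe662) (.node (nat_lit 0x10fe54d) (.node (nat_lit 0x10fe4ab) (.leaf (nat_lit 0x10fe472) (nat_lit 1027))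
 (.node (nat_lit 0x10fe4bb) (.leaf (nat_lit 0x10fe4ab) (nat_lit 1539))
 (.leaf (nat_lit 0x10fe4bb) (nat_lit 1539))
)) (.node (nat_lit 0x10fe584) (.node (nat_lit 0x10fe55d) (.leaf (nat_lit 0x10fe54d) (nat_lit 1288))
 (.leaf (nat_lit 0x10fe55d) (nat_lit 1288))
) (.node (nat_lit 0x10fe594) (.leaf (nat_lit 0x10fe584) (nat_lit 1282))
 (.leaf (nat_lit 0x10fe594) (nat_lit 1536))
))) (.node (nat_lit 0x10fe74d) (.node (nat_lit 0x10fe6ab) (.node (nat_lit 0x10fe672) (.leaf (nat_lit 0x10fe662) (nat_lit 770))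
 (.leaf (nat_lit 0x10fe672) (nat_lit 1024))
) (.node (nat_lit 0x10fe6bb) (.leaf (nat_lit 0x10fe6ab) (nat_lit 1792))
 (.leaf (nat_lit 0x10fe6bb) (nat_lit 1539))
)) (.node (nat_lit 0x10fe784) (.node (nat_lit 0x10fe75d) (.leaf (nat_lit 0x10fe74d) (nat_lit 1544))
 (.leaf (nat_lit 0x10fe75d) (nat_lit 1288))
) (.node (nat_lit 0x10fe794) (.leaf (nat_lit 0x10fe784) (nat_lit 1282))
 (.leaf (nat_lit 0x10fe794) (nat_lit 1544))
)))))))))))

theorem vP_ok : genOK B5.A [(nat_lit 0x1041051), (nat_lit 0x1041241), (nat_lit 0x1051c41), (nat_lit 0x1059441), (nat_lit 0x1045041), (nat_lit 0x10c1041), (nat_lit 0x1062062), (nat_lit 0x1023023), (nat_lit 0x1043043), (nat_lit 0x1010504)] vP_t (nat_lit 1920) = true := by decide +kernel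

noncomputable def vB_t : ST :=
(.node (nat_lit 0x10c1041) (.node (nat_lit 0x1051c41) (.node (nat_lit 0x1049841) (.node (nat_lit 0x1045041) (.node (nat_lit 0x1041241) (.node (nat_lit 0x1041051) (.leaf (nat_lit 0x1041041) (nat_lit 0))
 (.leaf (nat_lit 0x1041051) (nat_lit 256))
) (.node (nat_lit 0x1041251) (.leaf (nat_lit 0x1041241) (nat_lit 257))
 (.leaf (nat_lit 0x1041251) (nat_lit 513))
)) (.node (nat_lit 0x1045241) (.node (nat_lit 0x1045051) (.leaf (nat_lit 0x1045041) (nat_lit 260))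
 (.leaf (nat_lit 0x1045051) (nat_lit 516))
) (.node (nat_lit 0x1045251) (.leaf (nat_lit 0x1045241) (nat_lit 516))
 (.leaf (nat_lit 0x1045251) (nat_lit 772))
))) (.node (nat_lit 0x104d841) (.node (nat_lit 0x1049a41) (.node (nat_lit 0x1049851) (.leaf (nat_lit 0x1049841) (nat_lit 515))
 (.leaf (nat_lit 0x1049851) (nat_lit 768))
) (.node (nat_lit 0x1049a51) (.leaf (nat_lit 0x1049a41) (nat_lit 769))
 (.leaf (nat_lit 0x1049a51) (nat_lit 1027))
)) (.node (nat_lit 0x104da41) (.node (nat_lit 0x104d851) (.leaf (nat_lit 0x104d841) (nat_lit 772))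
 (.leaf (nat_lit 0x104d851) (nat_lit 770))
) (.node (nat_lit 0x104da51) (.leaf (nat_lit 0x104da41) (nat_lit 771))
 (.leaf (nat_lit 0x104da51) (nat_lit 1026))
)))) (.node (nat_lit 0x1059441) (.node (nat_lit 0x1055c41) (.node (nat_lit 0x1051e41) (.node (nat_lit 0x1051c51) (.leaf (nat_lit 0x1051c41) (nat_lit 258))
 (.leaf (nat_lit 0x1051c51) (nat_lit 512))
) (.node (nat_lit 0x1051e51) (.leaf (nat_lit 0x1051e41) (nat_lit 513))
 (.leaf (nat_lit 0x1051e51) (nat_lit 769))
)) (.node (nat_lit 0x1055e41) (.node (nat_lit 0x1055c51) (.leaf (nat_lit 0x1055c41) (nat_lit 516))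
 (.leaf (nat_lit 0x1055c51) (nat_lit 514))
) (.node (nat_lit 0x1055e51) (.leaf (nat_lit 0x1055e41) (nat_lit 773))
 (.leaf (nat_lit 0x1055e51) (nat_lit 769))
))) (.node (nat_lit 0x105d441) (.node (nat_lit 0x1059641) (.node (nat_lit 0x1059451) (.leaf (nat_lit 0x1059441) (nat_lit 259))
 (.leaf (nat_lit 0x1059451) (nat_lit 512))
) (.node (nat_lit 0x1059651) (.leaf (nat_lit 0x1059641) (nat_lit 513))
 (.leaf (nat_lit 0x1059651) (nat_lit 769))
)) (.node (nat_lit 0x105d641) (.node (nat_lit 0x105d451) (.leaf (nat_lit 0x105d441) (nat_lit 516))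
 (.leaf (nat_lit 0x105d451) (nat_lit 773))
) (.node (nat_lit 0x105d651) (.leaf (nat_lit 0x105d641) (nat_lit 772))
 (.leaf (nat_lit 0x105d651) (nat_lit 771))
))))) (.node (nat_lit 0x10d1c41) (.node (nat_lit 0x10c9841) (.node (nat_lit 0x10c5041) (.node (nat_lit 0x10c1241) (.node (nat_lit 0x10c1051) (.leaf (nat_lit 0x10c1041) (nat_lit 261))
 (.leaf (nat_lit 0x10c1051) (nat_lit 517))
) (.node (nat_lit 0x10c1251) (.leaf (nat_lit 0x10c1241) (nat_lit 517))
 (.leaf (nat_lit 0x10c1251) (nat_lit 773))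
)) (.node (nat_lit 0x10c5241) (.node (nat_lit 0x10c5051) (.leaf (nat_lit 0x10c5041) (nat_lit 517))
 (.leaf (nat_lit 0x10c5051) (nat_lit 773))
) (.node (nat_lit 0x10c5251) (.leaf (nat_lit 0x10c5241) (nat_lit 773))
 (.leaf (nat_lit 0x10c5251) (nat_lit 1029))
))) (.node (nat_lit 0x10cd841) (.node (nat_lit 0x10c9a41) (.node (nat_lit 0x10c9851) (.leaf (nat_lit 0x10c9841) (nat_lit 773))
 (.leaf (nat_lit 0x10c9851) (nat_lit 771))
) (.node (nat_lit 0x10c9a51) (.leaf (nat_lit 0x10c9a41) (nat_lit 771))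
 (.leaf (nat_lit 0x10c9a51) (nat_lit 1025))
)) (.node (nat_lit 0x10cda41) (.node (nat_lit 0x10cd851) (.leaf (nat_lit 0x10cd841) (nat_lit 1026))
 (.leaf (nat_lit 0x10cd851) (nat_lit 771))
) (.node (nat_lit 0x10cda51) (.leaf (nat_lit 0x10cda41) (nat_lit 770))
 (.leaf (nat_lit 0x10cda51) (nat_lit 1027))
)))) (.node (nat_lit 0x10d9441) (.node (nat_lit 0x10d5c41) (.node (nat_lit 0x10d1e41) (.node (nat_lit 0x10d1c51) (.leaf (nat_lit 0x10d1c41) (nat_lit 517))
 (.leaf (nat_lit 0x10d1c51) (nat_lit 773))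
) (.node (nat_lit 0x10d1e51) (.leaf (nat_lit 0x10d1e41) (nat_lit 772))
 (.leaf (nat_lit 0x10d1e51) (nat_lit 770))
)) (.node (nat_lit 0x10d5e41) (.node (nat_lit 0x10d5c51) (.leaf (nat_lit 0x10d5c41) (nat_lit 769))
 (.leaf (nat_lit 0x10d5c51) (nat_lit 773))
) (.node (nat_lit 0x10d5e51) (.leaf (nat_lit 0x10d5e41) (nat_lit 514))
 (.leaf (nat_lit 0x10d5e51) (nat_lit 768))
))) (.node (nat_lit 0x10dd441) (.node (nat_lit 0x10d9641) (.node (nat_lit 0x10d9451) (.leaf (nat_lit 0x10d9441) (nat_lit 517))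
 (.leaf (nat_lit 0x10d9451) (nat_lit 772))
) (.node (nat_lit 0x10d9651) (.leaf (nat_lit 0x10d9641) (nat_lit 515))
 (.leaf (nat_lit 0x10d9651) (nat_lit 768))
)) (.node (nat_lit 0x10dd641) (.node (nat_lit 0x10dd451) (.leaf (nat_lit 0x10dd441) (nat_lit 768))
 (.leaf (nat_lit 0x10dd451) (nat_lit 515))
) (.node (nat_lit 0x10dd651) (.leaf (nat_lit 0x10dd641) (nat_lit 772))
 (.leaf (nat_lit 0x10dd651) (nat_lit 769))
))))))

theorem vB_ok : genOK B5.A [(nat_lit 0x1041051), (nat_lit 0x1041241), (nat_lit 0x1051c41), (nat_lit 0x1059441), (nat_lit 0x1045041), (nat_lit 0x10c1041)] vB_t (nat_lit 64) = true := by decide +kernel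

noncomputable def vV_t : ST :=
(.node (nat_lit 0x10c1041) (.node (nat_lit 0x1045041) (.node (nat_lit 0x1041241) (.node (nat_lit 0x1041051) (.leaf (nat_lit 0x1041041) (nat_lit 0))
 (.leaf (nat_lit 0x1041051) (nat_lit 256))
) (.node (nat_lit 0x1041251) (.leaf (nat_lit 0x1041241) (nat_lit 257))
 (.leaf (nat_lit 0x1041251) (nat_lit 513))
)) (.node (nat_lit 0x1045241) (.node (nat_lit 0x1045051) (.leaf (nat_lit 0x1045041) (nat_lit 258))
 (.leaf (nat_lit 0x1045051) (nat_lit 514))
) (.node (nat_lit 0x1045251) (.leaf (nat_lit 0x1045241) (nat_lit 514))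
 (.leaf (nat_lit 0x1045251) (nat_lit 770))
))) (.node (nat_lit 0x10c5041) (.node (nat_lit 0x10c1241) (.node (nat_lit 0x10c1051) (.leaf (nat_lit 0x10c1041) (nat_lit 259))
 (.leaf (nat_lit 0x10c1051) (nat_lit 515))
) (.node (nat_lit 0x10c1251) (.leaf (nat_lit 0x10c1241) (nat_lit 515))
 (.leaf (nat_lit 0x10c1251) (nat_lit 771))
)) (.node (nat_lit 0x10c5241) (.node (nat_lit 0x10c5051) (.leaf (nat_lit 0x10c5041) (nat_lit 515))
 (.leaf (nat_lit 0x10c5051) (nat_lit 771))
) (.node (nat_lit 0x10c5251) (.leaf (nat_lit 0x10c5241) (nat_lit 771))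
 (.leaf (nat_lit 0x10c5251) (nat_lit 1027))
))))

theorem vV_ok : genOK B5.A [(nat_lit 0x1041051), (nat_lit 0x1041241), (nat_lit 0x1045041), (nat_lit 0x10c1041)] vV_t (nat_lit 16) = true := by decide +kernel

noncomputable def vW_t : ST :=
(.node (nat_lit 0x10c1041) (.node (nat_lit 0x1051c41) (.node (nat_lit 0x1049841) (.node (nat_lit 0x1045041) (.leaf (nat_lit 0x1041041) (nat_lit 0))
 (.leaf (nat_lit 0x1045041) (nat_lit 258))
) (.node (nat_lit 0x104d841) (.leaf (nat_lit 0x1049841) (nat_lit 513))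
 (.leaf (nat_lit 0x104d841) (nat_lit 770))
)) (.node (nat_lit 0x1059441) (.node (nat_lit 0x1055c41) (.leaf (nat_lit 0x1051c41) (nat_lit 256))
 (.leaf (nat_lit 0x1055c41) (nat_lit 514))
) (.node (nat_lit 0x105d441) (.leaf (nat_lit 0x1059441) (nat_lit 257))
 (.leaf (nat_lit 0x105d441) (nat_lit 514))
))) (.node (nat_lit 0x10d1c41) (.node (nat_lit 0x10c9841) (.node (nat_lit 0x10c5041) (.leaf (nat_lit 0x10c1041) (nat_lit 259))
 (.leaf (nat_lit 0x10c5041) (nat_lit 515))
) (.node (nat_lit 0x10cd841) (.leaf (nat_lit 0x10c9841) (nat_lit 771))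
 (.leaf (nat_lit 0x10cd841) (nat_lit 1027))
)) (.node (nat_lit 0x10d9441) (.node (nat_lit 0x10d5c41) (.leaf (nat_lit 0x10d1c41) (nat_lit 515))
 (.leaf (nat_lit 0x10d5c41) (nat_lit 771))
) (.node (nat_lit 0x10dd441) (.leaf (nat_lit 0x10d9441) (nat_lit 515))
 (.leaf (nat_lit 0x10dd441) (nat_lit 771))
))))

theorem vW_ok : genOK B5.A [(nat_lit 0x1051c41), (nat_lit 0x1059441), (nat_lit 0x1045041), (nat_lit 0x10c1041)] vW_t (nat_lit 16) = true := by decide +kernel

noncomputable def vZ_t : ST :=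
(.node (nat_lit 0x10c1041) (.node (nat_lit 0x1045041) (.leaf (nat_lit 0x1041041) (nat_lit 0))
 (.leaf (nat_lit 0x1045041) (nat_lit 256))
) (.node (nat_lit 0x10c5041) (.leaf (nat_lit 0x10c1041) (nat_lit 257))
 (.leaf (nat_lit 0x10c5041) (nat_lit 513))
))

theorem vZ_ok : genOK B5.A [(nat_lit 0x1045041), (nat_lit 0x10c1041)] vZ_t (nat_lit 4) = true := by decide +kernel

noncomputable def vS_t : ST :=
(.node (nat_lit 0x10c1041) (.node (nat_lit 0x1051c41) (.node (nat_lit 0x1049841) (.node (nat_lit 0x1045041) (.node (nat_lit 0x1043043) (.node (nat_lit 0x1041241) (.node (nat_lit 0x1041051) (.leaf (nat_lit 0x1041041) (nat_lit 0))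
 (.leaf (nat_lit 0x1041051) (nat_lit 256))
) (.node (nat_lit 0x1041251) (.leaf (nat_lit 0x1041241) (nat_lit 257))
 (.leaf (nat_lit 0x1041251) (nat_lit 513))
)) (.node (nat_lit 0x1043243) (.node (nat_lit 0x1043053) (.leaf (nat_lit 0x1043043) (nat_lit 262))
 (.leaf (nat_lit 0x1043053) (nat_lit 518))
) (.node (nat_lit 0x1043253) (.leaf (nat_lit 0x1043243) (nat_lit 513))
 (.leaf (nat_lit 0x1043253) (nat_lit 518))
))) (.node (nat_lit 0x1047043) (.node (nat_lit 0x1045241) (.node (nat_lit 0x1045051) (.leaf (nat_lit 0x1045041) (nat_lit 260))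
 (.leaf (nat_lit 0x1045051) (nat_lit 516))
) (.node (nat_lit 0x1045251) (.leaf (nat_lit 0x1045241) (nat_lit 516))
 (.leaf (nat_lit 0x1045251) (nat_lit 772))
)) (.node (nat_lit 0x1047243) (.node (nat_lit 0x1047053) (.leaf (nat_lit 0x1047043) (nat_lit 518))
 (.leaf (nat_lit 0x1047053) (nat_lit 774))
) (.node (nat_lit 0x1047253) (.leaf (nat_lit 0x1047243) (nat_lit 769))
 (.leaf (nat_lit 0x1047253) (nat_lit 774))
)))) (.node (nat_lit 0x104d841) (.node (nat_lit 0x104bc43) (.node (nat_lit 0x1049a41) (.node (nat_lit 0x1049851) (.leaf (nat_lit 0x1049841) (nat_lit 515))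
 (.leaf (nat_lit 0x1049851) (nat_lit 768))
) (.node (nat_lit 0x1049a51) (.leaf (nat_lit 0x1049a41) (nat_lit 769))
 (.leaf (nat_lit 0x1049a51) (nat_lit 1027))
)) (.node (nat_lit 0x104be43) (.node (nat_lit 0x104bc53) (.leaf (nat_lit 0x104bc43) (nat_lit 515))
 (.leaf (nat_lit 0x104bc53) (nat_lit 768))
) (.node (nat_lit 0x104be53) (.leaf (nat_lit 0x104be43) (nat_lit 769))
 (.leaf (nat_lit 0x104be53) (nat_lit 1027))
))) (.node (nat_lit 0x104fc43) (.node (nat_lit 0x104da41) (.node (nat_lit 0x104d851) (.leaf (nat_lit 0x104d841) (nat_lit 772))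
 (.leaf (nat_lit 0x104d851) (nat_lit 770))
) (.node (nat_lit 0x104da51) (.leaf (nat_lit 0x104da41) (nat_lit 771))
 (.leaf (nat_lit 0x104da51) (nat_lit 1026))
)) (.node (nat_lit 0x104fe43) (.node (nat_lit 0x104fc53) (.leaf (nat_lit 0x104fc43) (nat_lit 771))
 (.leaf (nat_lit 0x104fc53) (nat_lit 1029))
) (.node (nat_lit 0x104fe53) (.leaf (nat_lit 0x104fe43) (nat_lit 1024))
 (.leaf (nat_lit 0x104fe53) (nat_lit 771))
))))) (.node (nat_lit 0x1059441) (.node (nat_lit 0x1055c41) (.node (nat_lit 0x1053443) (.node (nat_lit 0x1051e41) (.node (nat_lit 0x1051c51) (.leaf (nat_lit 0x1051c41) (nat_lit 258))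
 (.leaf (nat_lit 0x1051c51) (nat_lit 512))
) (.node (nat_lit 0x1051e51) (.leaf (nat_lit 0x1051e41) (nat_lit 513))
 (.leaf (nat_lit 0x1051e51) (nat_lit 769))
)) (.node (nat_lit 0x1053643) (.node (nat_lit 0x1053453) (.leaf (nat_lit 0x1053443) (nat_lit 518))
 (.leaf (nat_lit 0x1053453) (nat_lit 774))
) (.node (nat_lit 0x1053653) (.leaf (nat_lit 0x1053643) (nat_lit 769))
 (.leaf (nat_lit 0x1053653) (nat_lit 774))
))) (.node (nat_lit 0x1057443) (.node (nat_lit 0x1055e41) (.node (nat_lit 0x1055c51) (.leaf (nat_lit 0x1055c41) (nat_lit 516))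
 (.leaf (nat_lit 0x1055c51) (nat_lit 514))
) (.node (nat_lit 0x1055e51) (.leaf (nat_lit 0x1055e41) (nat_lit 773))
 (.leaf (nat_lit 0x1055e51) (nat_lit 769))
)) (.node (nat_lit 0x1057643) (.node (nat_lit 0x1057453) (.leaf (nat_lit 0x1057443) (nat_lit 774))
 (.leaf (nat_lit 0x1057453) (nat_lit 774))
) (.node (nat_lit 0x1057653) (.leaf (nat_lit 0x1057643) (nat_lit 1030))
 (.leaf (nat_lit 0x1057653) (nat_lit 1025))
)))) (.node (nat_lit 0x105d441) (.node (nat_lit 0x105b843) (.node (nat_lit 0x1059641) (.node (nat_lit 0x1059451) (.leaf (nat_lit 0x1059441) (nat_lit 259))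
 (.leaf (nat_lit 0x1059451) (nat_lit 512))
) (.node (nat_lit 0x1059651) (.leaf (nat_lit 0x1059641) (nat_lit 513))
 (.leaf (nat_lit 0x1059651) (nat_lit 769))
)) (.node (nat_lit 0x105ba43) (.node (nat_lit 0x105b853) (.leaf (nat_lit 0x105b843) (nat_lit 518))
 (.leaf (nat_lit 0x105b853) (nat_lit 774))
) (.node (nat_lit 0x105ba53) (.leaf (nat_lit 0x105ba43) (nat_lit 769))
 (.leaf (nat_lit 0x105ba53) (nat_lit 774))
))) (.node (nat_lit 0x105f843) (.node (nat_lit 0x105d641) (.node (nat_lit 0x105d451) (.leaf (nat_lit 0x105d441) (nat_lit 516))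
 (.leaf (nat_lit 0x105d451) (nat_lit 773))
) (.node (nat_lit 0x105d651) (.leaf (nat_lit 0x105d641) (nat_lit 772))
 (.leaf (nat_lit 0x105d651) (nat_lit 771))
)) (.node (nat_lit 0x105fa43) (.node (nat_lit 0x105f853) (.leaf (nat_lit 0x105f843) (nat_lit 774))
 (.leaf (nat_lit 0x105f853) (nat_lit 1030))
) (.node (nat_lit 0x105fa53) (.leaf (nat_lit 0x105fa43) (nat_lit 1030))
 (.leaf (nat_lit 0x105fa53) (nat_lit 1029))
)))))) (.node (nat_lit 0x10d1c41) (.node (nat_lit 0x10c9841) (.node (nat_lit 0x10c5041) (.node (nat_lit 0x10c3043) (.node (nat_lit 0x10c1241) (.node (nat_lit 0x10c1051) (.leaf (nat_lit 0x10c1041) (nat_lit 261))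
 (.leaf (nat_lit 0x10c1051) (nat_lit 517))
) (.node (nat_lit 0x10c1251) (.leaf (nat_lit 0x10c1241) (nat_lit 517))
 (.leaf (nat_lit 0x10c1251) (nat_lit 773))
)) (.node (nat_lit 0x10c3243) (.node (nat_lit 0x10c3053) (.leaf (nat_lit 0x10c3043) (nat_lit 517))
 (.leaf (nat_lit 0x10c3053) (nat_lit 773))
) (.node (nat_lit 0x10c3253) (.leaf (nat_lit 0x10c3243) (nat_lit 773))
 (.leaf (nat_lit 0x10c3253) (nat_lit 773))
))) (.node (nat_lit 0x10c7043) (.node (nat_lit 0x10c5241) (.node (nat_lit 0x10c5051) (.leaf (nat_lit 0x10c5041) (nat_lit 517))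
 (.leaf (nat_lit 0x10c5051) (nat_lit 773))
) (.node (nat_lit 0x10c5251) (.leaf (nat_lit 0x10c5241) (nat_lit 773))
 (.leaf (nat_lit 0x10c5251) (nat_lit 1029))
)) (.node (nat_lit 0x10c7243) (.node (nat_lit 0x10c7053) (.leaf (nat_lit 0x10c7043) (nat_lit 518))
 (.leaf (nat_lit 0x10c7053) (nat_lit 774))
) (.node (nat_lit 0x10c7253) (.leaf (nat_lit 0x10c7243) (nat_lit 769))
 (.leaf (nat_lit 0x10c7253) (nat_lit 774))
)))) (.node (nat_lit 0x10cd841) (.node (nat_lit 0x10cbc43) (.node (nat_lit 0x10c9a41) (.node (nat_lit 0x10c9851) (.leaf (nat_lit 0x10c9841) (nat_lit 773))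
 (.leaf (nat_lit 0x10c9851) (nat_lit 771))
) (.node (nat_lit 0x10c9a51) (.leaf (nat_lit 0x10c9a41) (nat_lit 771))
 (.leaf (nat_lit 0x10c9a51) (nat_lit 1025))
)) (.node (nat_lit 0x10cbe43) (.node (nat_lit 0x10cbc53) (.leaf (nat_lit 0x10cbc43) (nat_lit 773))
 (.leaf (nat_lit 0x10cbc53) (nat_lit 1027))
) (.node (nat_lit 0x10cbe53) (.leaf (nat_lit 0x10cbe43) (nat_lit 771))
 (.leaf (nat_lit 0x10cbe53) (nat_lit 1027))
))) (.node (nat_lit 0x10cfc43) (.node (nat_lit 0x10cda41) (.node (nat_lit 0x10cd851) (.leaf (nat_lit 0x10cd841) (nat_lit 1026))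
 (.leaf (nat_lit 0x10cd851) (nat_lit 771))
) (.node (nat_lit 0x10cda51) (.leaf (nat_lit 0x10cda41) (nat_lit 770))
 (.leaf (nat_lit 0x10cda51) (nat_lit 1027))
)) (.node (nat_lit 0x10cfe43) (.node (nat_lit 0x10cfc53) (.leaf (nat_lit 0x10cfc43) (nat_lit 771))
 (.leaf (nat_lit 0x10cfc53) (nat_lit 771))
) (.node (nat_lit 0x10cfe53) (.leaf (nat_lit 0x10cfe43) (nat_lit 1026))
 (.leaf (nat_lit 0x10cfe53) (nat_lit 1025))
))))) (.node (nat_lit 0x10d9441) (.node (nat_lit 0x10d5c41) (.node (nat_lit 0x10d3443) (.node (nat_lit 0x10d1e41) (.node (nat_lit 0x10d1c51) (.leaf (nat_lit 0x10d1c41) (nat_lit 517))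
 (.leaf (nat_lit 0x10d1c51) (nat_lit 773))
) (.node (nat_lit 0x10d1e51) (.leaf (nat_lit 0x10d1e41) (nat_lit 772))
 (.leaf (nat_lit 0x10d1e51) (nat_lit 770))
)) (.node (nat_lit 0x10d3643) (.node (nat_lit 0x10d3453) (.leaf (nat_lit 0x10d3443) (nat_lit 773))
 (.leaf (nat_lit 0x10d3453) (nat_lit 1030))
) (.node (nat_lit 0x10d3653) (.leaf (nat_lit 0x10d3643) (nat_lit 1030))
 (.leaf (nat_lit 0x10d3653) (nat_lit 774))
))) (.node (nat_lit 0x10d7443) (.node (nat_lit 0x10d5e41) (.node (nat_lit 0x10d5c51) (.leaf (nat_lit 0x10d5c41) (nat_lit 769))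
 (.leaf (nat_lit 0x10d5c51) (nat_lit 773))
) (.node (nat_lit 0x10d5e51) (.leaf (nat_lit 0x10d5e41) (nat_lit 514))
 (.leaf (nat_lit 0x10d5e51) (nat_lit 768))
)) (.node (nat_lit 0x10d7643) (.node (nat_lit 0x10d7453) (.leaf (nat_lit 0x10d7443) (nat_lit 774))
 (.leaf (nat_lit 0x10d7453) (nat_lit 1029))
) (.node (nat_lit 0x10d7653) (.leaf (nat_lit 0x10d7643) (nat_lit 770))
 (.leaf (nat_lit 0x10d7653) (nat_lit 1030))
)))) (.node (nat_lit 0x10dd441) (.node (nat_lit 0x10db843) (.node (nat_lit 0x10d9641) (.node (nat_lit 0x10d9451) (.leaf (nat_lit 0x10d9441) (nat_lit 517))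
 (.leaf (nat_lit 0x10d9451) (nat_lit 772))
) (.node (nat_lit 0x10d9651) (.leaf (nat_lit 0x10d9641) (nat_lit 515))
 (.leaf (nat_lit 0x10d9651) (nat_lit 768))
)) (.node (nat_lit 0x10dba43) (.node (nat_lit 0x10db853) (.leaf (nat_lit 0x10db843) (nat_lit 773))
 (.leaf (nat_lit 0x10db853) (nat_lit 774))
) (.node (nat_lit 0x10dba53) (.leaf (nat_lit 0x10dba43) (nat_lit 1030))
 (.leaf (nat_lit 0x10dba53) (nat_lit 1025))
))) (.node (nat_lit 0x10df843) (.node (nat_lit 0x10dd641) (.node (nat_lit 0x10dd451) (.leaf (nat_lit 0x10dd441) (nat_lit 768))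
 (.leaf (nat_lit 0x10dd451) (nat_lit 515))
) (.node (nat_lit 0x10dd651) (.leaf (nat_lit 0x10dd641) (nat_lit 772))
 (.leaf (nat_lit 0x10dd651) (nat_lit 769))
)) (.node (nat_lit 0x10dfa43) (.node (nat_lit 0x10df853) (.leaf (nat_lit 0x10df843) (nat_lit 774))
 (.leaf (nat_lit 0x10df853) (nat_lit 1030))
) (.node (nat_lit 0x10dfa53) (.leaf (nat_lit 0x10dfa43) (nat_lit 1030))
 (.leaf (nat_lit 0x10dfa53) (nat_lit 774))
)))))))

theorem vS_ok : genOK B5.A [(nat_lit 0x1041051), (nat_lit 0x1041241), (nat_lit 0x1051c41), (nat_lit 0x1059441), (nat_lit 0x1045041), (nat_lit 0x10c1041), (nat_lit 0x1043043)] vS_t (nat_lit 128) = true := by decide +kernel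

noncomputable def wP_t : ST :=
(.node (nat_lit 0x108b049) (.node (nat_lit 0x104904a) (.node (nat_lit 0x101d04b) (.node (nat_lit 0x100f84a) (.node (nat_lit 0x100bc48) (.node (nat_lit 0x100b64b) (.node (nat_lit 0x100b259) (.node (nat_lit 0x100b059) (.leaf (nat_lit 0x100b049) (nat_lit 775))
 (.node (nat_lit 0x100b249) (.leaf (nat_lit 0x100b059) (nat_lit 1031))
 (.leaf (nat_lit 0x100b249) (nat_lit 1027))
)) (.node (nat_lit 0x100b44b) (.leaf (nat_lit 0x100b259) (nat_lit 1287))
 (.node (nat_lit 0x100b45b) (.leaf (nat_lit 0x100b44b) (nat_lit 775))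
 (.leaf (nat_lit 0x100b45b) (nat_lit 1031))
))) (.node (nat_lit 0x100b85a) (.node (nat_lit 0x100b65b) (.leaf (nat_lit 0x100b64b) (nat_lit 1027))
 (.node (nat_lit 0x100b84a) (.leaf (nat_lit 0x100b65b) (nat_lit 1031))
 (.leaf (nat_lit 0x100b84a) (nat_lit 519))
)) (.node (nat_lit 0x100ba4a) (.leaf (nat_lit 0x100b85a) (nat_lit 775))
 (.node (nat_lit 0x100ba5a) (.leaf (nat_lit 0x100ba4a) (nat_lit 771))
 (.leaf (nat_lit 0x100ba5a) (nat_lit 1031))
)))) (.node (nat_lit 0x100f249) (.node (nat_lit 0x100be58) (.node (nat_lit 0x100bc58) (.leaf (nat_lit 0x100bc48) (nat_lit 775))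
 (.node (nat_lit 0x100be48) (.leaf (nat_lit 0x100bc58) (nat_lit 1031))
 (.leaf (nat_lit 0x100be48) (nat_lit 1027))
)) (.node (nat_lit 0x100f049) (.leaf (nat_lit 0x100be58) (nat_lit 1030))
 (.node (nat_lit 0x100f059) (.leaf (nat_lit 0x100f049) (nat_lit 1031))
 (.leaf (nat_lit 0x100f059) (nat_lit 1031))
))) (.node (nat_lit 0x100f45b) (.node (nat_lit 0x100f259) (.leaf (nat_lit 0x100f249) (nat_lit 1280))
 (.node (nat_lit 0x100f44b) (.leaf (nat_lit 0x100f259) (nat_lit 1031))
 (.leaf (nat_lit 0x100f44b) (nat_lit 1031))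
)) (.node (nat_lit 0x100f64b) (.leaf (nat_lit 0x100f45b) (nat_lit 1031))
 (.node (nat_lit 0x100f65b) (.leaf (nat_lit 0x100f64b) (nat_lit 1287))
 (.leaf (nat_lit 0x100f65b) (nat_lit 1287))
))))) (.node (nat_lit 0x1019448) (.node (nat_lit 0x100fe48) (.node (nat_lit 0x100fa5a) (.node (nat_lit 0x100f85a) (.leaf (nat_lit 0x100f84a) (nat_lit 775))
 (.node (nat_lit 0x100fa4a) (.leaf (nat_lit 0x100f85a) (nat_lit 775))
 (.leaf (nat_lit 0x100fa4a) (nat_lit 1024))
)) (.node (nat_lit 0x100fc48) (.leaf (nat_lit 0x100fa5a) (nat_lit 775))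
 (.node (nat_lit 0x100fc58) (.leaf (nat_lit 0x100fc48) (nat_lit 1031))
 (.leaf (nat_lit 0x100fc58) (nat_lit 1031))
))) (.node (nat_lit 0x101905b) (.node (nat_lit 0x100fe58) (.leaf (nat_lit 0x100fe48) (nat_lit 1031))
 (.node (nat_lit 0x101904b) (.leaf (nat_lit 0x100fe58) (nat_lit 1031))
 (.leaf (nat_lit 0x101904b) (nat_lit 775))
)) (.node (nat_lit 0x101924b) (.leaf (nat_lit 0x101905b) (nat_lit 1031))
 (.node (nat_lit 0x101925b) (.leaf (nat_lit 0x101924b) (nat_lit 1027))
 (.leaf (nat_lit 0x101925b) (nat_lit 1030))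
)))) (.node (nat_lit 0x1019a4a) (.node (nat_lit 0x1019658) (.node (nat_lit 0x1019458) (.leaf (nat_lit 0x1019448) (nat_lit 519))
 (.node (nat_lit 0x1019648) (.leaf (nat_lit 0x1019458) (nat_lit 775))
 (.leaf (nat_lit 0x1019648) (nat_lit 771))
)) (.node (nat_lit 0x101984a) (.leaf (nat_lit 0x1019658) (nat_lit 774))
 (.node (nat_lit 0x101985a) (.leaf (nat_lit 0x101984a) (nat_lit 263))
 (.leaf (nat_lit 0x101985a) (nat_lit 519))
))) (.node (nat_lit 0x1019c59) (.node (nat_lit 0x1019a5a) (.leaf (nat_lit 0x1019a4a) (nat_lit 515))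
 (.node (nat_lit 0x1019c49) (.leaf (nat_lit 0x1019a5a) (nat_lit 771))
 (.leaf (nat_lit 0x1019c49) (nat_lit 519))
)) (.node (nat_lit 0x1019e49) (.leaf (nat_lit 0x1019c59) (nat_lit 775))
 (.node (nat_lit 0x1019e59) (.leaf (nat_lit 0x1019e49) (nat_lit 771))
 (.leaf (nat_lit 0x1019e59) (nat_lit 1027))
)))))) (.node (nat_lit 0x1043043) (.node (nat_lit 0x101dc49) (.node (nat_lit 0x101d648) (.node (nat_lit 0x101d25b) (.node (nat_lit 0x101d05b) (.leaf (nat_lit 0x101d04b) (nat_lit 1031))
 (.node (nat_lit 0x101d24b) (.leaf (nat_lit 0x101d05b) (nat_lit 1287))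
 (.leaf (nat_lit 0x101d24b) (nat_lit 1283))
)) (.node (nat_lit 0x101d448) (.leaf (nat_lit 0x101d25b) (nat_lit 1287))
 (.node (nat_lit 0x101d458) (.leaf (nat_lit 0x101d448) (nat_lit 775))
 (.leaf (nat_lit 0x101d458) (nat_lit 1031))
))) (.node (nat_lit 0x101d85a) (.node (nat_lit 0x101d658) (.leaf (nat_lit 0x101d648) (nat_lit 1027))
 (.node (nat_lit 0x101d84a) (.leaf (nat_lit 0x101d658) (nat_lit 1031))
 (.leaf (nat_lit 0x101d84a) (nat_lit 519))
)) (.node (nat_lit 0x101da4a) (.leaf (nat_lit 0x101d85a) (nat_lit 775))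
 (.node (nat_lit 0x101da5a) (.leaf (nat_lit 0x101da4a) (nat_lit 771))
 (.leaf (nat_lit 0x101da5a) (nat_lit 775))
)))) (.node (nat_lit 0x1041241) (.node (nat_lit 0x101de59) (.node (nat_lit 0x101dc59) (.leaf (nat_lit 0x101dc49) (nat_lit 775))
 (.node (nat_lit 0x101de49) (.leaf (nat_lit 0x101dc59) (nat_lit 1031))
 (.leaf (nat_lit 0x101de49) (nat_lit 1027))
)) (.node (nat_lit 0x1041041) (.leaf (nat_lit 0x101de59) (nat_lit 1031))
 (.node (nat_lit 0x1041051) (.leaf (nat_lit 0x1041041) (nat_lit 0))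
 (.leaf (nat_lit 0x1041051) (nat_lit 258))
))) (.node (nat_lit 0x104185b) (.node (nat_lit 0x1041251) (.leaf (nat_lit 0x1041241) (nat_lit 259))
 (.node (nat_lit 0x104184b) (.leaf (nat_lit 0x1041251) (nat_lit 515))
 (.leaf (nat_lit 0x104184b) (nat_lit 1030))
)) (.node (nat_lit 0x1041a4b) (.leaf (nat_lit 0x104185b) (nat_lit 1286))
 (.node (nat_lit 0x1041a5b) (.leaf (nat_lit 0x1041a4b) (nat_lit 1283))
 (.leaf (nat_lit 0x1041a5b) (nat_lit 1286))
))))) (.node (nat_lit 0x104584b) (.node (nat_lit 0x1043a49) (.node (nat_lit 0x1043253) (.node (nat_lit 0x1043053) (.leaf (nat_lit 0x1043043) (nat_lit 262))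
 (.node (nat_lit 0x1043243) (.leaf (nat_lit 0x1043053) (nat_lit 518))
 (.leaf (nat_lit 0x1043243) (nat_lit 515))
)) (.node (nat_lit 0x1043849) (.leaf (nat_lit 0x1043253) (nat_lit 518))
 (.node (nat_lit 0x1043859) (.leaf (nat_lit 0x1043849) (nat_lit 769))
 (.leaf (nat_lit 0x1043859) (nat_lit 1026))
))) (.node (nat_lit 0x1045051) (.node (nat_lit 0x1043a59) (.leaf (nat_lit 0x1043a49) (nat_lit 1027))
 (.node (nat_lit 0x1045041) (.leaf (nat_lit 0x1043a59) (nat_lit 1281))
 (.leaf (nat_lit 0x1045041) (nat_lit 260))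
)) (.node (nat_lit 0x1045241) (.leaf (nat_lit 0x1045051) (nat_lit 516))
 (.node (nat_lit 0x1045251) (.leaf (nat_lit 0x1045241) (nat_lit 516))
 (.leaf (nat_lit 0x1045251) (nat_lit 772))
)))) (.node (nat_lit 0x1047243) (.node (nat_lit 0x1045a5b) (.node (nat_lit 0x104585b) (.leaf (nat_lit 0x104584b) (nat_lit 1286))
 (.node (nat_lit 0x1045a4b) (.leaf (nat_lit 0x104585b) (nat_lit 1536))
 (.leaf (nat_lit 0x1045a4b) (nat_lit 1281))
)) (.node (nat_lit 0x1047043) (.leaf (nat_lit 0x1045a5b) (nat_lit 1286))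
 (.node (nat_lit 0x1047053) (.leaf (nat_lit 0x1047043) (nat_lit 518))
 (.leaf (nat_lit 0x1047053) (nat_lit 774))
))) (.node (nat_lit 0x1047859) (.node (nat_lit 0x1047253) (.leaf (nat_lit 0x1047243) (nat_lit 771))
 (.node (nat_lit 0x1047849) (.leaf (nat_lit 0x1047253) (nat_lit 774))
 (.leaf (nat_lit 0x1047849) (nat_lit 1025))
)) (.node (nat_lit 0x1047a49) (.leaf (nat_lit 0x1047859) (nat_lit 1281))
 (.node (nat_lit 0x1047a59) (.leaf (nat_lit 0x1047a49) (nat_lit 1025))
 (.leaf (nat_lit 0x1047a59) (nat_lit 1281))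
))))))) (.node (nat_lit 0x1055449) (.node (nat_lit 0x104f448) (.node (nat_lit 0x104bc43) (.node (nat_lit 0x1049a41) (.node (nat_lit 0x104925a) (.node (nat_lit 0x104905a) (.leaf (nat_lit 0x104904a) (nat_lit 769))
 (.node (nat_lit 0x104924a) (.leaf (nat_lit 0x104905a) (nat_lit 1026))
 (.leaf (nat_lit 0x104924a) (nat_lit 1027))
)) (.node (nat_lit 0x1049841) (.leaf (nat_lit 0x104925a) (nat_lit 1025))
 (.node (nat_lit 0x1049851) (.leaf (nat_lit 0x1049841) (nat_lit 513))
 (.leaf (nat_lit 0x1049851) (nat_lit 770))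
))) (.node (nat_lit 0x104b458) (.node (nat_lit 0x1049a51) (.leaf (nat_lit 0x1049a41) (nat_lit 771))
 (.node (nat_lit 0x104b448) (.leaf (nat_lit 0x1049a51) (nat_lit 1027))
 (.leaf (nat_lit 0x104b448) (nat_lit 769))
)) (.node (nat_lit 0x104b648) (.leaf (nat_lit 0x104b458) (nat_lit 1026))
 (.node (nat_lit 0x104b658) (.leaf (nat_lit 0x104b648) (nat_lit 1027))
 (.leaf (nat_lit 0x104b658) (nat_lit 1281))
)))) (.node (nat_lit 0x104d24a) (.node (nat_lit 0x104be53) (.node (nat_lit 0x104bc53) (.leaf (nat_lit 0x104bc43) (nat_lit 513))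
 (.node (nat_lit 0x104be43) (.leaf (nat_lit 0x104bc53) (nat_lit 770))
 (.leaf (nat_lit 0x104be43) (nat_lit 771))
)) (.node (nat_lit 0x104d04a) (.leaf (nat_lit 0x104be53) (nat_lit 1030))
 (.node (nat_lit 0x104d05a) (.leaf (nat_lit 0x104d04a) (nat_lit 1025))
 (.leaf (nat_lit 0x104d05a) (nat_lit 1024))
))) (.node (nat_lit 0x104d851) (.node (nat_lit 0x104d25a) (.leaf (nat_lit 0x104d24a) (nat_lit 1025))
 (.node (nat_lit 0x104d841) (.leaf (nat_lit 0x104d25a) (nat_lit 1281))
 (.leaf (nat_lit 0x104d841) (nat_lit 772))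
)) (.node (nat_lit 0x104da41) (.leaf (nat_lit 0x104d851) (nat_lit 768))
 (.node (nat_lit 0x104da51) (.leaf (nat_lit 0x104da41) (nat_lit 769))
 (.leaf (nat_lit 0x104da51) (nat_lit 1025))
))))) (.node (nat_lit 0x1051c41) (.node (nat_lit 0x104fe43) (.node (nat_lit 0x104f658) (.node (nat_lit 0x104f458) (.leaf (nat_lit 0x104f448) (nat_lit 1025))
 (.node (nat_lit 0x104f648) (.leaf (nat_lit 0x104f458) (nat_lit 1281))
 (.leaf (nat_lit 0x104f648) (nat_lit 1281))
)) (.node (nat_lit 0x104fc43) (.leaf (nat_lit 0x104f658) (nat_lit 1025))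
 (.node (nat_lit 0x104fc53) (.leaf (nat_lit 0x104fc43) (nat_lit 769))
 (.leaf (nat_lit 0x104fc53) (nat_lit 1030))
))) (.node (nat_lit 0x1051459) (.node (nat_lit 0x104fe53) (.leaf (nat_lit 0x104fe43) (nat_lit 1026))
 (.node (nat_lit 0x1051449) (.leaf (nat_lit 0x104fe53) (nat_lit 769))
 (.leaf (nat_lit 0x1051449) (nat_lit 1025))
)) (.node (nat_lit 0x1051649) (.leaf (nat_lit 0x1051459) (nat_lit 1282))
 (.node (nat_lit 0x1051659) (.leaf (nat_lit 0x1051649) (nat_lit 1283))
 (.leaf (nat_lit 0x1051659) (nat_lit 1281))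
)))) (.node (nat_lit 0x1053643) (.node (nat_lit 0x1051e51) (.node (nat_lit 0x1051c51) (.leaf (nat_lit 0x1051c41) (nat_lit 256))
 (.node (nat_lit 0x1051e41) (.leaf (nat_lit 0x1051c51) (nat_lit 514))
 (.leaf (nat_lit 0x1051e41) (nat_lit 515))
)) (.node (nat_lit 0x1053443) (.leaf (nat_lit 0x1051e51) (nat_lit 771))
 (.node (nat_lit 0x1053453) (.leaf (nat_lit 0x1053443) (nat_lit 518))
 (.leaf (nat_lit 0x1053453) (nat_lit 774))
))) (.node (nat_lit 0x1053c5b) (.node (nat_lit 0x1053653) (.leaf (nat_lit 0x1053643) (nat_lit 771))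
 (.node (nat_lit 0x1053c4b) (.leaf (nat_lit 0x1053653) (nat_lit 774))
 (.leaf (nat_lit 0x1053c4b) (nat_lit 1025))
)) (.node (nat_lit 0x1053e4b) (.leaf (nat_lit 0x1053c5b) (nat_lit 1282))
 (.node (nat_lit 0x1053e5b) (.leaf (nat_lit 0x1053e4b) (nat_lit 1283))
 (.leaf (nat_lit 0x1053e5b) (nat_lit 1287))
)))))) (.node (nat_lit 0x105b04a) (.node (nat_lit 0x1057c4b) (.node (nat_lit 0x1055e41) (.node (nat_lit 0x1055659) (.node (nat_lit 0x1055459) (.leaf (nat_lit 0x1055449) (nat_lit 1281))
 (.node (nat_lit 0x1055649) (.leaf (nat_lit 0x1055459) (nat_lit 1280))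
 (.leaf (nat_lit 0x1055649) (nat_lit 1281))
)) (.node (nat_lit 0x1055c41) (.leaf (nat_lit 0x1055659) (nat_lit 1287))
 (.node (nat_lit 0x1055c51) (.leaf (nat_lit 0x1055c41) (nat_lit 516))
 (.leaf (nat_lit 0x1055c51) (nat_lit 512))
))) (.node (nat_lit 0x1057453) (.node (nat_lit 0x1055e51) (.leaf (nat_lit 0x1055e41) (nat_lit 772))
 (.node (nat_lit 0x1057443) (.leaf (nat_lit 0x1055e51) (nat_lit 771))
 (.leaf (nat_lit 0x1057443) (nat_lit 774))
)) (.node (nat_lit 0x1057643) (.leaf (nat_lit 0x1057453) (nat_lit 774))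
 (.node (nat_lit 0x1057653) (.leaf (nat_lit 0x1057643) (nat_lit 1027))
 (.leaf (nat_lit 0x1057653) (nat_lit 1030))
)))) (.node (nat_lit 0x1059641) (.node (nat_lit 0x1057e5b) (.node (nat_lit 0x1057c5b) (.leaf (nat_lit 0x1057c4b) (nat_lit 1281))
 (.node (nat_lit 0x1057e4b) (.leaf (nat_lit 0x1057c5b) (nat_lit 1281))
 (.leaf (nat_lit 0x1057e4b) (nat_lit 1281))
)) (.node (nat_lit 0x1059441) (.leaf (nat_lit 0x1057e5b) (nat_lit 1281))
 (.node (nat_lit 0x1059451) (.leaf (nat_lit 0x1059441) (nat_lit 257))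
 (.leaf (nat_lit 0x1059451) (nat_lit 514))
))) (.node (nat_lit 0x1059c58) (.node (nat_lit 0x1059651) (.leaf (nat_lit 0x1059641) (nat_lit 515))
 (.node (nat_lit 0x1059c48) (.leaf (nat_lit 0x1059651) (nat_lit 771))
 (.leaf (nat_lit 0x1059c48) (nat_lit 774))
)) (.node (nat_lit 0x1059e48) (.leaf (nat_lit 0x1059c58) (nat_lit 1030))
 (.node (nat_lit 0x1059e58) (.leaf (nat_lit 0x1059e48) (nat_lit 1027))
 (.leaf (nat_lit 0x1059e58) (nat_lit 1030))
))))) (.node (nat_lit 0x105dc48) (.node (nat_lit 0x105ba43) (.node (nat_lit 0x105b25a) (.node (nat_lit 0x105b05a) (.leaf (nat_lit 0x105b04a) (nat_lit 513))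
 (.node (nat_lit 0x105b24a) (.leaf (nat_lit 0x105b05a) (nat_lit 770))
 (.leaf (nat_lit 0x105b24a) (nat_lit 771))
)) (.node (nat_lit 0x105b843) (.leaf (nat_lit 0x105b25a) (nat_lit 1025))
 (.node (nat_lit 0x105b853) (.leaf (nat_lit 0x105b843) (nat_lit 518))
 (.leaf (nat_lit 0x105b853) (nat_lit 774))
))) (.node (nat_lit 0x105d451) (.node (nat_lit 0x105ba53) (.leaf (nat_lit 0x105ba43) (nat_lit 771))
 (.node (nat_lit 0x105d441) (.leaf (nat_lit 0x105ba53) (nat_lit 774))
 (.leaf (nat_lit 0x105d441) (nat_lit 516))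
)) (.node (nat_lit 0x105d641) (.leaf (nat_lit 0x105d451) (nat_lit 772))
 (.node (nat_lit 0x105d651) (.leaf (nat_lit 0x105d641) (nat_lit 772))
 (.leaf (nat_lit 0x105d651) (nat_lit 769))
)))) (.node (nat_lit 0x105f24a) (.node (nat_lit 0x105de58) (.node (nat_lit 0x105dc58) (.leaf (nat_lit 0x105dc48) (nat_lit 1030))
 (.node (nat_lit 0x105de48) (.leaf (nat_lit 0x105dc58) (nat_lit 1280))
 (.leaf (nat_lit 0x105de48) (nat_lit 1281))
)) (.node (nat_lit 0x105f04a) (.leaf (nat_lit 0x105de58) (nat_lit 1286))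
 (.node (nat_lit 0x105f05a) (.leaf (nat_lit 0x105f04a) (nat_lit 769))
 (.leaf (nat_lit 0x105f05a) (nat_lit 1025))
))) (.node (nat_lit 0x105f853) (.node (nat_lit 0x105f25a) (.leaf (nat_lit 0x105f24a) (nat_lit 1025))
 (.node (nat_lit 0x105f843) (.leaf (nat_lit 0x105f25a) (nat_lit 1025))
 (.leaf (nat_lit 0x105f843) (nat_lit 774))
)) (.node (nat_lit 0x105fa43) (.leaf (nat_lit 0x105f853) (nat_lit 1030))
 (.node (nat_lit 0x105fa53) (.leaf (nat_lit 0x105fa43) (nat_lit 1027))
 (.leaf (nat_lit 0x105fa53) (nat_lit 1025))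
)))))))) (.node (nat_lit 0x10c904a) (.node (nat_lit 0x109d04b) (.node (nat_lit 0x108f84a) (.node (nat_lit 0x108bc48) (.node (nat_lit 0x108b64b) (.node (nat_lit 0x108b259) (.node (nat_lit 0x108b059) (.leaf (nat_lit 0x108b049) (nat_lit 1031))
 (.node (nat_lit 0x108b249) (.leaf (nat_lit 0x108b059) (nat_lit 1031))
 (.leaf (nat_lit 0x108b249) (nat_lit 1283))
)) (.node (nat_lit 0x108b44b) (.leaf (nat_lit 0x108b259) (nat_lit 1287))
 (.node (nat_lit 0x108b45b) (.leaf (nat_lit 0x108b44b) (nat_lit 1031))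
 (.leaf (nat_lit 0x108b45b) (nat_lit 1287))
))) (.node (nat_lit 0x108b85a) (.node (nat_lit 0x108b65b) (.leaf (nat_lit 0x108b64b) (nat_lit 1287))
 (.node (nat_lit 0x108b84a) (.leaf (nat_lit 0x108b65b) (nat_lit 1286))
 (.leaf (nat_lit 0x108b84a) (nat_lit 775))
)) (.node (nat_lit 0x108ba4a) (.leaf (nat_lit 0x108b85a) (nat_lit 1031))
 (.node (nat_lit 0x108ba5a) (.leaf (nat_lit 0x108ba4a) (nat_lit 1027))
 (.leaf (nat_lit 0x108ba5a) (nat_lit 1031))
)))) (.node (nat_lit 0x108f249) (.node (nat_lit 0x108be58) (.node (nat_lit 0x108bc58) (.leaf (nat_lit 0x108bc48) (nat_lit 1031))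
 (.node (nat_lit 0x108be48) (.leaf (nat_lit 0x108bc58) (nat_lit 1287))
 (.leaf (nat_lit 0x108be48) (nat_lit 1031))
)) (.node (nat_lit 0x108f049) (.leaf (nat_lit 0x108be58) (nat_lit 1030))
 (.node (nat_lit 0x108f059) (.leaf (nat_lit 0x108f049) (nat_lit 1287))
 (.leaf (nat_lit 0x108f059) (nat_lit 1287))
))) (.node (nat_lit 0x108f45b) (.node (nat_lit 0x108f259) (.leaf (nat_lit 0x108f249) (nat_lit 1024))
 (.node (nat_lit 0x108f44b) (.leaf (nat_lit 0x108f259) (nat_lit 1031))
 (.leaf (nat_lit 0x108f44b) (nat_lit 1287))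
)) (.node (nat_lit 0x108f64b) (.leaf (nat_lit 0x108f45b) (nat_lit 1031))
 (.node (nat_lit 0x108f65b) (.leaf (nat_lit 0x108f64b) (nat_lit 1031))
 (.leaf (nat_lit 0x108f65b) (nat_lit 1031))
))))) (.node (nat_lit 0x1099448) (.node (nat_lit 0x108fe48) (.node (nat_lit 0x108fa5a) (.node (nat_lit 0x108f85a) (.leaf (nat_lit 0x108f84a) (nat_lit 1031))
 (.node (nat_lit 0x108fa4a) (.leaf (nat_lit 0x108f85a) (nat_lit 1031))
 (.leaf (nat_lit 0x108fa4a) (nat_lit 768))
)) (.node (nat_lit 0x108fc48) (.leaf (nat_lit 0x108fa5a) (nat_lit 775))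
 (.node (nat_lit 0x108fc58) (.leaf (nat_lit 0x108fc48) (nat_lit 1031))
 (.leaf (nat_lit 0x108fc58) (nat_lit 1287))
))) (.node (nat_lit 0x109905b) (.node (nat_lit 0x108fe58) (.leaf (nat_lit 0x108fe48) (nat_lit 1024))
 (.node (nat_lit 0x109904b) (.leaf (nat_lit 0x108fe58) (nat_lit 1031))
 (.leaf (nat_lit 0x109904b) (nat_lit 1031))
)) (.node (nat_lit 0x109924b) (.leaf (nat_lit 0x109905b) (nat_lit 1031))
 (.node (nat_lit 0x109925b) (.leaf (nat_lit 0x109924b) (nat_lit 1031))
 (.leaf (nat_lit 0x109925b) (nat_lit 1031))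
)))) (.node (nat_lit 0x1099a4a) (.node (nat_lit 0x1099658) (.node (nat_lit 0x1099458) (.leaf (nat_lit 0x1099448) (nat_lit 775))
 (.node (nat_lit 0x1099648) (.leaf (nat_lit 0x1099458) (nat_lit 1031))
 (.leaf (nat_lit 0x1099648) (nat_lit 775))
)) (.node (nat_lit 0x109984a) (.leaf (nat_lit 0x1099658) (nat_lit 1031))
 (.node (nat_lit 0x109985a) (.leaf (nat_lit 0x109984a) (nat_lit 519))
 (.leaf (nat_lit 0x109985a) (nat_lit 775))
))) (.node (nat_lit 0x1099c59) (.node (nat_lit 0x1099a5a) (.leaf (nat_lit 0x1099a4a) (nat_lit 771))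
 (.node (nat_lit 0x1099c49) (.leaf (nat_lit 0x1099a5a) (nat_lit 775))
 (.leaf (nat_lit 0x1099c49) (nat_lit 775))
)) (.node (nat_lit 0x1099e49) (.leaf (nat_lit 0x1099c59) (nat_lit 1031))
 (.node (nat_lit 0x1099e59) (.leaf (nat_lit 0x1099e49) (nat_lit 1027))
 (.leaf (nat_lit 0x1099e59) (nat_lit 1031))
)))))) (.node (nat_lit 0x10c3043) (.node (nat_lit 0x109dc49) (.node (nat_lit 0x109d648) (.node (nat_lit 0x109d25b) (.node (nat_lit 0x109d05b) (.leaf (nat_lit 0x109d04b) (nat_lit 1031))
 (.node (nat_lit 0x109d24b) (.leaf (nat_lit 0x109d05b) (nat_lit 1031))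
 (.leaf (nat_lit 0x109d24b) (nat_lit 1031))
)) (.node (nat_lit 0x109d448) (.leaf (nat_lit 0x109d25b) (nat_lit 1031))
 (.node (nat_lit 0x109d458) (.leaf (nat_lit 0x109d448) (nat_lit 775))
 (.leaf (nat_lit 0x109d458) (nat_lit 1027))
))) (.node (nat_lit 0x109d85a) (.node (nat_lit 0x109d658) (.leaf (nat_lit 0x109d648) (nat_lit 1031))
 (.node (nat_lit 0x109d84a) (.leaf (nat_lit 0x109d658) (nat_lit 775))
 (.leaf (nat_lit 0x109d84a) (nat_lit 775))
)) (.node (nat_lit 0x109da4a) (.leaf (nat_lit 0x109d85a) (nat_lit 771))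
 (.node (nat_lit 0x109da5a) (.leaf (nat_lit 0x109da4a) (nat_lit 775))
 (.leaf (nat_lit 0x109da5a) (nat_lit 519))
)))) (.node (nat_lit 0x10c1241) (.node (nat_lit 0x109de59) (.node (nat_lit 0x109dc59) (.leaf (nat_lit 0x109dc49) (nat_lit 1031))
 (.node (nat_lit 0x109de49) (.leaf (nat_lit 0x109dc59) (nat_lit 775))
 (.leaf (nat_lit 0x109de49) (nat_lit 775))
)) (.node (nat_lit 0x10c1041) (.leaf (nat_lit 0x109de59) (nat_lit 775))
 (.node (nat_lit 0x10c1051) (.leaf (nat_lit 0x10c1041) (nat_lit 261))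
 (.leaf (nat_lit 0x10c1051) (nat_lit 517))
))) (.node (nat_lit 0x10c185b) (.node (nat_lit 0x10c1251) (.leaf (nat_lit 0x10c1241) (nat_lit 517))
 (.node (nat_lit 0x10c184b) (.leaf (nat_lit 0x10c1251) (nat_lit 773))
 (.leaf (nat_lit 0x10c184b) (nat_lit 1285))
)) (.node (nat_lit 0x10c1a4b) (.leaf (nat_lit 0x10c185b) (nat_lit 1286))
 (.node (nat_lit 0x10c1a5b) (.leaf (nat_lit 0x10c1a4b) (nat_lit 1281))
 (.leaf (nat_lit 0x10c1a5b) (nat_lit 1281))
))))) (.node (nat_lit 0x10c584b) (.node (nat_lit 0x10c3a49) (.node (nat_lit 0x10c3253) (.node (nat_lit 0x10c3053) (.leaf (nat_lit 0x10c3043) (nat_lit 517))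
 (.node (nat_lit 0x10c3243) (.leaf (nat_lit 0x10c3053) (nat_lit 773))
 (.leaf (nat_lit 0x10c3243) (nat_lit 773))
)) (.node (nat_lit 0x10c3849) (.leaf (nat_lit 0x10c3253) (nat_lit 773))
 (.node (nat_lit 0x10c3859) (.leaf (nat_lit 0x10c3849) (nat_lit 1025))
 (.leaf (nat_lit 0x10c3859) (nat_lit 1282))
))) (.node (nat_lit 0x10c5051) (.node (nat_lit 0x10c3a59) (.leaf (nat_lit 0x10c3a49) (nat_lit 1025))
 (.node (nat_lit 0x10c5041) (.leaf (nat_lit 0x10c3a59) (nat_lit 1025))
 (.leaf (nat_lit 0x10c5041) (nat_lit 517))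
)) (.node (nat_lit 0x10c5241) (.leaf (nat_lit 0x10c5051) (nat_lit 769))
 (.node (nat_lit 0x10c5251) (.leaf (nat_lit 0x10c5241) (nat_lit 768))
 (.leaf (nat_lit 0x10c5251) (nat_lit 775))
)))) (.node (nat_lit 0x10c7243) (.node (nat_lit 0x10c5a5b) (.node (nat_lit 0x10c585b) (.leaf (nat_lit 0x10c584b) (nat_lit 1286))
 (.node (nat_lit 0x10c5a4b) (.leaf (nat_lit 0x10c585b) (nat_lit 1281))
 (.leaf (nat_lit 0x10c5a4b) (nat_lit 1286))
)) (.node (nat_lit 0x10c7043) (.leaf (nat_lit 0x10c5a5b) (nat_lit 1286))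
 (.node (nat_lit 0x10c7053) (.leaf (nat_lit 0x10c7043) (nat_lit 518))
 (.leaf (nat_lit 0x10c7053) (nat_lit 774))
))) (.node (nat_lit 0x10c7859) (.node (nat_lit 0x10c7253) (.leaf (nat_lit 0x10c7243) (nat_lit 771))
 (.node (nat_lit 0x10c7849) (.leaf (nat_lit 0x10c7253) (nat_lit 774))
 (.leaf (nat_lit 0x10c7849) (nat_lit 1281))
)) (.node (nat_lit 0x10c7a49) (.leaf (nat_lit 0x10c7859) (nat_lit 1025))
 (.node (nat_lit 0x10c7a59) (.leaf (nat_lit 0x10c7a49) (nat_lit 1031))
 (.leaf (nat_lit 0x10c7a59) (nat_lit 1031))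
))))))) (.node (nat_lit 0x10d5449) (.node (nat_lit 0x10cf448) (.node (nat_lit 0x10cbc43) (.node (nat_lit 0x10c9a41) (.node (nat_lit 0x10c925a) (.node (nat_lit 0x10c905a) (.leaf (nat_lit 0x10c904a) (nat_lit 1025))
 (.node (nat_lit 0x10c924a) (.leaf (nat_lit 0x10c905a) (nat_lit 1025))
 (.leaf (nat_lit 0x10c924a) (nat_lit 1025))
)) (.node (nat_lit 0x10c9841) (.leaf (nat_lit 0x10c925a) (nat_lit 1025))
 (.node (nat_lit 0x10c9851) (.leaf (nat_lit 0x10c9841) (nat_lit 773))
 (.leaf (nat_lit 0x10c9851) (nat_lit 769))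
))) (.node (nat_lit 0x10cb458) (.node (nat_lit 0x10c9a51) (.leaf (nat_lit 0x10c9a41) (nat_lit 769))
 (.node (nat_lit 0x10cb448) (.leaf (nat_lit 0x10c9a51) (nat_lit 1026))
 (.leaf (nat_lit 0x10cb448) (nat_lit 1025))
)) (.node (nat_lit 0x10cb648) (.leaf (nat_lit 0x10cb458) (nat_lit 1282))
 (.node (nat_lit 0x10cb658) (.leaf (nat_lit 0x10cb648) (nat_lit 1025))
 (.leaf (nat_lit 0x10cb658) (nat_lit 1025))
)))) (.node (nat_lit 0x10cd24a) (.node (nat_lit 0x10cbe53) (.node (nat_lit 0x10cbc53) (.leaf (nat_lit 0x10cbc43) (nat_lit 773))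
 (.node (nat_lit 0x10cbe43) (.leaf (nat_lit 0x10cbc53) (nat_lit 1030))
 (.leaf (nat_lit 0x10cbe43) (nat_lit 769))
)) (.node (nat_lit 0x10cd04a) (.leaf (nat_lit 0x10cbe53) (nat_lit 1030))
 (.node (nat_lit 0x10cd05a) (.leaf (nat_lit 0x10cd04a) (nat_lit 1286))
 (.leaf (nat_lit 0x10cd05a) (nat_lit 1025))
))) (.node (nat_lit 0x10cd851) (.node (nat_lit 0x10cd25a) (.leaf (nat_lit 0x10cd24a) (nat_lit 1024))
 (.node (nat_lit 0x10cd841) (.leaf (nat_lit 0x10cd25a) (nat_lit 1286))
 (.leaf (nat_lit 0x10cd841) (nat_lit 1029))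
)) (.node (nat_lit 0x10cda41) (.leaf (nat_lit 0x10cd851) (nat_lit 769))
 (.node (nat_lit 0x10cda51) (.leaf (nat_lit 0x10cda41) (nat_lit 768))
 (.leaf (nat_lit 0x10cda51) (nat_lit 1027))
))))) (.node (nat_lit 0x10d1c41) (.node (nat_lit 0x10cfe43) (.node (nat_lit 0x10cf658) (.node (nat_lit 0x10cf458) (.leaf (nat_lit 0x10cf448) (nat_lit 1025))
 (.node (nat_lit 0x10cf648) (.leaf (nat_lit 0x10cf458) (nat_lit 1025))
 (.leaf (nat_lit 0x10cf648) (nat_lit 1281))
)) (.node (nat_lit 0x10cfc43) (.leaf (nat_lit 0x10cf658) (nat_lit 1281))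
 (.node (nat_lit 0x10cfc53) (.leaf (nat_lit 0x10cfc43) (nat_lit 769))
 (.leaf (nat_lit 0x10cfc53) (nat_lit 769))
))) (.node (nat_lit 0x10d1459) (.node (nat_lit 0x10cfe53) (.leaf (nat_lit 0x10cfe43) (nat_lit 1024))
 (.node (nat_lit 0x10d1449) (.leaf (nat_lit 0x10cfe53) (nat_lit 1030))
 (.leaf (nat_lit 0x10d1449) (nat_lit 1281))
)) (.node (nat_lit 0x10d1649) (.leaf (nat_lit 0x10d1459) (nat_lit 1281))
 (.node (nat_lit 0x10d1659) (.leaf (nat_lit 0x10d1649) (nat_lit 1281))
 (.leaf (nat_lit 0x10d1659) (nat_lit 1281))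
)))) (.node (nat_lit 0x10d3643) (.node (nat_lit 0x10d1e51) (.node (nat_lit 0x10d1c51) (.leaf (nat_lit 0x10d1c41) (nat_lit 517))
 (.node (nat_lit 0x10d1e41) (.leaf (nat_lit 0x10d1c51) (nat_lit 773))
 (.leaf (nat_lit 0x10d1e41) (nat_lit 773))
)) (.node (nat_lit 0x10d3443) (.leaf (nat_lit 0x10d1e51) (nat_lit 768))
 (.node (nat_lit 0x10d3453) (.leaf (nat_lit 0x10d3443) (nat_lit 773))
 (.leaf (nat_lit 0x10d3453) (nat_lit 1029))
))) (.node (nat_lit 0x10d3c5b) (.node (nat_lit 0x10d3653) (.leaf (nat_lit 0x10d3643) (nat_lit 1029))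
 (.node (nat_lit 0x10d3c4b) (.leaf (nat_lit 0x10d3653) (nat_lit 774))
 (.leaf (nat_lit 0x10d3c4b) (nat_lit 1281))
)) (.node (nat_lit 0x10d3e4b) (.leaf (nat_lit 0x10d3c5b) (nat_lit 1538))
 (.node (nat_lit 0x10d3e5b) (.leaf (nat_lit 0x10d3e4b) (nat_lit 1281))
 (.leaf (nat_lit 0x10d3e5b) (nat_lit 1281))
)))))) (.node (nat_lit 0x10db04a) (.node (nat_lit 0x10d7c4b) (.node (nat_lit 0x10d5e41) (.node (nat_lit 0x10d5659) (.node (nat_lit 0x10d5459) (.leaf (nat_lit 0x10d5449) (nat_lit 1542))
 (.node (nat_lit 0x10d5649) (.leaf (nat_lit 0x10d5459) (nat_lit 1281))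
 (.leaf (nat_lit 0x10d5649) (nat_lit 1280))
)) (.node (nat_lit 0x10d5c41) (.leaf (nat_lit 0x10d5659) (nat_lit 1287))
 (.node (nat_lit 0x10d5c51) (.leaf (nat_lit 0x10d5c41) (nat_lit 773))
 (.leaf (nat_lit 0x10d5c51) (nat_lit 773))
))) (.node (nat_lit 0x10d7453) (.node (nat_lit 0x10d5e51) (.leaf (nat_lit 0x10d5e41) (nat_lit 512))
 (.node (nat_lit 0x10d7443) (.leaf (nat_lit 0x10d5e51) (nat_lit 770))
 (.leaf (nat_lit 0x10d7443) (nat_lit 774))
)) (.node (nat_lit 0x10d7643) (.leaf (nat_lit 0x10d7453) (nat_lit 1030))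
 (.node (nat_lit 0x10d7653) (.leaf (nat_lit 0x10d7643) (nat_lit 768))
 (.leaf (nat_lit 0x10d7653) (nat_lit 1030))
)))) (.node (nat_lit 0x10d9641) (.node (nat_lit 0x10d7e5b) (.node (nat_lit 0x10d7c5b) (.leaf (nat_lit 0x10d7c4b) (nat_lit 1281))
 (.node (nat_lit 0x10d7e4b) (.leaf (nat_lit 0x10d7c5b) (nat_lit 1281))
 (.leaf (nat_lit 0x10d7e4b) (nat_lit 1287))
)) (.node (nat_lit 0x10d9441) (.leaf (nat_lit 0x10d7e5b) (nat_lit 1287))
 (.node (nat_lit 0x10d9451) (.leaf (nat_lit 0x10d9441) (nat_lit 517))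
 (.leaf (nat_lit 0x10d9451) (nat_lit 773))
))) (.node (nat_lit 0x10d9c58) (.node (nat_lit 0x10d9651) (.leaf (nat_lit 0x10d9641) (nat_lit 513))
 (.node (nat_lit 0x10d9c48) (.leaf (nat_lit 0x10d9651) (nat_lit 770))
 (.leaf (nat_lit 0x10d9c48) (nat_lit 1029))
)) (.node (nat_lit 0x10d9e48) (.leaf (nat_lit 0x10d9c58) (nat_lit 1030))
 (.node (nat_lit 0x10d9e58) (.leaf (nat_lit 0x10d9e48) (nat_lit 1281))
 (.leaf (nat_lit 0x10d9e58) (nat_lit 1281))
))))) (.node (nat_lit 0x10ddc48) (.node (nat_lit 0x10dba43) (.node (nat_lit 0x10db25a) (.node (nat_lit 0x10db05a) (.leaf (nat_lit 0x10db04a) (nat_lit 769))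
 (.node (nat_lit 0x10db24a) (.leaf (nat_lit 0x10db05a) (nat_lit 1026))
 (.leaf (nat_lit 0x10db24a) (nat_lit 769))
)) (.node (nat_lit 0x10db843) (.leaf (nat_lit 0x10db25a) (nat_lit 769))
 (.node (nat_lit 0x10db853) (.leaf (nat_lit 0x10db843) (nat_lit 773))
 (.leaf (nat_lit 0x10db853) (nat_lit 774))
))) (.node (nat_lit 0x10dd451) (.node (nat_lit 0x10dba53) (.leaf (nat_lit 0x10dba43) (nat_lit 1025))
 (.node (nat_lit 0x10dd441) (.leaf (nat_lit 0x10dba53) (nat_lit 1029))
 (.leaf (nat_lit 0x10dd441) (nat_lit 773))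
)) (.node (nat_lit 0x10dd641) (.leaf (nat_lit 0x10dd451) (nat_lit 513))
 (.node (nat_lit 0x10dd651) (.leaf (nat_lit 0x10dd641) (nat_lit 772))
 (.leaf (nat_lit 0x10dd651) (nat_lit 771))
)))) (.node (nat_lit 0x10df24a) (.node (nat_lit 0x10dde58) (.node (nat_lit 0x10ddc58) (.leaf (nat_lit 0x10ddc48) (nat_lit 1030))
 (.node (nat_lit 0x10dde48) (.leaf (nat_lit 0x10ddc58) (nat_lit 1281))
 (.leaf (nat_lit 0x10dde48) (nat_lit 1030))
)) (.node (nat_lit 0x10df04a) (.leaf (nat_lit 0x10dde58) (nat_lit 1030))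
 (.node (nat_lit 0x10df05a) (.leaf (nat_lit 0x10df04a) (nat_lit 1025))
 (.leaf (nat_lit 0x10df05a) (nat_lit 769))
))) (.node (nat_lit 0x10df853) (.node (nat_lit 0x10df25a) (.leaf (nat_lit 0x10df24a) (nat_lit 1025))
 (.node (nat_lit 0x10df843) (.leaf (nat_lit 0x10df25a) (nat_lit 1025))
 (.leaf (nat_lit 0x10df843) (nat_lit 774))
)) (.node (nat_lit 0x10dfa43) (.leaf (nat_lit 0x10df853) (nat_lit 1025))
 (.node (nat_lit 0x10dfa53) (.leaf (nat_lit 0x10dfa43) (nat_lit 1027))
 (.leaf (nat_lit 0x10dfa53) (nat_lit 774))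
)))))))))

theorem wP_ok : genOK B5.A [(nat_lit 0x1051c41), (nat_lit 0x1059441), (nat_lit 0x1041051), (nat_lit 0x1041241), (nat_lit 0x1045041), (nat_lit 0x10c1041), (nat_lit 0x1043043), (nat_lit 0x101984a)] wP_t (nat_lit 384) = true := by decide +kernel

noncomputable def wB_t : ST :=
(.node (nat_lit 0x10c1041) (.node (nat_lit 0x1051c41) (.node (nat_lit 0x1049841) (.node (nat_lit 0x1045041) (.node (nat_lit 0x1041241) (.node (nat_lit 0x1041051) (.leaf (nat_lit 0x1041041) (nat_lit 0))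
 (.leaf (nat_lit 0x1041051) (nat_lit 258))
) (.node (nat_lit 0x1041251) (.leaf (nat_lit 0x1041241) (nat_lit 259))
 (.leaf (nat_lit 0x1041251) (nat_lit 515))
)) (.node (nat_lit 0x1045241) (.node (nat_lit 0x1045051) (.leaf (nat_lit 0x1045041) (nat_lit 260))
 (.leaf (nat_lit 0x1045051) (nat_lit 516))
) (.node (nat_lit 0x1045251) (.leaf (nat_lit 0x1045241) (nat_lit 516))
 (.leaf (nat_lit 0x1045251) (nat_lit 772))
))) (.node (nat_lit 0x104d841) (.node (nat_lit 0x1049a41) (.node (nat_lit 0x1049851) (.leaf (nat_lit 0x1049841) (nat_lit 513))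
 (.leaf (nat_lit 0x1049851) (nat_lit 770))
) (.node (nat_lit 0x1049a51) (.leaf (nat_lit 0x1049a41) (nat_lit 771))
 (.leaf (nat_lit 0x1049a51) (nat_lit 1027))
)) (.node (nat_lit 0x104da41) (.node (nat_lit 0x104d851) (.leaf (nat_lit 0x104d841) (nat_lit 772))
 (.leaf (nat_lit 0x104d851) (nat_lit 768))
) (.node (nat_lit 0x104da51) (.leaf (nat_lit 0x104da41) (nat_lit 769))
 (.leaf (nat_lit 0x104da51) (nat_lit 1025))
)))) (.node (nat_lit 0x1059441) (.node (nat_lit 0x1055c41) (.node (nat_lit 0x1051e41) (.node (nat_lit 0x1051c51) (.leaf (nat_lit 0x1051c41) (nat_lit 256))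
 (.leaf (nat_lit 0x1051c51) (nat_lit 514))
) (.node (nat_lit 0x1051e51) (.leaf (nat_lit 0x1051e41) (nat_lit 515))
 (.leaf (nat_lit 0x1051e51) (nat_lit 771))
)) (.node (nat_lit 0x1055e41) (.node (nat_lit 0x1055c51) (.leaf (nat_lit 0x1055c41) (nat_lit 516))
 (.leaf (nat_lit 0x1055c51) (nat_lit 512))
) (.node (nat_lit 0x1055e51) (.leaf (nat_lit 0x1055e41) (nat_lit 772))
 (.leaf (nat_lit 0x1055e51) (nat_lit 771))
))) (.node (nat_lit 0x105d441) (.node (nat_lit 0x1059641) (.node (nat_lit 0x1059451) (.leaf (nat_lit 0x1059441) (nat_lit 257))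
 (.leaf (nat_lit 0x1059451) (nat_lit 514))
) (.node (nat_lit 0x1059651) (.leaf (nat_lit 0x1059641) (nat_lit 515))
 (.leaf (nat_lit 0x1059651) (nat_lit 771))
)) (.node (nat_lit 0x105d641) (.node (nat_lit 0x105d451) (.leaf (nat_lit 0x105d441) (nat_lit 516))
 (.leaf (nat_lit 0x105d451) (nat_lit 772))
) (.node (nat_lit 0x105d651) (.leaf (nat_lit 0x105d641) (nat_lit 772))
 (.leaf (nat_lit 0x105d651) (nat_lit 769))
))))) (.node (nat_lit 0x10d1c41) (.node (nat_lit 0x10c9841) (.node (nat_lit 0x10c5041) (.node (nat_lit 0x10c1241) (.node (nat_lit 0x10c1051) (.leaf (nat_lit 0x10c1041) (nat_lit 261))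
 (.leaf (nat_lit 0x10c1051) (nat_lit 517))
) (.node (nat_lit 0x10c1251) (.leaf (nat_lit 0x10c1241) (nat_lit 517))
 (.leaf (nat_lit 0x10c1251) (nat_lit 773))
)) (.node (nat_lit 0x10c5241) (.node (nat_lit 0x10c5051) (.leaf (nat_lit 0x10c5041) (nat_lit 517))
 (.leaf (nat_lit 0x10c5051) (nat_lit 769))
) (.node (nat_lit 0x10c5251) (.leaf (nat_lit 0x10c5241) (nat_lit 768))
 (.leaf (nat_lit 0x10c5251) (nat_lit 1026))
))) (.node (nat_lit 0x10cd841) (.node (nat_lit 0x10c9a41) (.node (nat_lit 0x10c9851) (.leaf (nat_lit 0x10c9841) (nat_lit 773))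
 (.leaf (nat_lit 0x10c9851) (nat_lit 769))
) (.node (nat_lit 0x10c9a51) (.leaf (nat_lit 0x10c9a41) (nat_lit 769))
 (.leaf (nat_lit 0x10c9a51) (nat_lit 1026))
)) (.node (nat_lit 0x10cda41) (.node (nat_lit 0x10cd851) (.leaf (nat_lit 0x10cd841) (nat_lit 1029))
 (.leaf (nat_lit 0x10cd851) (nat_lit 769))
) (.node (nat_lit 0x10cda51) (.leaf (nat_lit 0x10cda41) (nat_lit 768))
 (.leaf (nat_lit 0x10cda51) (nat_lit 1027))
)))) (.node (nat_lit 0x10d9441) (.node (nat_lit 0x10d5c41) (.node (nat_lit 0x10d1e41) (.node (nat_lit 0x10d1c51) (.leaf (nat_lit 0x10d1c41) (nat_lit 517))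
 (.leaf (nat_lit 0x10d1c51) (nat_lit 773))
) (.node (nat_lit 0x10d1e51) (.leaf (nat_lit 0x10d1e41) (nat_lit 773))
 (.leaf (nat_lit 0x10d1e51) (nat_lit 768))
)) (.node (nat_lit 0x10d5e41) (.node (nat_lit 0x10d5c51) (.leaf (nat_lit 0x10d5c41) (nat_lit 773))
 (.leaf (nat_lit 0x10d5c51) (nat_lit 773))
) (.node (nat_lit 0x10d5e51) (.leaf (nat_lit 0x10d5e41) (nat_lit 512))
 (.leaf (nat_lit 0x10d5e51) (nat_lit 770))
))) (.node (nat_lit 0x10dd441) (.node (nat_lit 0x10d9641) (.node (nat_lit 0x10d9451) (.leaf (nat_lit 0x10d9441) (nat_lit 517))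
 (.leaf (nat_lit 0x10d9451) (nat_lit 773))
) (.node (nat_lit 0x10d9651) (.leaf (nat_lit 0x10d9641) (nat_lit 513))
 (.leaf (nat_lit 0x10d9651) (nat_lit 770))
)) (.node (nat_lit 0x10dd641) (.node (nat_lit 0x10dd451) (.leaf (nat_lit 0x10dd441) (nat_lit 773))
 (.leaf (nat_lit 0x10dd451) (nat_lit 513))
) (.node (nat_lit 0x10dd651) (.leaf (nat_lit 0x10dd641) (nat_lit 772))
 (.leaf (nat_lit 0x10dd651) (nat_lit 771))
))))))

theorem wB_ok : genOK B5.A [(nat_lit 0x1051c41), (nat_lit 0x1059441), (nat_lit 0x1041051), (nat_lit 0x1041241), (nat_lit 0x1045041), (nat_lit 0x10c1041)] wB_t (nat_lit 64) = true := by decide +kernel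

noncomputable def wV_t : ST :=
(.node (nat_lit 0x10c1041) (.node (nat_lit 0x1051c41) (.node (nat_lit 0x1049841) (.node (nat_lit 0x1045041) (.leaf (nat_lit 0x1041041) (nat_lit 0))
 (.leaf (nat_lit 0x1045041) (nat_lit 258))
) (.node (nat_lit 0x104d841) (.leaf (nat_lit 0x1049841) (nat_lit 513))
 (.leaf (nat_lit 0x104d841) (nat_lit 770))
)) (.node (nat_lit 0x1059441) (.node (nat_lit 0x1055c41) (.leaf (nat_lit 0x1051c41) (nat_lit 256))
 (.leaf (nat_lit 0x1055c41) (nat_lit 514))
) (.node (nat_lit 0x105d441) (.leaf (nat_lit 0x1059441) (nat_lit 257))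
 (.leaf (nat_lit 0x105d441) (nat_lit 514))
))) (.node (nat_lit 0x10d1c41) (.node (nat_lit 0x10c9841) (.node (nat_lit 0x10c5041) (.leaf (nat_lit 0x10c1041) (nat_lit 259))
 (.leaf (nat_lit 0x10c5041) (nat_lit 515))
) (.node (nat_lit 0x10cd841) (.leaf (nat_lit 0x10c9841) (nat_lit 771))
 (.leaf (nat_lit 0x10cd841) (nat_lit 1027))
)) (.node (nat_lit 0x10d9441) (.node (nat_lit 0x10d5c41) (.leaf (nat_lit 0x10d1c41) (nat_lit 515))
 (.leaf (nat_lit 0x10d5c41) (nat_lit 771))
) (.node (nat_lit 0x10dd441) (.leaf (nat_lit 0x10d9441) (nat_lit 515))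
 (.leaf (nat_lit 0x10dd441) (nat_lit 771))
))))

theorem wV_ok : genOK B5.A [(nat_lit 0x1051c41), (nat_lit 0x1059441), (nat_lit 0x1045041), (nat_lit 0x10c1041)] wV_t (nat_lit 16) = true := by decide +kernel

noncomputable def wW_t : ST :=
(.node (nat_lit 0x10c1041) (.node (nat_lit 0x1045041) (.node (nat_lit 0x1041241) (.node (nat_lit 0x1041051) (.leaf (nat_lit 0x1041041) (nat_lit 0))
 (.leaf (nat_lit 0x1041051) (nat_lit 256))
) (.node (nat_lit 0x1041251) (.leaf (nat_lit 0x1041241) (nat_lit 257))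
 (.leaf (nat_lit 0x1041251) (nat_lit 513))
)) (.node (nat_lit 0x1045241) (.node (nat_lit 0x1045051) (.leaf (nat_lit 0x1045041) (nat_lit 258))
 (.leaf (nat_lit 0x1045051) (nat_lit 514))
) (.node (nat_lit 0x1045251) (.leaf (nat_lit 0x1045241) (nat_lit 514))
 (.leaf (nat_lit 0x1045251) (nat_lit 770))
))) (.node (nat_lit 0x10c5041) (.node (nat_lit 0x10c1241) (.node (nat_lit 0x10c1051) (.leaf (nat_lit 0x10c1041) (nat_lit 259))
 (.leaf (nat_lit 0x10c1051) (nat_lit 515))
) (.node (nat_lit 0x10c1251) (.leaf (nat_lit 0x10c1241) (nat_lit 515))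
 (.leaf (nat_lit 0x10c1251) (nat_lit 771))
)) (.node (nat_lit 0x10c5241) (.node (nat_lit 0x10c5051) (.leaf (nat_lit 0x10c5041) (nat_lit 515))
 (.leaf (nat_lit 0x10c5051) (nat_lit 771))
) (.node (nat_lit 0x10c5251) (.leaf (nat_lit 0x10c5241) (nat_lit 771))
 (.leaf (nat_lit 0x10c5251) (nat_lit 1027))
))))

theorem wW_ok : genOK B5.A [(nat_lit 0x1041051), (nat_lit 0x1041241), (nat_lit 0x1045041), (nat_lit 0x10c1041)] wW_t (nat_lit 16) = true := by decide +kernel

noncomputable def wZ_t : ST :=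
(.node (nat_lit 0x10c1041) (.node (nat_lit 0x1045041) (.leaf (nat_lit 0x1041041) (nat_lit 0))
 (.leaf (nat_lit 0x1045041) (nat_lit 256))
) (.node (nat_lit 0x10c5041) (.leaf (nat_lit 0x10c1041) (nat_lit 257))
 (.leaf (nat_lit 0x10c5041) (nat_lit 513))
))

theorem wZ_ok : genOK B5.A [(nat_lit 0x1045041), (nat_lit 0x10c1041)] wZ_t (nat_lit 4) = true := by decide +kernel

noncomputable def wS_t : ST :=
(.node (nat_lit 0x10c1041) (.node (nat_lit 0x1051c41) (.node (nat_lit 0x1049841) (.node (nat_lit 0x1045041) (.node (nat_lit 0x1043043) (.node (nat_lit 0x1041241) (.node (nat_lit 0x1041051) (.leaf (nat_lit 0x1041041) (nat_lit 0))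
 (.leaf (nat_lit 0x1041051) (nat_lit 258))
) (.node (nat_lit 0x1041251) (.leaf (nat_lit 0x1041241) (nat_lit 259))
 (.leaf (nat_lit 0x1041251) (nat_lit 515))
)) (.node (nat_lit 0x1043243) (.node (nat_lit 0x1043053) (.leaf (nat_lit 0x1043043) (nat_lit 262))
 (.leaf (nat_lit 0x1043053) (nat_lit 518))
) (.node (nat_lit 0x1043253) (.leaf (nat_lit 0x1043243) (nat_lit 515))
 (.leaf (nat_lit 0x1043253) (nat_lit 518))
))) (.node (nat_lit 0x1047043) (.node (nat_lit 0x1045241) (.node (nat_lit 0x1045051) (.leaf (nat_lit 0x1045041) (nat_lit 260))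
 (.leaf (nat_lit 0x1045051) (nat_lit 516))
) (.node (nat_lit 0x1045251) (.leaf (nat_lit 0x1045241) (nat_lit 516))
 (.leaf (nat_lit 0x1045251) (nat_lit 772))
)) (.node (nat_lit 0x1047243) (.node (nat_lit 0x1047053) (.leaf (nat_lit 0x1047043) (nat_lit 518))
 (.leaf (nat_lit 0x1047053) (nat_lit 774))
) (.node (nat_lit 0x1047253) (.leaf (nat_lit 0x1047243) (nat_lit 771))
 (.leaf (nat_lit 0x1047253) (nat_lit 774))
)))) (.node (nat_lit 0x104d841) (.node (nat_lit 0x104bc43) (.node (nat_lit 0x1049a41) (.node (nat_lit 0x1049851) (.leaf (nat_lit 0x1049841) (nat_lit 513))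
 (.leaf (nat_lit 0x1049851) (nat_lit 770))
) (.node (nat_lit 0x1049a51) (.leaf (nat_lit 0x1049a41) (nat_lit 771))
 (.leaf (nat_lit 0x1049a51) (nat_lit 1027))
)) (.node (nat_lit 0x104be43) (.node (nat_lit 0x104bc53) (.leaf (nat_lit 0x104bc43) (nat_lit 513))
 (.leaf (nat_lit 0x104bc53) (nat_lit 770))
) (.node (nat_lit 0x104be53) (.leaf (nat_lit 0x104be43) (nat_lit 771))
 (.leaf (nat_lit 0x104be53) (nat_lit 1030))
))) (.node (nat_lit 0x104fc43) (.node (nat_lit 0x104da41) (.node (nat_lit 0x104d851) (.leaf (nat_lit 0x104d841) (nat_lit 772))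
 (.leaf (nat_lit 0x104d851) (nat_lit 768))
) (.node (nat_lit 0x104da51) (.leaf (nat_lit 0x104da41) (nat_lit 769))
 (.leaf (nat_lit 0x104da51) (nat_lit 1025))
)) (.node (nat_lit 0x104fe43) (.node (nat_lit 0x104fc53) (.leaf (nat_lit 0x104fc43) (nat_lit 769))
 (.leaf (nat_lit 0x104fc53) (nat_lit 1030))
) (.node (nat_lit 0x104fe53) (.leaf (nat_lit 0x104fe43) (nat_lit 1026))
 (.leaf (nat_lit 0x104fe53) (nat_lit 769))
))))) (.node (nat_lit 0x1059441) (.node (nat_lit 0x1055c41) (.node (nat_lit 0x1053443) (.node (nat_lit 0x1051e41) (.node (nat_lit 0x1051c51) (.leaf (nat_lit 0x1051c41) (nat_lit 256))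
 (.leaf (nat_lit 0x1051c51) (nat_lit 514))
) (.node (nat_lit 0x1051e51) (.leaf (nat_lit 0x1051e41) (nat_lit 515))
 (.leaf (nat_lit 0x1051e51) (nat_lit 771))
)) (.node (nat_lit 0x1053643) (.node (nat_lit 0x1053453) (.leaf (nat_lit 0x1053443) (nat_lit 518))
 (.leaf (nat_lit 0x1053453) (nat_lit 774))
) (.node (nat_lit 0x1053653) (.leaf (nat_lit 0x1053643) (nat_lit 771))
 (.leaf (nat_lit 0x1053653) (nat_lit 774))
))) (.node (nat_lit 0x1057443) (.node (nat_lit 0x1055e41) (.node (nat_lit 0x1055c51) (.leaf (nat_lit 0x1055c41) (nat_lit 516))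
 (.leaf (nat_lit 0x1055c51) (nat_lit 512))
) (.node (nat_lit 0x1055e51) (.leaf (nat_lit 0x1055e41) (nat_lit 772))
 (.leaf (nat_lit 0x1055e51) (nat_lit 771))
)) (.node (nat_lit 0x1057643) (.node (nat_lit 0x1057453) (.leaf (nat_lit 0x1057443) (nat_lit 774))
 (.leaf (nat_lit 0x1057453) (nat_lit 774))
) (.node (nat_lit 0x1057653) (.leaf (nat_lit 0x1057643) (nat_lit 1027))
 (.leaf (nat_lit 0x1057653) (nat_lit 1030))
)))) (.node (nat_lit 0x105d441) (.node (nat_lit 0x105b843) (.node (nat_lit 0x1059641) (.node (nat_lit 0x1059451) (.leaf (nat_lit 0x1059441) (nat_lit 257))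
 (.leaf (nat_lit 0x1059451) (nat_lit 514))
) (.node (nat_lit 0x1059651) (.leaf (nat_lit 0x1059641) (nat_lit 515))
 (.leaf (nat_lit 0x1059651) (nat_lit 771))
)) (.node (nat_lit 0x105ba43) (.node (nat_lit 0x105b853) (.leaf (nat_lit 0x105b843) (nat_lit 518))
 (.leaf (nat_lit 0x105b853) (nat_lit 774))
) (.node (nat_lit 0x105ba53) (.leaf (nat_lit 0x105ba43) (nat_lit 771))
 (.leaf (nat_lit 0x105ba53) (nat_lit 774))
))) (.node (nat_lit 0x105f843) (.node (nat_lit 0x105d641) (.node (nat_lit 0x105d451) (.leaf (nat_lit 0x105d441) (nat_lit 516))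
 (.leaf (nat_lit 0x105d451) (nat_lit 772))
) (.node (nat_lit 0x105d651) (.leaf (nat_lit 0x105d641) (nat_lit 772))
 (.leaf (nat_lit 0x105d651) (nat_lit 769))
)) (.node (nat_lit 0x105fa43) (.node (nat_lit 0x105f853) (.leaf (nat_lit 0x105f843) (nat_lit 774))
 (.leaf (nat_lit 0x105f853) (nat_lit 1030))
) (.node (nat_lit 0x105fa53) (.leaf (nat_lit 0x105fa43) (nat_lit 1027))
 (.leaf (nat_lit 0x105fa53) (nat_lit 1025))
)))))) (.node (nat_lit 0x10d1c41) (.node (nat_lit 0x10c9841) (.node (nat_lit 0x10c5041) (.node (nat_lit 0x10c3043) (.node (nat_lit 0x10c1241) (.node (nat_lit 0x10c1051) (.leaf (nat_lit 0x10c1041) (nat_lit 261))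
 (.leaf (nat_lit 0x10c1051) (nat_lit 517))
) (.node (nat_lit 0x10c1251) (.leaf (nat_lit 0x10c1241) (nat_lit 517))
 (.leaf (nat_lit 0x10c1251) (nat_lit 773))
)) (.node (nat_lit 0x10c3243) (.node (nat_lit 0x10c3053) (.leaf (nat_lit 0x10c3043) (nat_lit 517))
 (.leaf (nat_lit 0x10c3053) (nat_lit 773))
) (.node (nat_lit 0x10c3253) (.leaf (nat_lit 0x10c3243) (nat_lit 773))
 (.leaf (nat_lit 0x10c3253) (nat_lit 773))
))) (.node (nat_lit 0x10c7043) (.node (nat_lit 0x10c5241) (.node (nat_lit 0x10c5051) (.leaf (nat_lit 0x10c5041) (nat_lit 517))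
 (.leaf (nat_lit 0x10c5051) (nat_lit 769))
) (.node (nat_lit 0x10c5251) (.leaf (nat_lit 0x10c5241) (nat_lit 768))
 (.leaf (nat_lit 0x10c5251) (nat_lit 1026))
)) (.node (nat_lit 0x10c7243) (.node (nat_lit 0x10c7053) (.leaf (nat_lit 0x10c7043) (nat_lit 518))
 (.leaf (nat_lit 0x10c7053) (nat_lit 774))
) (.node (nat_lit 0x10c7253) (.leaf (nat_lit 0x10c7243) (nat_lit 771))
 (.leaf (nat_lit 0x10c7253) (nat_lit 774))
)))) (.node (nat_lit 0x10cd841) (.node (nat_lit 0x10cbc43) (.node (nat_lit 0x10c9a41) (.node (nat_lit 0x10c9851) (.leaf (nat_lit 0x10c9841) (nat_lit 773))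
 (.leaf (nat_lit 0x10c9851) (nat_lit 769))
) (.node (nat_lit 0x10c9a51) (.leaf (nat_lit 0x10c9a41) (nat_lit 769))
 (.leaf (nat_lit 0x10c9a51) (nat_lit 1026))
)) (.node (nat_lit 0x10cbe43) (.node (nat_lit 0x10cbc53) (.leaf (nat_lit 0x10cbc43) (nat_lit 773))
 (.leaf (nat_lit 0x10cbc53) (nat_lit 1030))
) (.node (nat_lit 0x10cbe53) (.leaf (nat_lit 0x10cbe43) (nat_lit 769))
 (.leaf (nat_lit 0x10cbe53) (nat_lit 1030))
))) (.node (nat_lit 0x10cfc43) (.node (nat_lit 0x10cda41) (.node (nat_lit 0x10cd851) (.leaf (nat_lit 0x10cd841) (nat_lit 1029))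
 (.leaf (nat_lit 0x10cd851) (nat_lit 769))
) (.node (nat_lit 0x10cda51) (.leaf (nat_lit 0x10cda41) (nat_lit 768))
 (.leaf (nat_lit 0x10cda51) (nat_lit 1027))
)) (.node (nat_lit 0x10cfe43) (.node (nat_lit 0x10cfc53) (.leaf (nat_lit 0x10cfc43) (nat_lit 769))
 (.leaf (nat_lit 0x10cfc53) (nat_lit 769))
) (.node (nat_lit 0x10cfe53) (.leaf (nat_lit 0x10cfe43) (nat_lit 1024))
 (.leaf (nat_lit 0x10cfe53) (nat_lit 1030))
))))) (.node (nat_lit 0x10d9441) (.node (nat_lit 0x10d5c41) (.node (nat_lit 0x10d3443) (.node (nat_lit 0x10d1e41) (.node (nat_lit 0x10d1c51) (.leaf (nat_lit 0x10d1c41) (nat_lit 517))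
 (.leaf (nat_lit 0x10d1c51) (nat_lit 773))
) (.node (nat_lit 0x10d1e51) (.leaf (nat_lit 0x10d1e41) (nat_lit 773))
 (.leaf (nat_lit 0x10d1e51) (nat_lit 768))
)) (.node (nat_lit 0x10d3643) (.node (nat_lit 0x10d3453) (.leaf (nat_lit 0x10d3443) (nat_lit 773))
 (.leaf (nat_lit 0x10d3453) (nat_lit 1029))
) (.node (nat_lit 0x10d3653) (.leaf (nat_lit 0x10d3643) (nat_lit 1029))
 (.leaf (nat_lit 0x10d3653) (nat_lit 774))
))) (.node (nat_lit 0x10d7443) (.node (nat_lit 0x10d5e41) (.node (nat_lit 0x10d5c51) (.leaf (nat_lit 0x10d5c41) (nat_lit 773))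
 (.leaf (nat_lit 0x10d5c51) (nat_lit 773))
) (.node (nat_lit 0x10d5e51) (.leaf (nat_lit 0x10d5e41) (nat_lit 512))
 (.leaf (nat_lit 0x10d5e51) (nat_lit 770))
)) (.node (nat_lit 0x10d7643) (.node (nat_lit 0x10d7453) (.leaf (nat_lit 0x10d7443) (nat_lit 774))
 (.leaf (nat_lit 0x10d7453) (nat_lit 1030))
) (.node (nat_lit 0x10d7653) (.leaf (nat_lit 0x10d7643) (nat_lit 768))
 (.leaf (nat_lit 0x10d7653) (nat_lit 1030))
)))) (.node (nat_lit 0x10dd441) (.node (nat_lit 0x10db843) (.node (nat_lit 0x10d9641) (.node (nat_lit 0x10d9451) (.leaf (nat_lit 0x10d9441) (nat_lit 517))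
 (.leaf (nat_lit 0x10d9451) (nat_lit 773))
) (.node (nat_lit 0x10d9651) (.leaf (nat_lit 0x10d9641) (nat_lit 513))
 (.leaf (nat_lit 0x10d9651) (nat_lit 770))
)) (.node (nat_lit 0x10dba43) (.node (nat_lit 0x10db853) (.leaf (nat_lit 0x10db843) (nat_lit 773))
 (.leaf (nat_lit 0x10db853) (nat_lit 774))
) (.node (nat_lit 0x10dba53) (.leaf (nat_lit 0x10dba43) (nat_lit 1025))
 (.leaf (nat_lit 0x10dba53) (nat_lit 1029))
))) (.node (nat_lit 0x10df843) (.node (nat_lit 0x10dd641) (.node (nat_lit 0x10dd451) (.leaf (nat_lit 0x10dd441) (nat_lit 773))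
 (.leaf (nat_lit 0x10dd451) (nat_lit 513))
) (.node (nat_lit 0x10dd651) (.leaf (nat_lit 0x10dd641) (nat_lit 772))
 (.leaf (nat_lit 0x10dd651) (nat_lit 771))
)) (.node (nat_lit 0x10dfa43) (.node (nat_lit 0x10df853) (.leaf (nat_lit 0x10df843) (nat_lit 774))
 (.leaf (nat_lit 0x10df853) (nat_lit 1025))
) (.node (nat_lit 0x10dfa53) (.leaf (nat_lit 0x10dfa43) (nat_lit 1027))
 (.leaf (nat_lit 0x10dfa53) (nat_lit 774))
)))))))

theorem wS_ok : genOK B5.A [(nat_lit 0x1051c41), (nat_lit 0x1059441), (nat_lit 0x1041051), (nat_lit 0x1041241), (nat_lit 0x1045041), (nat_lit 0x10c1041), (nat_lit 0x1043043)] wS_t (nat_lit 128) = true := by decide +kernel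

noncomputable def wE_t : ST :=
(.node (nat_lit 0x1051c41) (.node (nat_lit 0x1045041) (.node (nat_lit 0x1043043) (.leaf (nat_lit 0x1041041) (nat_lit 0))
 (.leaf (nat_lit 0x1043043) (nat_lit 258))
) (.node (nat_lit 0x1047043) (.leaf (nat_lit 0x1045041) (nat_lit 256))
 (.leaf (nat_lit 0x1047043) (nat_lit 514))
)) (.node (nat_lit 0x1055c41) (.node (nat_lit 0x1053443) (.leaf (nat_lit 0x1051c41) (nat_lit 257))
 (.leaf (nat_lit 0x1053443) (nat_lit 514))
) (.node (nat_lit 0x1057443) (.leaf (nat_lit 0x1055c41) (nat_lit 513))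
 (.leaf (nat_lit 0x1057443) (nat_lit 770))
)))

theorem wE_ok : genOK B5.A [(nat_lit 0x1045041), (nat_lit 0x1051c41), (nat_lit 0x1043043)] wE_t (nat_lit 8) = true := by decide +kernel

noncomputable def wW1_t : ST :=
(.node (nat_lit 0x10c1041) (.node (nat_lit 0x1045041) (.node (nat_lit 0x1041051) (.leaf (nat_lit 0x1041041) (nat_lit 0))
 (.leaf (nat_lit 0x1041051) (nat_lit 258))
) (.node (nat_lit 0x1045051) (.leaf (nat_lit 0x1045041) (nat_lit 256))
 (.leaf (nat_lit 0x1045051) (nat_lit 514))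
)) (.node (nat_lit 0x10c5041) (.node (nat_lit 0x10c1051) (.leaf (nat_lit 0x10c1041) (nat_lit 257))
 (.leaf (nat_lit 0x10c1051) (nat_lit 514))
) (.node (nat_lit 0x10c5051) (.leaf (nat_lit 0x10c5041) (nat_lit 513))
 (.leaf (nat_lit 0x10c5051) (nat_lit 770))
)))

theorem wW1_ok : genOK B5.A [(nat_lit 0x1045041), (nat_lit 0x10c1041), (nat_lit 0x1041051)] wW1_t (nat_lit 8) = true := by decide +kernel

end Cfsg.Agent.Loc.GC3
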