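import Mathlib
import Cfsg.Agent.Loc.GC3Def
import Cfsg.Agent.Rec.SylTools

/-! Finite facts for the letter `r` (text: `stubs/Cfsg/Agent/Loc/GCPLAN4.md`). -/

set_option autoImplicit false
set_option linter.unusedSectionVars false
set_option synthInstance.maxSize 100000
set_option synthInstance.maxHeartbeats 1000000

namespace Cfsg.Agent.Loc.GC

open Cfsg Cfsg.Agent.GT Cfsg.Agent.Loc.Mss Cfsg.Agent.Loc.PU Cfsg.Agent.Loc.Blk Subgroup
open Cfsg.Agent.Spor Cfsg.Agent.Rec Cfsg.Agent.Loc.GC3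
open scoped commutatorElement MatrixGroups

variable {G : Type*} [Group G] [Finite G]

def raWS : List (List ℕ) := [[0], [1], [2], [3], [4], [5], [8], [0, 1], [0, 4], [0, 5], [0, 8], [1, 4], [1, 5], [2, 3], [2, 4], [2, 5], [2, 8], [3, 4], [3, 5], [4, 5], [4, 8], [0, 1, 4], [0, 1, 5], [0, 3, 0], [0, 4, 5], [0, 4, 8], [1, 2, 1], [1, 4, 5], [2, 3, 4], [2, 3, 5], [2, 4, 8], [0, 1, 4, 5], [0, 2, 5, 8], [0, 2, 8, 5], [0, 3, 0, 2]]

def raCS : List ℕ := [nat_lit 0x8014038040080100200400811, nat_lit 0x8016028040080100200404801, nat_lit 0x8010020040880100280700801, nat_lit 0x80100202400801002c0500801, nat_lit 0x80100a0040080100201400801, nat_lit 0x8030020040080100600400801, nat_lit 0x8010060040180100200c00803, nat_lit 0x8012030040080100200404811, nat_lit 0x80140b8040080100201400811, nat_lit 0x8034038040080100600400811, nat_lit 0x8014068040180100200c00813, nat_lit 0x80160a8040080100201404801, nat_lit 0x8036028040080100600404801, nat_lit 0x8010020240880100240600801,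 nat_lit 0x80100a0040880100281700801, nat_lit 0x8030020040880100680700801, nat_lit 0x8010060040980100280d00803, nat_lit 0x80100a02400801002c1500801, nat_lit 0x80300202400801006c0500801, nat_lit 0x80300a0040080100601400801, nat_lit 0x80100e0040180100201c00803, nat_lit 0x80120b0040080100201404811, nat_lit 0x8032030040080100600404811, nat_lit 0x80300a02400801006c1500801, nat_lit 0x80340b8040080100601400811, nat_lit 0x80140e8040180100201c00813, nat_lit 0x80300a0040880100681700801, nat_lit 0x80360a8040080100601404801, nat_lit 0x80100a0240880100241600801, nat_lit 0x8030020240880100640600801, nat_lit 0x80100e0040980100281d00803, nat_lit 0x80320b0040080100601404811, nat_lit 0x80340e8040980100680d00813, nat_lit 0x8034068040980100681d00813, nat_lit 0x80300a0240880100641600801]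

def raWT : List (List ℕ) := [[0], [1], [2], [3], [4], [5], [8], [9], [0, 1], [0, 4], [0, 5], [0, 8], [1, 4], [1, 5], [2, 3], [2, 4], [2, 5], [2, 8], [3, 4], [3, 5], [4, 5], [4, 8], [4, 9], [5, 9], [8, 9], [0, 1, 4], [0, 1, 5], [0, 2, 9], [0, 3, 0], [0, 4, 5], [0, 4, 8], [1, 2, 1], [1, 3, 9], [1, 4, 5], [2, 0, 9], [2, 3, 4], [2, 3, 5], [2, 4, 8], [3, 1, 9], [4, 5, 9], [4, 8, 9], [0, 1, 4, 5], [0, 2, 5, 8], [0, 2, 5, 9], [0, 2, 8, 5], [0, 2, 8, 9], [0, 3, 0, 2], [1, 3, 4, 9], [1, 8, 3, 9], [2, 0, 5, 9], [2, 0, 8, 9], [3, 1, 4, 9], [3, 8, 1, 9], [0, 1, 2, 3, 9], [0, 1, 3, 8, 9], [0, 2, 1, 3, 9], [0, 2, 3, 1, 9], [0, 3, 1, 2, 9], [1, 4, 8, 3, 9]]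

def raCT : List ℕ := [nat_lit 0x8014038040080100200400811, nat_lit 0x8016028040080100200404801, nat_lit 0x8010020040880100280700801, nat_lit 0x80100202400801002c0500801, nat_lit 0x80100a0040080100201400801, nat_lit 0x8030020040080100600400801, nat_lit 0x8010060040180100200c00803, nat_lit 0x400801002006004008010020, nat_lit 0x8012030040080100200404811, nat_lit 0x80140b8040080100201400811, nat_lit 0x8034038040080100600400811, nat_lit 0x8014068040180100200c00813, nat_lit 0x80160a8040080100201404801, nat_lit 0x8036028040080100600404801, nat_lit 0x8010020240880100240600801, nat_lit 0x80100a0040880100281700801, nat_lit 0x8030020040880100680700801, nat_lit 0x8010060040980100280d00803, nat_lit 0x80100a02400801002c1500801, nat_lit 0x80300202400801006c0500801, nat_lit 0x80300a0040080100601400801, nat_lit 0x80100e0040180100201c00803, nat_lit 0x400805002006004028010020, nat_lit 0x40180100200600c008010020, nat_lit 0x40080300200e004018010060, nat_lit 0x80120b0040080100201404811,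 nat_lit 0x8032030040080100600404811, nat_lit 0x400a05c0204600500e010220, nat_lit 0x80300a02400801006c1500801, nat_lit 0x80340b8040080100601400811, nat_lit 0x80140e8040180100201c00813, nat_lit 0x80300a0040880100681700801, nat_lit 0x401b0141200600580a090020, nat_lit 0x80360a8040080100601404801, nat_lit 0x400a01c0204600502e010220, nat_lit 0x80100a0240880100241600801, nat_lit 0x8030020240880100640600801, nat_lit 0x80100e0040980100281d00803, nat_lit 0x400b0141200600d80a090020, nat_lit 0x40180500200600c028010020, nat_lit 0x40080700200e004038010060, nat_lit 0x80320b0040080100601404811, nat_lit 0x80340e8040980100680d00813, nat_lit 0x401a05c0204600d00e010220, nat_lit 0x8034068040980100681d00813, nat_lit 0x400a0740204e00501a010260, nat_lit 0x80300a0240880100641600801, nat_lit 0x401b0541200600582a090020, nat_lit 0x400907c1204e00581c090060, nat_lit 0x401a01c0204600d02e010220, nat_lit 0x400a0340204e00503a010260, nat_lit 0x400b0541200600d82a090020, nat_lit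 0x400b0381200e00483e090260, nat_lit 0x40190581204600480c090220, nat_lit 0x400b0781200e00481e090260, nat_lit 0x40090181204600c82c090220, nat_lit 0x40190181204600482c090220, nat_lit 0x40090581204600c80c090220, nat_lit 0x400903c1204e00583c090060]

theorem Sg.ra_S (s : Sg G) : ∃ I : Set G, (∀ t ∈ s.S, t * t = 1 → t ≠ 1 → t ∈ I) ∧ (∀ t ∈ I, t * t = 1) ∧
    (∀ a ∈ s.B, a * a = 1 → a ≠ 1 → ∃ h ∈ s.S, Let (h * a * h⁻¹) fun y =>
      y = s.z1 ∨ y = s.z2 ∨ y = s.v1 ∨ y = s.v2 ∨ y = s.w1 ∨ y = s.w2) ∧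
    ∀ a ∈ I, (a = s.z1 ∨ a = s.z2 ∨ a = s.v1 ∨ a = s.v2 ∨ a = s.w1 ∨ a = s.w2) → ∀ c ∈ I, Let (c * a) fun m =>
      a * c = m → a ≠ c → ∀ d ∈ I, a * d = d * a → Let (c * d) fun n => Let (n * n) fun b =>
        b ≠ 1 → a ≠ b → a ≠ b * c → (∃ t ∈ I, t * c * t = m ∧ t * a = a * t ∧ t * b = b * t) ∨
        ∃ p ∈ s.S, p * c = c * p ∧ p * b = b * p ∧ p * a = a * p ∧ ¬ (p = 1 ∨ p = b ∨ p = c ∨ p = b * c ∨
          p = a ∨ p = b * a ∨ p = c * a ∨ p = b * c * a) := by
  obtain ⟨C, h⟩ := s.cod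
  obtain ⟨I, hI⟩ : ∃ I : Set G, C.Lists (listDom raCS) I :=
    ⟨_, (Rec.Syl.repL_words h (ws := raWS) (by decide +kernel)).lists⟩
  exact ⟨I, (hI.cons (Sg.lists h)).decide h (by decide +kernel)⟩

theorem Sg.ra_T (s : Sg G) {γ : G} (h : s.IsG γ) (e : γ * s.f = s.f * γ) :
    ∃ I : Set G, (∀ t ∈ s.ext2 s.f γ, t * t = 1 → t ≠ 1 → t ∈ I) ∧ (∀ t ∈ I, t * t = 1) ∧
    (∀ a ∈ s.ext γ, a * a = 1 → a ≠ 1 → ∃ h ∈ s.ext2 s.f γ, Let (h * a * h⁻¹) fun y =>
      y = s.z1 ∨ y = s.z2 ∨ y = s.v1 ∨ y = s.v2 ∨ y = γ) ∧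
    ∀ a ∈ I, (a = s.z1 ∨ a = s.z2 ∨ a = s.v1 ∨ a = s.v2 ∨ a = γ) → ∀ c ∈ I, Let (c * a) fun m =>
      a * c = m → a ≠ c → ∀ d ∈ I, a * d = d * a → Let (c * (d * c * d)) fun n => Let (n * n) fun b =>
        b ≠ 1 → a ≠ b → a ≠ b * c → ∃ t ∈ I, t * c * t = m ∧ t * a = a * t ∧ t * b = b * t := by
  obtain ⟨C, h⟩ := Sg.codN h e
  obtain ⟨I, hI⟩ : ∃ I : Set G, C.Lists (listDom raCT) I :=
    ⟨_, (Rec.Syl.repL_words h (ws := raWT) (by decide +kernel)).lists⟩
  exact ⟨I, (hI.cons (Sg.listsN h)).decide h (by decide +kernel)⟩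

end Cfsg.Agent.Loc.GC
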