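import Mathlib
import Cfsg.Agent.Loc.FpfCyc
import Cfsg.Agent.GT.Conj
import Cfsg.Agent.GT.PGroupChain

/-!
Towers of sections for fixed-point-free actions, and the splitting of the symplectic section.
-/

set_option autoImplicit false

namespace Cfsg.Agent.Loc.H78

open Cfsg Module Cfsg.Agent.FT Cfsg.Agent.GT
open scoped commutatorElement

section Cent1

variable {G : Type*} [Group G]

/-- The elements normalising `Y` whose commutator with `x` lies in `Y`. -/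
def cent1 (x : G) (Y : Subgroup G) : Subgroup G where
  carrier := {a | a ∈ 𝐍(Y) ∧ ⁅x, a⁆ ∈ Y}
  one_mem' := ⟨one_mem _, by simp⟩
  mul_mem' := by
    rintro a b ⟨ha, ha'⟩ ⟨hb, hb'⟩
    refine ⟨mul_mem ha hb, ?_⟩
    have : ⁅x, a * b⁆ = ⁅x, a⁆ * (a * ⁅x, b⁆ * a⁻¹) := by
      simp only [commutatorElement_def]; group
    rw [this]
    exact mul_mem ha' ((Subgroup.mem_normalizer_iff.1 ha _).1 hb')
  inv_mem' := by
    rintro a ⟨ha, ha'⟩
    refine ⟨inv_mem ha, ?_⟩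
    have : ⁅x, a⁻¹⁆ = a⁻¹ * ⁅x, a⁆⁻¹ * a⁻¹⁻¹ := by
      simp only [commutatorElement_def]; group
    rw [this]
    exact (Subgroup.mem_normalizer_iff.1 (inv_mem ha) _).1 (inv_mem ha')

theorem cent_le_cent2 (Q L : Subgroup G) : 𝐂(Q) ≤ cent2 Q L := fun a ha =>
  ⟨Subgroup.centralizer_le_normalizer _ ha, fun y hy => by
    rw [commutatorElement_eq_one_iff_mul_comm.2 (ha y hy).symm]
    exact one_mem _⟩

theorem le_cent2_comm {Q P : Subgroup G} (h : P ≤ 𝐍(Q)) : P ≤ cent2 Q ⁅Q, P⁆ := fun _ ha =>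
  ⟨h ha, fun _ hy => comm_mem_symm (Subgroup.commutator_mem_commutator hy ha)⟩

theorem le_of_comm_eq {P R S : Subgroup G} (hPS : P ≤ 𝐍(S)) (hRS : R ≤ S) (h : ⁅P, R⁆ = P) :
    P ≤ S :=
  h ▸ (Subgroup.commutator_mono le_rfl hRS).trans (Subgroup.le_normalizer_iff_commutator_le_right.1 hPS)

end Cent1

section Tower

variable {Δ : Type*} [Group Δ] [Finite Δ]

theorem exists_tower {T S A : Subgroup Δ} [T.Normal] [S.Normal] [Group.IsNilpotent T]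
    (hT0 : T ≠ ⊥) (hTS : T ≤ S) (hT : T ≤ ⁅T, S⁆) (hcop : (Nat.card A).Coprime (Nat.card S))
    (hsol : Group.IsSolvable A ∨ Group.IsSolvable S) :
    ∃ q : ℕ, q.Prime ∧ q ∣ Nat.card T ∧ ∃ (t : ℕ) (_ : Fact t.Prime), t ≠ q ∧ t ∣ Nat.card S ∧
      ∃ P : Sylow t S, A ≤ 𝐍((P : Subgroup S).map S.subtype) ∧
        ¬ (P : Subgroup S).map S.subtype ≤ 𝐂(pCoreOf q T) ⊔ pCoreOf q T := by
  obtain ⟨q, hq, hqd⟩ := Nat.exists_prime_and_dvd (fun e => hT0 (Subgroup.card_eq_one.1 e))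
  refine ⟨q, hq, hqd, ?_⟩
  by_contra hne
  push Not at hne
  have := Fact.mk hq
  set Q := pCoreOf q T
  have hQ : IsPGroup q Q := isPGroup_pCoreOf q T
  have hQ0 : Q ≠ ⊥ := by
    obtain ⟨x, hx⟩ := exists_prime_orderOf_dvd_card' q hqd
    have h1 : Subgroup.zpowers (x : Δ) ≤ Q :=
      le_pCoreOf_of_isNilpotent (Subgroup.zpowers_le.2 x.2) (IsPGroup.of_card (n := 1) (by
        rw [Nat.card_zpowers, Subgroup.orderOf_coe, hx, pow_one]))
    intro e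
    rw [e, le_bot_iff, Subgroup.zpowers_eq_bot] at h1
    rw [← Subgroup.orderOf_coe, h1, orderOf_one] at hx
    exact hq.one_lt.ne hx
  obtain ⟨Sq, hSq, -⟩ := CopAct.exists_invariant_sylow_ge Subgroup.le_normalizer_of_normal hcop hsol
    ((pCoreOf_le T).trans hTS) hQ Subgroup.le_normalizer_of_normal
  set L := ⁅Q, (Sq : Subgroup S).map S.subtype⁆
  have hL : L < Q := PG.commutator_lt_of_isPGroup hQ (Sq.isPGroup'.map _)
    Subgroup.le_normalizer_of_normal hQ0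
  have h1 : S ≤ cent2 Q L := CopAct.le_of_forall_sylow_le fun t _ ht => by
    by_cases htq : t = q
    · subst htq
      exact ⟨Sq, le_cent2_comm Subgroup.le_normalizer_of_normal⟩
    · obtain ⟨P, hP⟩ := CopAct.exists_invariant_sylow Subgroup.le_normalizer_of_normal hcop hsol t
      exact ⟨P, (hne t ‹_› htq ht P hP).trans (sup_le (cent_le_cent2 _ _)
        (hSq.trans (le_cent2_comm Subgroup.le_normalizer_of_normal)))⟩
  have h2 := comm_le_of_le_cent2 h1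
  set O := pPrimeCoreOf q T
  have hO : O.Normal := normal_of_top_le_normalizer
    (Subgroup.le_normalizer_of_normal.trans (normalizer_le_normalizer_pPrimeCoreOf T))
  have h3 : ⁅T, S⁆ ≤ ⁅Q, S⁆ ⊔ O := by
    refine Subgroup.commutator_le.2 fun x hx s hs => comm_mem_symm ?_
    have : T ≤ cent1 s (⁅Q, S⁆ ⊔ O) := by
      rw [← pCoreOf_sup_pPrimeCoreOf q T]
      refine sup_le (fun y hy => ⟨Subgroup.le_normalizer_of_normal (K := ⊤) trivial, ?_⟩)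
        fun y hy => ⟨Subgroup.le_normalizer_of_normal (K := ⊤) trivial, ?_⟩
      · exact Subgroup.mem_sup_left (comm_mem_symm (Subgroup.commutator_mem_commutator hy hs))
      · exact Subgroup.mem_sup_right (comm_mem_of_norm
          (Subgroup.le_normalizer_of_normal (K := ⊤) trivial) hy)
    exact (this hx).2
  refine hL.not_ge fun y hy => ?_
  have h4 := sup_le_sup_right h2 O (h3 (hT (pCoreOf_le T hy)))
  obtain ⟨l, hl, o, ho, rfl⟩ := Subgroup.mem_sup_of_normal_right.1 h4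
  have h5 : o = 1 := CopAct.eq_one_of_coprime
    (CopAct.coprime_of_isPGroup_right (coprime_card_pPrimeCoreOf q T) hQ) ho
    ((mul_mem_cancel_left (hL.le hl)).1 hy)
  rwa [h5, mul_one]

theorem sylow_le_of_comm_le {S D R : Subgroup Δ} [S.Normal] [D.Normal]
    (hn : Group.IsNilpotent (S.map (QuotientGroup.mk' D))) (hS : S ≤ ⁅S, R⁆) {t : ℕ}
    [ht : Fact t.Prime] (P : Sylow t S) (h : ⁅(P : Subgroup S).map S.subtype, R⁆ ≤ D) :
    (P : Subgroup S).map S.subtype ≤ D := by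
  let f := QuotientGroup.mk' D
  have := Subgroup.Normal.map ‹S.Normal› f (QuotientGroup.mk'_surjective D)
  set O := pPrimeCoreOf t (S.map f)
  have hO : O.Normal := normal_of_top_le_normalizer
    (Subgroup.le_normalizer_of_normal.trans (normalizer_le_normalizer_pPrimeCoreOf _))
  have h1 : S ≤ O.comap f := hS.trans (Subgroup.commutator_le.2 fun x hx a ha => comm_mem_symm ?_)
  · intro x hx
    have h2 : f x ∈ ((P : Subgroup S).map S.subtype).map f := Subgroup.mem_map_of_mem f hx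
    exact (QuotientGroup.eq_one_iff x).1 (CopAct.eq_one_of_coprime
      (CopAct.coprime_of_isPGroup_right (coprime_card_pPrimeCoreOf t _)
        ((P.isPGroup'.map _).map f)) (h1 (Subgroup.map_subtype_le _ hx)) h2)
  have : S ≤ cent1 a (O.comap f) := CopAct.le_of_forall_sylow_le fun s _ _ => by
    by_cases hs : s = t
    · subst hs
      refine ⟨P, fun y hy => ⟨Subgroup.le_normalizer_of_normal (K := ⊤) trivial, ?_⟩⟩
      have := h (Subgroup.commutator_mem_commutator hy ha)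
      rw [Subgroup.mem_comap,
        show f ⁅a, y⁆ = 1 from (QuotientGroup.eq_one_iff _).2 (comm_mem_symm this)]
      exact one_mem _
    · obtain ⟨P'⟩ := (inferInstance : Nonempty (Sylow s S))
      refine ⟨P', fun y hy => ⟨Subgroup.le_normalizer_of_normal (K := ⊤) trivial,
        comm_mem_of_norm (Subgroup.le_normalizer_of_normal (K := ⊤) trivial) ?_⟩⟩
      have h3 : ((P' : Subgroup S).map S.subtype).map f ≤ O := by
        rw [show O = _ from pPrimeCoreOf_eq_piCoreOf ht.out _]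
        refine le_piCoreOf_of_isNilpotent (Subgroup.map_mono (Subgroup.map_subtype_le _))
          fun u hu hd e => ?_
        exact isPGroup_not_dvd hu (fun e' => hs (e'.symm.trans e)) ((P'.isPGroup'.map _).map f) hd
      exact h3 (Subgroup.mem_map_of_mem f hy)
  exact (this hx).2

theorem nilRes_le_comm (S : Subgroup Δ) : FG.H93.nilRes S ≤ ⁅FG.H93.nilRes S, S⁆ := by
  obtain ⟨n, hn⟩ := FG.H93.exists_lcs_eq_nilRes S
  conv_lhs => rw [← hn (n + 1) (Nat.le_succ n), Subgroup.lowerCentralSeries_succ, hn n le_rfl]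

/-- Wielandt's formula on a section. -/
theorem relIndex_eq_pow_of_frob {Q D P R : Subgroup Δ} (hDQ : D ≤ Q) (hPQ : P ≤ 𝐍(Q))
    (hRQ : R ≤ 𝐍(Q)) (hPD : P ≤ 𝐍(D)) (hRD : R ≤ 𝐍(D)) (hF : IsFrob (P ⊔ R) P R)
    (hcop : (Nat.card Q).Coprime (Nat.card ↥(P ⊔ R))) (hsol : Group.IsSolvable Q)
    (hC : Q ⊓ 𝐂(P) ≤ D) : D.relIndex Q = D.relIndex (Q ⊓ 𝐂(R)) ^ Nat.card R := by
  have h1 := (Frobenius_Wielandt_fixpoint hF (sup_le hPQ hRQ) hcop hsol).1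
  have h2 := (Frobenius_Wielandt_fixpoint hF (sup_le hPD hRD)
    (CopAct.coprime_mono hcop hDQ le_rfl) (CopAct.isSolvable_of_le hDQ hsol)).1
  have e1 : D ⊓ 𝐂(P) = Q ⊓ 𝐂(P) :=
    le_antisymm (inf_le_inf_right _ hDQ) (le_inf hC inf_le_right)
  have e2 : D ⊓ 𝐂(P ⊔ R) = Q ⊓ 𝐂(P ⊔ R) := le_antisymm (inf_le_inf_right _ hDQ)
    (le_inf ((inf_le_inf_left _ (CopAct.centralizer_anti le_sup_left)).trans hC) inf_le_right)
  have e3 := GT.card_inf_mul_relIndex D (Q ⊓ 𝐂(R))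
  rw [← inf_assoc, inf_eq_left.2 hDQ] at e3
  rw [e1, e2] at h2
  rw [← GT.card_mul_relIndex hDQ, ← e3, ← mul_assoc, h2, mul_pow] at h1
  have hpos : 0 < Nat.card ↥(D ⊓ 𝐂(R)) ^ Nat.card R * Nat.card ↥(Q ⊓ 𝐂(P)) :=
    Nat.mul_pos (pow_pos Nat.card_pos _) Nat.card_pos
  refine Nat.eq_of_mul_eq_mul_left hpos ?_
  rw [h1]
  ring

end Tower

section Split

variable {Γ : Type*} [Group Γ] [Finite Γ] {r : ℕ} [hr : Fact r.Prime] {V : Type*}
  [AddCommGroup V] [Module (ZMod r) V] [Finite V] {π : Γ → Module.End (ZMod r) V}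
  {Q A Z K : Subgroup Γ}

omit [Finite V] in
theorem Cfg.rad_decomp (h : Cfg π Q A Z K) {R : Subgroup Γ} (hRY : R ≤ 𝐍(Q ⊓ cent2 Q K))
    (hcop : (Nat.card R).Coprime (Nat.card Q)) (hsol : Group.IsSolvable Q) (hC : Q ⊓ 𝐂(R) ≤ Z)
    (hk : ∀ y ∈ Q ⊓ cent2 Q K, ∀ a ∈ R, ∀ v ∈ pfix π K, π ⁅a, y⁆ v = v) :
    ∀ y ∈ Q ⊓ cent2 Q K, ∃ x ∈ Q, ∃ z ∈ Z, x * z = y ∧ ∀ v ∈ pfix π K, π x v = v := by
  intro y hy
  obtain ⟨x, hx, z, hz, e⟩ := CopAct.exists_eq_commutator_mul_centralizer hRY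
    (CopAct.coprime_mono hcop le_rfl inf_le_left)
    (Or.inr (CopAct.isSolvable_of_le inf_le_left hsol)) hy
  have hle : ⁅Q ⊓ cent2 Q K, R⁆ ≤ h.prep.pker (pfix π K) :=
    Subgroup.commutator_le.2 fun y hy a ha => comm_mem_symm
      ⟨Subgroup.mem_sup_left (comm_mem_of_norm (hRY ha) hy).1, hk y hy a ha⟩
  exact ⟨x, (CopAct.commutator_le_of_le_normalizer hRY hx).1, z, hC ⟨hz.1.1, hz.2⟩, e, (hle hx).2⟩

/-- If `P` centralises `Z`, has no fixed point on `Q / Z` and is generated by commutators with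
elements lying in every nontrivial subgroup of the stabiliser, the radical acts by scalars. -/
theorem Cfg.rad_decomp_of_comm (h : Cfg π Q A Z K) (hrM : ¬ r ∣ Nat.card ↥(Q ⊔ A))
    {M P₀ P R : Subgroup Γ} (hM : PRep M π) (hQM : Q ≤ M) (hPM : P₀ ≤ M) (hPQ : P₀ ≤ 𝐍(Q))
    (hPZ : P₀ ≤ 𝐍(K)) (hR : ∀ B ≤ A ⊓ cent2 Z K, B ≠ ⊥ → R ≤ B) (hP : P ≤ ⁅P₀, R⁆) (hP0 : P ≤ P₀)
    (hcop : (Nat.card P).Coprime (Nat.card Q)) (hsol : Group.IsSolvable Q) (hC : Q ⊓ 𝐂(P) ≤ Z) :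
    ∀ y ∈ Q ⊓ cent2 Q K, ∃ x ∈ Q, ∃ z ∈ Z, x * z = y ∧ ∀ v ∈ pfix π K, π x v = v := by
  have hPY : P₀ ≤ 𝐍(Q ⊓ cent2 Q K) := CopAct.le_normalizer_inf hPQ (le_norm_cent2 hPQ hPZ)
  have hKM : K ≤ M := (h.maxK.le.trans h.hZQ).trans hQM
  have hPk : P₀ ≤ 𝐍(hM.pker (pfix π K)) := le_norm_of_conj_mem fun g hg a ha =>
    hM.conj_mem_pker (hPM hg) (fun u hu => hM.apply_mem_pfix hKM (hPM (inv_mem hg))
      (hPZ (inv_mem hg)) hu) ha
  have hRB := hR _ le_rfl (h.stab_ne_bot hrM)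
  have h1 : R ≤ cent2 (Q ⊓ cent2 Q K) (hM.pker (pfix π K)) := fun a ha =>
    ⟨h.hBY (hRB ha), fun y hy => ⟨hQM (comm_mem_of_norm (h.hAQ (hRB ha).1) hy.1),
      h.comm_fixes hrM (fun B h1 h2 => hR B h1 h2 ha) hy⟩⟩
  have h2 : P ≤ cent2 (Q ⊓ cent2 Q K) (hM.pker (pfix π K)) :=
    hP.trans ((Subgroup.commutator_mono le_rfl h1).trans
      (Subgroup.le_normalizer_iff_commutator_le_right.1 (le_norm_cent2 hPY hPk)))
  exact h.rad_decomp (hP0.trans hPY) hcop hsol hC fun y hy a ha => ((h2 ha).2 y hy).2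

theorem Cfg.count_comm (h : Cfg π Q A Z K) (hrM : ¬ r ∣ Nat.card ↥(Q ⊔ A))
    (hY : ∀ y ∈ Q ⊓ cent2 Q K, ∃ x ∈ Q, ∃ z ∈ Z, x * z = y ∧ ∀ v ∈ pfix π K, π x v = v)
    (hAc : IsMulCommutative A) {R : Subgroup Γ} (hR : ∀ B ≤ A ⊓ cent2 Z K, B ≠ ⊥ → R ≤ B) :
    ∃ u, (Q ⊓ cent2 Q K).relIndex Q = u ^ 2 * (Q ⊓ cent2 Q K).relIndex (Q ⊓ 𝐂(R)) ∧
      ((u = 1 ∧ ⁅Q, R⁆ ≤ Q ⊓ cent2 Q K) ∨ (u + 1 = Nat.card ↥(A ⊓ cent2 Z K) ∧
        ∀ x ∈ Q ⊓ 𝐂(R), ∀ b ∈ A ⊓ cent2 Z K, ⁅b, x⁆ ∈ Q ⊓ cent2 Q K)) := by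
  set B := A ⊓ cent2 Z K
  set Y := Q ⊓ cent2 Q K
  set C := Q ⊓ 𝐂(R)
  have hRB : R ≤ B := hR _ le_rfl (h.stab_ne_bot hrM)
  have hRA : R ≤ A := hRB.trans inf_le_left
  have hRQ : R ≤ 𝐍(Q) := hRA.trans h.hAQ
  have hsol : Group.IsSolvable R :=
    CopAct.isSolvable_of_le hRA (CopAct.isSolvable_of_isMulCommutative hAc)
  have hcop : (Nat.card R).Coprime (Nat.card Q) := CopAct.coprime_mono h.cop.symm hRA le_rfl
  have hQR : ⁅Q, R⁆ ≤ Q := CopAct.commutator_le_of_le_normalizer hRQ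
  have h2 : ⁅Q, R⁆ ⊔ Y ≤ Q := sup_le hQR inf_le_left
  have h3 : ⁅⁅R, Q⁆, C⁆ ≤ K := by
    refine three_subgroups_of_le_normalizer (hRB.trans h.hBK) h.hQK (inf_le_left.trans h.hQK) ?_ ?_
    · have : ⁅Q, C⁆ ≤ Z := Subgroup.commutator_le.2 fun x hx y hy => h.der x hx y hy.1
      exact (Subgroup.commutator_mono this le_rfl).trans
        (comm_le_of_le_cent2 (hRB.trans inf_le_right))
    · rw [CopAct.commutator_eq_bot_iff.2 (Subgroup.le_centralizer_iff.1 inf_le_right),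
        Subgroup.commutator_bot_left]
      exact bot_le
  have h4 : ∀ x ∈ C, ∀ x' ∈ ⁅Q, R⁆ ⊔ Y, ⁅x', x⁆ ∈ K := by
    intro x hx x' hx'
    have : ⁅Q, R⁆ ⊔ Y ≤ cent1 x K := sup_le
      (fun y hy => ⟨h.hQK (hQR hy), comm_mem_symm (h3 (Subgroup.commutator_mem_commutator
        (Subgroup.commutator_comm Q R ▸ hy) hx))⟩)
      fun y hy => ⟨h.hQK hy.1, comm_mem_symm (hy.2.2 x hx.1)⟩
    exact comm_mem_symm (this hx').2
  have h5 : ∀ x ∈ ⁅Q, R⁆ ⊔ Y, (∀ x' ∈ ⁅Q, R⁆ ⊔ Y, ⁅x', x⁆ ∈ K) → x ∈ Y := by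
    intro x hx hx'
    refine ⟨h2 hx, Subgroup.le_normalizer (h2 hx), fun y hy => ?_⟩
    obtain ⟨a, ha, c, hc, rfl⟩ :=
      CopAct.exists_eq_commutator_mul_centralizer hRQ hcop (Or.inl hsol) hy
    have : a * c ∈ cent1 x K := mul_mem
      ⟨h.hQK (hQR ha), comm_mem_symm (hx' a (Subgroup.mem_sup_left ha))⟩ ⟨h.hQK hc.1, h4 c hc x hx⟩
    exact this.2
  have h6 : (⁅Q, R⁆ ⊔ Y) ⊓ 𝐂(R) ≤ Y := fun x hx => h5 x hx.1 (h4 x ⟨h2 hx.1, hx.2⟩)
  have hBn : B ≤ 𝐍(⁅Q, R⁆ ⊔ Y) := CopAct.le_normalizer_sup (CopAct.le_normalizer_commutator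
    (inf_le_left.trans h.hAQ) (CopAct.le_normalizer_of_isMulCommutative hAc inf_le_left hRA)) h.hBY
  obtain ⟨u, hu, hu'⟩ := (h.count hrM hY le_sup_right h2 (fun x hx hxY => by
      by_contra hne
      push Not at hne
      exact hxY (h5 x hx hne))).2
    ⟨⟨fun a b => Subtype.ext (congrArg (Subtype.val : A → Γ)
      (hAc.is_comm.comm ⟨a, a.2.1⟩ ⟨b, b.2.1⟩))⟩⟩ hBn fun b hb hb1 x hx hxb => by
      have h7 : R ≤ Subgroup.zpowers b :=
        hR _ (Subgroup.zpowers_le.2 hb) (by rwa [Ne, Subgroup.zpowers_eq_bot])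
      exact mem_of_comm_mem (hRB.trans h.hBY) (CopAct.coprime_mono hcop le_rfl inf_le_left)
        (Or.inl hsol) le_sup_right h6 hx fun a ha => comm_mem_of_mem_zpowers (h.hBY hb) hxb (h7 ha)
  have hu2 := relIndex_eq_of_mul_card le_sup_right hu
  refine ⟨u, ?_, hu'.imp (fun e => ⟨e, ?_⟩) fun e => ⟨e.1, fun x hx => e.2 x hx.1 (h4 x hx)⟩⟩
  · have hn : C ≤ 𝐍(⁅Q, R⁆ ⊔ Y) := inf_le_left.trans (CopAct.le_normalizer_sup
      (Subgroup.normalizer_commutator_ge_left Q R) h.hQY)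
    have e1 : C ⊔ (⁅Q, R⁆ ⊔ Y) = Q := le_antisymm (sup_le inf_le_left h2) (by
      conv_lhs => rw [← CopAct.commutator_sup_centralizer hRQ hcop (Or.inl hsol)]
      exact sup_le (le_sup_left.trans le_sup_right) le_sup_left)
    have e2 := GT.relIndex_sup_of_le_normalizer hn
    rw [e1, ← Subgroup.inf_relIndex_right (⁅Q, R⁆ ⊔ Y) C, show (⁅Q, R⁆ ⊔ Y) ⊓ C = Y ⊓ C from
      le_antisymm (le_inf (fun x hx => h6 ⟨hx.1, hx.2.2⟩) inf_le_right)
        (inf_le_inf_right _ le_sup_right), Subgroup.inf_relIndex_right] at e2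
    rw [← e2, ← hu2, Subgroup.relIndex_mul_relIndex _ _ _ le_sup_right h2]
  · rw [e, one_pow] at hu2
    exact le_sup_left.trans (Subgroup.relIndex_eq_one.1 hu2)

end Split

end Cfsg.Agent.Loc.H78
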