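import Mathlib
import Cfsg.Agent.Loc.FpfTower
import Cfsg.Agent.FT.Quot

/-!
A module lemma: an abelian group `B` with a unique involution whose fixed space is small in
codimension and equal to the fixed space of the involution.
-/

set_option autoImplicit false

namespace Cfsg.Agent.Loc.H78

open Cfsg Module Cfsg.Agent.FT Cfsg.Agent.GT
open scoped commutatorElement

section Weights

variable {G : Type*} [Group G] [Finite G] {W : Type*} [AddCommGroup W] [Module ℂ W]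
  {F : Subgroup G} {ρ : G → Module.End ℂ W}

omit [Finite G] in
/-- The weight space of a weight vector. -/
theorem PRep.exists_wsp (h : PRep F ρ) {Z : Subgroup G} (hZ : Z ≤ F) {w : W} (hw0 : w ≠ 0)
    (hw : ∀ z ∈ Z, ∃ c : ℂ, ρ z w = c • w) :
    ∃ U : Submodule ℂ W, w ∈ U ∧ (∀ z ∈ Z, ∃ c : ℂ, ∀ v ∈ U, ρ z v = c • v) ∧
      (∀ g ∈ F, g ∈ cent2 Z (h.pker {w}) → ∀ v ∈ U, ρ g v ∈ U) ∧
      (∀ v ∈ U, v ≠ 0 → Z ⊓ h.pker {v} = Z ⊓ h.pker {w}) ∧
      ∀ z ∈ Z, ρ z w = w → ∀ v ∈ U, ρ z v = v := by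
  choose! lam hlam using hw
  let U : Submodule ℂ W :=
    { carrier := {v | ∀ z ∈ Z, ρ z v = lam z • v}
      zero_mem' := fun z _ => by simp
      add_mem' := fun ha hb z hz => by rw [map_add, ha z hz, hb z hz, smul_add]
      smul_mem' := fun c v hv z hz => by rw [map_smul, hv z hz, smul_comm] }
  have key : ∀ v ∈ U, v ≠ 0 → ∀ z ∈ Z, ρ z v = v → ∀ v' ∈ U, ρ z v' = v' := by
    intro v hv hv0 z hz e v' hv'
    have : lam z = 1 := smul_left_injective ℂ hv0 (by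
      change lam z • v = (1 : ℂ) • v
      rw [← hv z hz, e, one_smul])
    rw [hv' z hz, this, one_smul]
  refine ⟨U, hlam, fun z hz => ⟨lam z, fun v hv => hv z hz⟩, fun b hbF hb v hv z hz => ?_,
    fun v hv hv0 => ?_, key w hlam hw0⟩
  · have h3 := (inv_mem hb).2 z hz
    have h4 : ⁅b⁻¹, z⁆ ∈ Z := comm_mem_of_norm (inv_mem hb).1 hz
    rw [← h.mul_apply (hZ hz) hbF, show z * b = b * (⁅b⁻¹, z⁆ * z) by
      simp only [commutatorElement_def]; group, h.mul_apply hbF (mul_mem (hZ h4) (hZ hz)),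
      h.mul_apply (hZ h4) (hZ hz), hv z hz, map_smul,
      key w hlam hw0 _ h4 (h.mem_pker_single.1 h3).2 v hv, map_smul]
  · ext z
    refine and_congr_right fun hz => ?_
    change z ∈ h.pker {v} ↔ z ∈ h.pker {w}
    rw [h.mem_pker_single, h.mem_pker_single]
    exact and_congr_right fun _ => ⟨fun e => key v hv hv0 z hz e w hlam,
      fun e => key w hlam hw0 z hz e v hv⟩

theorem PRep.card_smul_nrm (h : PRep F ρ) {R B : Subgroup G} (hB : B ≤ F) (hRB : R ≤ B) {w : W}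
    (hw : nrm ρ R w ∈ pfix ρ B) :
    (Nat.card R : ℂ) • nrm ρ B w = (Nat.card B : ℂ) • nrm ρ R w := by
  rw [← nrm_of_mem_pfix hw, nrm_apply R, map_sum,
    Finset.sum_congr rfl (g := fun _ => nrm ρ B w), Finset.sum_const, Nat.cast_smul_eq_nsmul]
  · congr 1
    rw [← Set.ncard_eq_toFinset_card]
    rfl
  · intro a ha
    have ha' : a ∈ B := hRB (by simpa using ha)
    rw [h.nrm_comm hB (hB ha') (Subgroup.le_normalizer ha'), h.nrm_mem_pfix hB w a ha']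

theorem PRep.card_smul_nrm_stab (h : PRep F ρ) {Y R B : Subgroup G} (hY : Y ≤ F) (hB : B ≤ F)
    (hBY : B ≤ 𝐍(Y)) (hRB : R ≤ B) (hfix : pfix ρ R ≤ pfix ρ B) {w : W}
    (hw : ∀ y ∈ Y, ∃ c : ℂ, ρ y w = c • w) :
    (Nat.card R : ℂ) • nrm ρ (B ⊓ cent2 Y (h.pker {w})) w =
      (Nat.card B : ℂ) • nrm ρ (R ⊓ cent2 Y (h.pker {w})) w := by
  classical
  have h1 := h.card_smul_nrm hB hRB (hfix (h.nrm_mem_pfix (hRB.trans hB) w))
  have aux : ∀ S : Finset G, ∑ a ∈ S, ((Nat.card R : ℂ) - if a ∈ R then (Nat.card B : ℂ) else 0) •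
      ρ a w = (Nat.card R : ℂ) • ∑ a ∈ S, ρ a w -
        (Nat.card B : ℂ) • ∑ a ∈ S.filter (· ∈ R), ρ a w := by
    intro S
    simp only [sub_smul, Finset.sum_sub_distrib, Finset.smul_sum, ite_smul, zero_smul,
      Finset.sum_filter, smul_ite, smul_zero]
  have h2 := h.sum_filter_weight hY hw (Set.toFinite (B : Set G)).toFinset
    (fun a ha => ⟨hB (by simpa using ha), hBY (by simpa using ha)⟩)
    (fun a => (Nat.card R : ℂ) - if a ∈ R then (Nat.card B : ℂ) else 0) (by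
      rw [aux, sub_eq_zero, ← nrm_apply, h1, nrm_apply]
      congr 2
      ext a
      simpa using fun ha => hRB ha)
  rw [aux, sub_eq_zero] at h2
  rw [nrm_apply, nrm_apply]
  convert h2 using 3
  · ext a
    simp
  · ext a
    simp only [Set.Finite.mem_toFinset, SetLike.mem_coe, Subgroup.mem_inf, Finset.mem_filter]
    exact ⟨fun h => ⟨⟨hRB h.1, h.2⟩, h.1⟩, fun h => ⟨h.2, h.1.2⟩⟩

theorem nrm_zpowers_of_sq (h : PRep F ρ) {τ : G} (hτ : τ ^ 2 = 1) (hτ1 : τ ≠ 1) (v : W) :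
    nrm ρ (Subgroup.zpowers τ) v = v + ρ τ v := by
  classical
  have : (Set.toFinite (Subgroup.zpowers τ : Set G)).toFinset = {1, τ} := by
    ext x
    simp only [Set.Finite.mem_toFinset, SetLike.mem_coe, Finset.mem_insert, Finset.mem_singleton]
    constructor
    · rintro ⟨k, rfl⟩
      have h2 : τ ^ (2 : ℤ) = 1 := by exact_mod_cast hτ
      rcases Int.even_or_odd' k with ⟨m, rfl | rfl⟩
      · left; simp only [zpow_mul, h2, one_zpow]
      · right; simp only [zpow_add, zpow_mul, h2, one_zpow, one_mul, zpow_one]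
    · rintro (rfl | rfl)
      · exact one_mem _
      · exact Subgroup.mem_zpowers _
  rw [nrm_apply, this, Finset.sum_pair hτ1.symm, h.one]
  rfl

/-- Every weight that is moved by `P = [P, τ]` is stabilised by `B`. -/
theorem PRep.le_stab_of_inv (h : PRep F ρ) {Y P B : Subgroup G} (hY : Y ≤ F) (hP : P ≤ F)
    (hB : B ≤ F) (hBY : B ≤ 𝐍(Y)) (hBP : B ≤ 𝐍(P)) {τ : G} (hτB : τ ∈ B) (hτ : τ ^ 2 = 1)
    (hτ1 : τ ≠ 1) (hc : ∀ B' ≤ B, B' ≠ ⊥ → τ ∈ B') (hB2 : Nat.card B ≠ 2)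
    (hfix : pfix ρ (Subgroup.zpowers τ) ≤ pfix ρ B) (hPR : P ≤ ⁅P, Subgroup.zpowers τ⁆) {u : W}
    (hu0 : u ≠ 0) (hu : ∀ y ∈ Y, ∃ c : ℂ, ρ y u = c • u) (hPu : P ≤ cent2 Y (h.pker {u}))
    (hne : ¬ P ≤ h.pker {u}) : B ≤ cent2 Y (h.pker {u}) := by
  set R := Subgroup.zpowers τ
  have hRB : R ≤ B := Subgroup.zpowers_le.2 hτB
  have hR2 : Nat.card R = 2 := by
    rw [Nat.card_zpowers]; exact orderOf_eq_prime hτ hτ1
  obtain ⟨U, huU, hU1, hU2, hU3, -⟩ := h.exists_wsp hY hu0 hu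
  set S := cent2 Y (h.pker {u})
  by_cases h0 : B ⊓ S = ⊥
  · have h1 := h.card_smul_nrm_stab hY hB hBY hRB hfix hu
    have h2 : R ⊓ S = ⊥ := eq_bot_iff.2 (h0 ▸ inf_le_inf_right _ hRB)
    rw [h0, h2, hR2, nrm_of_mem_pfix (h.pfix_bot ▸ Submodule.mem_top), Subgroup.card_bot,
      Nat.cast_one, one_smul] at h1
    exact (hB2 (by exact_mod_cast (smul_left_injective ℂ hu0 h1).symm)).elim
  by_contra hBS
  have hRS : R ≤ B ⊓ S := Subgroup.zpowers_le.2 (hc _ inf_le_left h0)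
  have h1 : ∀ v ∈ U, ρ τ v = -v := by
    intro v hv
    by_cases hv0 : v = 0
    · simp [hv0]
    have h2 := h.card_smul_nrm_stab hY hB hBY hRB hfix (w := v) fun y hy =>
      (hU1 y hy).imp fun c hc => hc v hv
    rw [cent2_congr (hU3 v hv hv0), inf_eq_left.2 (hRS.trans inf_le_right),
      h.card_smul_nrm (inf_le_left.trans hB) hRS (pfix_anti inf_le_left
        (hfix (h.nrm_mem_pfix (hRB.trans hB) v))), ← sub_eq_zero, ← sub_smul, smul_eq_zero,
      nrm_zpowers_of_sq h hτ hτ1] at h2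
    rcases h2 with h2 | h2
    · refine (hBS (inf_eq_left.1 (Subgroup.eq_of_le_of_card_ge inf_le_left (le_of_eq ?_)))).elim
      exact_mod_cast (sub_eq_zero.1 h2).symm
    · exact eq_neg_of_add_eq_zero_right h2
  have h2 : R ≤ cent2 P (h.pker U) := Subgroup.zpowers_le.2 ⟨hBP hτB, fun x hx =>
    ⟨hP (comm_mem_of_norm (hBP hτB) hx), fun v hv => by
      have h3 := hU2 _ (hP (inv_mem hx)) (hPu (inv_mem hx)) v hv
      have h4 := h.comm_apply (hB hτB) (hP hx) (ρ x⁻¹ v)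
      rw [h1 _ h3, h.apply_inv (hP hx), h1 v hv, map_neg, h.apply_inv (hP hx), map_neg] at h4
      exact (neg_injective h4).symm⟩⟩
  exact hne fun x hx => h.mem_pker_single.2 ⟨hP hx, (comm_le_of_le_cent2 h2 (hPR hx)).2 u huU⟩

end Weights

theorem inv_arith {q t s k h : ℕ} (hq : q.Prime) (ht : t.Prime) (hq2 : q ≠ 2) (hqt : q ≠ t)
    (hs : s ≠ 0) (hk : k ≠ 0) (e : q ^ s + 1 = h) {m ε f : ℤ} (hε : ε = 1 ∨ ε = -1)
    (e1 : ((t ^ k : ℕ) : ℤ) = h * m + ε) (e2 : f = m ∨ f = m + ε)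
    (e3 : ((t ^ k : ℕ) : ℤ) ≤ f + 2 * s) : False := by
  have h3 : 3 ≤ q := by have := hq.two_le; omega
  have h1 : 1 < t ^ k := Nat.one_lt_pow hk ht.one_lt
  have h2 : 2 * s + 1 ≤ q ^ s := by
    have := one_add_mul_le_pow (a := (2 : ℤ)) (by norm_num) s
    have h4 : 3 ^ s ≤ q ^ s := Nat.pow_le_pow_left h3 s
    have h5 : ((3 ^ s : ℕ) : ℤ) = (1 + 2) ^ s := by norm_num
    omega
  subst e
  push_cast at e1 e3
  have h1' : (1 : ℤ) < (t : ℤ) ^ k := by exact_mod_cast h1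
  have h2' : 2 * (s : ℤ) + 1 ≤ (q : ℤ) ^ s := by exact_mod_cast h2
  have hm : 1 ≤ m := by
    by_contra hm
    have : ((q : ℤ) ^ s + 1) * m ≤ 0 := mul_nonpos_of_nonneg_of_nonpos (by positivity) (by omega)
    omega
  have h4 : (q : ℤ) ^ s * 1 ≤ (q : ℤ) ^ s * m := mul_le_mul_of_nonneg_left hm (by positivity)
  rcases hε with rfl | rfl
  · rcases e2 with rfl | rfl <;> nlinarith
  · have h5 : (q : ℤ) ^ s * m ≤ 2 * s + 1 := by rcases e2 with rfl | rfl <;> nlinarith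
    have h6 : m = 1 := by nlinarith
    subst h6
    have h7 : t ^ k = q ^ s := by
      have : (t : ℤ) ^ k = (q : ℤ) ^ s := by omega
      exact_mod_cast this
    exact hqt ((Nat.prime_dvd_prime_iff_eq hq ht).1
      (hq.dvd_of_dvd_pow (h7 ▸ dvd_pow_self q hs)))

section Module

variable {G : Type*} [Group G] [Finite G] {W : Type*} [AddCommGroup W] [Module ℂ W]
  [FiniteDimensional ℂ W] {F : Subgroup G} {ρ : G → Module.End ℂ W}

theorem PRep.comm_eq_bot_of_inv (h : PRep F ρ) {t q s : ℕ} [ht : Fact t.Prime] (hq : q.Prime)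
    (hq2 : q ≠ 2) (hqt : q ≠ t) (hs : s ≠ 0) {P₀ B : Subgroup G} (hP₀ : IsPGroup t P₀)
    (hP₀F : P₀ ≤ F) (hB : B ≤ F) (hBP₀ : B ≤ 𝐍(P₀)) (hBc : IsMulCommutative B)
    (hBt : ¬ t ∣ Nat.card B) (hcard : q ^ s + 1 = Nat.card B) {τ : G} (hτB : τ ∈ B)
    (hτ : τ ^ 2 = 1) (hc : ∀ B' ≤ B, B' ≠ ⊥ → τ ∈ B')
    (hfix : pfix ρ (Subgroup.zpowers τ) ≤ pfix ρ B)
    (hcodim : finrank ℂ W ≤ finrank ℂ (pfix ρ B) + 2 * s)
    (hfaith : ∀ x ∈ P₀, ρ x = 1 → x = 1) : ⁅P₀, Subgroup.zpowers τ⁆ = ⊥ := by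
  by_contra hne
  have hτ1 : τ ≠ 1 := by
    rintro rfl
    simp at hne
  set R := Subgroup.zpowers τ
  have hRB : R ≤ B := Subgroup.zpowers_le.2 hτB
  obtain ⟨P, hP0, hBP, hRP, hnt, hmin⟩ :=
    CopAct.exists_minimal_not_centralized hBP₀ (hRB.trans hBP₀) hne
  have hP : IsPGroup t P := hP₀.to_le hP0
  have hPF : P ≤ F := hP0.trans hP₀F
  have hcop : (Nat.card P).Coprime (Nat.card B) := CopAct.coprime_of_isPGroup_left hP hBt
  have hsP := CopAct.isSolvable_of_isPGroup hP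
  obtain ⟨s1, s2, -, s4, s5, -⟩ := CopAct.minimal_action_structure hP hBP hRP
    (CopAct.le_normalizer_of_isMulCommutative hBc le_rfl hRB)
    (((Nat.Prime.coprime_iff_not_dvd ht.out).2
      fun hd => hBt (hd.trans (Subgroup.card_dvd_of_le hRB))).symm) hnt hmin
  have hB2 : Nat.card B ≠ 2 := by
    have := Nat.one_lt_pow hs hq.one_lt
    omega
  set Z := P ⊓ 𝐂(P)
  have hZ0 : Z ≠ ⊥ := by
    intro e
    have h1 : ⁅P, P⁆ = ⊥ := s5.elim id fun h => h ▸ e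
    have h2 : Z = P := inf_eq_left.2 (CopAct.commutator_eq_bot_iff.1 h1)
    exact hnt (by rw [← h2, e, Subgroup.commutator_bot_left])
  have hZF : Z ≤ F := inf_le_left.trans hPF
  have hBZ : B ≤ 𝐍(Z) := CopAct.le_normalizer_inf hBP (CopAct.le_normalizer_centralizer hBP)
  have hPZ : P ≤ 𝐂(Z) := Subgroup.le_centralizer_iff.1 inf_le_right
  obtain ⟨⟨z, hz⟩, hz1⟩ := (Subgroup.ne_bot_iff_exists_ne_one).1 hZ0
  obtain ⟨v, hv⟩ : ∃ v, ρ z v ≠ v := by
    by_contra h1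
    push Not at h1
    exact hz1 (Subtype.ext (hfaith z (hP0 hz.1) (LinearMap.ext h1)))
  obtain ⟨w, -, hw0, hw, hwz⟩ := h.exists_weight_ne hZF (U := ⊤) (fun _ _ _ _ => trivial)
    (fun a ha b hb u _ => by
      rw [← h.mul_apply (hZF ha) (hZF hb), ← h.mul_apply (hZF hb) (hZF ha), hPZ hb.1 a ha])
    hz trivial hv
  have hBS := h.le_stab_of_inv hZF hPF hB hBZ hBP hτB hτ hτ1 hc hB2 hfix s1.ge hw0 hw
    (hPZ.trans (cent_le_cent2 _ _)) fun e => hwz (h.mem_pker_single.1 (e hz.1)).2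
  rcases s5 with s5 | s5
  · have e : Z = P := inf_eq_left.2 (CopAct.commutator_eq_bot_iff.1 s5)
    have := comm_le_of_le_cent2 (hRB.trans hBS)
    rw [e, s1] at this
    exact hwz (h.mem_pker_single.1 (this hz.1)).2
  obtain ⟨U, hwU, hU1, hU2, hU3, hU4⟩ := h.exists_wsp hZF hw0 hw
  have hUP : ∀ x ∈ P, ∀ v ∈ U, ρ x v ∈ U := fun x hx =>
    hU2 x (hPF hx) (cent_le_cent2 _ _ (hPZ hx))
  have hUB : ∀ x ∈ B, ∀ v ∈ U, ρ x v ∈ U := fun x hx => hU2 x (hB hx) (hBS hx)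
  set K := Z ⊓ h.pker {w}
  have hder : ∀ x ∈ P, ∀ y ∈ P, ⁅x, y⁆ ∈ Z := fun x hx y hy =>
    s5.ge (Subgroup.commutator_mem_commutator hx hy)
  have hKU : ∀ x ∈ K, ∀ v ∈ U, ρ x v = v := fun x hx =>
    hU4 x hx.1 (h.mem_pker_single.1 hx.2).2
  have hPK : P ≤ 𝐍(K) := CopAct.le_normalizer_of_le_centralizer
    (hPZ.trans (CopAct.centralizer_anti inf_le_left))
  have hBK : B ≤ 𝐍(K) := by
    rw [cent2_congr (L := K) (by simp only [K, ← inf_assoc, inf_idem])] at hBS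
    exact hBS.trans (cent2_le_norm inf_le_left)
  set Y := P ⊓ cent2 P K
  have hYF : Y ≤ F := inf_le_left.trans hPF
  have hPY : P ≤ 𝐍(Y) :=
    CopAct.le_normalizer_inf Subgroup.le_normalizer (le_norm_cent2 Subgroup.le_normalizer hPK)
  have hBY : B ≤ 𝐍(Y) := CopAct.le_normalizer_inf hBP (le_norm_cent2 hBP hBK)
  have hZY : Z ≤ Y := le_inf inf_le_left (inf_le_right.trans (cent_le_cent2 _ _))
  have hCZ : P ⊓ 𝐂(R) ≤ Z := s2.le.trans s5.ge
  have hRY : R ≤ cent2 Y (h.pker U) := Subgroup.zpowers_le.2 ⟨hBY hτB, fun y hy =>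
    ⟨hYF (comm_mem_of_norm (hBY hτB) hy), fun v hv => by
      by_contra hne
      obtain ⟨u, hu, hu0, hu1, hu2⟩ := h.exists_weight_ne hYF (fun g hg => hUP g hg.1)
        (fun a ha b hb u hu => by
          rw [h.comm_apply (hYF ha) (hYF hb)]
          exact hKU _ (ha.2.2 b hb.1) _ (hUP b hb.1 _ (hUP a ha.1 u hu)))
        (comm_mem_of_norm (hBY hτB) hy) hv hne
      have := h.le_stab_of_inv hYF hPF hB hBY hBP hτB hτ hτ1 hc hB2 hfix s1.ge hu0 hu1
        (fun x hx => ⟨hPY hx, fun y hy => h.mem_pker_single.2 ⟨hZF (hder x hx y hy.1),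
          hKU _ (comm_mem_symm (hy.2.2 x hx)) u hu⟩⟩) fun e => hwz (h.mem_pker_single.1
            ((hU3 u hu hu0).le ⟨hz, e hz.1⟩).2).2
      exact hu2 (h.mem_pker_single.1 ((this hτB).2 y hy)).2⟩⟩
  have S : ScalarSetup F ρ P B Y U :=
    { prep := h, hQ := hPF, hB := hB, hBQ := hBP, cop := hcop, comm := hBc, hYQ := inf_le_left,
      hQY := hPY, hBY := hBY, invQ := hUP, invB := hUB
      fix := fun b hb hb1 x hx hxb => by
        have h3 : R ≤ Subgroup.zpowers b := Subgroup.zpowers_le.2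
          (hc _ (Subgroup.zpowers_le.2 hb) (by rwa [Ne, Subgroup.zpowers_eq_bot]))
        exact mem_of_comm_mem (hRB.trans hBY) (CopAct.coprime_mono hcop.symm hRB inf_le_left)
          (Or.inl (CopAct.isSolvable_zpowers τ)) inf_le_left (hCZ.trans hZY) hx
          fun a ha => comm_mem_of_mem_zpowers (hBY hb) hxb (h3 ha)
      scal := fun y hy => by
        obtain ⟨x, hx, c, hc', rfl⟩ := CopAct.exists_eq_commutator_mul_centralizer
          (hRB.trans hBY) (CopAct.coprime_mono hcop.symm hRB inf_le_left)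
          (Or.inl (CopAct.isSolvable_zpowers τ)) hy
        have h1 := comm_le_of_le_cent2 hRY hx
        have h2 : c ∈ Z := hCZ ⟨hc'.1.1, hc'.2⟩
        obtain ⟨e, he⟩ := hU1 c h2
        exact ⟨e, fun v hv => by
          rw [h.mul_apply h1.1 (hZF h2), h1.2 _ (hUP c h2.1 v hv), he v hv]⟩
      nondeg := fun x hx hxY => by
        obtain ⟨x', hx', e⟩ := exists_comm_notMem hx hxY
        have h1 := hder x' hx' x hx
        exact ⟨x', hx', hZY h1, w, hwU, fun e' => e ⟨h1, h.mem_pker_single.2 ⟨hZF h1, e'⟩⟩⟩ }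
  obtain ⟨X, -, hX, hX'⟩ := S.exists_irr ((Submodule.ne_bot_iff _).2 ⟨w, hwU, hw0⟩)
  obtain ⟨m, ε, hε, e1, e2⟩ := hX'.resolve_left fun e => hτ1 (Subgroup.mem_bot.1 (e ▸ hτB))
  have hi := relIndex_eq_of_mul_card inf_le_left hX
  obtain ⟨d, hd⟩ := exists_relIndex_eq_pow hP Y
  obtain ⟨k, hk⟩ := eq_pow_of_sq_eq ht.out (hi.symm.trans hd)
  have hk0 : k ≠ 0 := by
    rintro rfl
    rw [hk, pow_zero, one_pow] at hi
    exact hwz (h.mem_pker_single.1
      ((s5.le.trans (comm_le_of_le_rad (Subgroup.relIndex_eq_one.1 hi))) hz).2).2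
  have h1 := Submodule.finrank_sup_add_finrank_inf_eq X (pfix ρ B)
  have h2 := Submodule.finrank_le (X ⊔ pfix ρ B)
  rw [hk] at e1 h1
  exact inv_arith hq ht.out hq2 hqt hs hk0 hcard hε e1 e2 (by omega)

/-- The same without faithfulness. -/
theorem PRep.comm_le_pker_of_inv (h : PRep F ρ) {t q s : ℕ} [ht : Fact t.Prime] (hq : q.Prime)
    (hq2 : q ≠ 2) (hqt : q ≠ t) {P B : Subgroup G} (hP : IsPGroup t P)
    (hPF : P ≤ F) (hB : B ≤ F) (hBP : B ≤ 𝐍(P)) (hBc : IsMulCommutative B)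
    (hBt : ¬ t ∣ Nat.card B) (hcard : q ^ s + 1 = Nat.card B) {τ : G} (hτB : τ ∈ B)
    (hτ : τ ^ 2 = 1) (hc : ∀ B' ≤ B, B' ≠ ⊥ → τ ∈ B')
    (hfix : pfix ρ (Subgroup.zpowers τ) ≤ pfix ρ B)
    (hcodim : finrank ℂ W ≤ finrank ℂ (pfix ρ B) + 2 * s) :
    pfix ρ ⁅P, Subgroup.zpowers τ⁆ = ⊤ := by
  let σ : Representation ℂ F W :=
    { toFun := fun g => ρ g, map_one' := h.one, map_mul' := fun a b => h.mul a a.2 b b.2 }
  let f := QuotientGroup.mk' σ.ker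
  let σ' : Representation ℂ (F ⧸ σ.ker) W := QuotientGroup.lift σ.ker σ fun _ hx => hx
  have hp : ∀ L ≤ F, pfix (σ' : _ → Module.End ℂ W) (mim f L) = pfix ρ L := by
    intro L hL
    ext v
    refine ⟨fun hv g hg => hv _ (mem_mim_of_mem f ⟨g, hL hg⟩ hg), fun hv g hg => ?_⟩
    obtain ⟨d, hd, rfl⟩ := mem_mim.1 hg
    exact hv d hd
  have hRF : Subgroup.zpowers τ ≤ F := Subgroup.zpowers_le.2 (hB hτB)
  have hz := mim_zpowers f ⟨τ, hB hτB⟩
  suffices e : ⁅mim f P, Subgroup.zpowers (f ⟨τ, hB hτB⟩)⁆ = ⊥ by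
    rw [← hp _ ((CopAct.commutator_le_of_le_normalizer
      ((Subgroup.zpowers_le.2 hτB).trans hBP)).trans hPF), mim_commutator f hPF hRF, hz, e,
      (prep_top σ').pfix_bot]
  by_cases h1 : f ⟨τ, hB hτB⟩ = 1
  · simp [h1]
  have hs : s ≠ 0 := by
    rintro rfl
    have h2 : pfix ρ B = ⊤ := Submodule.eq_top_of_finrank_eq
      (le_antisymm (Submodule.finrank_le _) (by simpa using hcodim))
    exact h1 ((QuotientGroup.eq_one_iff _).2
      (LinearMap.ext fun v => (h2 ▸ Submodule.mem_top : v ∈ pfix ρ B) τ hτB))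
  have hcB : Nat.card (mim f B) = Nat.card B := card_mim_of_inf_eq_bot hB (by
    by_contra h2
    obtain ⟨d, hd, e⟩ := (hc _ inf_le_right h2).1
    obtain rfl : d = ⟨τ, hB hτB⟩ := Subtype.ext e
    exact h1 hd)
  refine (prep_top σ').comm_eq_bot_of_inv hq hq2 hqt hs (isPGroup_mim f hP) le_top le_top
    (mim_le_norm f hBP) (isMulCommutative_mim f hBc) (by rwa [hcB]) (by rwa [hcB])
    (mem_mim_of_mem f _ hτB) (by
      rw [← map_pow, show (⟨τ, hB hτB⟩ : F) ^ 2 = 1 from Subtype.ext hτ, map_one])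
    (mem_map_of_forall_ne_bot f fun B' h2 h3 => ?_) (by rw [← hz, hp _ hRF, hp _ hB]; exact hfix)
    (by rwa [hp _ hB]) fun x _ hx => ?_
  · obtain ⟨d, hd, e⟩ := hc (B'.map F.subtype) (Subgroup.map_le_iff_le_comap.2 h2)
      (by rwa [Ne, Subgroup.map_eq_bot_iff_of_injective _ F.subtype_injective])
    obtain rfl : d = ⟨τ, hB hτB⟩ := Subtype.ext e
    exact hd
  · induction x using QuotientGroup.induction_on with | H x => ?_
    exact (QuotientGroup.eq_one_iff _).2 hx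

end Module

/-- The complex lift of an elementary abelian section. -/
theorem exists_lift_section {G : Type*} [Group G] [Finite G] {q : ℕ} [Fact q.Prime]
    {Q Y M : Subgroup G} (hQ : IsPGroup q Q) (hQY : Q ≤ 𝐍(Y)) (h1 : ⁅Q, Q⁆ ≤ Y)
    (h2 : ∀ x ∈ Q, x ^ q = 1) (hMQ : M ≤ 𝐍(Q)) (hMY : M ≤ 𝐍(Y)) (hM : ¬ q ∣ Nat.card M) :
    ∃ (n : ℕ) (ρ : G → Module.End ℂ (Fin n → ℂ)), PRep M ρ ∧
      ∀ L ≤ M, Y.relIndex (Q ⊓ 𝐂(L)) = q ^ finrank ℂ (pfix ρ L) := by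
  have hE : IsElementaryAbelian q (quot Q Y) := ⟨(isMulCommutative_quot_iff hQY).2 h1, by
    intro x hx
    obtain ⟨d, hd, rfl⟩ := mem_quot.1 hx
    rw [← map_pow, show d ^ q = 1 from Subtype.ext (h2 d hd), map_one]⟩
  obtain ⟨n, σ, hσ⟩ := exists_lift_elemAb hE ((coset Y).comp (Subgroup.inclusion hMY))
    (fun g => quot_le_norm Y hMQ
      (coset_mem_quot (N := Y) (H := M) (Subgroup.inclusion hMY g) g.2)) hM
  refine ⟨n, ofRep σ, prep_ofRep σ, fun L hL => ?_⟩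
  have e : (L.subgroupOf M).map ((coset Y).comp (Subgroup.inclusion hMY)) = quot L Y := by
    ext x
    rw [mem_quot]
    constructor
    · rintro ⟨d, hd, rfl⟩
      exact ⟨⟨d, hMY d.2⟩, hd, rfl⟩
    · rintro ⟨d, hd, rfl⟩
      exact ⟨⟨d, hL hd⟩, hd, rfl⟩
  have := hσ (L.subgroupOf M)
  rw [e, ← quot_inf_cent' hQY (hL.trans hMY) (hL.trans hMQ) (CopAct.coprime_mono
    (CopAct.coprime_of_isPGroup_left hQ hM).symm hL le_rfl)
    (Or.inr (CopAct.isSolvable_of_isPGroup hQ)), card_quot (inf_le_left.trans hQY)] at this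
  rw [this, pfix_ofRep σ hL, fixDim]

end Cfsg.Agent.Loc.H78
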