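import Mathlib
import Cfsg.Agent.GT.NilpCommutant

/-!
Lower bounds for the dimension of the commutant of an operator killed by a split polynomial.
-/

set_option autoImplicit false

namespace Cfsg.Agent.Loc.H78

open Module Polynomial Cfsg.Agent.GT

variable {K : Type*} [Field K] {V : Type*} [AddCommGroup V] [Module K V]

/-- A basis adapted to the flag of a split annihilating polynomial. -/
theorem exists_basis_level {T : End K V} (c : ℕ → K) {s : ℕ}
    (hT : aeval T (∏ i ∈ Finset.range s, (X - C (c i))) = 0) :
    ∃ (B : Set V) (b : Basis B K V) (h : B → ℕ), (∀ i, h i < s) ∧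
      (∀ i j, b.repr (T (b j) - c (h j) • b j) i ≠ 0 → h i < h j) ∧
      (0 < s → LinearMap.ker (T - c 0 • 1) ≤ Submodule.span K (b '' {i | h i = 0})) := by
  classical
  let F : ℕ → End K V := fun j => aeval T (∏ i ∈ Finset.range j, (X - C (c i)))
  have hF : ∀ j v, F (j + 1) v = F j (T v - c j • v) := fun j v => by
    simp only [F, Finset.prod_range_succ, map_mul, End.mul_apply]
    simp
  have hF' : ∀ j v, F (j + 1) v = T (F j v) - c j • F j v := fun j v => by
    simp only [F, Finset.prod_range_succ_comm, map_mul, End.mul_apply]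
    simp
  obtain ⟨B, hB, -, hs⟩ := exists_flag_set (fun j => LinearMap.ker (F j))
    (monotone_nat_of_le_succ fun j v hv => by
      rw [LinearMap.mem_ker] at hv ⊢
      rw [hF', hv]; simp) (by simp [F, Module.End.one_eq_id]) s
  have htop : ⊤ ≤ Submodule.span K (Set.range (fun x : B => (x : V))) := by
    have := hs s le_rfl
    simp only [F, hT, LinearMap.ker_zero, Submodule.top_coe, Set.inter_univ] at this
    simpa using this
  let b : Basis B K V := Basis.mk (v := fun x : B => (x : V)) hB htop
  have hb : ∀ i, b i = i := fun i => Basis.mk_apply _ _ i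
  have hex : ∀ v : V, ∃ k, F k v = 0 := fun v => ⟨s, by simp [F, hT]⟩
  have hpos : ∀ i : B, 0 < Nat.find (hex i) := fun i => by
    rw [Nat.find_pos]
    simpa [← hb, F] using b.ne_zero i
  have hle : ∀ v, Nat.find (hex v) ≤ s := fun v => Nat.find_le (by simp [F, hT])
  have e : ∀ n, B ∩ (LinearMap.ker (F n) : Set V) = b '' {i | F n i = 0} := fun n => by
    ext v
    constructor
    · rintro ⟨hv, hv'⟩
      exact ⟨⟨v, hv⟩, hv', hb _⟩
    · rintro ⟨i, hi, rfl⟩
      rw [hb]
      exact ⟨i.2, hi⟩
  refine ⟨B, b, fun i => Nat.find (hex i) - 1, fun i => ?_, fun i j hij => ?_, fun h0 v hv => ?_⟩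
  · have := hpos i
    have := hle i
    change Nat.find (hex i) - 1 < s
    omega
  · have h1 : T (b j) - c (Nat.find (hex j) - 1) • b j ∈
        LinearMap.ker (F (Nat.find (hex j) - 1)) := by
      rw [LinearMap.mem_ker, ← hF, Nat.sub_add_cancel (hpos j), hb]
      exact Nat.find_spec (hex j)
    have h2 := hs _ ((Nat.sub_le _ _).trans (hle j)) h1
    rw [e, Basis.mem_span_image] at h2
    have h3 : Nat.find (hex i) ≤ Nat.find (hex j) - 1 :=
      Nat.find_le (h2 (Finsupp.mem_support_iff.2 hij))
    have := hpos i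
    change Nat.find (hex i) - 1 < Nat.find (hex j) - 1
    omega
  · have h1 : v ∈ LinearMap.ker (F 1) := by
      rw [LinearMap.mem_ker, hF]
      have : T v - c 0 • v = 0 := by simpa using hv
      rw [this, map_zero]
    have h2 := hs 1 h0 h1
    rw [e] at h2
    refine Submodule.span_mono (Set.image_mono fun i hi => ?_) h2
    have : Nat.find (hex i) ≤ 1 := Nat.find_le hi
    change Nat.find (hex i) - 1 = 0
    omega

theorem card_pairs_le_commutant [FiniteDimensional K V] {T : End K V} {B : Type*} [Fintype B]
    (b : Basis B K V) (h : B → ℕ) (c : ℕ → K)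
    (hA : ∀ i j, b.repr (T (b j) - c (h j) • b j) i ≠ 0 → h i < h j) :
    Fintype.card {x : B × B // h x.1 = h x.2} ≤ finrank K (commutant T) := by
  classical
  set A := LinearMap.toMatrix b b T with hAdef
  have hA' : ∀ i j, A i j - (if i = j then c (h j) else 0) ≠ 0 → h i < h j := fun i j hij =>
    hA i j (by
      rw [hAdef, LinearMap.toMatrix_apply] at hij
      simpa [Finsupp.single_apply, eq_comm] using hij)
  have hA1 : ∀ i j, h j ≤ h i → A i j = if i = j then c (h j) else 0 := fun i j hij => by
    by_contra hc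
    exact absurd (hA' i j (sub_ne_zero.2 hc)) (not_lt.2 hij)
  let ex : ({x : B × B // h x.1 ≤ h x.2} → K) →ₗ[K] Matrix B B K :=
    { toFun := fun f => Matrix.of fun i j => if H : h i ≤ h j then f ⟨(i, j), H⟩ else 0
      map_add' := fun f g => by
        ext i j
        by_cases H : h i ≤ h j <;> simp [H]
      map_smul' := fun c f => by
        ext i j
        by_cases H : h i ≤ h j <;> simp [H] }
  have hex : ∀ f i j, ex f i j = if H : h i ≤ h j then f ⟨(i, j), H⟩ else 0 := fun _ _ _ => rfl
  have hexi : Function.Injective ex := fun f g hfg => by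
    ext ⟨⟨i, j⟩, H⟩
    have := congrFun (congrFun hfg i) j
    simpa [hex, show h i ≤ h j from H] using this
  let Ψ : ({x : B × B // h x.1 ≤ h x.2} → K) →ₗ[K] ({x : B × B // h x.1 < h x.2} → K) :=
    { toFun := fun f x => (A * ex f - ex f * A) x.1.1 x.1.2
      map_add' := fun f g => by
        ext x
        simp only [map_add, mul_add, add_mul, Matrix.sub_apply, Matrix.add_apply, Pi.add_apply]
        ring
      map_smul' := fun c f => by
        ext x
        simp [mul_sub] }
  have hker : ∀ f ∈ LinearMap.ker Ψ, A * ex f = ex f * A := fun f hf => by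
    ext i j
    by_cases H : h i < h j
    · exact sub_eq_zero.1 (congrFun (LinearMap.mem_ker.1 hf) ⟨(i, j), H⟩)
    · rw [Matrix.mul_apply, Matrix.mul_apply, Finset.sum_eq_single i, Finset.sum_eq_single j]
      · rw [hA1 i i le_rfl, hA1 j j le_rfl, if_pos rfl, if_pos rfl]
        by_cases H' : h i ≤ h j
        · rw [le_antisymm H' (not_lt.1 H), mul_comm]
        · rw [hex, dif_neg H', mul_zero, zero_mul]
      · intro k _ hk
        by_cases h1 : h i ≤ h k
        · rw [hA1 k j (by omega), if_neg hk, mul_zero]
        · rw [hex, dif_neg h1, zero_mul]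
      · simp
      · intro k _ hk
        by_cases h1 : h k ≤ h j
        · rw [hA1 i k (by omega), if_neg hk.symm, zero_mul]
        · rw [hex, dif_neg h1, mul_zero]
      · simp
  have h1 : finrank K (LinearMap.ker Ψ) ≤ finrank K (commutant T) := by
    refine LinearMap.finrank_le_finrank_of_injective
      (f := LinearMap.codRestrict (commutant T)
        ((Matrix.toLin b b).toLinearMap ∘ₗ ex ∘ₗ (LinearMap.ker Ψ).subtype) fun f => ?_) ?_
    · rw [mem_commutant, ← Matrix.toLin_toMatrix b b T, ← hAdef]
      change Matrix.toLin b b A ∘ₗ Matrix.toLin b b (ex f) =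
        Matrix.toLin b b (ex f) ∘ₗ Matrix.toLin b b A
      rw [← Matrix.toLin_mul, ← Matrix.toLin_mul, hker f f.2]
    · intro f g hfg
      exact Subtype.ext (hexi ((Matrix.toLin b b).injective (congrArg Subtype.val hfg)))
  have h2 := LinearMap.finrank_range_add_finrank_ker Ψ
  have h3 := Submodule.finrank_le (LinearMap.range Ψ)
  rw [Module.finrank_fintype_fun_eq_card] at h2 h3
  have h4 : Fintype.card {x : B × B // h x.1 ≤ h x.2} =
      Fintype.card {x : B × B // h x.1 < h x.2} + Fintype.card {x : B × B // h x.1 = h x.2} := by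
    simp only [Fintype.card_subtype]
    rw [← Finset.card_union_of_disjoint (Finset.disjoint_filter.2 fun x _ h1 => h1.ne),
      ← Finset.filter_or]
    simp only [le_iff_lt_or_eq]
  omega

theorem exists_levels [FiniteDimensional K V] {T : End K V} (c : ℕ → K) {s : ℕ}
    (hT : aeval T (∏ i ∈ Finset.range s, (X - C (c i))) = 0) :
    ∃ n : ℕ → ℕ, ∑ i ∈ Finset.range s, n i = finrank K V ∧
      ∑ i ∈ Finset.range s, n i ^ 2 ≤ finrank K (commutant T) ∧
      (0 < s → finrank K (LinearMap.ker (T - c 0 • 1)) ≤ n 0) := by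
  classical
  obtain ⟨B, b, h, hs, hA, h0⟩ := exists_basis_level c hT
  have := FiniteDimensional.fintypeBasisIndex b
  refine ⟨fun a => (Finset.univ.filter fun i => h i = a).card, ?_, ?_, fun hs0 => ?_⟩
  · rw [finrank_eq_card_basis b]
    exact (Finset.card_eq_sum_card_fiberwise fun i _ => by simpa using hs i).symm
  · refine le_trans (le_of_eq ?_) (card_pairs_le_commutant b h c hA)
    rw [Fintype.card_subtype, Finset.card_eq_sum_card_fiberwise (f := fun x => h x.1)
      (t := Finset.range s) fun x _ => by simpa using hs x.1]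
    refine Finset.sum_congr rfl fun a _ => ?_
    rw [sq, ← Finset.card_product]
    congr 1
    ext x
    simp only [Finset.mem_filter, Finset.mem_univ, true_and, Finset.mem_product]
    omega
  · refine (Submodule.finrank_mono (h0 hs0)).trans ?_
    have e : b '' {i | h i = 0} = ↑((Finset.univ.filter fun i => h i = 0).image b) := by
      simp
    rw [e]
    exact (finrank_span_finset_le_card _).trans Finset.card_image_le

theorem exists_prod_of_monic [IsAlgClosed K] (s : ℕ) : ∀ q : K[X], q.Monic → q.natDegree = s →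
    ∃ c : ℕ → K, q = ∏ i ∈ Finset.range s, (X - C (c i)) := by
  induction s with
  | zero => exact fun q hq h => ⟨0, by simpa using hq.natDegree_eq_zero.1 h⟩
  | succ s ih =>
    intro q hq h
    obtain ⟨a, ha⟩ := IsAlgClosed.exists_root q (by
      rw [degree_eq_natDegree hq.ne_zero, h]; exact_mod_cast s.succ_ne_zero)
    obtain ⟨q', rfl⟩ := dvd_iff_isRoot.2 ha
    have hq' := (monic_X_sub_C a).of_mul_monic_left hq
    rw [(monic_X_sub_C a).natDegree_mul hq', natDegree_X_sub_C] at h
    obtain ⟨c, rfl⟩ := ih q' hq' (by omega)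
    exact ⟨fun i => Nat.casesOn i a c, by rw [Finset.prod_range_succ']; exact mul_comm _ _⟩

variable [IsAlgClosed K] [FiniteDimensional K V]

theorem sq_le_of_aeval {T : End K V} {q : K[X]} (hq : q.Monic) (hT : aeval T q = 0) :
    finrank K V ^ 2 ≤ q.natDegree * finrank K (commutant T) := by
  obtain ⟨c, hc⟩ := exists_prod_of_monic _ q hq rfl
  obtain ⟨n, h1, h2, -⟩ := exists_levels c (hc ▸ hT)
  rw [← h1]
  refine le_trans ?_ (Nat.mul_le_mul_left _ h2)
  simpa using sq_sum_le_card_mul_sum_sq (s := Finset.range q.natDegree) (f := n)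

theorem le_finrank_commutant (T : End K V) : finrank K V ≤ finrank K (commutant T) := by
  have := sq_le_of_aeval T.charpoly_monic T.aeval_self_charpoly
  rw [LinearMap.charpoly_natDegree, sq] at this
  rcases Nat.eq_zero_or_pos (finrank K V) with h | h
  · omega
  · exact Nat.le_of_mul_le_mul_left this h

theorem exists_sq_le_of_aeval {T : End K V} {q : K[X]} (hq : q.Monic)
    (hT : aeval T ((X - C 1) * q) = 0) :
    ∃ u m : ℕ, u + m = finrank K V ∧ finrank K (LinearMap.ker (T - 1)) ≤ u ∧
      m ^ 2 + q.natDegree * u ^ 2 ≤ q.natDegree * finrank K (commutant T) := by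
  obtain ⟨c, hc⟩ := exists_prod_of_monic _ q hq rfl
  obtain ⟨n, h1, h2, h3⟩ := exists_levels (T := T) (fun i => Nat.casesOn i 1 c)
    (s := q.natDegree + 1) (by rw [Finset.prod_range_succ', mul_comm, ← hT]; congr; exact hc.symm)
  rw [Finset.sum_range_succ'] at h1 h2
  refine ⟨n 0, _, by rw [add_comm, h1], by
    have := h3 (Nat.succ_pos _)
    rwa [show (Nat.casesOn 0 1 c : K) = 1 from rfl, one_smul] at this, ?_⟩
  refine le_trans ?_ (Nat.mul_le_mul_left _ h2)
  rw [mul_add]
  refine Nat.add_le_add_right ?_ _
  simpa using sq_sum_le_card_mul_sum_sq (s := Finset.range q.natDegree) (f := fun i => n (i + 1))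

end Cfsg.Agent.Loc.H78
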