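import Mathlib
import Cfsg.Agent.Loc.TurLin
import Cfsg.Agent.Loc.FpfRep
import Cfsg.Agent.GT.ModRep2

/-!
A group of class two modulo scalars, normalised by a cyclic group acting semiregularly:
dimension counts over an algebraically closed field.
-/

set_option autoImplicit false

namespace Cfsg.Agent.Loc.H78

open Cfsg Module Polynomial Cfsg.Agent.FT Cfsg.Agent.GT
open scoped commutatorElement

variable {k : Type*} [Field k] {G : Type*} [Group G] {W : Type*} [AddCommGroup W] [Module k W]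

/-- The representation of a subgroup of the domain. -/
def PRep.rep {M : Subgroup G} {ρ : G → End k W} (h : PRep M ρ) {L : Subgroup G} (hL : L ≤ M) :
    Representation k L W where
  toFun x := ρ x
  map_one' := h.one
  map_mul' a b := h.mul a (hL a.2) b (hL b.2)

structure HS (M : Subgroup G) (ρ : G → End k W) (L Y : Subgroup G) (U : Submodule k W) :
    Prop where
  prep : PRep M ρ
  hL : L ≤ M
  hYL : Y ≤ L
  card : (Nat.card L : k) ≠ 0
  invL : ∀ x ∈ L, ∀ u ∈ U, ρ x u ∈ U
  der : ∀ x ∈ L, ∀ y ∈ L, ⁅x, y⁆ ∈ Y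
  scal : ∀ y ∈ Y, ∃ c : k, ∀ u ∈ U, ρ y u = c • u
  nondeg : ∀ x ∈ L, x ∉ Y → ∃ x' ∈ L, ∃ u ∈ U, ρ ⁅x', x⁆ u ≠ u

variable {M L Y : Subgroup G} {ρ : G → End k W} {U : Submodule k W}

theorem PRep.pow_mem (h : PRep M ρ) {g : G} (hg : g ∈ M) {X : Submodule k W}
    (hX : ∀ u ∈ X, ρ g u ∈ X) (n : ℕ) : ∀ u ∈ X, ρ (g ^ n) u ∈ X := by
  induction n with
  | zero => intro u hu; rwa [pow_zero, h.one]
  | succ n ih => intro u hu; rw [pow_succ', h.mul_apply hg (M.pow_mem hg n)]; exact hX _ (ih u hu)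

theorem PRep.zpowers_mem [Finite G] (h : PRep M ρ) {g : G} (hg : g ∈ M) {X : Submodule k W}
    (hX : ∀ u ∈ X, ρ g u ∈ X) {b : G} (hb : b ∈ Subgroup.zpowers g) : ∀ u ∈ X, ρ b u ∈ X := by
  obtain ⟨n, rfl⟩ := (mem_powers_iff_mem_zpowers.2 hb : b ∈ Submonoid.powers g)
  exact h.pow_mem hg hX n

theorem HS.cardY [Finite G] (h : HS M ρ L Y U) : (Nat.card Y : k) ≠ 0 := fun e => h.card (by
  obtain ⟨c, hc⟩ := Subgroup.card_dvd_of_le h.hYL
  rw [hc, Nat.cast_mul, e, zero_mul])

theorem HS.hLY [Finite G] (h : HS M ρ L Y U) : L ≤ 𝐍(Y) :=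
  le_norm_of_conj_mem fun a ha x hx => by
    rw [show a * x * a⁻¹ = ⁅a, x⁆ * x by simp only [commutatorElement_def]; group]
    exact mul_mem (h.der a ha x (h.hYL hx)) hx

theorem card_filter_mem [Finite G] [Fintype L] (hYL : Y ≤ L) [DecidablePred (· ∈ Y)] :
    (Finset.univ.filter fun x : L => (x : G) ∈ Y).card = Nat.card Y := by
  rw [← Nat.card_congr (Subgroup.subgroupOfEquivOfLe hYL).toEquiv, ← Fintype.card_subtype,
    ← Nat.card_eq_fintype_card]
  rfl

section Irr

variable [Finite G] [IsAlgClosed k] [FiniteDimensional k W] (h : HS M ρ L Y U)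
  {X : Submodule k W} (hXU : X ≤ U) {hX : ∀ m, X ≤ X.comap (h.prep.rep h.hL m)}
  (hτ : IrrRep ((h.prep.rep h.hL).subrepresentation X hX))
include hXU hτ

omit [Finite G] [IsAlgClosed k] [FiniteDimensional k W] hτ in
theorem HS.scal_irr {y : L} (hy : (y : G) ∈ Y) : ∃ c : k, (∀ u ∈ U, ρ y u = c • u) ∧
    (h.prep.rep h.hL).subrepresentation X hX y = c • (1 : End k X) := by
  obtain ⟨c, hc⟩ := h.scal y hy
  exact ⟨c, hc, LinearMap.ext fun u => Subtype.ext (hc u (hXU u.2))⟩

omit [Finite G] [IsAlgClosed k] [FiniteDimensional k W] in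
theorem HS.mem_scalarSub {x : L} :
    x ∈ scalarSub ((h.prep.rep h.hL).subrepresentation X hX) ↔ (x : G) ∈ Y := by
  refine ⟨fun ⟨c, hc⟩ => ?_, fun hx => (h.scal_irr hXU hx).imp fun _ hc => hc.2⟩
  by_contra hx
  obtain ⟨x', hx', u, hu, hne⟩ := h.nondeg x x.2 hx
  obtain ⟨e, he, he'⟩ := h.scal_irr hXU (hX := hX) (y := ⁅(⟨x', hx'⟩ : L), x⁆)
    (h.der x' hx' x x.2)
  set τ := (h.prep.rep h.hL).subrepresentation X hX
  have h1 : τ ⁅(⟨x', hx'⟩ : L), x⁆ = 1 := by
    rw [commutatorElement_def, map_mul, map_mul, map_mul, hc, mul_smul_comm, mul_one,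
      smul_mul_assoc, ← map_mul, mul_inv_cancel, map_one, ← hc, ← map_mul, mul_inv_cancel, map_one]
  have := hτ.nontrivial
  obtain ⟨v, hv⟩ := exists_ne (0 : X)
  have h2 : e = 1 := smul_left_injective k hv (by
    have := LinearMap.congr_fun (he'.symm.trans h1) v
    simpa using this)
  exact hne (by have := he u hu; rwa [h2, one_smul] at this)

omit [Finite G] in
theorem HS.trace_eq_zero {x : L} (hx : (x : G) ∉ Y) :
    LinearMap.trace k X ((h.prep.rep h.hL).subrepresentation X hX x) = 0 :=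
  hτ.trace_eq_zero (fun a b => (h.mem_scalarSub hXU hτ).2 (h.der a a.2 b b.2))
    fun e => hx ((h.mem_scalarSub hXU hτ).1 e)

theorem HS.card_le : Nat.card L ≤ finrank k X ^ 2 * Nat.card Y := by
  have h1 := hτ.index_scalarSub_le h.card
    fun a b => (h.mem_scalarSub hXU hτ).2 (h.der a a.2 b b.2)
  have e : scalarSub ((h.prep.rep h.hL).subrepresentation X hX) = Y.subgroupOf L :=
    Subgroup.ext fun x => h.mem_scalarSub hXU hτ
  rw [e] at h1
  rw [← (Y.subgroupOf L).index_mul_card,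
    Nat.card_congr (Subgroup.subgroupOfEquivOfLe h.hYL).toEquiv]
  exact Nat.mul_le_mul_right _ h1

theorem HS.sum_trace [Fintype L] (z : L) {u : W} (hu : u ∈ U) :
    ∑ x : L, LinearMap.trace k X ((h.prep.rep h.hL).subrepresentation X hX (z * x⁻¹)) • ρ x u =
      ((Nat.card Y : k) * finrank k X) • ρ z u := by
  classical
  rw [← Equiv.sum_comp ((Equiv.inv L).trans (Equiv.mulRight z)),
    ← Finset.sum_filter_add_sum_filter_not _ (fun x : L => (x : G) ∈ Y),
    Finset.sum_eq_zero (s := Finset.univ.filter fun x : L => ¬ (x : G) ∈ Y), add_zero,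
    Finset.sum_congr rfl (g := fun _ => (finrank k X : k) • ρ z u), Finset.sum_const,
    card_filter_mem h.hYL, ← Nat.cast_smul_eq_nsmul k, smul_smul]
  · intro y hy
    obtain ⟨c, hc, hc'⟩ := h.scal_irr hXU (hX := hX) (Finset.mem_filter.1 hy).2
    have e : z * (y⁻¹ * z)⁻¹ = y := by group
    simp only [Equiv.trans_apply, Equiv.inv_apply, Equiv.coe_mulRight, e, hc', map_smul,
      LinearMap.trace_one, smul_eq_mul]
    rw [mul_comm, ← smul_smul, ← hc _ (h.invL _ (y⁻¹ * z).2 u hu),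
      ← h.prep.mul_apply (h.hL y.2) (h.hL (y⁻¹ * z).2)]
    simp
  · intro y hy
    have e : z * (y⁻¹ * z)⁻¹ = y := by group
    simp only [Equiv.trans_apply, Equiv.inv_apply, Equiv.coe_mulRight, e]
    rw [h.trace_eq_zero hXU hτ (Finset.mem_filter.1 hy).2, zero_smul]

/-- An operator in the span of the group that kills an irreducible piece kills everything. -/
theorem HS.eq_zero_of_span {f : End k W}
    (hf : f ∈ Submodule.span k (Set.range fun x : L => ρ x)) (h0 : ∀ v ∈ X, f v = 0) :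
    ∀ u ∈ U, f u = 0 := by
  have := Fintype.ofFinite L
  obtain ⟨β, rfl⟩ := (Submodule.mem_span_range_iff_exists_fun k).1 hf
  intro u hu
  set τ := (h.prep.rep h.hL).subrepresentation X hX
  have h1 : ∑ z, β z • τ z = 0 := LinearMap.ext fun v => Subtype.ext (by
    have := h0 v v.2
    simp only [LinearMap.sum_apply, LinearMap.smul_apply] at this ⊢
    rw [Submodule.coe_sum]
    exact this)
  have h2 : ∑ x : L, LinearMap.trace k X ((∑ z, β z • τ z) * τ x⁻¹) • ρ x u = 0 := by
    simp [h1]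
  simp only [Finset.sum_mul, smul_mul_assoc, map_sum, map_smul, ← map_mul, smul_eq_mul,
    Finset.sum_smul, ← smul_smul] at h2
  rw [Finset.sum_comm] at h2
  simp only [← Finset.smul_sum] at h2
  simp only [τ, h.sum_trace hXU hτ _ hu, smul_comm (β _), ← Finset.smul_sum] at h2
  simpa using (smul_eq_zero.1 h2).resolve_left
    (mul_ne_zero h.cardY (hτ.finrank_ne_zero h.card))

/-- The orbit count. -/
theorem HS.count {g : G} (hg : g ∈ M) (hgL : g ∈ 𝐍(L)) (hgY : g ∈ 𝐍(Y)) {T : End k X}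
    (hT : ∀ v, (T v : W) = ρ g v) {N : ℕ}
    (hsemi : ∀ x ∈ L, x ∉ Y → ∀ i, 0 < i → i < N → g ^ i * x * (g ^ i)⁻¹ * x⁻¹ ∉ Y) :
    N * finrank k (commutant T) * Nat.card Y + Nat.card Y ≤ N * Nat.card Y + Nat.card L := by
  classical
  have := Fintype.ofFinite L
  set τ := (h.prep.rep h.hL).subrepresentation X hX
  have hB : Subgroup.zpowers g ≤ 𝐍(L) := Subgroup.zpowers_le.2 hgL
  have hBY : Subgroup.zpowers g ≤ 𝐍(Y) := Subgroup.zpowers_le.2 hgY
  let S : Setoid L :=
    { r := fun x x' => ∃ b ∈ Subgroup.zpowers g, (x' : G) * (b * x * b⁻¹)⁻¹ ∈ Y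
      iseqv :=
        { refl := fun x => ⟨1, one_mem _, by simp⟩
          symm := by
            rintro x y ⟨b, hb, e⟩
            refine ⟨b⁻¹, inv_mem hb, ?_⟩
            have := CopAct.conj_mem' hBY hb (inv_mem e)
            convert this using 1
            group
          trans := by
            rintro x y z ⟨b, hb, e⟩ ⟨b', hb', e'⟩
            refine ⟨b' * b, mul_mem hb' hb, ?_⟩
            have := mul_mem e' (CopAct.conj_mem hBY hb' e)
            convert this using 1
            group } }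
  have := Fintype.ofFinite (Quotient S)
  have hTu : IsUnit T := (LinearMap.isUnit_iff_ker_eq_bot T).2 (eq_bot_iff.2 fun v hv => by
    by_contra h0
    exact h.prep.apply_ne_zero hg (fun e => h0 (Subtype.ext e))
      (by rw [← hT, LinearMap.mem_ker.1 hv]; rfl))
  obtain ⟨T', hT1, hT2⟩ := isUnit_iff_exists.1 hTu
  have h1 : finrank k (commutant T) ≤ Fintype.card (Quotient S) := by
    let Θ : commutant T →ₗ[k] (Quotient S → k) :=
      { toFun := fun A c => LinearMap.trace k X (A * τ c.out⁻¹)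
        map_add' := fun A B => by ext c; simp [add_mul]
        map_smul' := fun c A => by ext x; simp }
    rw [← Module.finrank_fintype_fun_eq_card k]
    suffices hk : ∀ A : End k X, A ∈ commutant T →
        (∀ c : Quotient S, LinearMap.trace k X (A * τ c.out⁻¹) = 0) → A = 0 from
      LinearMap.finrank_le_finrank_of_injective (f := Θ)
        fun A B e => Subtype.ext (sub_eq_zero.1 (hk _ (sub_mem A.2 B.2) fun c => by
          rw [sub_mul, map_sub]; exact sub_eq_zero.2 (congrFun e c)))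
    intro A hAc hA
    have h2 : ∀ x y : L, (y : G) = g * x * g⁻¹ →
        LinearMap.trace k X (A * τ y⁻¹) = LinearMap.trace k X (A * τ x⁻¹) := fun x y e => by
      have e1 : τ y⁻¹ * T = T * τ x⁻¹ := LinearMap.ext fun v => Subtype.ext (by
        change ρ (y⁻¹ : L) (T v) = T (τ x⁻¹ v)
        rw [hT, hT]
        change _ = ρ g (ρ (x⁻¹ : L) v)
        rw [← h.prep.mul_apply (h.hL y⁻¹.2) hg, ← h.prep.mul_apply hg (h.hL x⁻¹.2)]
        congr 2
        simp [e, mul_assoc])
      rw [← mul_one (τ y⁻¹), ← hT1, ← mul_assoc (τ _), e1, ← mul_assoc, LinearMap.trace_mul_comm,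
        ← mul_assoc A, ← mem_commutant.1 hAc, ← mul_assoc, ← mul_assoc, hT2, one_mul]
    have h3 : ∀ (n : ℕ) (x y : L), (y : G) = g ^ n * x * (g ^ n)⁻¹ →
        LinearMap.trace k X (A * τ y⁻¹) = LinearMap.trace k X (A * τ x⁻¹) := fun n => by
      induction n with
      | zero => intro x y e; rw [show y = x from Subtype.ext (by simpa using e)]
      | succ n ih =>
        intro x y e
        rw [← ih x ⟨_, CopAct.conj_mem hB (Subgroup.npow_mem_zpowers g n) x.2⟩ rfl]
        exact h2 _ _ (by rw [e, pow_succ']; group)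
    have h4 : ∀ x : L, LinearMap.trace k X (A * τ x⁻¹) = 0 := fun x => by
      obtain ⟨b, hb, e⟩ := Quotient.mk_out (s := S) x
      obtain ⟨n, rfl⟩ := (mem_powers_iff_mem_zpowers.2 hb : b ∈ Submonoid.powers g)
      let x' : L := ⟨_, CopAct.conj_mem hB hb (Quotient.mk S x).out.2⟩
      obtain ⟨c, -, hc⟩ := h.scal_irr hXU (hX := hX) (y := (x * x'⁻¹)⁻¹) (inv_mem e)
      have h5 := hA (Quotient.mk S x)
      rw [show x⁻¹ = x'⁻¹ * (x * x'⁻¹)⁻¹ by group, τ.map_mul, ← mul_assoc]
      change LinearMap.trace k X (_ * (h.prep.rep h.hL).subrepresentation X hX _) = 0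
      rw [hc, mul_smul_comm, mul_one, map_smul, h3 n _ x' rfl]
      exact smul_eq_zero_of_right _ h5
    have h6 := hτ.sum_trace_smul h.card A
    simp only [h4, zero_smul, Finset.sum_const_zero] at h6
    exact (smul_eq_zero.1 h6.symm).resolve_left
      (div_ne_zero h.card (hτ.finrank_ne_zero h.card))
  have hout : ∀ c : Quotient S, c ≠ Quotient.mk S 1 → (c.out : G) ∉ Y := fun c hc e => hc (by
    rw [← c.out_eq]
    exact (Quotient.sound (⟨1, one_mem _, by simpa using e⟩ : S.r 1 c.out)).symm)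
  let φ : ({c : Quotient S // c ≠ Quotient.mk S 1} × Fin N × Y) ⊕ Y → L := fun z => match z with
    | Sum.inl (c, i, y) => ⟨y * (g ^ (i : ℕ) * c.1.out * (g ^ (i : ℕ))⁻¹), mul_mem (h.hYL y.2)
        (CopAct.conj_mem hB (Subgroup.npow_mem_zpowers g i) c.1.out.2)⟩
    | Sum.inr y => ⟨y, h.hYL y.2⟩
  have hnY : ∀ c i y, (φ (Sum.inl (c, i, y)) : G) ∉ Y := fun c i y e => hout c.1 c.2 (by
    have := CopAct.conj_mem' hBY (Subgroup.npow_mem_zpowers g i) ((mul_mem_cancel_left y.2).1 e)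
    simpa [mul_assoc] using this)
  have hcls : ∀ c i y, Quotient.mk S (φ (Sum.inl (c, i, y))) = c.1 := fun c i y => by
    rw [← c.1.out_eq]
    exact (Quotient.sound (⟨_, Subgroup.npow_mem_zpowers g i, by
      simp only [φ, mul_inv_cancel_right, SetLike.coe_mem]⟩ :
      S.r c.1.out (φ (Sum.inl (c, i, y))))).symm
  have key : ∀ (x : G) (i j : ℕ) (y y' : G), x ∈ L → x ∉ Y → i < j → j < N → y ∈ Y → y' ∈ Y →
      y * (g ^ i * x * (g ^ i)⁻¹) ≠ y' * (g ^ j * x * (g ^ j)⁻¹) := by
    intro x i j y y' hx hxY hij hj hy hy' e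
    obtain ⟨l, rfl⟩ := Nat.exists_eq_add_of_lt hij
    refine hsemi x hx hxY (l + 1) l.succ_pos (by omega) ?_
    have := CopAct.conj_mem' hBY (Subgroup.npow_mem_zpowers g i) (mul_mem (inv_mem hy') hy)
    convert this using 1
    rw [show y = y' * (g ^ (i + l + 1) * x * (g ^ (i + l + 1))⁻¹) * (g ^ i * x * (g ^ i)⁻¹)⁻¹ by
      rw [← e]; group, add_assoc, pow_add]
    group
  have hφ : Function.Injective φ := by
    rintro (⟨c, i, y⟩ | y) (⟨c', i', y'⟩ | y') e
    · obtain rfl : c = c' := Subtype.ext (by rw [← hcls c i y, e, hcls])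
      have e' := congrArg Subtype.val e
      obtain rfl : i = i' := by
        rcases lt_trichotomy i i' with h' | h' | h'
        · exact absurd e' (key _ i i' y y' c.1.out.2 (hout c.1 c.2) h' i'.2 y.2 y'.2)
        · exact h'
        · exact absurd e'.symm (key _ i' i y' y c.1.out.2 (hout c.1 c.2) h' i.2 y'.2 y.2)
      obtain rfl : y = y' := Subtype.ext (mul_right_cancel e')
      rfl
    · exact absurd (e ▸ y'.2 : (φ (Sum.inl (c, i, y)) : G) ∈ Y) (hnY c i y)
    · exact absurd (e ▸ y.2 : (φ (Sum.inl (c', i', y')) : G) ∈ Y) (hnY c' i' y')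
    · exact congrArg _ (Subtype.ext (congrArg (Subtype.val : L → G) e))
  have h7 := Nat.card_le_card_of_injective φ hφ
  rw [Nat.card_sum, Nat.card_prod, Nat.card_prod, Nat.card_eq_fintype_card (α := Fin N),
    Fintype.card_fin, Nat.card_eq_fintype_card (α := {c : Quotient S // c ≠ _}),
    Fintype.card_subtype_compl, Fintype.card_subtype_eq] at h7
  have h8 : 0 < Fintype.card (Quotient S) := Fintype.card_pos_iff.2 ⟨Quotient.mk S 1⟩
  obtain ⟨m, hm⟩ : ∃ m, Fintype.card (Quotient S) = m + 1 := ⟨_, (Nat.succ_pred_eq_of_pos h8).symm⟩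
  rw [hm, Nat.add_sub_cancel] at h7
  have h9 := Nat.mul_le_mul_right (N * Nat.card Y) (hm ▸ h1)
  nlinarith

theorem HS.card_eq : finrank k X ^ 2 * Nat.card Y = Nat.card L := by
  refine le_antisymm ?_ (h.card_le hXU hτ)
  have := h.count hXU hτ (one_mem _) (one_mem _) (one_mem _) (T := 1) (N := 1)
    (fun v => by rw [h.prep.one]; rfl) fun _ _ _ i h0 h1 => by omega
  rw [show commutant (1 : End k X) = ⊤ from eq_top_iff.2 fun A _ => by simp [mem_commutant],
    finrank_top, Module.finrank_linearMap, ← sq] at this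
  linarith

theorem HS.count' {g : G} (hg : g ∈ M) (hgL : g ∈ 𝐍(L)) (hgY : g ∈ 𝐍(Y)) {T : End k X}
    (hT : ∀ v, (T v : W) = ρ g v) {N : ℕ}
    (hsemi : ∀ x ∈ L, x ∉ Y → ∀ i, 0 < i → i < N → g ^ i * x * (g ^ i)⁻¹ * x⁻¹ ∉ Y) :
    N * finrank k (commutant T) + 1 ≤ N + finrank k X ^ 2 := by
  have := h.count hXU hτ hg hgL hgY hT hsemi
  rw [← h.card_eq hXU hτ] at this
  refine Nat.le_of_mul_le_mul_right ?_ (Nat.card_pos (α := Y))
  linarith

end Irr

end Cfsg.Agent.Loc.H78
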