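import Mathlib
import Cfsg.Agent.Loc.TurCnt

/-!
The numerical consequences of the orbit count.
-/

set_option autoImplicit false

namespace Cfsg.Agent.Loc.H78

open Cfsg Module Polynomial Cfsg.Agent.FT Cfsg.Agent.GT
open scoped commutatorElement

variable {k : Type*} [Field k] {G : Type*} [Group G] {W : Type*} [AddCommGroup W] [Module k W]
  {M L Y : Subgroup G} {ρ : G → End k W} {U : Submodule k W}

theorem HS.comm_triv [Finite G] (h : HS M ρ L Y U) {g : G} (hg : g ∈ M)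
    (hgU : ∀ u ∈ U, ρ g u ∈ U) {y : G} (hy : y ∈ Y) {u : W} (hu : u ∈ U) : ρ ⁅y, g⁆ u = u := by
  obtain ⟨c, hc⟩ := h.scal y hy
  have hyM := h.hL (h.hYL hy)
  have hi := h.prep.zpowers_mem hg hgU (inv_mem (Subgroup.mem_zpowers g))
  have h1 := h.prep.comm_apply hyM hg (ρ y⁻¹ (ρ g⁻¹ u))
  have h2 := h.invL _ (inv_mem (h.hYL hy)) _ (hi u hu)
  rw [h.prep.apply_inv hyM, h.prep.apply_inv hg, hc _ (hgU _ h2), ← map_smul, ← hc _ h2,
    h.prep.apply_inv hyM, h.prep.apply_inv hg] at h1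
  exact h1.symm

theorem PRep.geom_mem (h : PRep M ρ) {a : G} (ha : a ∈ M) {r : ℕ} (har : a ^ r = 1) (v : W) :
    ρ a ((∑ j ∈ Finset.range r, ρ a ^ j) v) = (∑ j ∈ Finset.range r, ρ a ^ j) v := by
  have := LinearMap.congr_fun (mul_geom_sum (ρ a) r) v
  rw [← h.pow ha, har, h.one, sub_self] at this
  simpa [sub_eq_zero] using this

theorem coe_restrict_pow {f : End k W} {X : Submodule k W} (hX : ∀ v ∈ X, f v ∈ X) (n : ℕ)
    (v : X) : ((f.restrict hX ^ n) v : W) = (f ^ n) v := by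
  induction n with
  | zero => rfl
  | succ n ih => rw [pow_succ', pow_succ', End.mul_apply, End.mul_apply, ← ih]; rfl

omit [Group G] in
theorem PRep.geom_of_fix {a : G} {v : W} (hv : ρ a v = v) (r : ℕ) :
    (∑ j ∈ Finset.range r, ρ a ^ j) v = (r : k) • v := by
  have : ∀ j, (ρ a ^ j) v = v := fun j => by
    induction j with
    | zero => rfl
    | succ j ih => rw [pow_succ, End.mul_apply, hv, ih]
  simp [this, Nat.cast_smul_eq_nsmul]

variable [Finite G] [IsAlgClosed k] [FiniteDimensional k W]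

theorem HS.exists_irr (h : HS M ρ L Y U) (hU0 : U ≠ ⊥) {g : G} (hg : g ∈ M) (hgL : g ∈ 𝐍(L))
    (hgU : ∀ u ∈ U, ρ g u ∈ U) (fpf : ∀ x ∈ L, ⁅x, g⁻¹⁆ ∈ Y → x ∈ Y) {m r : ℕ}
    (har : (g ^ m) ^ r = 1) (hr : (r : k) ≠ 0) :
    ∃ X ≤ U, ∃ hX : ∀ x, X ≤ X.comap (h.prep.rep h.hL x),
      IrrRep ((h.prep.rep h.hL).subrepresentation X hX) ∧ (∀ v ∈ X, ρ g v ∈ X) ∧
      ((∃ u ∈ U, u ≠ 0 ∧ ρ (g ^ m) u = u) → ∃ u ∈ X, u ≠ 0 ∧ ρ (g ^ m) u = u) := by
  classical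
  have := Fintype.ofFinite L
  have hi := h.prep.zpowers_mem hg hgU (inv_mem (Subgroup.mem_zpowers g))
  have hm : ∀ y : L, (y : G) * g⁻¹ * (y : G)⁻¹ ∈ M := fun y =>
    mul_mem (mul_mem (h.hL y.2) (inv_mem hg)) (inv_mem (h.hL y.2))
  let Φ : End k W := ∑ y : L, ρ (y * g⁻¹ * (y : G)⁻¹)
  have hΦ : ∀ b ∈ M, b ∈ 𝐍(L) → (b ∈ L ∨ Commute b g) → ∀ v, Φ (ρ b v) = ρ b (Φ v) := by
    intro b hb hbL hb' v
    simp only [Φ, LinearMap.sum_apply, map_sum]
    rcases hb' with hb' | hb'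
    · rw [← Equiv.sum_comp (Equiv.mulLeft (⟨b, hb'⟩ : L))]
      refine Finset.sum_congr rfl fun y _ => ?_
      rw [← h.prep.mul_apply (hm _) hb, ← h.prep.mul_apply hb (hm _)]
      congr 2
      simp [mul_assoc]
    · rw [← Equiv.sum_comp (L.normalizerMonoidHom ⟨b, hbL⟩).toEquiv]
      refine Finset.sum_congr rfl fun y _ => ?_
      rw [← h.prep.mul_apply (hm _) hb, ← h.prep.mul_apply hb (hm _)]
      congr 2
      change b * y * b⁻¹ * g⁻¹ * (b * y * b⁻¹)⁻¹ * b = _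
      rw [mul_assoc (b * y), hb'.inv_inv.eq]
      group
  have hΦU : ∀ u ∈ U, Φ u ∈ U := fun u hu => by
    simp only [Φ, LinearMap.sum_apply]
    refine U.sum_mem fun y _ => ?_
    rw [h.prep.mul_apply (mul_mem (h.hL y.2) (inv_mem hg)) (inv_mem (h.hL y.2)),
      h.prep.mul_apply (h.hL y.2) (inv_mem hg)]
    exact h.invL _ y.2 _ (hi _ (h.invL _ (inv_mem y.2) u hu))
  have eig : ∀ U₀ : Submodule k W, U₀ ≠ ⊥ → (∀ u ∈ U₀, Φ u ∈ U₀) →
      ∃ c : k, ∃ u ∈ U₀, u ≠ 0 ∧ Φ u = c • u := fun U₀ h0 hinv => by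
    have := Submodule.nontrivial_iff_ne_bot.2 h0
    obtain ⟨c, hc⟩ := Module.End.exists_eigenvalue (Φ.restrict hinv)
    obtain ⟨u, hu⟩ := hc.exists_hasEigenvector
    exact ⟨c, u, u.2, fun e => hu.2 (Subtype.ext e), congrArg Subtype.val hu.apply_eq_smul⟩
  obtain ⟨c, u₀, hu₀, hu0, hc, hfix⟩ : ∃ c : k, ∃ u ∈ U, u ≠ 0 ∧ Φ u = c • u ∧
      ((∃ u ∈ U, u ≠ 0 ∧ ρ (g ^ m) u = u) → ρ (g ^ m) u = u) := by
    by_cases hex : ∃ u ∈ U, u ≠ 0 ∧ ρ (g ^ m) u = u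
    · obtain ⟨u, hu, hu0, e⟩ := hex
      obtain ⟨c, v, hv, hv0, hc⟩ := eig (U ⊓ LinearMap.ker (ρ (g ^ m) - 1))
        ((Submodule.ne_bot_iff _).2 ⟨u, ⟨hu, by simp [e]⟩, hu0⟩) fun v hv => ⟨hΦU v hv.1, by
          have h1 : ρ (g ^ m) v = v := by simpa [sub_eq_zero] using hv.2
          simp [← hΦ _ (pow_mem hg m) (pow_mem hgL m) (Or.inr (Commute.pow_self g m)), h1]⟩
      exact ⟨c, v, hv.1, hv0, hc, fun _ => by simpa [sub_eq_zero] using hv.2⟩
    · obtain ⟨c, v, hv, hv0, hc⟩ := eig U hU0 hΦU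
      exact ⟨c, v, hv, hv0, hc, fun e => (hex e).elim⟩
  let U' : Submodule k W := U ⊓ LinearMap.ker (Φ - c • 1)
  have hU' : ∀ v, v ∈ U' ↔ v ∈ U ∧ Φ v = c • v := fun v => by simp [U', sub_eq_zero]
  have hgU' : ∀ v ∈ U', ρ g v ∈ U' := fun v hv => (hU' _).2 ⟨hgU v hv.1, by
    rw [hΦ g hg hgL (Or.inr (Commute.refl g)), ((hU' v).1 hv).2, map_smul]⟩
  obtain ⟨X, hXU', hX, hτ⟩ := exists_irrRep_le (h.prep.rep h.hL) (V' := U')
    (fun x v hv => (hU' _).2 ⟨h.invL _ x.2 v hv.1, by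
      change Φ (ρ x v) = c • ρ x v
      rw [hΦ x (h.hL x.2) (Subgroup.le_normalizer x.2) (Or.inl x.2), ((hU' v).1 hv).2, map_smul]⟩)
    ((Submodule.ne_bot_iff _).2 ⟨u₀, (hU' _).2 ⟨hu₀, hc⟩, hu0⟩)
  have hXU : X ≤ U := hXU'.trans inf_le_left
  let ψ : L → L := fun y => ⟨⁅(y : G), g⁻¹⁆, comm_mem_symm (comm_mem_of_norm (inv_mem hgL) y.2)⟩
  have hΨ : ∀ v ∈ U', (∑ y : L, ρ (ψ y)) v = c • ρ g v := fun v hv => by
    rw [← ((hU' _).1 (hgU' v hv)).2]
    simp only [Φ, LinearMap.sum_apply]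
    refine Finset.sum_congr rfl fun y _ => ?_
    rw [← h.prep.mul_apply (hm _) hg]
    simp [ψ, commutatorElement_def]
  set τ := (h.prep.rep h.hL).subrepresentation X hX
  have hc0 : c ≠ 0 := by
    rintro rfl
    have h1 : ∑ y : L, τ (ψ y) = 0 := LinearMap.ext fun v => Subtype.ext (by
      have := hΨ v (hXU' v.2)
      simp only [LinearMap.sum_apply, zero_smul] at this ⊢
      rw [Submodule.coe_sum]
      exact this)
    have h2 := congrArg (LinearMap.trace k X) h1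
    rw [map_sum, map_zero, ← Finset.sum_filter_add_sum_filter_not _ (fun x : L => (x : G) ∈ Y),
      Finset.sum_eq_zero (s := Finset.univ.filter fun x : L => ¬ (x : G) ∈ Y), add_zero,
      Finset.sum_congr rfl (g := fun _ => (finrank k X : k)), Finset.sum_const,
      card_filter_mem h.hYL, nsmul_eq_mul] at h2
    · exact mul_ne_zero h.cardY (hτ.finrank_ne_zero h.card) h2
    · intro y hy
      rw [show τ (ψ y) = 1 from LinearMap.ext fun v => Subtype.ext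
        (h.comm_triv (inv_mem hg) hi (Finset.mem_filter.1 hy).2 (hXU v.2)), LinearMap.trace_one]
    · exact fun y hy => h.trace_eq_zero hXU hτ fun e => (Finset.mem_filter.1 hy).2 (fpf y y.2 e)
  have hgΨ : ∀ v ∈ U', ρ g v = (c⁻¹ • ∑ y : L, ρ (ψ y)) v := fun v hv => by
    rw [LinearMap.smul_apply, hΨ v hv, smul_smul, inv_mul_cancel₀ hc0, one_smul]
  have hgX : ∀ v ∈ X, ρ g v ∈ X := fun v hv => by
    rw [hgΨ v (hXU' hv), LinearMap.smul_apply, LinearMap.sum_apply]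
    exact X.smul_mem _ (X.sum_mem fun y _ => hX (ψ y) hv)
  refine ⟨X, hXU, hX, hτ, hgX, fun hex => ?_⟩
  by_contra hne
  push Not at hne
  let 𝓛 := Submodule.span k (Set.range fun x : L => ρ x)
  have hpow : ∀ n : ℕ, ∃ f ∈ 𝓛, ∀ v ∈ U', ρ (g ^ n) v = f v := fun n => by
    induction n with
    | zero => exact ⟨ρ (1 : L), Submodule.subset_span ⟨1, rfl⟩, fun v _ => by rw [pow_zero]; rfl⟩
    | succ n ih =>
      obtain ⟨f, hf, e⟩ := ih
      refine ⟨f * (c⁻¹ • ∑ y : L, ρ (ψ y)), ?_, fun v hv => by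
        rw [pow_succ, h.prep.mul_apply (pow_mem hg n) hg, e _ (hgU' v hv), hgΨ v hv]; rfl⟩
      rw [mul_smul_comm, Finset.mul_sum]
      refine 𝓛.smul_mem _ (𝓛.sum_mem fun y _ => ?_)
      refine Submodule.span_induction (p := fun f _ => f * ρ (ψ y) ∈ 𝓛) ?_ ?_ ?_ ?_ hf
      · rintro _ ⟨x, rfl⟩
        exact Submodule.subset_span ⟨x * ψ y, h.prep.mul _ (h.hL x.2) _ (h.hL (ψ y).2)⟩
      · simp
      · intro a b _ _ ha hb
        rw [add_mul]; exact add_mem ha hb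
      · intro a b _ hb
        rw [smul_mul_assoc]; exact 𝓛.smul_mem _ hb
  choose f hf hf' using hpow
  have e : ∀ v ∈ U', (∑ j ∈ Finset.range r, f (m * j)) v =
      (∑ j ∈ Finset.range r, ρ (g ^ m) ^ j) v := fun v hv => by
    simp only [LinearMap.sum_apply]
    exact Finset.sum_congr rfl fun j _ => by rw [← hf' _ v hv, pow_mul, h.prep.pow (pow_mem hg m)]
  have h3 := h.eq_zero_of_span hXU hτ (𝓛.sum_mem fun j _ => hf (m * j)) (fun v hv => by
    by_contra h4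
    rw [e v (hXU' hv)] at h4
    refine hne _ ?_ h4 (h.prep.geom_mem (pow_mem hg m) har v)
    rw [LinearMap.sum_apply]
    refine X.sum_mem fun j _ => ?_
    rw [← h.prep.pow (pow_mem hg m), ← pow_mul]
    exact h.prep.pow_mem hg hgX _ v hv) u₀ hu₀
  rw [e _ ((hU' _).2 ⟨hu₀, hc⟩), PRep.geom_of_fix (hfix hex), smul_eq_zero] at h3
  exact h3.elim hr hu0

omit [Finite G] in
theorem exists_pow_mul_eq {d a : G} (hda : Commute d a) {r : ℕ} (har : a ^ r = 1)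
    (hc : (orderOf d).Coprime r) : ∃ m, (d * a) ^ m = a := by
  obtain ⟨m, h1, h2⟩ := Nat.chineseRemainder hc 0 1
  refine ⟨m, ?_⟩
  rw [hda.mul_pow, pow_eq_pow_iff_modEq.2 h1, pow_zero, one_mul,
    pow_eq_pow_iff_modEq.2 (h2.of_dvd (orderOf_dvd_of_pow_eq_one har)), pow_one]

theorem weil_arith {r n w c u m : ℕ} (hr : 2 ≤ r) (hn : 2 ≤ n) (h1 : r * n ≤ w + 1)
    (h2 : r * n * c + 1 ≤ r * n + w ^ 2) (h3 : u + m = w)
    (h4 : m ^ 2 + (r - 1) * n * u ^ 2 ≤ (r - 1) * n * c) : n = 2 ∧ w + 1 = 2 * r := by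
  obtain ⟨r, rfl⟩ := Nat.exists_eq_add_of_le' (show 1 ≤ r by omega)
  rw [Nat.add_sub_cancel] at h4
  have hr' : 1 ≤ r := by omega
  zify at *
  have h5 : (r * n : ℤ) * w ^ 2 ≤ (r * n + 1) * (r * n * c) := by
    rw [← h3]
    nlinarith [sq_nonneg ((m : ℤ) - r * n * u), mul_le_mul_of_nonneg_left h4
      (show (0 : ℤ) ≤ r * n + 1 by positivity)]
  have h6 : (w : ℤ) ^ 2 ≤ (r * n + 1) * c := by
    refine le_of_mul_le_mul_left ?_ (show (0 : ℤ) < r * n by positivity)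
    linarith
  have h7 : (w : ℤ) ^ 2 * (n - 1) ≤ (r * n + 1) * ((r + 1) * n - 1) := by
    nlinarith [mul_le_mul_of_nonneg_left h6 (show (0 : ℤ) ≤ (r + 1) * n by positivity),
      mul_le_mul_of_nonneg_left h2 (show (0 : ℤ) ≤ r * n + 1 by positivity)]
  have h8 : (0 : ℤ) < (r + 1) * n - 1 := by nlinarith
  have h9 : ((r + 1) * n - 1 : ℤ) ^ 2 ≤ w ^ 2 := pow_le_pow_left₀ h8.le (by linarith) 2
  have h10 : ((r + 1) * n - 1 : ℤ) * (n - 1) ≤ r * n + 1 := by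
    refine le_of_mul_le_mul_left ?_ h8
    nlinarith [mul_le_mul_of_nonneg_right h9 (show (0 : ℤ) ≤ n - 1 by linarith)]
  have h11 : (n : ℤ) = 2 := by
    by_contra h12
    have : (3 : ℤ) ≤ n := by omega
    nlinarith
  refine ⟨h11, ?_⟩
  rw [h11] at h7 h1
  have : (w : ℤ) ≤ 2 * r + 1 := by
    by_contra h12
    nlinarith
  linarith

theorem HS.bound (h : HS M ρ L Y U) (hU0 : U ≠ ⊥) (hne : ¬ L ≤ Y) {a d : G} (ha : a ∈ M)
    (hd : d ∈ M) (haL : a ∈ 𝐍(L)) (hdL : d ∈ 𝐍(L)) (haY : a ∈ 𝐍(Y)) (hdY : d ∈ 𝐍(Y))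
    (haU : ∀ u ∈ U, ρ a u ∈ U) (hdU : ∀ u ∈ U, ρ d u ∈ U) (hda : Commute d a) {r n : ℕ}
    (hr : r.Prime) (har : a ^ r = 1) (hrk : (r : k) ≠ 0) (hc : (orderOf d).Coprime r)
    (hn : n ∣ orderOf d)
    (semiA : ∀ x ∈ L, x ∉ Y → ∀ i, 0 < i → i < r → a ^ i * x * (a ^ i)⁻¹ * x⁻¹ ∉ Y)
    (semi : ∀ x ∈ L, x ∉ Y → ∀ i, 0 < i → i < r * n →
      (d * a) ^ i * x * ((d * a) ^ i)⁻¹ * x⁻¹ ∉ Y) :
    ∃ w, 2 ≤ w ∧ w ^ 2 * Nat.card Y = Nat.card L ∧ r * n ≤ w + 1 ∧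
      ((∀ u ∈ U, ρ a u = u → u = 0) → w + 1 ≤ r) ∧
      ((∃ u ∈ U, u ≠ 0 ∧ ρ a u = u) → (∀ u ∈ U, ρ a u = u → ρ d u = u) →
        (∀ x ∈ L, ∀ u ∈ U, ρ (d ^ n) (ρ x u) = ρ x (ρ (d ^ n) u)) → 2 ≤ n →
        n = 2 ∧ w + 1 = 2 * r) := by
  obtain ⟨m, hm⟩ := exists_pow_mul_eq hda har hc
  have hn0 : 0 < n := Nat.pos_of_dvd_of_pos hn (orderOf_pos d)
  have hg := mul_mem hd ha
  have hgL := mul_mem hdL haL
  have hgY := mul_mem hdY haY
  obtain ⟨X, hXU, hX, hτ, hgX, hfix⟩ := h.exists_irr hU0 hg hgL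
    (fun u hu => by rw [h.prep.mul_apply hd ha]; exact hdU _ (haU u hu)) (fun x hx e => by
      by_contra hxY
      refine semi x hx hxY 1 one_pos (by nlinarith [hr.two_le]) ?_
      convert CopAct.conj_mem le_rfl hgY e using 1
      simp only [commutatorElement_def]
      group) (m := m) (r := r) (by rw [hm, har]) hrk
  rw [hm] at hfix
  have haX : ∀ v ∈ X, ρ a v ∈ X := hm ▸ h.prep.pow_mem hg hgX m
  have c0 := h.card_eq hXU hτ
  have c1 := h.count' hXU hτ hg hgL hgY (T := (ρ (d * a)).restrict hgX) (fun v => rfl) semi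
  have c2 := h.count' hXU hτ ha haL haY (T := (ρ a).restrict haX) (fun v => rfl) semiA
  have c3 := le_finrank_commutant ((ρ (d * a)).restrict hgX)
  have hw : 2 ≤ finrank k X := by
    by_contra h1
    have h2 := hτ.finrank_pos
    rw [show finrank k X = 1 by omega, one_pow, one_mul] at c0
    exact hne (Subgroup.eq_of_le_of_card_ge h.hYL c0.ge).ge
  have c4 : r * n ≤ finrank k X + 1 := by
    obtain ⟨w, hw'⟩ := Nat.exists_eq_add_of_le' (show 1 ≤ finrank k X by omega)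
    rw [hw'] at c1 c3 hw ⊢
    refine Nat.le_of_mul_le_mul_right ?_ (show 0 < w by omega)
    nlinarith [Nat.mul_le_mul_left (r * n) c3]
  have hr1 : r - 1 + 1 = r := Nat.sub_add_cancel hr.pos
  have hq : (∑ j ∈ Finset.range r, (Polynomial.X : k[X]) ^ j).Monic := monic_geom_sum_X hr.ne_zero
  have hq' : (∑ j ∈ Finset.range r, (Polynomial.X : k[X]) ^ j).natDegree = r - 1 := by
    have := (monic_X_sub_C (1 : k)).natDegree_mul hq
    rw [natDegree_X_sub_C, map_one, mul_geom_sum, ← C_1, natDegree_X_pow_sub_C] at this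
    omega
  refine ⟨_, hw, c0, c4, fun h0 => ?_, fun hex hdf hcomm hn2 => ?_⟩
  · have c5 := sq_le_of_aeval (T := (ρ a).restrict haX) hq (LinearMap.ext fun v => Subtype.ext (by
      refine h0 _ (hXU (Subtype.property _)) ?_
      have e : ((aeval ((ρ a).restrict haX) (∑ j ∈ Finset.range r, (Polynomial.X : k[X]) ^ j) v :
          X) : W) = (∑ j ∈ Finset.range r, ρ a ^ j) v := by
        simp [coe_restrict_pow]
      rw [e]
      exact h.prep.geom_mem ha har v))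
    rw [hq'] at c5
    obtain ⟨r, rfl⟩ := Nat.exists_eq_add_of_le' hr.pos
    rw [Nat.add_sub_cancel] at c5
    by_contra h1
    nlinarith [Nat.mul_le_mul_left r c2, Nat.mul_le_mul_left (r + 1) c5]
  obtain ⟨u, hu, hu0, hua⟩ := hfix hex
  have hdX : ∀ v ∈ X, ρ d v ∈ X := fun v hv => by
    rw [← mul_inv_cancel_right d a, h.prep.mul_apply hg (inv_mem ha)]
    exact hgX _ (h.prep.zpowers_mem ha haX (inv_mem (Subgroup.mem_zpowers a)) v hv)
  obtain ⟨c, hc'⟩ := hτ.exists_eq_smul (f := (ρ (d ^ n)).restrict (h.prep.pow_mem hd hdX n))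
    fun x => LinearMap.ext fun v => Subtype.ext (hcomm x x.2 v (hXU v.2))
  have hdn : ∀ v ∈ X, ρ (d ^ n) v = c • v := fun v hv =>
    congrArg Subtype.val (LinearMap.congr_fun hc' ⟨v, hv⟩)
  obtain rfl : c = 1 := smul_left_injective k hu0 (by
    change c • u = (1 : k) • u
    rw [← hdn u hu, one_smul]
    exact h.prep.mem_pfix_zpowers hd (hdf u (hXU hu) hua) _ (Subgroup.npow_mem_zpowers d n))
  have hq2 := hq.expand (p := n) hn0
  obtain ⟨u', m', e1, -, e2⟩ := exists_sq_le_of_aeval (T := (ρ (d * a)).restrict hgX) hq2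
    (LinearMap.ext fun v => Subtype.ext (by
      have e : ((aeval ((ρ (d * a)).restrict hgX)
          (expand k n (∑ j ∈ Finset.range r, (Polynomial.X : k[X]) ^ j)) v : X) : W) =
          (∑ j ∈ Finset.range r, ρ (a ^ n) ^ j) v := by
        simp only [expand_aeval, map_sum, map_pow, aeval_X, LinearMap.sum_apply,
          Submodule.coe_sum, ← pow_mul, coe_restrict_pow]
        refine Finset.sum_congr rfl fun j _ => ?_
        rw [← h.prep.pow hg, ← h.prep.pow (pow_mem ha n), hda.mul_pow, ← pow_mul,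
          h.prep.mul_apply (pow_mem hd _) (pow_mem ha _)]
        refine h.prep.mem_pfix_zpowers (pow_mem hd n) ?_ _ ⟨j, by simp [pow_mul]⟩
        rw [hdn _ (h.prep.pow_mem ha haX _ v v.2), one_smul]
      have h1 := h.prep.geom_mem (pow_mem ha n) (show (a ^ n) ^ r = 1 by
        rw [← pow_mul, mul_comm, pow_mul, har, one_pow]) (v : W)
      rw [← e] at h1
      have h2 := h.prep.mem_pfix_zpowers (pow_mem ha n) h1 a (mem_zpowers_pow_iff.2
        (((hc.coprime_dvd_left hn).coprime_dvd_right (orderOf_dvd_of_pow_eq_one har))))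
      have h3 := hdf _ (hXU (Subtype.property _)) h2
      rw [map_mul, End.mul_apply]
      simp only [map_sub, aeval_X, map_one, LinearMap.sub_apply, End.one_apply,
        LinearMap.zero_apply, Submodule.coe_sub, LinearMap.coe_restrict_apply,
        Submodule.coe_zero]
      rw [h.prep.mul_apply hd ha, h2, h3, sub_self]))
  rw [natDegree_expand, hq'] at e2
  exact weil_arith hr.two_le hn2 c4 c1 e1 e2

end Cfsg.Agent.Loc.H78
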