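import Mathlib
import Cfsg.Agent.Loc.TurWeil
import Cfsg.Agent.Loc.FpfInv

/-!
The decomposition of a module under a coprime group according to the kernels of the irreducible
constituents, and diagonal arguments for a group of prime order.
-/

set_option autoImplicit false

namespace Cfsg.Agent.Loc.H78

open Cfsg Module Cfsg.Agent.FT Cfsg.Agent.GT
open scoped commutatorElement

local notation:75 H " ^ᶜ " g:76 => Subgroup.map (MulEquiv.toMonoidHom (MulAut.conj g)) H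

section Grp

variable {G : Type*} [Group G]

theorem le_of_prime_card [Finite G] {A Z : Subgroup G} (hA : (Nat.card A).Prime) {b : G}
    (hb : b ∈ A) (hb1 : b ≠ 1) (hZ : b ∈ Z) : A ≤ Z := by
  have h1 : Nat.card ↥(A ⊓ Z) ∣ Nat.card A := Subgroup.card_dvd_of_le inf_le_left
  rcases (Nat.dvd_prime hA).1 h1 with h | h
  · exact absurd (Subgroup.mem_bot.1 (Subgroup.card_eq_one.1 h ▸ (⟨hb, hZ⟩ : b ∈ A ⊓ Z))) hb1
  · exact (Subgroup.eq_of_le_of_card_ge inf_le_left h.ge).ge.trans inf_le_right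

theorem eq_one_of_mul_mem [Finite G] {A Z : Subgroup G} (hA : (Nat.card A).Prime) (hZ : ¬ A ≤ Z)
    {x : G} (hx : x ∈ 𝐂(A)) (hc : (orderOf x).Coprime (Nat.card A)) {b : G} (hb : b ∈ A)
    (h : b * x ∈ Z) : b = 1 := by
  by_contra hb1
  have h1 := pow_mem h (orderOf x)
  rw [Commute.mul_pow (hx b hb), pow_orderOf_eq_one, mul_one] at h1
  refine hZ (le_of_prime_card hA (pow_mem hb _) (fun e => hb1 ?_) h1)
  exact congrArg Subtype.val (CopAct.eq_one_of_pow_eq_one_of_coprime (x := (⟨b, hb⟩ : A)) hc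
    (Subtype.ext e))

theorem le_cent2_of_comm_le {R Z K : Subgroup G} (hR : R ≤ 𝐍(Z)) (h : ⁅Z, R⁆ ≤ K) :
    R ≤ cent2 Z K := fun _ ha =>
  ⟨hR ha, fun _ hy => comm_mem_symm (h (Subgroup.commutator_mem_commutator hy ha))⟩

theorem cent2_mono {Z K K' : Subgroup G} (h : K ≤ K') : cent2 Z K ≤ cent2 Z K' :=
  fun _ ha => ⟨ha.1, fun y hy => h (ha.2 y hy)⟩

end Grp

variable {k : Type*} [Field k] {G : Type*} [Group G] [Finite G] {W : Type*} [AddCommGroup W]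
  [Module k W] {M P K A : Subgroup G} {ρ : G → End k W}

/-- The vectors all of whose constituents under `P` have kernel `K`. -/
def typ (ρ : G → End k W) (P K : Subgroup G) : Submodule k W where
  carrier := {v | v ∈ pfix ρ K ∧ ∀ K' ≤ P, P ≤ 𝐍(K') → ¬ K' ≤ K → nrm ρ K' v = 0}
  zero_mem' := ⟨zero_mem _, fun _ _ _ _ => map_zero _⟩
  add_mem' := fun ha hb => ⟨add_mem ha.1 hb.1, fun K' h1 h2 h3 => by
    rw [map_add, ha.2 K' h1 h2 h3, hb.2 K' h1 h2 h3, add_zero]⟩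
  smul_mem' := fun c v hv => ⟨Submodule.smul_mem _ c hv.1, fun K' h1 h2 h3 => by
    rw [map_smul, hv.2 K' h1 h2 h3, smul_zero]⟩

structure IsTyp (M : Subgroup G) (ρ : G → End k W) (P K : Subgroup G) : Prop where
  prep : PRep M ρ
  hP : P ≤ M
  card : (Nat.card P : k) ≠ 0
  le : K ≤ P
  norm : P ≤ 𝐍(K)
  ne : typ ρ P K ≠ ⊥

omit [Finite G] in
theorem card_ne_zero_of_le {P K : Subgroup G} (h : (Nat.card P : k) ≠ 0) (hK : K ≤ P) :
    (Nat.card K : k) ≠ 0 := fun e => h (by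
  obtain ⟨c, hc⟩ := Subgroup.card_dvd_of_le hK
  rw [hc, Nat.cast_mul, e, zero_mul])

theorem PRep.nrm_conj (h : PRep M ρ) (hK : K ≤ M) {g : G} (hg : g ∈ M) (v : W) :
    nrm ρ (K ^ᶜ g) (ρ g v) = ρ g (nrm ρ K v) := by
  rw [nrm_apply, nrm_apply, map_sum]
  symm
  refine Finset.sum_bij (fun a _ => g * a * g⁻¹) ?_ ?_ ?_ ?_
  · intro a ha
    simpa using ha
  · intro a _ b _ e
    simpa using e
  · intro b hb
    exact ⟨g⁻¹ * b * g, (Set.Finite.mem_toFinset _).2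
      (mem_map_conj.1 ((Set.Finite.mem_toFinset _).1 hb)), by group⟩
  · intro a ha
    have ha' : a ∈ M := hK (by simpa using ha)
    rw [← h.mul_apply hg ha', ← h.mul_apply (mul_mem (mul_mem hg ha') (inv_mem hg)) hg]
    congr 2
    group

theorem PRep.typ_conj (h : PRep M ρ) (hP : P ≤ M) (hK : K ≤ P) {g : G} (hg : g ∈ M)
    (hgP : g ∈ 𝐍(P)) {v : W} (hv : v ∈ typ ρ P K) : ρ g v ∈ typ ρ P (K ^ᶜ g) := by
  refine ⟨fun x hx => ?_, fun K' h1 h2 h3 => ?_⟩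
  · obtain ⟨y, hy, rfl⟩ := mem_map_conj_iff_exists.1 hx
    rw [← h.mul_apply (mul_mem (mul_mem hg (hP (hK hy))) (inv_mem hg)) hg, inv_mul_cancel_right,
      h.mul_apply hg (hP (hK hy)), hv.1 y hy]
  · have h4 := map_conj_le_of_mem_normalizer h1 (inv_mem hgP)
    rw [← map_conj_map_conj_inv K' g, h.nrm_conj (h4.trans hP) hg, hv.2 _ h4 (by
      rw [normalizer_map_conj, ← map_conj_eq_of_mem_norm (inv_mem hgP)]
      exact map_conj_le_map_conj_iff.2 h2) fun e => h3 (le_map_conj_iff.2 e), map_zero]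

theorem IsTyp.conj (h : IsTyp M ρ P K) {g : G} (hg : g ∈ M) (hgP : g ∈ 𝐍(P)) :
    IsTyp M ρ P (K ^ᶜ g) := by
  obtain ⟨v, hv, hv0⟩ := Submodule.exists_mem_ne_zero_of_ne_bot h.ne
  refine ⟨h.prep, h.hP, h.card, map_conj_le_of_mem_normalizer h.le hgP, ?_,
    (Submodule.ne_bot_iff _).2 ⟨_, h.prep.typ_conj h.hP h.le hg hgP hv,
      h.prep.apply_ne_zero hg hv0⟩⟩
  rw [normalizer_map_conj, ← map_conj_eq_of_mem_norm hgP]
  exact map_conj_le_map_conj_iff.2 h.norm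

theorem IsTyp.mem (h : IsTyp M ρ P K) {g : G} (hg : g ∈ M) (hgP : g ∈ 𝐍(P)) (hgK : g ∈ 𝐍(K))
    {v : W} (hv : v ∈ typ ρ P K) : ρ g v ∈ typ ρ P K := by
  have := h.prep.typ_conj h.hP h.le hg hgP hv
  rwa [map_conj_eq_of_mem_norm hgK] at this

theorem IsTyp.memP (h : IsTyp M ρ P K) {g : G} (hg : g ∈ P) {v : W} (hv : v ∈ typ ρ P K) :
    ρ g v ∈ typ ρ P K := h.mem (h.hP hg) (Subgroup.le_normalizer hg) (h.norm hg) hv

theorem IsTyp.eq_zero (h : IsTyp M ρ P K) {K' : Subgroup G} (h1 : K' ≤ P) (h2 : P ≤ 𝐍(K'))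
    (h3 : ¬ K' ≤ K) {v : W} (hv : v ∈ typ ρ P K) (hv' : v ∈ pfix ρ K') : v = 0 := by
  have := hv.2 K' h1 h2 h3
  rw [nrm_of_mem_pfix hv', smul_eq_zero] at this
  exact this.resolve_left (card_ne_zero_of_le h.card h1)

theorem IsTyp.fpf (h : IsTyp M ρ P K) {y : G} (hy : y ∈ P ⊓ cent2 P K) (hyK : y ∉ K) {v : W}
    (hv : v ∈ typ ρ P K) (e : ρ y v = v) : v = 0 := by
  have h1 : Subgroup.zpowers y ≤ P := Subgroup.zpowers_le.2 hy.1
  refine h.eq_zero (sup_le h.le h1) ?_ (fun e => hyK (e (Subgroup.mem_sup_right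
    (Subgroup.mem_zpowers y)))) hv (h.prep.mem_pfix_sup (h.le.trans h.hP) (h1.trans h.hP) hv.1
      (h.prep.mem_pfix_zpowers (h.hP hy.1) e))
  refine CopAct.le_normalizer_of_commutator_le le_rfl (commutator_sup_le Subgroup.le_normalizer
    ((CopAct.commutator_le_of_le_normalizer h.norm).trans le_sup_left) ?_)
  rw [Subgroup.commutator_comm]
  exact (comm_le_of_le_cent2 (Subgroup.zpowers_le.2 hy.2)).trans le_sup_left

theorem IsTyp.norm_ker (h : IsTyp M ρ P K) : P ≤ 𝐍(h.prep.pker (typ ρ P K)) :=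
  le_norm_of_conj_mem fun _ ha _ hx =>
    h.prep.conj_mem_pker (h.hP ha) (fun _ hu => h.memP (inv_mem ha) hu) hx

theorem IsTyp.ker (h : IsTyp M ρ P K) : P ⊓ h.prep.pker (typ ρ P K) ≤ K := by
  by_contra hc
  exact h.ne (eq_bot_iff.2 fun v hv => h.eq_zero inf_le_left
    (CopAct.le_normalizer_inf Subgroup.le_normalizer h.norm_ker) hc hv fun x hx => hx.2.2 v hv)

theorem PRep.exists_typ (h : PRep M ρ) (hP : P ≤ M) (hc : (Nat.card P : k) ≠ 0) {s : G}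
    (hs : s ∈ P) {v : W} (hv : ρ s v ≠ v) : ∃ K, IsTyp M ρ P K ∧ s ∉ K := by
  let S : Subgroup G := ⨅ N : {N : Subgroup G // s ∈ N ∧ N ≤ P ∧ P ≤ 𝐍(N)}, N.1
  have hsS : s ∈ S := Subgroup.mem_iInf.2 fun N => N.2.1
  have hSP : S ≤ P := iInf_le_of_le ⟨P, hs, le_rfl, Subgroup.le_normalizer⟩ le_rfl
  have hPS : P ≤ 𝐍(S) := le_normalizer_iInf fun N => N.2.2.2
  obtain ⟨K, ⟨hKP, hPK, u, hu0, hu, huS⟩, hmax⟩ := Set.Finite.exists_maximal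
    (s := {K : Subgroup G | K ≤ P ∧ P ≤ 𝐍(K) ∧ ∃ u, u ≠ 0 ∧ u ∈ pfix ρ K ∧ nrm ρ S u = 0})
    (Set.toFinite _) ⟨⊥, bot_le, Subgroup.le_normalizer_of_normal, ρ s v - v, sub_ne_zero.2 hv, by simp [h.pfix_bot], by
      rw [map_sub, h.nrm_comm (hSP.trans hP) (hP hs) (hPS hs),
        h.nrm_mem_pfix (hSP.trans hP) v s hsS, sub_self]⟩
  refine ⟨K, ⟨h, hP, hc, hKP, hPK, (Submodule.ne_bot_iff _).2 ⟨u, ⟨hu, fun K' h1 h2 h3 => ?_⟩,
    hu0⟩⟩, fun hsK => hu0 ?_⟩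
  · by_contra h4
    refine h3 (le_sup_right.trans (hmax ⟨sup_le hKP h1, CopAct.le_normalizer_sup hPK h2, _, h4,
      h.mem_pfix_sup (hKP.trans hP) (h1.trans hP) (fun x hx => ?_)
        (h.nrm_mem_pfix (h1.trans hP) u), ?_⟩ le_sup_left))
    · rw [← h.nrm_comm (h1.trans hP) (hP (hKP hx)) (h2 (hKP hx)), hu x hx]
    · rw [nrm_apply K', map_sum]
      refine Finset.sum_eq_zero fun x hx => ?_
      have hx' : x ∈ P := h1 (by simpa using hx)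
      rw [h.nrm_comm (hSP.trans hP) (hP hx') (hPS hx'), huS, map_zero]
  · rw [nrm_of_mem_pfix (pfix_anti (iInf_le_of_le ⟨K, hsK, hKP, hPK⟩ le_rfl) hu),
      smul_eq_zero] at huS
    exact huS.resolve_left (card_ne_zero_of_le hc hSP)

theorem PRep.diag0 (h : PRep M ρ) (hA : (Nat.card A).Prime) {Z : Subgroup G} (hZ : ¬ A ≤ Z)
    {x : G} (hx : x ∈ 𝐂(A)) (hcop : (orderOf x).Coprime (Nat.card A)) {c : k} (hc : c ≠ 0)
    {v v' : W} {f f' : G → W} (hf : ∀ b ∈ A, (b * x ∈ Z → f b = c • ρ (b * x) v) ∧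
      (b * x ∉ Z → f b = 0)) (hf' : ∀ b ∈ A, (b ∈ Z → f' b = c • ρ b v') ∧ (b ∉ Z → f' b = 0))
    (e : ∑ b ∈ (Set.toFinite (A : Set G)).toFinset, f b =
      ∑ b ∈ (Set.toFinite (A : Set G)).toFinset, f' b) :
    (x ∈ Z → ρ x v = v') ∧ (x ∉ Z → v' = 0) := by
  rw [Finset.sum_eq_single 1 (fun b hb hb1 => (hf b (by simpa using hb)).2
      fun e => hb1 (eq_one_of_mul_mem hA hZ hx hcop (by simpa using hb) e)) (by simp),
    Finset.sum_eq_single 1 (fun b hb hb1 => (hf' b (by simpa using hb)).2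
      fun e => hZ (le_of_prime_card hA (by simpa using hb) hb1 e)) (by simp),
    (hf' 1 (one_mem _)).1 (one_mem _), h.one, End.one_apply] at e
  have h1 := hf 1 (one_mem _)
  rw [one_mul] at h1
  exact ⟨fun hx => smul_right_injective W hc ((h1.1 hx).symm.trans e),
    fun hx => (smul_eq_zero.1 (e.symm.trans (h1.2 hx))).resolve_left hc⟩

theorem IsTyp.diag1 (h : IsTyp M ρ P K) (hA : (Nat.card A).Prime) (hAM : A ≤ M) (hAP : A ≤ 𝐍(P))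
    (hZ : ¬ A ≤ 𝐍(K)) {x : G} (hxM : x ∈ M) (hxP : x ∈ 𝐍(P)) (hx : x ∈ 𝐂(A))
    (hcop : (orderOf x).Coprime (Nat.card A)) {v v' : W} (hv : v ∈ typ ρ P K)
    (hv' : v' ∈ typ ρ P K) (e : nrm ρ A (ρ x v) = nrm ρ A v') :
    (x ∈ 𝐍(K) → ρ x v = v') ∧ (x ∉ 𝐍(K) → v' = 0) := by
  have key : ∀ g ∈ M, g ∈ 𝐍(P) → ∀ u ∈ typ ρ P K,
      (g ∈ 𝐍(K) → nrm ρ K (ρ g u) = (Nat.card K : k) • ρ g u) ∧
        (g ∉ 𝐍(K) → nrm ρ K (ρ g u) = 0) := fun g hg hgP u hu =>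
    ⟨fun hgK => nrm_of_mem_pfix (h.mem hg hgP hgK hu).1, fun hgK =>
      (h.prep.typ_conj h.hP h.le hg hgP hu).2 K h.le h.norm
        fun e => hgK (mem_normalizer_of_le_map_conj e)⟩
  refine h.prep.diag0 hA hZ hx hcop (card_ne_zero_of_le h.card h.le)
    (fun b hb => key _ (mul_mem (hAM hb) hxM) (mul_mem (hAP hb) hxP) v hv)
    (fun b hb => key _ (hAM hb) (hAP hb) v' hv') ?_
  rw [← map_sum, ← map_sum, ← nrm_apply (ρ := ρ), ← e, nrm_apply A]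
  exact congrArg _ (Finset.sum_congr rfl fun b hb =>
    h.prep.mul_apply (hAM (by simpa using hb)) hxM v)

theorem IsTyp.comm (h : IsTyp M ρ P K) {y x : G} (hy : y ∈ P) (hx : x ∈ M) (hxP : x ∈ 𝐍(P))
    (hxK : x ∈ 𝐍(K)) (e : ⁅y, x⁆ ∈ K) {u : W} (hu : u ∈ typ ρ P K) :
    ρ y (ρ x u) = ρ x (ρ y u) := by
  rw [h.prep.comm_apply (h.hP hy) hx]
  exact (h.mem hx hxP hxK (h.memP hy hu)).1 _ e

theorem IsTyp.commY (h : IsTyp M ρ P K) {y x : G} (hy : y ∈ P ⊓ cent2 P K) (hx : x ∈ P) {u : W}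
    (hu : u ∈ typ ρ P K) : ρ y (ρ x u) = ρ x (ρ y u) :=
  h.comm hy.1 (h.hP hx) (Subgroup.le_normalizer hx) (h.norm hx) (hy.2.2 x hx) hu

theorem mem_norm_rad {g : G} (hgP : g ∈ 𝐍(P)) (hgK : g ∈ 𝐍(K)) : g ∈ 𝐍(P ⊓ cent2 P K) :=
  CopAct.le_normalizer_inf (A := 𝐍(P) ⊓ 𝐍(K)) inf_le_left
    (le_norm_cent2 inf_le_left inf_le_right) ⟨hgP, hgK⟩

theorem IsTyp.sumY (h : IsTyp M ρ P K) [Fintype ↥(P ⊓ cent2 P K)] {g : G} (hg : g ∈ M)
    (hgP : g ∈ 𝐍(P)) (hgK : g ∈ 𝐍(K)) {u : W} (hu : u ∈ typ ρ P K) :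
    (g ∈ cent2 (P ⊓ cent2 P K) K → ∑ y : ↥(P ⊓ cent2 P K), ρ (y : G)⁻¹ (ρ g (ρ y u)) =
      (Nat.card ↥(P ⊓ cent2 P K) : k) • ρ g u) ∧
    (g ∉ cent2 (P ⊓ cent2 P K) K → ∑ y : ↥(P ⊓ cent2 P K), ρ (y : G)⁻¹ (ρ g (ρ y u)) = 0) := by
  have hgY := mem_norm_rad hgP hgK
  refine ⟨fun hc => ?_, fun hc => ?_⟩
  · rw [Finset.sum_congr rfl (g := fun _ => ρ g u), Finset.sum_const, Finset.card_univ,
      Nat.card_eq_fintype_card, Nat.cast_smul_eq_nsmul]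
    intro y _
    rw [← h.comm y.2.1 hg hgP hgK (comm_mem_symm (hc.2 y y.2)) hu, h.prep.inv_apply (h.hP y.2.1)]
  · obtain ⟨z, hz, hzK⟩ : ∃ z ∈ P ⊓ cent2 P K, ⁅g, z⁆ ∉ K := by
      by_contra h1
      push Not at h1
      exact hc ⟨hgY, h1⟩
    have hz' : g * z * g⁻¹ ∈ P ⊓ cent2 P K := CopAct.conj_mem le_rfl hgY hz
    refine h.fpf (comm_mem_of_norm hgY hz) hzK (Submodule.sum_mem _ fun y _ =>
      h.memP (inv_mem y.2.1) (h.mem hg hgP hgK (h.memP y.2.1 hu))) ?_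
    rw [map_sum, ← Equiv.sum_comp (Equiv.mulRight (⟨z, hz⟩ : ↥(P ⊓ cent2 P K)))
      (fun y => ρ (y : G)⁻¹ (ρ g (ρ y u)))]
    refine Finset.sum_congr rfl fun y _ => ?_
    have h2 := h.mem hg hgP hgK (h.memP y.2.1 hu)
    change _ = ρ (y * z)⁻¹ (ρ g (ρ (y * z) u))
    rw [commutatorElement_def, h.prep.mul_apply (h.hP hz'.1) (h.hP (inv_mem hz.1)),
      ← h.prep.mul_apply (h.hP (inv_mem hz.1)) (h.hP (inv_mem y.2.1)), ← mul_inv_rev,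
      h.commY hz' (inv_mem (mul_mem y.2.1 hz.1)) h2,
      ← h.prep.mul_apply (h.hP hz'.1) hg, inv_mul_cancel_right, h.prep.mul_apply hg (h.hP hz.1),
      h.commY hz y.2.1 hu, ← h.prep.mul_apply (h.hP y.2.1) (h.hP hz.1)]

theorem IsTyp.diag2 (h : IsTyp M ρ P K) (hA : (Nat.card A).Prime) (hAM : A ≤ M) (hAP : A ≤ 𝐍(P))
    (hAK : A ≤ 𝐍(K)) (hZ : ¬ A ≤ cent2 (P ⊓ cent2 P K) K) {x : G} (hxM : x ∈ M) (hxP : x ∈ 𝐍(P))
    (hxK : x ∈ 𝐍(K)) (hx : x ∈ 𝐂(A)) (hcop : (orderOf x).Coprime (Nat.card A)) {v v' : W}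
    (hv : v ∈ typ ρ P K) (hv' : v' ∈ typ ρ P K)
    (e : ∀ y ∈ P ⊓ cent2 P K, nrm ρ A (ρ x (ρ y v)) = nrm ρ A (ρ y v')) :
    (x ∈ cent2 (P ⊓ cent2 P K) K → ρ x v = v') ∧ (x ∉ cent2 (P ⊓ cent2 P K) K → v' = 0) := by
  have := Fintype.ofFinite ↥(P ⊓ cent2 P K)
  refine h.prep.diag0 hA hZ hx hcop (card_ne_zero_of_le h.card inf_le_left)
    (fun b hb => h.sumY (mul_mem (hAM hb) hxM) (mul_mem (hAP hb) hxP) (mul_mem (hAK hb) hxK) hv)
    (fun b hb => h.sumY (hAM hb) (hAP hb) (hAK hb) hv') ?_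
  rw [Finset.sum_comm, Finset.sum_comm (s := (Set.toFinite (A : Set G)).toFinset)]
  refine Finset.sum_congr rfl fun y _ => ?_
  rw [← map_sum, ← map_sum, ← nrm_apply (ρ := ρ), ← e y y.2, nrm_apply A]
  exact congrArg _ (Finset.sum_congr rfl fun b hb =>
    h.prep.mul_apply (hAM (by simpa using hb)) hxM _)

/-- If `A` has no fixed vector of type `K` then it normalises `K` and centralises the centre. -/
theorem IsTyp.of_fix_eq_bot (h : IsTyp M ρ P K) (hA : (Nat.card A).Prime) (hAM : A ≤ M)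
    (hAP : A ≤ 𝐍(P)) (h0 : ∀ v ∈ typ ρ P K, nrm ρ A v = 0) :
    A ≤ 𝐍(K) ∧ A ≤ cent2 (P ⊓ cent2 P K) K := by
  have h1 : A ≤ 𝐍(K) := by
    by_contra hc
    refine h.ne (eq_bot_iff.2 fun v hv => ?_)
    have := (h.diag1 hA hAM hAP hc (one_mem _) (one_mem _) (one_mem _) (by simp) hv (zero_mem _)
      (by rw [h.prep.one, End.one_apply, h0 v hv, map_zero])).1 (one_mem _)
    rwa [h.prep.one] at this
  refine ⟨h1, ?_⟩
  by_contra hc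
  refine h.ne (eq_bot_iff.2 fun v hv => ?_)
  have := (h.diag2 hA hAM hAP h1 hc (one_mem _) (one_mem _) (one_mem _) (one_mem _) (by simp) hv
    (zero_mem _) fun y hy => by
      rw [h.prep.one, End.one_apply, h0 _ (h.memP hy.1 hv), map_zero, map_zero]).1 (one_mem _)
  rwa [h.prep.one] at this

omit [Finite G] in
theorem PRep.exists_wt [IsAlgClosed k] [FiniteDimensional k W] (h : PRep M ρ) {Z : Subgroup G}
    (hZ : Z ≤ M) {U₀ : Submodule k W} (h0 : U₀ ≠ ⊥) (hU : ∀ z ∈ Z, ∀ u ∈ U₀, ρ z u ∈ U₀)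
    (hc : ∀ a ∈ Z, ∀ b ∈ Z, ∀ u ∈ U₀, ρ a (ρ b u) = ρ b (ρ a u)) :
    ∃ U ≤ U₀, U ≠ ⊥ ∧ (∀ z ∈ Z, ∃ c : k, ∀ u ∈ U, ρ z u = c • u) ∧
      ∀ g : G, (∀ u ∈ U₀, ρ g u ∈ U₀) → (∀ z ∈ Z, ∀ u ∈ U₀, ρ z (ρ g u) = ρ g (ρ z u)) →
        ∀ u ∈ U, ρ g u ∈ U := by
  obtain ⟨X, hXU, hX, hτ⟩ := exists_irrRep_le (h.rep hZ) (fun z => hU z z.2) h0
  have := hτ.nontrivial
  obtain ⟨x, hx⟩ := exists_ne (0 : X)
  have hw : ∀ z ∈ Z, ∃ c : k, ρ z x = c • (x : W) := fun z hz => by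
    obtain ⟨c, hc'⟩ := hτ.exists_eq_smul (f := (h.rep hZ).subrepresentation X hX ⟨z, hz⟩)
      fun a => LinearMap.ext fun v => Subtype.ext (hc z hz a a.2 v (hXU v.2))
    exact ⟨c, congrArg Subtype.val (LinearMap.congr_fun hc' x)⟩
  choose! lam hlam using hw
  let U : Submodule k W :=
    { carrier := {v | v ∈ U₀ ∧ ∀ z ∈ Z, ρ z v = lam z • v}
      zero_mem' := ⟨zero_mem _, fun z _ => by simp⟩
      add_mem' := fun ha hb => ⟨add_mem ha.1 hb.1, fun z hz => by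
        rw [map_add, ha.2 z hz, hb.2 z hz, smul_add]⟩
      smul_mem' := fun c v hv => ⟨U₀.smul_mem c hv.1, fun z hz => by
        rw [map_smul, hv.2 z hz, smul_comm]⟩ }
  exact ⟨U, fun v hv => hv.1, (Submodule.ne_bot_iff _).2 ⟨x, ⟨hXU x.2, hlam⟩,
    fun e => hx (Subtype.ext e)⟩, fun z hz => ⟨lam z, fun u hu => hu.2 z hz⟩,
    fun g h1 h2 u hu => ⟨h1 u hu.1, fun z hz => by rw [h2 z hz u hu.1, hu.2 z hz, map_smul]⟩⟩

end Cfsg.Agent.Loc.H78
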