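import Mathlib
import Cfsg.Agent.Loc.TurType

/-!
Orbit arguments: a vector fixed by a group `A` of prime order whose translates under a group of
class two are either fixed by `A` or have vanishing trace.
-/

set_option autoImplicit false

namespace Cfsg.Agent.Loc.H78

open Cfsg Module Cfsg.Agent.FT Cfsg.Agent.GT
open scoped commutatorElement

section Grp

variable {G : Type*} [Group G]

/-- `A` has no nontrivial fixed coset of `N` in `H`. -/
def Fpf (A H N : Subgroup G) : Prop := ∀ x ∈ H, ∀ b ∈ A, b ≠ 1 → ⁅x, b⁆ ∈ N → x ∈ N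

theorem norm_of_der {Z N : Subgroup G} (hN : N ≤ Z) (h : ⁅Z, Z⁆ ≤ N) : Z ≤ 𝐍(N) :=
  CopAct.le_normalizer_of_commutator_le hN h

variable [Finite G]

theorem fpf_of_cent {A H N : Subgroup G} (hA : (Nat.card A).Prime) (hN : N ≤ H) (hAN : A ≤ 𝐍(N))
    (hc : (Nat.card A).Coprime (Nat.card H)) (hs : Group.IsSolvable H) (hC : H ⊓ 𝐂(A) ≤ N) :
    Fpf A H N := fun _ hx _ hb hb1 e =>
  mem_of_comm_mem hAN (CopAct.coprime_mono hc le_rfl hN) (Or.inr (CopAct.isSolvable_of_le hN hs))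
    hN hC hx fun _ ha => (le_of_prime_card hA hb hb1 (Z := cent1 _ N) ⟨hAN hb, e⟩ ha).2

theorem mem_of_comm_der {A Z N : Subgroup G} (hN : N ≤ Z) (hZ : ⁅Z, Z⁆ ≤ N) (hAZ : A ≤ 𝐍(Z))
    (hAN : A ≤ 𝐍(N)) (hc : (Nat.card A).Coprime (Nat.card Z)) (hs : Group.IsSolvable Z) {x : G}
    (hx : x ∈ ⁅Z, A⁆) (h : ∀ b ∈ A, ⁅x, b⁆ ∈ N) : x ∈ N := by
  have h1 := CopAct.commutator_le_of_le_normalizer hAZ
  refine mem_of_comm_mem hAN (CopAct.coprime_mono hc le_rfl hN)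
    (Or.inr (CopAct.isSolvable_of_le hN hs)) (Q := N ⊔ ⁅Z, A⁆) le_sup_left ?_
    (Subgroup.mem_sup_right hx) h
  rw [CopAct.sup_inf_centralizer hAN (CopAct.le_normalizer_commutator hAZ Subgroup.le_normalizer)
    (h1.trans (norm_of_der hN hZ)) (CopAct.coprime_mono hc le_rfl (inf_le_left.trans hN))
    (Or.inr (CopAct.isSolvable_of_le (inf_le_left.trans hN) hs))]
  exact sup_le inf_le_left ((CopAct.commutator_inf_centralizer_le hAZ hc).trans hZ)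

theorem fpf_of_der {A Z N : Subgroup G} (hA : (Nat.card A).Prime) (hN : N ≤ Z) (hZ : ⁅Z, Z⁆ ≤ N)
    (hAZ : A ≤ 𝐍(Z)) (hAN : A ≤ 𝐍(N)) (hc : (Nat.card A).Coprime (Nat.card Z))
    (hs : Group.IsSolvable Z) : Fpf A ⁅Z, A⁆ N := fun _ hx _ hb hb1 e =>
  mem_of_comm_der hN hZ hAZ hAN hc hs hx
    fun _ ha => (le_of_prime_card hA hb hb1 (Z := cent1 _ N) ⟨hAN hb, e⟩ ha).2

end Grp

variable {k : Type*} [Field k] {G : Type*} [Group G] [Finite G] {W : Type*} [AddCommGroup W]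
  [Module k W] {M L F A D : Subgroup G} {σ : G → End k W} {w : W}

theorem PRep.nrm_nrm (h : PRep M σ) (hA : A ≤ M) {y x : G} (hy : y ∈ M) (hx : x ∈ M) {u : W}
    (hu : u ∈ pfix σ A) : σ y (nrm σ A (σ x u)) =
      ∑ b ∈ (Set.toFinite (A : Set G)).toFinset, σ (y * (b * x * b⁻¹)) u := by
  rw [nrm_apply, map_sum]
  refine Finset.sum_congr rfl fun b hb => ?_
  have hb' : b ∈ A := by simpa using hb
  rw [h.mul_apply hy (mul_mem (mul_mem (hA hb') hx) (inv_mem (hA hb'))),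
    h.mul_apply (mul_mem (hA hb') hx) (inv_mem (hA hb')), hu _ (inv_mem hb'),
    h.mul_apply (hA hb') hx]

theorem PRep.orbit_trick (h : PRep M σ) (hA : A ≤ M) (hc : (Nat.card A : k) ≠ 0) {H H₀ : Subgroup G}
    (hH : H ≤ M) (hAH : A ≤ 𝐍(H)) (hf : Fpf A H H₀) {u : W} (hu : u ∈ pfix σ A) (hu0 : u ≠ 0)
    (van : ∀ x ∈ H, x ∉ H₀ → nrm σ A (σ x u) = 0) : H ≤ H₀ := by
  intro x hx
  by_contra hx0
  have h1 := congrArg (nrm σ A) (h.nrm_nrm hA (inv_mem (hH hx)) (hH hx) hu)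
  rw [van x hx hx0, map_zero, map_zero, map_sum, Finset.sum_eq_single 1 (fun b hb hb1 => ?_)
    (by simp), one_mul, inv_one, mul_one, inv_mul_cancel, h.one, End.one_apply,
    nrm_of_mem_pfix hu, eq_comm, smul_eq_zero] at h1
  · exact h1.elim hc hu0
  · have hb' : b ∈ A := by simpa using hb
    refine van _ (mul_mem (inv_mem hx) (CopAct.conj_mem hAH hb' hx)) fun e => hx0 ?_
    exact inv_mem_iff.1 (hf _ (inv_mem hx) b hb' hb1 (by
      simpa only [commutatorElement_def, inv_inv, mul_assoc] using e))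

structure GS (M : Subgroup G) (σ : G → End k W) (L F A : Subgroup G) (w : W) : Prop where
  prep : PRep M σ
  hL : L ≤ M
  hA : A ≤ M
  hAL : A ≤ 𝐍(L)
  hAF : A ≤ 𝐍(F)
  hFL : F ≤ L
  der : ⁅L, L⁆ ≤ F
  triv : ∀ x ∈ ⁅F, L⁆, σ x = 1
  prime : (Nat.card A).Prime
  card : (Nat.card A : k) ≠ 0
  cop : (Nat.card A).Coprime (Nat.card L)
  sol : Group.IsSolvable L
  fix : w ∈ pfix σ A

omit [Finite G] in
theorem GS.hASt (h : GS M σ L F A w) : A ≤ 𝐍(h.prep.pker {w}) := fun b hb =>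
  Subgroup.le_normalizer (h.prep.mem_pker_single.2 ⟨h.hA hb, h.fix b hb⟩)

omit [Finite G] in
theorem GS.fix_iff (h : GS M σ L F A w) {x : G} (hx : x ∈ M) :
    σ x w ∈ pfix σ A ↔ ∀ b ∈ A, ⁅x⁻¹, b⁆ ∈ h.prep.pker {w} := by
  refine forall₂_congr fun b hb => ?_
  have hb' := h.hA hb
  rw [h.prep.mem_pker_single, commutatorElement_def, inv_inv,
    h.prep.mul_apply (mul_mem (mul_mem (inv_mem hx) hb') hx) (inv_mem hb'), h.fix _ (inv_mem hb),
    h.prep.mul_apply (mul_mem (inv_mem hx) hb') hx, h.prep.mul_apply (inv_mem hx) hb']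
  refine ⟨fun e => ⟨mul_mem (mul_mem (mul_mem (inv_mem hx) hb') hx) (inv_mem hb'), by
    rw [e, h.prep.inv_apply hx]⟩, fun e => ?_⟩
  conv_rhs => rw [← e.2, h.prep.apply_inv hx]

omit [Finite G] in
theorem GS.triv_le (h : GS M σ L F A w) (U : Set W) : ⁅F, L⁆ ≤ L ⊓ h.prep.pker U := fun x hx =>
  have h1 : x ∈ L := h.hFL (h.der (Subgroup.commutator_mono h.hFL le_rfl hx))
  ⟨h1, h.hL h1, fun u _ => by rw [h.triv x hx]; rfl⟩

theorem GS.stage1 (h : GS M σ L F A w) {δ : End k W} (h1 : ∀ f ∈ F, δ (σ f w) = σ f (δ w))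
    (h2 : δ w ∈ pfix σ A) (h0 : δ w ≠ 0)
    (hyp : ∀ x ∈ L, σ x w ∈ pfix σ A ∨ nrm σ A (δ (σ x w)) = 0) : ⁅F, A⁆ ≤ h.prep.pker {w} := by
  have hFA := CopAct.commutator_le_of_le_normalizer h.hAF
  have hd : ⁅F, F⁆ ≤ F ⊓ h.prep.pker {w} := le_inf (CopAct.commutator_le_of_le_normalizer
    Subgroup.le_normalizer) (((Subgroup.commutator_mono le_rfl h.hFL).trans (h.triv_le _)).trans
      inf_le_right)
  have hn := CopAct.le_normalizer_inf h.hAF h.hASt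
  have hc := CopAct.coprime_mono h.cop le_rfl h.hFL
  have hs := CopAct.isSolvable_of_le h.hFL h.sol
  refine (h.prep.orbit_trick h.hA h.card ((hFA.trans h.hFL).trans h.hL)
    (CopAct.le_normalizer_commutator h.hAF Subgroup.le_normalizer)
    (fpf_of_der h.prime inf_le_left hd h.hAF hn hc hs) h2 h0 fun x hx hx0 => ?_).trans inf_le_right
  rw [← h1 x (hFA hx)]
  refine (hyp x (h.hFL (hFA hx))).resolve_left fun e => hx0 (inv_mem_iff.1 ?_)
  exact mem_of_comm_der inf_le_left hd h.hAF hn hc hs (inv_mem hx) fun b hb =>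
    ⟨comm_mem_symm (comm_mem_of_norm (h.hAF hb) (inv_mem (hFA hx))),
      (h.fix_iff (h.hL (h.hFL (hFA hx)))).1 e b hb⟩

omit [Finite G] in
theorem GS.exists_eq (h : GS M σ L F A w) (s1 : ⁅F, A⁆ ≤ h.prep.pker {w}) {x : G}
    (hx : x ∈ F ⊔ L ⊓ h.prep.pker {w}) : ∃ f ∈ F, σ x w = σ f w ∧ σ f w ∈ pfix σ A := by
  obtain ⟨f, hf, s, hs, rfl⟩ := (CopAct.mem_sup_iff_of_le_normalizer
    (inf_le_left.trans (norm_of_der h.hFL h.der))).1 hx
  have hfM := h.hL (h.hFL hf)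
  exact ⟨f, hf, by rw [h.prep.mul_apply hfM (h.hL hs.1), (h.prep.mem_pker_single.1 hs.2).2],
    (h.fix_iff hfM).2 fun b hb => s1 (Subgroup.commutator_mem_commutator (inv_mem hf) hb)⟩

theorem GS.fin (h : GS M σ L F A w) (s1 : ⁅F, A⁆ ≤ h.prep.pker {w})
    (s2 : ⁅L, A⁆ ≤ F ⊔ L ⊓ h.prep.pker {w}) : ⁅L, A⁆ ≤ h.prep.pker {w} := by
  refine Subgroup.commutator_le.2 fun l hl b hb => ?_
  rw [← inv_inv l]
  refine (h.fix_iff (h.hL (inv_mem hl))).1 ?_ b hb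
  obtain ⟨c, hc, x, hx, e⟩ := CopAct.exists_eq_centralizer_mul_commutator h.hAL h.cop
    (Or.inr h.sol) (inv_mem hl)
  obtain ⟨f, -, e1, e2⟩ := h.exists_eq s1 (s2 hx)
  rw [← e, h.prep.mul_apply (h.hL hc.1) (h.hL (CopAct.commutator_le_of_le_normalizer h.hAL hx)), e1]
  exact h.prep.apply_mem_pfix h.hA (h.hL hc.1) (Subgroup.centralizer_le_normalizer _ hc.2) e2

omit [Finite G] in
theorem GS.hAN (h : GS M σ L F A w) : A ≤ 𝐍(F ⊔ L ⊓ h.prep.pker {w}) :=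
  CopAct.le_normalizer_sup h.hAF (CopAct.le_normalizer_inf h.hAL h.hASt)

theorem GS.mem_of_fix (h : GS M σ L F A w) {x : G} (hx : x ∈ ⁅L, A⁆) (e : σ x w ∈ pfix σ A) :
    x ∈ F ⊔ L ⊓ h.prep.pker {w} := by
  have hxL := CopAct.commutator_le_of_le_normalizer h.hAL hx
  exact inv_mem_iff.1 (mem_of_comm_der (sup_le h.hFL inf_le_left) (h.der.trans le_sup_left) h.hAL
    h.hAN h.cop h.sol (inv_mem hx) fun b hb => Subgroup.mem_sup_right
      ⟨comm_mem_symm (comm_mem_of_norm (h.hAL hb) (inv_mem hxL)), (h.fix_iff (h.hL hxL)).1 e b hb⟩)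

theorem GS.fpf (h : GS M σ L F A w) : Fpf A ⁅L, A⁆ (F ⊔ L ⊓ h.prep.pker {w}) :=
  fpf_of_der h.prime (sup_le h.hFL inf_le_left) (h.der.trans le_sup_left) h.hAL h.hAN h.cop h.sol

theorem GS.stage2 (h : GS M σ L F A w) (s1 : ⁅F, A⁆ ≤ h.prep.pker {w}) {δ : End k W}
    (h1 : ∀ x ∈ ⁅L, A⁆, δ (σ x w) = σ x (δ w)) (h2 : δ w ∈ pfix σ A) (h0 : δ w ≠ 0)
    (hyp : ∀ x ∈ L, σ x w ∈ pfix σ A ∨ nrm σ A (δ (σ x w)) = 0) : ⁅L, A⁆ ≤ h.prep.pker {w} := by
  have hLA := CopAct.commutator_le_of_le_normalizer h.hAL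
  refine h.fin s1 (h.prep.orbit_trick h.hA h.card (hLA.trans h.hL)
    (CopAct.le_normalizer_commutator h.hAL Subgroup.le_normalizer) h.fpf h2 h0 fun x hx hx0 => ?_)
  rw [← h1 x hx]
  exact (hyp x (hLA hx)).resolve_left fun e => hx0 (h.mem_of_fix hx e)

theorem GS.zero (h : GS M σ L F A w) (h0 : w ≠ 0)
    (hyp : ∀ x ∈ L, σ x w ∈ pfix σ A ∨ nrm σ A (σ x w) = 0) : ⁅L, A⁆ ≤ h.prep.pker {w} :=
  h.stage2 (h.stage1 (δ := 1) (fun _ _ => rfl) h.fix h0 hyp) (δ := 1) (fun _ _ => rfl) h.fix h0 hyp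

omit [Finite G] in
theorem GS.comm_of_mem (h : GS M σ L F A w) {d x : G} (hd : d ∈ M) (hx : x ∈ M)
    (e : ⁅x⁻¹, d⁻¹⁆ ∈ h.prep.pker {w}) : (σ d - 1) (σ x w) = σ x ((σ d - 1) w) := by
  simp only [LinearMap.sub_apply, End.one_apply, map_sub]
  conv_lhs => rw [← (h.prep.mem_pker_single.1 e).2]
  rw [← h.prep.mul_apply hx e.1, ← h.prep.mul_apply hd (mul_mem hx e.1), ← h.prep.mul_apply hx hd,
    h.prep.mul_apply hx e.1, (h.prep.mem_pker_single.1 e).2]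
  congr 3
  simp only [commutatorElement_def]
  group

omit [Finite G] in
theorem GS.sub_mem (h : GS M σ L F A w) {d : G} (hd : d ∈ M) (hdA : d ∈ 𝐂(A)) :
    (σ d - 1) w ∈ pfix σ A :=
  Submodule.sub_mem _
    (h.prep.apply_mem_pfix h.hA hd (Subgroup.centralizer_le_normalizer _ hdA) h.fix) h.fix

theorem GS.step (h : GS M σ L F A w) {d : G} (hd : d ∈ L ⊓ 𝐂(A)) (h0 : σ d w ≠ w)
    (hyp : ∀ x ∈ L, σ x w ∈ pfix σ A ∨ nrm σ A (σ d (σ x w)) = nrm σ A (σ x w)) :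
    ⁅L, A⁆ ≤ h.prep.pker {w} := by
  have hdM := h.hL hd.1
  have hyp' : ∀ x ∈ L, σ x w ∈ pfix σ A ∨ nrm σ A ((σ d - 1) (σ x w)) = 0 := fun x hx =>
    (hyp x hx).imp id fun e => by simp [e]
  have h0' : (σ d - 1) w ≠ 0 := by simpa [sub_eq_zero] using h0
  have s1 := h.stage1 (δ := σ d - 1) (fun f hf => h.comm_of_mem hdM (h.hL (h.hFL hf))
    (h.triv_le _ (Subgroup.commutator_mem_commutator (inv_mem hf) (inv_mem hd.1))).2)
    (h.sub_mem hdM hd.2) h0' hyp'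
  have hFA := CopAct.commutator_le_of_le_normalizer h.hAF
  have hT : ∀ B ≤ M, B ≤ 𝐍(L) → B ≤ 𝐍(L ⊓ h.prep.pker (⊤ : Submodule k W)) := fun B h1 h2 =>
    CopAct.le_normalizer_inf h2 (le_norm_of_conj_mem fun _ ha _ hx =>
      h.prep.conj_mem_pker (h1 ha) (fun _ _ => trivial) hx)
  have hLN : L ≤ 𝐍(⁅F, A⁆ ⊔ L ⊓ h.prep.pker (⊤ : Submodule k W)) :=
    CopAct.le_normalizer_of_commutator_le le_rfl (commutator_sup_le Subgroup.le_normalizer
      (((Subgroup.commutator_mono hFA le_rfl).trans (h.triv_le _)).trans le_sup_right)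
      ((CopAct.commutator_le_of_le_normalizer (hT L h.hL Subgroup.le_normalizer)).trans
        le_sup_right))
  have h3 := three_subgroups_of_le_normalizer (A := L) (B := A) (C := L ⊓ 𝐂(A)) hLN
    (CopAct.le_normalizer_sup (CopAct.le_normalizer_commutator h.hAF Subgroup.le_normalizer)
      (hT A h.hA h.hAL)) (inf_le_left.trans hLN)
    (by rw [CopAct.commutator_eq_bot_iff.2 inf_le_right, Subgroup.commutator_bot_left]; exact bot_le)
    ((Subgroup.commutator_mono ((Subgroup.commutator_mono inf_le_left le_rfl).trans h.der)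
      le_rfl).trans le_sup_left)
  have h4 : ⁅F, A⁆ ⊔ L ⊓ h.prep.pker (⊤ : Submodule k W) ≤ h.prep.pker {w} :=
    sup_le s1 fun x hx => h.prep.mem_pker_single.2 ⟨hx.2.1, hx.2.2 w trivial⟩
  exact h.stage2 s1 (fun x hx => h.comm_of_mem hdM
    (h.hL (CopAct.commutator_le_of_le_normalizer h.hAL hx))
    (h4 (h3 (Subgroup.commutator_mem_commutator (inv_mem hx) (inv_mem hd))))) (h.sub_mem hdM hd.2)
    h0' hyp'

theorem GS.top (h : GS M σ L F A w) (hD : D ≤ M) (hDA : D ≤ 𝐂(A)) (hDL : D ≤ 𝐍(L))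
    (hcop : (Nat.card D).Coprime (Nat.card A)) (hLD : L ≤ ⁅L, D⁆) (hLA : L ≤ ⁅L, A⁆)
    (hFD : ∀ x ∈ ⁅F, D⁆, σ x = 1) {d₀ : G} (hd₀ : d₀ ∈ D) (h0 : σ d₀ w ≠ w)
    (hyp : ∀ x ∈ L, σ x w ∈ pfix σ A ∨ ∀ d ∈ D, nrm σ A (σ d (σ x w)) = nrm σ A (σ x w)) :
    L ≤ h.prep.pker {w} := by
  have hdM := hD hd₀
  have h0' : (σ d₀ - 1) w ≠ 0 := by simpa [sub_eq_zero] using h0
  have h1 : ∀ f ∈ F, (σ d₀ - 1) (σ f w) = σ f ((σ d₀ - 1) w) := fun f hf =>
    h.comm_of_mem hdM (h.hL (h.hFL hf)) (h.prep.mem_pker_single.2 ⟨by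
      rw [commutatorElement_def]
      exact mul_mem (mul_mem (mul_mem (inv_mem (h.hL (h.hFL hf))) (inv_mem hdM))
        (inv_mem (inv_mem (h.hL (h.hFL hf))))) (inv_mem (inv_mem hdM)), by
      rw [hFD _ (Subgroup.commutator_mem_commutator (inv_mem hf) (inv_mem hd₀))]; rfl⟩)
  have s1 := h.stage1 h1 (h.sub_mem hdM (hDA hd₀)) h0' fun x hx =>
    (hyp x hx).imp id fun e => by simp [e d₀ hd₀]
  refine hLA.trans (h.fin s1 ((CopAct.commutator_le_of_le_normalizer h.hAL).trans ?_))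
  set N := F ⊔ L ⊓ h.prep.pker {w}
  have hNL : N ≤ L := sup_le h.hFL inf_le_left
  have hn : ∀ d ∈ D, ∀ v, nrm σ A (σ d v) = σ d (nrm σ A v) := fun d hd v =>
    h.prep.nrm_comm h.hA (hD hd) (Subgroup.centralizer_le_normalizer _ (hDA hd)) v
  have hout : ∀ x ∈ L, x ∉ N → ∀ d ∈ D, σ d (nrm σ A (σ x w)) = nrm σ A (σ x w) :=
    fun x hx hxN d hd => by
      rw [← hn d hd]
      exact (hyp x hx).resolve_left (fun e => hxN (h.mem_of_fix (hLA hx) e)) d hd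
  have key : ∀ x ∈ L, x ∉ N → ∀ d ∈ D, ∃ b ∈ A, (d⁻¹ * x * d)⁻¹ * (b * x * b⁻¹) ∈ N := by
    intro x hx hxN d hd
    by_contra hc
    push Not at hc
    have e := congrArg (fun v => (σ d₀ - 1) (nrm σ A (σ x⁻¹ v))) (hout x hx hxN d hd)
    have hxM := h.hL hx
    simp only [← h.prep.mul_apply (inv_mem hxM) (hD hd),
      h.prep.nrm_nrm h.hA (mul_mem (inv_mem hxM) (hD hd)) hxM h.fix,
      h.prep.nrm_nrm h.hA (inv_mem hxM) hxM h.fix, map_sum] at e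
    rw [Finset.sum_eq_zero, Finset.sum_eq_single 1 (fun b hb hb1 => ?_) (by simp), one_mul,
      inv_one, mul_one, inv_mul_cancel, h.prep.one, End.one_apply, nrm_of_mem_pfix h.fix,
      map_smul, eq_comm, smul_eq_zero] at e
    · exact e.elim h.card h0'
    · have hb' : b ∈ A := by simpa using hb
      rw [LinearMap.sub_apply, hout _ (mul_mem (inv_mem hx) (CopAct.conj_mem h.hAL hb' hx))
        (fun e => hxN (inv_mem_iff.1 (h.fpf _ (hLA (inv_mem hx)) b hb' hb1 (by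
          simpa only [commutatorElement_def, inv_inv, mul_assoc] using e)))) d₀ hd₀,
        End.one_apply, sub_self]
    · intro b hb
      have hb' : b ∈ A := by simpa using hb
      have h2 : (d⁻¹ * x * d)⁻¹ * (b * x * b⁻¹) ∈ L :=
        mul_mem (inv_mem (CopAct.conj_mem' hDL hd hx)) (CopAct.conj_mem h.hAL hb' hx)
      rw [show x⁻¹ * d * (b * x * b⁻¹) = d * ((d⁻¹ * x * d)⁻¹ * (b * x * b⁻¹)) by group,
        h.prep.mul_apply (hD hd) (h.hL h2), hn d hd, hout _ h2 (hc b hb') d hd,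
        LinearMap.sub_apply, hout _ h2 (hc b hb') d₀ hd₀, End.one_apply, sub_self]
  have hDN : D ≤ 𝐍(N) := le_norm_of_conj_mem fun d hd n hn => by
    by_contra hc
    obtain ⟨b, hb, e⟩ := key _ (CopAct.conj_mem hDL hd (hNL hn)) hc d hd
    rw [show d⁻¹ * (d * n * d⁻¹) * d = n by group, mul_mem_cancel_left (inv_mem hn)] at e
    exact hc (by simpa [mul_assoc] using CopAct.conj_mem' h.hAN hb e)
  refine hLD.trans (Subgroup.commutator_le.2 fun x hx d hd => ?_)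
  by_cases hxN : x ∈ N
  · exact comm_mem_symm (comm_mem_of_norm (hDN hd) hxN)
  obtain ⟨b, hb, e⟩ := key x⁻¹ (inv_mem hx) (fun e => hxN (inv_mem_iff.1 e)) d hd
  have h3 : b * d ∈ cent1 x N := ⟨mul_mem (h.hAN hb) (hDN hd), by
    convert CopAct.conj_mem hDN hd e using 1
    simp only [commutatorElement_def]
    rw [hDA hd b hb]
    group⟩
  obtain rfl := eq_one_of_mul_mem h.prime (fun e => by
    obtain ⟨a, ha, ha1⟩ := (Subgroup.bot_or_exists_ne_one A).resolve_left fun e =>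
      h.prime.one_lt.ne' (Subgroup.card_eq_one.2 e)
    exact hxN (h.fpf x (hLA hx) a ha ha1 (e ha).2)) (hDA hd)
    (hcop.coprime_dvd_left (Subgroup.orderOf_dvd_natCard D hd)) hb h3
  simpa using h3.2

end Cfsg.Agent.Loc.H78
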