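import Mathlib
import Cfsg.Agent.Loc.TurOrb
import Cfsg.Agent.FT.PF9Model

/-!
The dual module of an elementary abelian section, as a space of functions.
-/

set_option autoImplicit false

namespace Cfsg.Agent.Loc.H78

open Cfsg Module Cfsg.Agent.FT Cfsg.Agent.GT
open scoped commutatorElement

variable (k : Type*) [Field k] {G : Type*} [Group G]

/-- Additive functions on `X` that vanish on `N`, extended by zero. -/
def homSp (X N : Subgroup G) : Submodule k (G → k) where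
  carrier := {φ | (∀ x, x ∉ X → φ x = 0) ∧ (∀ x ∈ X, ∀ y ∈ X, φ (x * y) = φ x + φ y) ∧
    ∀ x ∈ N, φ x = 0}
  zero_mem' := ⟨fun _ _ => rfl, fun _ _ _ _ => by simp, fun _ _ => rfl⟩
  add_mem' := fun ha hb => ⟨fun x hx => by simp [ha.1 x hx, hb.1 x hx], fun x hx y hy => by
    simp only [Pi.add_apply, ha.2.1 x hx y hy, hb.2.1 x hx y hy]; ring,
    fun x hx => by simp [ha.2.2 x hx, hb.2.2 x hx]⟩
  smul_mem' := fun c _ ha => ⟨fun x hx => by simp [ha.1 x hx], fun x hx y hy => by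
    simp only [Pi.smul_apply, ha.2.1 x hx y hy, smul_add], fun x hx => by simp [ha.2.2 x hx]⟩

theorem prep_funConj : PRep (⊤ : Subgroup G)
    (fun g : G => (LinearMap.funLeft k k fun y => g⁻¹ * y * g : End k (G → k))) :=
  ⟨by ext; simp [LinearMap.funLeft], fun a _ b _ => by
    ext φ y
    simp [LinearMap.funLeft, mul_assoc]⟩

theorem homSp_inv (X N : Subgroup G) : ∀ g ∈ 𝐍(X) ⊓ 𝐍(N), ∀ φ ∈ homSp k X N,
    (LinearMap.funLeft k k fun y => g⁻¹ * y * g) φ ∈ homSp k X N := fun g hg φ hφ =>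
  ⟨fun x hx => hφ.1 _ fun e => hx (by simpa [mul_assoc] using CopAct.conj_mem le_rfl hg.1 e),
    fun x hx y hy => by
      simp only [LinearMap.funLeft_apply]
      rw [← hφ.2.1 _ (CopAct.conj_mem' le_rfl hg.1 hx) _ (CopAct.conj_mem' le_rfl hg.1 hy)]
      congr 1
      group,
    fun x hx => hφ.2.2 _ (CopAct.conj_mem' le_rfl hg.2 hx)⟩

/-- The action by conjugation on `homSp`. -/
noncomputable def hRep (X N : Subgroup G) : G → End k (homSp k X N) :=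
  ofRep ((prep_funConj k).toRep le_top (homSp k X N) (homSp_inv k X N))

theorem prep_hRep (X N : Subgroup G) : PRep (𝐍(X) ⊓ 𝐍(N)) (hRep k X N) := prep_ofRep _

variable {k} {X N A B H S : Subgroup G} {φ : homSp k X N} {g x : G}

theorem hRep_apply (hg : g ∈ 𝐍(X) ⊓ 𝐍(N)) (φ : homSp k X N) (y : G) :
    (hRep k X N g φ : G → k) y = (φ : G → k) (g⁻¹ * y * g) := by
  rw [hRep, ofRep_apply _ hg]
  rfl

theorem homSp_one (φ : homSp k X N) : (φ : G → k) 1 = 0 := by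
  simpa using φ.2.2.1 1 (one_mem _) 1 (one_mem _)

theorem homSp_inv_apply (φ : homSp k X N) (hx : x ∈ X) : (φ : G → k) x⁻¹ = -(φ : G → k) x := by
  have := φ.2.2.1 x hx x⁻¹ (inv_mem hx)
  rw [mul_inv_cancel, homSp_one] at this
  linear_combination -this

/-- The kernel of an element of `homSp`. -/
def hker (φ : homSp k X N) : Subgroup G where
  carrier := {x | x ∈ X ∧ (φ : G → k) x = 0}
  one_mem' := ⟨one_mem _, homSp_one φ⟩
  mul_mem' := fun ha hb => ⟨mul_mem ha.1 hb.1, by rw [φ.2.2.1 _ ha.1 _ hb.1, ha.2, hb.2, add_zero]⟩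
  inv_mem' := fun ha => ⟨inv_mem ha.1, by rw [homSp_inv_apply φ ha.1, ha.2, neg_zero]⟩

theorem le_hker (hN : N ≤ X) (φ : homSp k X N) : N ≤ hker φ := fun x hx => ⟨hN hx, φ.2.2.2 x hx⟩

theorem hker_le (φ : homSp k X N) : hker φ ≤ X := fun _ hx => hx.1

theorem eq_zero_of_le_hker (h : X ≤ hker φ) : φ = 0 := Subtype.ext (funext fun x => by
  by_cases hx : x ∈ X
  · exact (h hx).2
  · exact φ.2.1 x hx)

theorem mem_hker_hRep (hg : g ∈ 𝐍(X) ⊓ 𝐍(N)) :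
    x ∈ hker (hRep k X N g φ) ↔ g⁻¹ * x * g ∈ hker φ :=
  and_congr ⟨CopAct.conj_mem' le_rfl hg.1, fun e => by
    simpa [mul_assoc] using CopAct.conj_mem le_rfl hg.1 e⟩ (by rw [hRep_apply hg])

theorem mem_hker_sub (hg : g ∈ 𝐍(X) ⊓ 𝐍(N)) (hx : x ∈ X) :
    x ∈ hker (hRep k X N g φ - φ) ↔ ⁅x⁻¹, g⁻¹⁆ ∈ hker φ := by
  refine and_congr ⟨fun _ => comm_mem_symm (comm_mem_of_norm (inv_mem hg.1) (inv_mem hx)),
    fun _ => hx⟩ ?_
  rw [show ⁅x⁻¹, g⁻¹⁆ = x⁻¹ * (g⁻¹ * x * g) by simp [commutatorElement_def, mul_assoc],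
    φ.2.2.1 _ (inv_mem hx) _ (CopAct.conj_mem' le_rfl hg.1 hx), homSp_inv_apply φ hx,
    Submodule.coe_sub, Pi.sub_apply, hRep_apply hg, neg_add_eq_sub]

theorem hRep_eq_iff (hg : g ∈ 𝐍(X) ⊓ 𝐍(N)) :
    hRep k X N g φ = φ ↔ ∀ x ∈ X, ⁅x, g⁻¹⁆ ∈ hker φ := by
  rw [← sub_eq_zero]
  refine ⟨fun e x hx => ?_, fun e => eq_zero_of_le_hker fun x hx =>
    (mem_hker_sub hg hx).2 (e _ (inv_mem hx))⟩
  rw [← inv_inv x, ← mem_hker_sub hg (inv_mem hx), e]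
  exact ⟨inv_mem hx, rfl⟩

theorem mem_pfix_hRep (hB : B ≤ 𝐍(X) ⊓ 𝐍(N)) : φ ∈ pfix (hRep k X N) B ↔ ⁅X, B⁆ ≤ hker φ := by
  rw [Subgroup.commutator_le]
  refine ⟨fun h x hx b hb => ?_, fun h b hb => (hRep_eq_iff (hB hb)).2 fun x hx =>
    h x hx _ (inv_mem hb)⟩
  simpa using (hRep_eq_iff (hB (inv_mem hb))).1 (h _ (inv_mem hb)) x hx

theorem hRep_eq_one [Finite G] (hN : N ≤ X) (hg : g ∈ cent2 X N) : hRep k X N g = 1 :=
  LinearMap.ext fun φ => (hRep_eq_iff ⟨hg.1, cent2_le_norm hN hg⟩).2 fun x hx =>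
    le_hker hN φ (comm_mem_symm ((inv_mem hg).2 x hx))

theorem exists_homSp [Finite G] {p : ℕ} [hp : Fact p.Prime] [Algebra (ZMod p) k]
    (hX : IsPGroup p X) {N' : Subgroup G} (hN : N ≤ N') (hN' : N' ≤ X) (hc : ⁅X, X⁆ ≤ N')
    (hpow : ∀ x ∈ X, x ^ p ∈ N') (hx : x ∈ X) (hxN : x ∉ N') :
    ∃ φ : homSp k X N, N' ≤ hker φ ∧ x ∉ hker φ := by
  classical
  obtain ⟨n, hn⟩ := hX.index (N'.subgroupOf X)
  obtain ⟨π, hπ⟩ := exists_secModel_pi hN' hc hpow hn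
  obtain ⟨i, hi⟩ := Function.ne_iff.1 (mt (hπ.eq_zero x hx).1 hxN)
  have h0 : ∀ y ∈ N', (if y ∈ X then algebraMap (ZMod p) k (π y i) else 0) = 0 := fun y hy => by
    rw [if_pos (hN' hy), (hπ.eq_zero y (hN' hy)).2 hy, Pi.zero_apply, map_zero]
  refine ⟨⟨fun y => if y ∈ X then algebraMap (ZMod p) k (π y i) else 0, fun y hy => if_neg hy,
    fun a ha b hb => ?_, fun y hy => h0 y (hN hy)⟩, fun y hy => ⟨hN' hy, h0 y hy⟩, fun e => hi ?_⟩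
  · simp only [if_pos ha, if_pos hb, if_pos (mul_mem ha hb), hπ.map_mul a ha b hb, Pi.add_apply,
      map_add]
  · simpa [hx] using e.2

theorem mem_cent2_of_hRep [Finite G] {p : ℕ} [hp : Fact p.Prime] [Algebra (ZMod p) k]
    (hX : IsPGroup p X) (hN : N ≤ X) (hc : ⁅X, X⁆ ≤ N) (hpow : ∀ x ∈ X, x ^ p ∈ N)
    (hg : g ∈ 𝐍(X) ⊓ 𝐍(N)) (h : ∀ φ, hRep k X N g φ = φ) : g ∈ cent2 X N := by
  refine inv_mem_iff.1 ⟨inv_mem hg.1, fun x hx => ?_⟩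
  by_contra e
  obtain ⟨φ, -, h2⟩ := exists_homSp (k := k) hX (le_refl N) hN hc hpow
    (comm_mem_of_norm (inv_mem hg.1) hx) e
  exact h2 (comm_mem_symm ((hRep_eq_iff hg).1 (h φ) x hx))

variable [Finite G]

theorem nrm_hRep_apply (hH : H ≤ 𝐍(X) ⊓ 𝐍(N)) (φ : homSp k X N) (hx : x ∈ 𝐂(H)) :
    (nrm (hRep k X N) H φ : G → k) x = Nat.card H * (φ : G → k) x := by
  rw [nrm_apply, Submodule.coe_sum, Finset.sum_apply, Finset.sum_congr rfl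
    (g := fun _ => (φ : G → k) x), Finset.sum_const, nsmul_eq_mul,
    ← Set.ncard_eq_toFinset_card, ← Nat.card_coe_set_eq]
  · rfl
  · intro b hb
    have hb' : b ∈ H := by simpa using hb
    rw [hRep_apply (hH hb'), mul_assoc, ← hx b hb', inv_mul_cancel_left]

theorem nrm_hRep_eq_zero (hA : A ≤ 𝐍(X) ⊓ 𝐍(N)) (hc : (Nat.card A).Coprime (Nat.card X))
    (hs : Group.IsSolvable X) (h : X ⊓ 𝐂(A) ≤ hker φ) : nrm (hRep k X N) A φ = 0 := by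
  refine eq_zero_of_le_hker fun x hx => ?_
  obtain ⟨c, hc, y, hy, rfl⟩ := CopAct.exists_eq_centralizer_mul_commutator
    (hA.trans inf_le_left) hc (Or.inr hs) hx
  exact mul_mem ⟨hc.1, by rw [nrm_hRep_apply hA _ hc.2, (h hc).2, mul_zero]⟩
    ((mem_pfix_hRep hA).1 ((prep_hRep k X N).nrm_mem_pfix hA φ) hy)

theorem le_hker_sub (hA : A ≤ 𝐍(X) ⊓ 𝐍(N)) (hφ : φ ∈ pfix (hRep k X N) A)
    (hg : g ∈ 𝐍(X) ⊓ 𝐍(N)) (hgA : g ∈ 𝐂(A)) {Z : Subgroup G} (hZ : Z ≤ X) (hAZ : A ≤ 𝐍(Z))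
    (hc : (Nat.card A).Coprime (Nat.card Z)) (hs : Group.IsSolvable Z)
    (h : ∀ x ∈ Z ⊓ 𝐂(A), ⁅x, g⁻¹⁆ ∈ hker φ) : Z ≤ hker (hRep k X N g φ - φ) := by
  intro x hx
  obtain ⟨c, hc, y, hy, rfl⟩ := CopAct.exists_eq_centralizer_mul_commutator hAZ hc (Or.inr hs) hx
  refine mul_mem ((mem_hker_sub hg (hZ hc.1)).2 (h _ (inv_mem hc))) ?_
  exact (mem_pfix_hRep hA).1 (sub_mem ((prep_hRep k X N).apply_mem_pfix hA hg
    (Subgroup.centralizer_le_normalizer _ hgA) hφ) hφ) (Subgroup.commutator_mono hZ le_rfl hy)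

theorem pfix_le_pfix_hRep (hN : N ≤ X) (hA : A ≤ 𝐍(X) ⊓ 𝐍(N)) (hS : S ≤ 𝐍(X) ⊓ 𝐍(N))
    (hSA : S ≤ 𝐂(A)) (hc : (Nat.card A).Coprime (Nat.card X)) (hs : Group.IsSolvable X)
    (h : ⁅X ⊓ 𝐂(A), S⁆ ≤ N) : pfix (hRep k X N) A ≤ pfix (hRep k X N) S := fun φ hφ _ hg =>
  sub_eq_zero.1 (eq_zero_of_le_hker (le_hker_sub hA hφ (hS hg) (hSA hg) le_rfl
    (hA.trans inf_le_left) hc hs fun _ hx =>
      le_hker hN φ (h (Subgroup.commutator_mem_commutator hx (inv_mem hg)))))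

theorem mem_pfix_of_nrm (hN : N ≤ X) (hA : A ≤ 𝐍(X) ⊓ 𝐍(N)) (hS : S ≤ 𝐍(X) ⊓ 𝐍(N))
    (hH : H ≤ 𝐍(X) ⊓ 𝐍(N)) (hSA : S ≤ 𝐂(A)) (hAH : A ≤ 𝐍(H)) (hSH : S ≤ 𝐍(H))
    (hc : (Nat.card A).Coprime (Nat.card X)) (hc' : (Nat.card H).Coprime (Nat.card X))
    (hk : (Nat.card H : k) ≠ 0) (hs : Group.IsSolvable X) (h : ⁅⁅X, H⁆ ⊓ 𝐂(A), S⁆ ≤ N)
    (h0 : nrm (hRep k X N) H φ = 0) (hφ : φ ∈ pfix (hRep k X N) A) :
    φ ∈ pfix (hRep k X N) S := by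
  intro g hg
  refine sub_eq_zero.1 (eq_zero_of_le_hker fun x hx => ?_)
  have hXH := CopAct.commutator_le_of_le_normalizer (hH.trans inf_le_left)
  obtain ⟨c, hc1, y, hy, rfl⟩ := CopAct.exists_eq_centralizer_mul_commutator
    (hH.trans inf_le_left) hc' (Or.inr hs) hx
  have h1 : X ⊓ 𝐂(H) ≤ hker φ := fun z hz => ⟨hz.1, by
    have := nrm_hRep_apply hH φ hz.2
    rw [h0] at this
    exact (mul_eq_zero.1 this.symm).resolve_left hk⟩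
  refine mul_mem ((mem_hker_sub (hS hg) hc1.1).2 (h1 (comm_mem_symm (comm_mem_of_norm
    (CopAct.le_normalizer_inf (hS.trans inf_le_left) (CopAct.le_normalizer_centralizer hSH)
      (inv_mem hg)) (inv_mem hc1))))) ?_
  exact le_hker_sub hA hφ (hS hg) (hSA hg) hXH
    (CopAct.le_normalizer_commutator (hA.trans inf_le_left) hAH) (CopAct.coprime_mono hc le_rfl hXH)
    (CopAct.isSolvable_of_le hXH hs)
    (fun _ hz => le_hker hN φ (h (Subgroup.commutator_mem_commutator hz (inv_mem hg)))) hy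

end Cfsg.Agent.Loc.H78
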