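import Mathlib
import Cfsg.Agent.Loc.TurHom

/-!
A group of prime order `r` acting on a nondegenerate section with commutator of order `(r - 1) ^ 2`
centralises every coprime operator group of class two modulo the kernel.
-/

set_option autoImplicit false

namespace Cfsg.Agent.Loc.H78

open Cfsg Module Polynomial Cfsg.Agent.FT Cfsg.Agent.GT
open scoped commutatorElement

section Grp

variable {G : Type*} [Group G] {A B H K P Y : Subgroup G}

/-- The commutator form of `H / Y` with values modulo `K` is nondegenerate. -/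
def ND (H Y K : Subgroup G) : Prop := ∀ x ∈ H, x ∉ Y → ∃ x' ∈ H, ⁅x', x⁆ ∉ K

theorem nd_rad (P K : Subgroup G) : ND P (P ⊓ cent2 P K) K := fun x hx hxY => by
  by_contra h
  push Not at h
  exact hxY ⟨hx, Subgroup.le_normalizer hx, fun y hy => comm_mem_symm (h y hy)⟩

theorem orth (hH : H ≤ 𝐍(K)) (hB : B ≤ 𝐍(K)) (h : ⁅⁅H, H⁆, B⁆ ≤ K) : ⁅⁅H, B⁆, H ⊓ 𝐂(B)⁆ ≤ K :=
  three_subgroups_of_le_normalizer hH hB (inf_le_left.trans hH)
    (by rw [CopAct.commutator_eq_bot_iff.2 inf_le_right, Subgroup.commutator_bot_left]; exact bot_le)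
    ((Subgroup.commutator_mono (Subgroup.commutator_mono inf_le_left le_rfl) le_rfl).trans h)

theorem ND.comm [Finite G] (h : ND H Y K) (hH : H ≤ 𝐍(K)) (hYH : Y ≤ H) (hY : ⁅Y, H⁆ ≤ K)
    (hBH : B ≤ 𝐍(H)) (hc : (Nat.card B).Coprime (Nat.card H)) (hs : Group.IsSolvable H)
    (ho : ⁅⁅H, B⁆, H ⊓ 𝐂(B)⁆ ≤ K) : ND (⁅H, B⁆ ⊔ Y) Y K := fun x hx hxY => by
  have h1 := sup_le (CopAct.commutator_le_of_le_normalizer hBH) hYH
  by_contra e
  push Not at e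
  obtain ⟨y, hy, hyK⟩ := h x (h1 hx) hxY
  obtain ⟨c, hc, z, hz, rfl⟩ := CopAct.exists_eq_centralizer_mul_commutator hBH hc (Or.inr hs) hy
  refine hyK (comm_mem_symm ((cent1 x K).mul_mem ⟨hH hc.1, ?_⟩
    ⟨hH (h1 (Subgroup.mem_sup_left hz)), comm_mem_symm (e z (Subgroup.mem_sup_left hz))⟩).2)
  exact commutator_sup_le (h1.trans hH) ho
    ((Subgroup.commutator_mono le_rfl inf_le_left).trans hY)
    (Subgroup.commutator_mem_commutator hx hc)

theorem Fpf.semi (h : Fpf A H Y) {a : G} (ha : a ∈ A) : ∀ x ∈ H, x ∉ Y → ∀ i, 0 < i →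
    i < orderOf a → a ^ i * x * (a ^ i)⁻¹ * x⁻¹ ∉ Y := fun x hx hxY _ hi hi' e =>
  hxY (h x hx _ (pow_mem ha _) (pow_ne_one_of_lt_orderOf hi.ne' hi') (comm_mem_symm e))

theorem exists_orderOf_eq_card [Finite G] (hA : (Nat.card A).Prime) :
    ∃ a ∈ A, orderOf a = Nat.card A ∧ A ≤ Subgroup.zpowers a := by
  obtain ⟨a, ha, ha1⟩ := (Subgroup.bot_or_exists_ne_one A).resolve_left fun e =>
    hA.one_lt.ne' (Subgroup.card_eq_one.2 e)
  exact ⟨a, ha, ((Nat.dvd_prime hA).1 (A.orderOf_dvd_natCard ha)).resolve_left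
    (mt orderOf_eq_one_iff.1 ha1), le_of_prime_card hA ha ha1 (Subgroup.mem_zpowers a)⟩

theorem Fpf.sup [Finite G] (h : Fpf A H Y) (hH : H ≤ 𝐍(Y)) (hA : A ≤ 𝐍(Y)) :
    Fpf A (H ⊔ Y) Y := fun x hx b hb hb1 e => by
  obtain ⟨z, hz, y, hy, rfl⟩ := (CopAct.mem_sup_iff_of_le_normalizer' hH).1 (sup_comm H Y ▸ hx)
  refine mul_mem (h z hz b hb hb1 ?_) hy
  have h1 := CopAct.conj_mem hH hz (comm_mem_symm (comm_mem_of_norm (hA hb) hy))
  convert mul_mem (inv_mem h1) e using 1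
  simp only [commutatorElement_def]
  group

theorem card_le_cent_mul [Finite G] (hAH : A ≤ 𝐍(H)) (hc : (Nat.card A).Coprime (Nat.card H))
    (hs : Group.IsSolvable H) : Nat.card H ≤ Nat.card ↥(H ⊓ 𝐂(A)) * Nat.card ↥⁅H, A⁆ := by
  refine le_trans (Subgroup.card_le_of_le fun x hx => ?_) (Nat.le_of_dvd
    (Nat.mul_pos Nat.card_pos Nat.card_pos) (card_sup_dvd_of_le_normalizer
      (inf_le_left.trans (Subgroup.normalizer_commutator_ge_left ..))))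
  obtain ⟨c, hc, z, hz, rfl⟩ := CopAct.exists_eq_centralizer_mul_commutator hAH hc (Or.inr hs) hx
  exact Subgroup.mul_mem_sup hc hz

end Grp

section Rep

variable {k : Type*} [Field k] {G : Type*} [Group G] [Finite G] {W : Type*} [AddCommGroup W]
  [Module k W] [IsAlgClosed k] [FiniteDimensional k W] {M L Y P K H : Subgroup G}
  {ρ : G → End k W} {U : Submodule k W}

theorem IsTyp.exists_hs (h : IsTyp M ρ P K) (hYH : P ⊓ cent2 P K ≤ H) (hHP : H ≤ P)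
    (hd : ⁅H, H⁆ ≤ P ⊓ cent2 P K) (nd : ND H (P ⊓ cent2 P K) K) {U₀ : Submodule k W}
    (hU₀ : U₀ ≤ typ ρ P K) (h0 : U₀ ≠ ⊥) (inv : ∀ x ∈ H, ∀ u ∈ U₀, ρ x u ∈ U₀) :
    ∃ U ≤ U₀, U ≠ ⊥ ∧ HS M ρ H (P ⊓ cent2 P K) U ∧ ∀ g ∈ M, g ∈ 𝐍(P) → g ∈ 𝐍(K) →
      (∀ y ∈ P ⊓ cent2 P K, ⁅y, g⁆ ∈ K) → (∀ u ∈ U₀, ρ g u ∈ U₀) → ∀ u ∈ U, ρ g u ∈ U := by
  obtain ⟨U, hU, hU0, hsc, hinv⟩ := h.prep.exists_wt (inf_le_left.trans h.hP) h0
    (fun z hz => inv z (hYH hz)) fun a ha b hb u hu => h.commY ha hb.1 (hU₀ hu)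
  refine ⟨U, hU, hU0, ⟨h.prep, hHP.trans h.hP, hYH, card_ne_zero_of_le h.card hHP,
    fun x hx => hinv x (inv x hx) fun z hz u hu => h.commY hz (hHP hx) (hU₀ hu),
    fun x hx y hy => hd (Subgroup.commutator_mem_commutator hx hy), hsc, fun x hx hxY => ?_⟩,
    fun g hg hgP hgK hc hgU => hinv g hgU fun z hz u hu =>
      h.comm hz.1 hg hgP hgK (hc z hz) (hU₀ hu)⟩
  obtain ⟨x', hx', e⟩ := nd x hx hxY
  obtain ⟨u, hu, hu0⟩ := (Submodule.ne_bot_iff _).1 hU0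
  exact ⟨x', hx', u, hu, fun e' => hu0
    (h.fpf (hd (Subgroup.commutator_mem_commutator hx' hx)) e (hU₀ (hU hu)) e')⟩

theorem HS.rank (h : HS M ρ L Y U) (hU0 : U ≠ ⊥) (hne : ¬ L ≤ Y) {a : G} (ha : a ∈ M)
    (haL : a ∈ 𝐍(L)) (haY : a ∈ 𝐍(Y)) (haU : ∀ u ∈ U, ρ a u ∈ U) {s : ℕ} (hs : 0 < s)
    (har : a ^ (s + 1) = 1) (hrk : ((s + 1 : ℕ) : k) ≠ 0)
    (semi : ∀ x ∈ L, x ∉ Y → ∀ i, 0 < i → i < s + 1 → a ^ i * x * (a ^ i)⁻¹ * x⁻¹ ∉ Y) :
    ∃ w m, 2 ≤ w ∧ w ^ 2 * Nat.card Y = Nat.card L ∧ s * w ≤ (s + 1) * m + s ∧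
      m + finrank k (LinearMap.ker (ρ a - 1)) ≤ finrank k W := by
  obtain ⟨X, hXU, hX, hτ, haX, -⟩ := h.exists_irr hU0 ha haL haU (fun x hx e => by
      by_contra hxY
      refine semi x hx hxY 1 one_pos (by omega) ?_
      convert CopAct.conj_mem le_rfl haY e using 1
      simp only [commutatorElement_def]
      group) (m := 1) (r := s + 1) (by rw [pow_one, har]) hrk
  have c0 := h.card_eq hXU hτ
  have c2 := h.count' hXU hτ ha haL haY (T := (ρ a).restrict haX) (fun v => rfl) semi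
  have hw : 2 ≤ finrank k X := by
    by_contra h1
    have h2 := hτ.finrank_pos
    rw [show finrank k X = 1 by omega, one_pow, one_mul] at c0
    exact hne (Subgroup.eq_of_le_of_card_ge h.hYL c0.ge).ge
  have hq : (∑ j ∈ Finset.range (s + 1), (Polynomial.X : k[X]) ^ j).Monic :=
    monic_geom_sum_X s.succ_ne_zero
  have hq' : (∑ j ∈ Finset.range (s + 1), (Polynomial.X : k[X]) ^ j).natDegree = s := by
    have := (monic_X_sub_C (1 : k)).natDegree_mul hq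
    rw [natDegree_X_sub_C, map_one, mul_geom_sum, ← C_1, natDegree_X_pow_sub_C] at this
    omega
  obtain ⟨u, m, e1, e3, e2⟩ := exists_sq_le_of_aeval (T := (ρ a).restrict haX) hq (by
    rw [map_one, mul_geom_sum]
    refine LinearMap.ext fun v => Subtype.ext ?_
    simp [coe_restrict_pow, ← h.prep.pow ha, har, h.prep.one])
  rw [hq'] at e2
  refine ⟨_, m, hw, c0, ?_, ?_⟩
  · rw [← e1] at c2 ⊢
    by_contra h1
    have h2 : (s : ℤ) + 1 ≤ s * u - m := by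
      have : (s + 1) * m + s + 1 ≤ s * (u + m) := by omega
      zify at this
      linarith
    zify at c2 e2
    nlinarith [mul_le_mul_of_nonneg_left e2 (show (0 : ℤ) ≤ s + 1 by positivity),
      mul_le_mul_of_nonneg_left c2 (show (0 : ℤ) ≤ s by positivity),
      mul_self_le_mul_self (show (0 : ℤ) ≤ s + 1 by positivity) h2]
  · have f1 := LinearMap.finrank_range_add_finrank_ker ((ρ a).restrict haX - 1)
    have f2 := LinearMap.finrank_range_add_finrank_ker (ρ a - 1)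
    have f3 : (LinearMap.range ((ρ a).restrict haX - 1)).map X.subtype ≤
        LinearMap.range (ρ a - 1) := by
      rintro _ ⟨_, ⟨v, rfl⟩, rfl⟩
      exact ⟨v, rfl⟩
    have f4 := Submodule.finrank_mono f3
    rw [Submodule.finrank_map_subtype_eq] at f4
    omega

end Rep

theorem two_pow_arith {s m : ℕ} (hs : 1 ≤ s) (h : 2 * s ≤ m + 1) : s ^ 2 < 2 ^ m := by
  have h1 : ∀ n : ℕ, (n + 1) ^ 2 < 2 ^ (2 * n + 1) := fun n => by
    induction n with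
    | zero => norm_num
    | succ n ih => rw [show 2 * (n + 1) + 1 = 2 * n + 1 + 2 by ring, pow_add]; nlinarith
  obtain ⟨n, rfl⟩ := Nat.exists_eq_add_of_le' hs
  exact (h1 n).trans_le (Nat.pow_le_pow_right two_pos (by omega))

theorem three_pow_arith (s : ℕ) : s ^ 2 < 3 ^ s := by
  induction s with
  | zero => norm_num
  | succ n ih =>
    rcases Nat.lt_or_ge n 2 with h | h
    · interval_cases n <;> norm_num
    · rw [pow_succ 3]; nlinarith

theorem odd_sq_arith {r w : ℕ} (hr : r.Prime) (hr2 : r ≠ 2) (hw : 2 ≤ w) (ho : Odd w)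
    (h : w ^ 2 ≡ 1 [MOD r]) : 2 * r ≤ w + 1 := by
  obtain ⟨v, rfl⟩ := ho
  have h1 : r ∣ 2 * v * (2 * (v + 1)) := by
    convert (Nat.modEq_iff_dvd' (Nat.one_le_pow _ _ (by omega))).1 h.symm using 1
    rw [show (2 * v + 1) ^ 2 = 2 * v * (2 * (v + 1)) + 1 by ring, Nat.add_sub_cancel]
  have h2 : ∀ n, r ∣ 2 * n → r ∣ n := fun n e => ((Nat.Prime.dvd_mul hr).1 e).resolve_left
    fun e => hr2 ((Nat.prime_dvd_prime_iff_eq hr Nat.prime_two).1 e)
  rcases (Nat.Prime.dvd_mul hr).1 h1 with e | e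
  · have := Nat.le_of_dvd (by omega) (h2 _ e); omega
  · have := Nat.le_of_dvd (by omega) (h2 _ e); omega

variable {G : Type*} [Group G] [Finite G] {V L A : Subgroup G}

theorem nf0 {t : ℕ} [ht : Fact t.Prime] (ht2 : t ≠ 2) (hV : IsPGroup 2 V) (hVc : ⁅V, V⁆ ≤ ⊥)
    (hVp : ∀ x ∈ V, x ^ 2 = 1) (hL : IsPGroup t L) (hLV : L ≤ 𝐍(V)) (hAV : A ≤ 𝐍(V))
    (hAL : A ≤ 𝐍(L)) (hA : (Nat.card A).Prime) (hA2 : Nat.card A ≠ 2)
    (hcL : (Nat.card A).Coprime (Nat.card L)) (faith : L ⊓ 𝐂(V) = ⊥) (cls : ⁅⁅L, L⁆, L⁆ ≤ ⊥)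
    (hcard : Nat.card ↥⁅V, A⁆ ≤ (Nat.card A - 1) ^ 2)
    (form : ∀ Q ≤ L, A ≤ 𝐍(Q) → Nat.card ↥(⁅V, Q⁆ ⊓ 𝐂(A)) ≠ 2) : ⁅L, A⁆ = ⊥ := by
  by_contra hne
  obtain ⟨Q, ⟨hQL, hAQ, hQ0⟩, hmin⟩ := exists_minimalFor_of_wellFoundedLT
    (fun Q : Subgroup G => Q ≤ L ∧ A ≤ 𝐍(Q) ∧ ⁅Q, A⁆ ≠ ⊥) id ⟨L, le_rfl, hAL, hne⟩
  have hcQ := CopAct.coprime_mono hcL le_rfl hQL
  have hQt := hL.to_le hQL
  have hsQ := CopAct.isSolvable_of_isPGroup hQt
  have hsV := CopAct.isSolvable_of_isPGroup hV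
  have hQA := CopAct.commutator_le_of_le_normalizer hAQ
  have hQ : Q ≤ ⁅Q, A⁆ := hmin ⟨hQA.trans hQL,
    CopAct.le_normalizer_commutator hAQ Subgroup.le_normalizer,
    by rwa [CopAct.commutator_commutator_eq hAQ hcQ]⟩ hQA
  have hmin' : ∀ R ≤ Q, A ≤ 𝐍(R) → ¬ Q ≤ R → A ≤ 𝐂(R) := fun R h1 h2 h3 =>
    CopAct.commutator_eq_bot_iff.1 (by_contra fun e => h3 (hmin ⟨h1.trans hQL, h2, e⟩ h1))
  have hQV := hQL.trans hLV
  have hcV : (Nat.card A).Coprime (Nat.card V) := CopAct.coprime_of_isPGroup_right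
    ((Nat.coprime_primes hA Nat.prime_two).2 hA2) hV
  have hodd : ¬ 2 ∣ Nat.card ↥(Q ⊔ A) := fun e => by
    rw [CopAct.card_sup_of_coprime hAQ hcQ, Nat.prime_two.dvd_mul] at e
    rcases e with e | e
    · obtain ⟨n, hn⟩ := hQt.exists_card_eq
      exact ht2 ((Nat.prime_dvd_prime_iff_eq Nat.prime_two ht.out).1
        (Nat.prime_two.dvd_of_dvd_pow (hn ▸ e))).symm
    · exact hA2 ((Nat.prime_dvd_prime_iff_eq Nat.prime_two hA).1 e).symm
  obtain ⟨s, hs⟩ : ∃ s, Nat.card A = s + 1 := ⟨_, (Nat.sub_add_cancel hA.pos).symm⟩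
  have hs0 : 0 < s := by have := hA.two_le; omega
  rw [hs, Nat.add_sub_cancel] at hcard
  by_cases hab : ⁅Q, Q⁆ ≤ ⊥
  · have hC : Q ⊓ 𝐂(A) ≤ ⊥ := (inf_le_inf_right _ hQ).trans
      ((CopAct.commutator_inf_centralizer_le hAQ hcQ).trans hab)
    have hF := isFrob_of_semiregular hAQ (fun b hb hb1 => le_bot_iff.1 fun x hx =>
      fpf_of_cent hA bot_le Subgroup.le_normalizer_of_normal hcQ hsQ hC x hx.1 b hb hb1 (by
        simpa [commutatorElement_eq_one_iff_mul_comm] using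
          Subgroup.mem_centralizer_singleton_iff.1 hx.2))
      (fun e => hQ0 (by rw [e, Subgroup.commutator_bot_left]))
      fun e => hQ0 (by rw [e, Subgroup.commutator_bot_right])
    have hVQ := CopAct.commutator_le_of_le_normalizer hQV
    have hc1 : (Nat.card ↥(Q ⊔ A)).Coprime (Nat.card V) := CopAct.coprime_of_isPGroup_right
      ((Nat.Prime.coprime_iff_not_dvd Nat.prime_two).2 hodd).symm hV
    have hA1 := CopAct.le_normalizer_commutator hAV hAQ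
    have e1 := (Frobenius_Wielandt_fixpoint hF (sup_le (CopAct.le_normalizer_commutator hQV
      Subgroup.le_normalizer) hA1) (CopAct.coprime_mono hc1 le_rfl hVQ).symm
      (CopAct.isSolvable_of_le hVQ hsV)).2.2 (le_bot_iff.1 ((CopAct.commutator_inf_centralizer_le
        hQV (CopAct.coprime_mono hc1 le_sup_left le_rfl)).trans hVc))
    have e2 := card_le_cent_mul hA1 (CopAct.coprime_mono hcV le_rfl hVQ)
      (CopAct.isSolvable_of_le hVQ hsV)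
    have e3 := (Subgroup.card_le_of_le (Subgroup.commutator_mono hVQ (le_refl A))).trans hcard
    have e4 := form Q hQL hAQ
    have e5 : Nat.card ↥⁅V, Q⁆ ≠ 1 := fun e => hQ0 (by
      rw [le_bot_iff.1 (faith.le.trans' (le_inf hQL (CopAct.commutator_eq_bot_iff.1
        (Subgroup.card_eq_one.1 e)))), Subgroup.commutator_bot_left])
    have e6 : 0 < Nat.card ↥(⁅V, Q⁆ ⊓ 𝐂(A)) := Nat.card_pos
    generalize Nat.card ↥(⁅V, Q⁆ ⊓ 𝐂(A)) = c at *
    have e7 : 3 ≤ c := by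
      by_contra e
      rw [show c = 1 by omega, one_pow] at e1
      exact e5 e1
    rw [e1, hs, pow_succ'] at e2
    have e8 := Nat.le_of_mul_le_mul_left (e2.trans (Nat.mul_le_mul_left c e3)) e6
    exact absurd ((Nat.pow_le_pow_left e7 s).trans e8) (three_pow_arith s).not_ge
  obtain ⟨n, ρ, hρ, hdim⟩ := exists_lift_section (Y := ⊥) hV Subgroup.le_normalizer_of_normal
    hVc hVp (sup_le hQV hAV) Subgroup.le_normalizer_of_normal hodd
  simp only [Subgroup.relIndex_bot_left] at hdim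
  obtain ⟨z, hz, hz1⟩ := SetLike.not_le_iff_exists.1 hab
  have hQQ := CopAct.commutator_le_of_le_normalizer (Subgroup.le_normalizer (H := Q))
  have hn := hdim ⊥ bot_le
  rw [hρ.pfix_bot, finrank_top, inf_eq_left.2 (Subgroup.le_centralizer_iff.1 bot_le)] at hn
  obtain ⟨v, hv⟩ : ∃ v, ρ z v ≠ v := by
    by_contra e
    push Not at e
    have h1 := hdim _ ((Subgroup.zpowers_le.2 (hQQ hz)).trans le_sup_left)
    rw [show pfix ρ (Subgroup.zpowers z) = ⊤ from eq_top_iff.2 fun v _ =>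
      hρ.mem_pfix_zpowers (Subgroup.mem_sup_left (hQQ hz)) (e v), finrank_top, ← hn] at h1
    have h2 := (Subgroup.eq_of_le_of_card_ge inf_le_left h1.ge).ge.trans inf_le_right
    exact hz1 (faith.le ⟨hQL (hQQ hz), Subgroup.le_centralizer_iff.1 h2 (Subgroup.mem_zpowers z)⟩)
  obtain ⟨K, hK, hzK⟩ := hρ.exists_typ le_sup_left (Nat.cast_ne_zero.2 Nat.card_pos.ne')
    (hQQ hz) hv
  have hQY : ¬ Q ≤ Q ⊓ cent2 Q K := fun e => hzK (Subgroup.commutator_le.2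
    (fun x hx y hy => (e hx).2.2 y hy) hz)
  have hA0 := hmin' _ hQQ (CopAct.le_normalizer_commutator hAQ hAQ) fun e =>
    hab ((Subgroup.commutator_mono (e.trans (Subgroup.commutator_mono hQL hQL)) hQL).trans cls)
  have hAY := hmin' (Q ⊓ cent2 Q K) inf_le_left (le_norm_of_conj_mem fun a ha x hx =>
    ⟨CopAct.conj_mem hAQ ha hx.1, Subgroup.le_normalizer (CopAct.conj_mem hAQ ha hx.1),
      fun y hy => by
        have h1 := CopAct.conj_mem' hAQ ha hy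
        convert hx.2.2 _ h1 using 1
        rw [← mul_inv_cancel_right ⁅x, _⁆ a,
          hA0 ha _ (Subgroup.commutator_mem_commutator hx.1 h1)]
        simp only [commutatorElement_def]
        group⟩) hQY
  have hKY : K ≤ Q ⊓ cent2 Q K := fun x hx => ⟨hK.le hx, Subgroup.le_normalizer (hK.le hx),
    fun y hy => comm_mem_symm (comm_mem_of_norm (hK.norm hy) hx)⟩
  have hd : ⁅Q, Q⁆ ≤ Q ⊓ cent2 Q K := fun x hx => ⟨hQQ hx, Subgroup.le_normalizer (hQQ hx),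
    fun y hy => bot_le (a := K) (cls (Subgroup.commutator_mem_commutator
      (Subgroup.commutator_mono hQL hQL hx) (hQL hy)))⟩
  have hAK : A ≤ 𝐍(K) := CopAct.le_normalizer_of_le_centralizer
    (hAY.trans (CopAct.centralizer_anti hKY))
  obtain ⟨U, -, hU0, hs', hinv⟩ := hK.exists_hs inf_le_left le_rfl hd (nd_rad Q K) le_rfl hK.ne
    fun x hx u hu => hK.memP hx hu
  obtain ⟨a, ha, hao, haz⟩ := exists_orderOf_eq_card hA
  have haM : a ∈ Q ⊔ A := Subgroup.mem_sup_right ha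
  have hAY' := CopAct.le_normalizer_of_le_centralizer hAY
  have hf : Fpf A Q (Q ⊓ cent2 Q K) := fun x hx =>
    fpf_of_der hA inf_le_left hd hAQ hAY' hcQ hsQ x (hQ hx)
  obtain ⟨w, m, hw, c0, c1, c2⟩ := hs'.rank hU0 hQY haM (hAQ ha) (hAY' ha)
    (hinv a haM (hAQ ha) (hAK ha) (fun y hy => by
      rw [commutatorElement_eq_one_iff_mul_comm.2 (hAY ha y hy)]; exact one_mem _)
      fun u hu => hK.mem haM (hAQ ha) (hAK ha) hu) hs0 (by rw [← hs, ← hao, pow_orderOf_eq_one])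
    (Nat.cast_ne_zero.2 s.succ_ne_zero) (by rw [← hs, ← hao]; exact hf.semi ha)
  have := Fact.mk hA
  have c3 := card_modEq_card_inf_centralizer (IsPGroup.of_card (pow_one _).symm) hAQ
  have ha1 : a ≠ 1 := fun e => hA.one_lt.ne (by rw [← hao, e, orderOf_one])
  rw [show Q ⊓ 𝐂(A) = Q ⊓ cent2 Q K from le_antisymm (fun x hx => hf x hx.1 a ha ha1 (by
    rw [commutatorElement_eq_one_iff_mul_comm.2 (hx.2 a ha).symm]; exact one_mem _))
    (le_inf inf_le_left (Subgroup.le_centralizer_iff.1 hAY)), ← c0] at c3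
  have c4 := odd_sq_arith hA hA2 hw (by
    rw [← Nat.not_even_iff_odd, even_iff_two_dvd]
    refine fun e => hodd (e.trans (dvd_trans ?_ (Subgroup.card_dvd_of_le le_sup_left)))
    exact c0 ▸ (dvd_pow_self w two_ne_zero).mul_right _)
    (Nat.ModEq.cancel_right_of_coprime (CopAct.coprime_mono hcQ le_rfl inf_le_left)
      (by rwa [one_mul]))
  have c5 := Submodule.finrank_mono (show LinearMap.ker (ρ a - 1) ≥ pfix ρ A from fun v hv => by
    simp [hv a ha])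
  have c6 := card_le_cent_mul hAV hcV hsV
  rw [hn, hdim A le_sup_right] at c6
  have c7 := (Nat.pow_le_pow_right two_pos (show finrank ℂ (pfix ρ A) + m ≤ _ by omega)).trans
    (c6.trans (Nat.mul_le_mul_left _ hcard))
  rw [pow_add] at c7
  refine absurd (Nat.le_of_mul_le_mul_left c7 (by positivity)) (two_pow_arith hs0 ?_).not_ge
  rw [hs] at c4
  by_contra e
  nlinarith [Nat.mul_le_mul_left s c4, Nat.mul_le_mul_left (s + 1) (show m + 2 ≤ 2 * s by omega)]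

omit [Finite G] in
theorem rad_eq {P F K : Subgroup G} (hd : ⁅P, P⁆ ≤ F) :
    P ⊓ cent2 P K = P ⊓ cent2 P (K ⊓ F) :=
  le_antisymm (fun _ hx => ⟨hx.1, hx.2.1, fun y hy =>
    ⟨hx.2.2 y hy, hd (Subgroup.commutator_mem_commutator hx.1 hy)⟩⟩)
    (inf_le_inf_left _ (cent2_mono inf_le_left))

theorem le_norm_rad {P F K : Subgroup G} (hd : ⁅P, P⁆ ≤ F) (hLP : L ≤ 𝐍(P))
    (hFL : ⁅F, L⁆ ≤ K ⊓ F) : L ≤ 𝐍(P ⊓ cent2 P K) := by
  rw [rad_eq hd]
  exact CopAct.le_normalizer_inf hLP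
    (le_norm_cent2 hLP (CopAct.le_normalizer_of_commutator_le inf_le_right hFL))

theorem nf_form {P F K Q : Subgroup G} (hQP : Q ≤ 𝐍(P)) (hAP : A ≤ 𝐍(P)) (hAQ : A ≤ 𝐍(Q))
    (hcP : (Nat.card A).Coprime (Nat.card P)) (hcQ : (Nat.card Q).Coprime (Nat.card P))
    (hsP : Group.IsSolvable P) (hFP : F ≤ P) (hd : ⁅P, P⁆ ≤ F) (hPK : P ≤ 𝐍(K)) (hAK : A ≤ 𝐍(K))
    (hFQ : ⁅F, Q⁆ ≤ K ⊓ F) (hFA : ⁅F, A⁆ ≤ K) {x : G} (hx : x ∈ ⁅P, Q⁆ ⊓ 𝐂(A))
    (e : ∀ b ∈ ⁅P, Q⁆ ⊓ 𝐂(A), b * x ∈ P ⊓ cent2 P K ∨ b ∈ P ⊓ cent2 P K) :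
    x ∈ P ⊓ cent2 P K := by
  have hPQ := CopAct.commutator_le_of_le_normalizer hQP
  have hxP := hPQ hx.1
  have hYc : P ⊓ cent2 P K ≤ cent1 x K := fun y hy => ⟨hPK hy.1, comm_mem_symm (hy.2.2 x hxP)⟩
  suffices P ≤ cent1 x K from ⟨hxP, Subgroup.le_normalizer hxP, fun y hy => (this hy).2⟩
  intro y hy
  obtain ⟨c, hc, v, hv, rfl⟩ := CopAct.exists_eq_centralizer_mul_commutator hQP hcQ (Or.inr hsP) hy
  obtain ⟨b, hb, z, hz, rfl⟩ := CopAct.exists_eq_centralizer_mul_commutator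
    (CopAct.le_normalizer_commutator hAP hAQ) (CopAct.coprime_mono hcP le_rfl hPQ)
    (Or.inr (CopAct.isSolvable_of_le hPQ hsP)) hv
  have hz' := Subgroup.commutator_mono hPQ (le_refl A) hz
  have o1 := orth (K := K ⊓ F) (CopAct.le_normalizer_inf hPK (norm_of_der hFP hd))
    (CopAct.le_normalizer_of_commutator_le inf_le_right hFQ)
    ((Subgroup.commutator_mono hd le_rfl).trans hFQ)
  have o2 := orth hPK hAK ((Subgroup.commutator_mono hd le_rfl).trans hFA)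
  have m1 : c ∈ cent1 x K := ⟨hPK hc.1, (o1 (Subgroup.commutator_mem_commutator hx.1 hc)).1⟩
  have m2 : z ∈ cent1 x K := ⟨hPK (CopAct.commutator_le_of_le_normalizer hAP hz'), comm_mem_symm
    (o2 (Subgroup.commutator_mem_commutator hz' (Subgroup.mem_inf.2 ⟨hxP, hx.2⟩)))⟩
  refine mul_mem m1 (mul_mem ?_ m2)
  rcases e b hb with e | e
  · exact (mul_mem_cancel_right (show x ∈ cent1 x K from ⟨hPK hxP, by simp⟩)).1 (hYc e)
  · exact hYc e

theorem nf1 {P Y : Subgroup G} {t : ℕ} [ht : Fact t.Prime] (htp : t ≠ 2)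
    (hP : IsPGroup 2 P) (hL : IsPGroup t L) (hLP : L ≤ 𝐍(P)) (hAP : A ≤ 𝐍(P)) (hAL : A ≤ 𝐍(L))
    (hA : (Nat.card A).Prime) (hA2 : Nat.card A ≠ 2) (hcP : (Nat.card A).Coprime (Nat.card P))
    (hcL : (Nat.card A).Coprime (Nat.card L)) (hYP : Y ≤ P) (hd : ⁅P, P⁆ ≤ Y)
    (hpow : ∀ x ∈ P, x ^ 2 ∈ Y) (hLY : L ≤ 𝐍(Y)) (hAY : A ≤ 𝐍(Y))
    (cls : ⁅⁅L, L⁆, L⁆ ≤ cent2 P Y)
    (hcard : (Nat.card A - 1) ^ 2 * Nat.card Y = Nat.card ↥(⁅P, A⁆ ⊔ Y))
    (form : ∀ Q ≤ L, A ≤ 𝐍(Q) → ∀ x ∈ ⁅P, Q⁆ ⊓ 𝐂(A),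
      (∀ b ∈ ⁅P, Q⁆ ⊓ 𝐂(A), b * x ∈ Y ∨ b ∈ Y) → x ∈ Y) : ⁅L, A⁆ ≤ cent2 P Y := by
  have hPA := CopAct.commutator_le_of_le_normalizer hAP
  have hcLP : (Nat.card L).Coprime (Nat.card P) := IsPGroup.coprime_card_of_ne t 2 htp L P hL hP
  have hsP := CopAct.isSolvable_of_isPGroup hP
  have hPY := norm_of_der hYP hd
  have hT : L ⊓ cent2 P Y ≤ 𝐍(Y) := inf_le_left.trans hLY
  obtain ⟨R, hR⟩ : ∃ R, R = Y ⊔ L ⊓ cent2 P Y := ⟨_, rfl⟩
  have hYR : Y ≤ R := hR ▸ le_sup_left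
  have hTR : L ⊓ cent2 P Y ≤ R := hR ▸ le_sup_right
  have hPR' : ∀ x ∈ P, x ∈ R → x ∈ Y := fun x hx e => by
    obtain ⟨y, hy, l, hl, rfl⟩ := (CopAct.mem_sup_iff_of_le_normalizer hT).1 (hR ▸ e)
    rw [CopAct.eq_one_of_coprime hcLP hl.1 ((mul_mem_cancel_left (hYP hy)).1 hx), mul_one]
    exact hy
  have hPR : P ≤ 𝐍(R) := CopAct.le_normalizer_of_commutator_le le_rfl
    (le_trans (hR ▸ commutator_sup_le (sup_le Subgroup.le_normalizer hT)
      (CopAct.commutator_le_of_le_normalizer hPY)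
      (Subgroup.commutator_le.2 fun x (hx : x ∈ L ⊓ cent2 P Y) y hy => hx.2.2 y hy)) hYR)
  have hLR : L ≤ 𝐍(R) := hR ▸ CopAct.le_normalizer_sup hLY
    (CopAct.le_normalizer_inf Subgroup.le_normalizer (le_norm_cent2 hLP hLY))
  have hAR : A ≤ 𝐍(R) := hR ▸ CopAct.le_normalizer_sup hAY
    (CopAct.le_normalizer_inf hAL (le_norm_cent2 hAP hAY))
  have hcA : Nat.card (quot A R) = Nat.card A := card_quot_of_inf_eq_bot hAR (by
    rw [inf_comm, hR]
    exact CopAct.inf_eq_bot_of_coprime (((CopAct.coprime_mono hcP le_rfl hYP).mul_right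
      (CopAct.coprime_mono hcL le_rfl inf_le_left)).coprime_dvd_right (FT.card_sup_dvd hT)))
  have hLA := CopAct.commutator_le_of_le_normalizer hAL
  have k1 : ⁅quot P R, quot P R⁆ ≤ ⊥ := by
    rw [← quot_commutator hPR hPR, quot_eq_bot_of_le (hd.trans hYR)]
  have k2 : ∀ x ∈ quot P R, x ^ 2 = 1 := fun x hx => by
    obtain ⟨d, hd, rfl⟩ := mem_quot.1 hx
    rw [← map_pow, coset_eq_one_iff]
    exact hYR (hpow d hd)
  have k3 : quot L R ⊓ 𝐂(quot P R) = ⊥ := le_bot_iff.1 fun y hy => by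
    obtain ⟨d, hd, rfl⟩ := mem_quot.1 hy.1
    refine coset_eq_one_iff.2 (hTR ⟨hd, hLP hd, fun x hx =>
      hPR' _ (comm_mem_of_norm (hLP hd) hx) ?_⟩)
    have := hy.2 _ (coset_mem_quot ⟨x, hPR hx⟩ hx)
    rw [eq_comm, ← commutatorElement_eq_one_iff_mul_comm, ← map_commutatorElement,
      coset_eq_one_iff] at this
    exact this
  have k4 : ⁅⁅quot L R, quot L R⁆, quot L R⁆ ≤ ⊥ := by
    have h1 := CopAct.commutator_le_of_le_normalizer (Subgroup.le_normalizer (H := L))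
    rw [← quot_commutator hLR hLR, ← quot_commutator (h1.trans hLR) hLR, quot_eq_bot_of_le
      ((le_inf ((Subgroup.commutator_mono h1 le_rfl).trans h1) cls).trans hTR)]
  have k5 : Nat.card ↥⁅quot P R, quot A R⁆ ≤ (Nat.card (quot A R) - 1) ^ 2 := by
    have h1 := card_quot_mul ((sup_le hPA hYP).trans hPR)
    rw [quot_sup (hPA.trans hPR) (hYP.trans hPR), quot_eq_bot_of_le hYR,
      sup_bot_eq, quot_commutator hPR hAR, show R ⊓ (⁅P, A⁆ ⊔ Y) = Y from le_antisymm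
        (fun x hx => hPR' x (sup_le hPA hYP hx.2) hx.1) (le_inf hYR le_sup_right),
      ← hcard, mul_comm] at h1
    rw [Nat.eq_of_mul_eq_mul_right Nat.card_pos h1, hcA]
  have key := nf0 htp (isPGroup_quot R hP) k1 k2 (isPGroup_quot R hL) (quot_le_norm R hLP)
    (quot_le_norm R hAP) (quot_le_norm R hAL) (by rwa [hcA]) (by rwa [hcA])
    (coprime_card_quot R hcL) k3 k4 k5 fun Q' hQ' hAQ' e => by
      have hQL : L ⊓ preim R Q' ≤ L := inf_le_left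
      have hAQ := CopAct.le_normalizer_inf hAL (le_norm_preim hAR hAQ')
      have h0 : quot (L ⊓ preim R Q') R = Q' := by rw [quot_inf_preim, inf_eq_right.2 hQ']
      generalize L ⊓ preim R Q' = Q at *
      have hPQ := CopAct.commutator_le_of_le_normalizer (hQL.trans hLP)
      rw [← h0, ← quot_commutator hPR (hQL.trans hLR), ← quot_inf_cent' (hPQ.trans hPR) hAR
        (CopAct.le_normalizer_commutator hAP hAQ) (CopAct.coprime_mono hcP le_rfl hPQ)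
        (Or.inr (CopAct.isSolvable_of_le hPQ hsP)), card_quot ((inf_le_left.trans hPQ).trans hPR),
        Subgroup.relIndex_eq_two_iff_exists_notMem_and] at e
      obtain ⟨x, hx, hxR, e⟩ := e
      exact hxR (hYR (form Q hQL hAQ x hx fun b hb => (e b hb).imp
        (hPR' _ (mul_mem (hPQ hb.1) (hPQ hx.1))) (hPR' _ (hPQ hb.1))))
  rw [← quot_commutator hLR hAR, quot_eq_bot_iff (hLA.trans hLR), hR] at key
  exact key.trans (sup_le (fun y hy => ⟨Subgroup.le_normalizer (hYP hy), fun x hx =>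
    comm_mem_symm (comm_mem_of_norm (hPY hx) hy)⟩) inf_le_right)

theorem nf {P F K : Subgroup G} {p t : ℕ} [hp : Fact p.Prime] [ht : Fact t.Prime] (htp : t ≠ p)
    (hP : IsPGroup p P) (hL : IsPGroup t L) (hLP : L ≤ 𝐍(P)) (hAP : A ≤ 𝐍(P)) (hAL : A ≤ 𝐍(L))
    (hA : (Nat.card A).Prime) (hcP : (Nat.card A).Coprime (Nat.card P))
    (hcL : (Nat.card A).Coprime (Nat.card L)) (hFP : F ≤ P) (hd : ⁅P, P⁆ ≤ F)
    (hpow : ∀ x ∈ P, x ^ p ∈ F) (hPK : P ≤ 𝐍(K)) (hAK : A ≤ 𝐍(K)) (hFL : ⁅F, L⁆ ≤ K ⊓ F)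
    (hF : ⁅F, P⁆ ≤ K) (hYA : ⁅P ⊓ cent2 P K, A⁆ ≤ K) (cls : ⁅⁅L, L⁆, L⁆ ≤ cent2 P F) {w : ℕ}
    (hw : 2 ≤ w) (hwr : w + 1 = Nat.card A)
    (hcard : w ^ 2 * Nat.card ↥(P ⊓ cent2 P K) = Nat.card ↥(⁅P, A⁆ ⊔ P ⊓ cent2 P K)) :
    ⁅L, A⁆ ≤ cent2 P (P ⊓ cent2 P K) := by
  have hFY : F ≤ P ⊓ cent2 P K := fun x hx => ⟨hFP hx, Subgroup.le_normalizer (hFP hx),
    fun y hy => hF (Subgroup.commutator_mem_commutator hx hy)⟩
  obtain rfl : p = 2 := by
    obtain ⟨n, hn⟩ := hP.exists_card_eq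
    have h1 : 2 ∣ w := by have := hA.eq_two_or_odd; omega
    have h2 := ((h1.trans (dvd_pow_self w two_ne_zero)).mul_right _).trans (hcard ▸
      Subgroup.card_dvd_of_le (sup_le (CopAct.commutator_le_of_le_normalizer hAP) inf_le_left))
    exact ((Nat.prime_dvd_prime_iff_eq Nat.prime_two hp.out).1
      (Nat.prime_two.dvd_of_dvd_pow (hn ▸ h2))).symm
  exact nf1 htp hP hL hLP hAP hAL hA (by omega) hcP hcL inf_le_left (hd.trans hFY)
    (fun x hx => hFY (hpow x hx)) (le_norm_rad hd hLP hFL)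
    (fun a ha => mem_norm_rad (hAP ha) (hAK ha)) (cls.trans (cent2_mono hFY))
    (by rwa [← hwr, Nat.add_sub_cancel]) fun Q hQ hAQ x hx => nf_form (hQ.trans hLP) hAP hAQ hcP
      (CopAct.coprime_mono (IsPGroup.coprime_card_of_ne t 2 htp L P hL hP) hQ le_rfl)
      (CopAct.isSolvable_of_isPGroup hP) hFP hd hPK hAK
      ((Subgroup.commutator_mono le_rfl hQ).trans hFL)
      ((Subgroup.commutator_mono hFY le_rfl).trans hYA) hx

end Cfsg.Agent.Loc.H78
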