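import Mathlib
import Cfsg.Agent.Loc.TurNF

/-!
Three consecutive layers of a tower of sections under a coprime operator group of prime order.
-/

set_option autoImplicit false

namespace Cfsg.Agent.Loc.H78

open Cfsg Module Cfsg.Agent.FT Cfsg.Agent.GT
open scoped commutatorElement

local notation:75 H " ^ᶜ " g:76 => Subgroup.map (MulEquiv.toMonoidHom (MulAut.conj g)) H

section Lin

variable {k : Type*} [Field k] {G : Type*} [Group G] [Finite G] {W : Type*} [AddCommGroup W]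
  [Module k W] {M P K A F : Subgroup G} {ρ : G → End k W}

theorem IsTyp.mem_of_fix (h : IsTyp M ρ P K) {s : G} (hs : s ∈ P)
    (e : ∀ v ∈ typ ρ P K, ρ s v = v) : s ∈ K := h.ker ⟨hs, h.hP hs, e⟩

theorem IsTyp.mem_of_eq_one (h : IsTyp M ρ P K) {s : G} (hs : s ∈ P) (e : ρ s = 1) : s ∈ K :=
  h.mem_of_fix hs fun v _ => by rw [e]; rfl

theorem IsTyp.le_rad (h : IsTyp M ρ P K) : K ≤ P ⊓ cent2 P K := fun _ hx =>
  ⟨h.le hx, Subgroup.le_normalizer (h.le hx),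
    fun _ hy => comm_mem_symm (comm_mem_of_norm (h.norm hy) hx)⟩

omit [Finite G] in
theorem le_rad_of_comm (hFP : F ≤ P) (hF : ⁅F, P⁆ ≤ K) : F ≤ P ⊓ cent2 P K := fun _ hx =>
  ⟨hFP hx, Subgroup.le_normalizer (hFP hx),
    fun _ hy => hF (Subgroup.commutator_mem_commutator hx hy)⟩

omit [Finite G] in
theorem rad_comm_le : ⁅P ⊓ cent2 P K, P⁆ ≤ K :=
  Subgroup.commutator_le.2 fun _ hx y hy => hx.2.2 y hy

theorem IsTyp.lemK [IsAlgClosed k] [FiniteDimensional k W] (h : IsTyp M ρ P K)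
    (hA : (Nat.card A).Prime) (hAk : (Nat.card A : k) ≠ 0) (hAM : A ≤ M) (hAP : A ≤ 𝐍(P))
    (hc : (Nat.card A).Coprime (Nat.card P)) (hs : Group.IsSolvable P)
    (hd : ⁅P, P⁆ ≤ P ⊓ cent2 P K) {s : G} (hsP : s ∈ P ⊓ 𝐂(A)) (hsK : s ∉ K)
    (star : ∀ v, nrm ρ ⁅P, A⁆ v = 0 → v ∈ pfix ρ A → ρ s v = v) :
    A ≤ 𝐍(K) ∧ ⁅P ⊓ cent2 P K, A⁆ ≤ K ∧ (⁅P, A⁆ ≤ P ⊓ cent2 P K ∨ ∃ w, 2 ≤ w ∧
      w + 1 = Nat.card A ∧
      w ^ 2 * Nat.card ↥(P ⊓ cent2 P K) = Nat.card ↥(⁅P, A⁆ ⊔ P ⊓ cent2 P K)) := by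
  by_cases h0 : ⁅P, A⁆ ≤ K
  · exact ⟨CopAct.le_normalizer_of_commutator_le h.le h0,
      (Subgroup.commutator_mono inf_le_left le_rfl).trans h0, Or.inl (h0.trans h.le_rad)⟩
  have hPA := CopAct.commutator_le_of_le_normalizer hAP
  have hsM := h.hP hsP.1
  have hAH := CopAct.le_normalizer_commutator hAP (Subgroup.le_normalizer (H := A))
  have key : ∀ v ∈ typ ρ P K, nrm ρ A (ρ s v) = nrm ρ A v := fun v hv => by
    rw [h.prep.nrm_comm hAM hsM (Subgroup.centralizer_le_normalizer _ hsP.2)]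
    refine star _ ?_ (h.prep.nrm_mem_pfix hAM v)
    rw [nrm_apply A, map_sum]
    refine Finset.sum_eq_zero fun b hb => ?_
    have hb' : b ∈ A := by simpa using hb
    rw [h.prep.nrm_comm (hPA.trans h.hP) (hAM hb') (hAH hb'),
      hv.2 _ hPA (Subgroup.normalizer_commutator_ge_left ..) h0, map_zero]
  have hso : (orderOf s).Coprime (Nat.card A) :=
    (hc.coprime_dvd_right (P.orderOf_dvd_natCard hsP.1)).symm
  have hsN := Subgroup.le_normalizer hsP.1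
  have hAK : A ≤ 𝐍(K) := by
    by_contra e
    exact hsK (h.mem_of_fix hsP.1 fun v hv =>
      (h.diag1 hA hAM hAP e hsM hsN hsP.2 hso hv hv (key v hv)).1 (h.norm hsP.1))
  have hAY : A ≤ 𝐍(P ⊓ cent2 P K) := fun a ha => mem_norm_rad (hAP ha) (hAK ha)
  have hYA : ⁅P ⊓ cent2 P K, A⁆ ≤ K := by
    by_contra e
    refine hsK (h.mem_of_fix hsP.1 fun v hv => (h.diag2 hA hAM hAP hAK (fun e' => e
      (Subgroup.commutator_le.2 fun y hy a ha => comm_mem_symm ((e' ha).2 y hy))) hsM hsN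
      (h.norm hsP.1) hsP.2 hso hv hv fun y hy => key _ (h.memP hy.1 hv)).1 ?_)
    exact ⟨mem_norm_rad hsN (h.norm hsP.1), fun y hy => comm_mem_symm (hy.2.2 s hsP.1)⟩
  refine ⟨hAK, hYA, or_iff_not_imp_left.2 fun hne => ?_⟩
  have ho := orth h.norm hAK ((Subgroup.commutator_mono hd le_rfl).trans hYA)
  have hHP : ⁅P, A⁆ ⊔ P ⊓ cent2 P K ≤ P := sup_le hPA inf_le_left
  have hcs : ∀ x ∈ ⁅P, A⁆ ⊔ P ⊓ cent2 P K, ∀ u ∈ typ ρ P K, ρ x (ρ s u) = ρ s (ρ x u) :=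
    fun x hx u hu => h.comm (hHP hx) hsM hsN (h.norm hsP.1) (commutator_sup_le (hHP.trans h.norm)
      ho ((Subgroup.commutator_mono le_rfl inf_le_left).trans rad_comm_le)
      (Subgroup.commutator_mem_commutator hx hsP)) hu
  obtain ⟨U, hU, hU0, hs', hinv⟩ := h.exists_hs le_sup_right hHP
    ((Subgroup.commutator_mono hHP hHP).trans hd)
    ((nd_rad P K).comm h.norm inf_le_left rad_comm_le hAP hc hs ho)
    (U₀ := (typ ρ P K).map (ρ s - 1)) (by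
      rintro _ ⟨v, hv, rfl⟩
      exact sub_mem (h.memP hsP.1 hv) hv) (fun e => hsK (h.mem_of_fix hsP.1 fun v hv => by
        simpa [sub_eq_zero] using e.le (Submodule.mem_map_of_mem hv))) (by
      rintro x hx _ ⟨v, hv, rfl⟩
      exact ⟨ρ x v, h.memP (hHP hx) hv, by simp [hcs x hx v hv]⟩)
  obtain ⟨a, ha, hao, haz⟩ := exists_orderOf_eq_card hA
  have hf := ((fpf_of_der hA inf_le_left hd hAP hAY hc hs).sup
    (hPA.trans (norm_of_der inf_le_left hd)) hAY).semi ha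
  rw [hao] at hf
  obtain ⟨w, h1, h2, h3, h4, -⟩ := hs'.bound hU0 (fun e => hne (le_sup_left.trans e)) (hAM ha)
    (one_mem _) (CopAct.le_normalizer_sup hAH hAY ha) (one_mem _) (hAY ha) (one_mem _)
    (hinv a (hAM ha) (hAP ha) (hAK ha)
      (fun y hy => hYA (Subgroup.commutator_mem_commutator hy ha)) (by
        rintro _ ⟨v, hv, rfl⟩
        refine ⟨ρ a v, h.mem (hAM ha) (hAP ha) (hAK ha) hv, ?_⟩
        simp only [LinearMap.sub_apply, End.one_apply, map_sub]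
        rw [← h.prep.mul_apply hsM (hAM ha), ← hsP.2 a ha, h.prep.mul_apply (hAM ha) hsM]))
    (fun u hu => by rw [h.prep.one]; exact hu) (Commute.one_left a) hA
    (by rw [← hao, pow_orderOf_eq_one]) hAk (n := 1) (by simp) (one_dvd _) hf (by simpa using hf)
  refine ⟨w, h1, le_antisymm (h4 fun u hu e => ?_) (by omega), h2⟩
  obtain ⟨v, hv, rfl⟩ := hU hu
  have := nrm_of_mem_pfix (pfix_anti haz (h.prep.mem_pfix_zpowers (hAM ha) e))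
  rw [LinearMap.sub_apply, map_sub, key v hv, End.one_apply, sub_self, eq_comm,
    smul_eq_zero] at this
  exact this.resolve_left hAk

theorem natCast_ne_zero_of_coprime {q n : ℕ} [hq : Fact q.Prime] [Algebra (ZMod q) k]
    (h : n.Coprime q) : (n : k) ≠ 0 := by
  rw [← map_natCast (algebraMap (ZMod q) k), Ne, map_eq_zero_iff _ (algebraMap (ZMod q) k).injective,
    ZMod.natCast_eq_zero_iff]
  exact (Nat.Prime.coprime_iff_not_dvd hq.out).1 h.symm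

end Lin

variable {G : Type*} [Group G]

/-- An elementary abelian section `P / F` of a `p`-group, invariant under `A`. -/
structure Sec (p : ℕ) (P F A : Subgroup G) : Prop where
  pP : IsPGroup p P
  le : F ≤ P
  der : ⁅P, P⁆ ≤ F
  pow : ∀ x ∈ P, x ^ p ∈ F
  hAP : A ≤ 𝐍(P)
  hAF : A ≤ 𝐍(F)
  cop : (Nat.card A).Coprime p

/-- Three consecutive layers. -/
structure Tri (t p q : ℕ) (L FL P F X FX A : Subgroup G) : Prop where
  prime : (Nat.card A).Prime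
  sL : Sec t L FL A
  sP : Sec p P F A
  sX : Sec q X FX A
  tp : t ≠ p
  pq : p ≠ q
  LP : L ≤ 𝐍(P) ⊓ 𝐍(F)
  LX : L ≤ 𝐍(X) ⊓ 𝐍(FX)
  PX : P ≤ 𝐍(X) ⊓ 𝐍(FX)
  cL : ⁅FL, L⁆ ≤ cent2 P F
  cP : ⁅F, P⁆ ≤ cent2 X FX
  cLP : ⁅F, L⁆ ≤ cent2 X FX
  ker : P ⊓ cent2 X FX ≤ F

/-- The fixed points of `A` in `[X, [P, A]]` are centralised by `S` modulo `FX`. -/
def TStar (X FX P A S : Subgroup G) : Prop := ⁅⁅X, ⁅P, A⁆⁆ ⊓ 𝐂(A), S⁆ ≤ FX

variable [Finite G] {t p q : ℕ} [ht : Fact t.Prime] [hp : Fact p.Prime] [hq : Fact q.Prime]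
  {L FL P F X FX A S D K : Subgroup G}

theorem Sec.copA (h : Sec p P F A) : (Nat.card A).Coprime (Nat.card P) :=
  CopAct.coprime_of_isPGroup_right h.cop h.pP

theorem Sec.sol (h : Sec p P F A) : Group.IsSolvable P := CopAct.isSolvable_of_isPGroup h.pP

omit [Finite G] hp in
theorem Sec.hA (h : Sec p P F A) : A ≤ 𝐍(P) ⊓ 𝐍(F) := le_inf h.hAP h.hAF

theorem card_coprime_of_ne (h : IsPGroup p P) (hpq : p ≠ q) : (Nat.card P).Coprime q := by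
  obtain ⟨n, hn⟩ := h.exists_card_eq
  rw [hn]
  exact ((Nat.coprime_primes hp.out hq.out).2 hpq).pow_left n

theorem Tri.lemK (h : Tri t p q L FL P F X FX A) (hS : S ≤ P ⊓ 𝐂(A)) (star : TStar X FX P A S)
    (hK : IsTyp (𝐍(X) ⊓ 𝐍(FX)) (hRep (AlgebraicClosure (ZMod q)) X FX) P K) (hSK : ¬ S ≤ K) :
    ⁅⁅P, ⁅L, A⁆⁆, A⁆ ≤ K ∧ ⁅⁅P, ⁅L, A⁆⁆, ⁅P, ⁅L, A⁆⁆⁆ ≤ K ∧ F ⊓ ⁅P, ⁅L, A⁆⁆ ≤ K := by
  obtain ⟨s, hs, hsK⟩ := SetLike.not_le_iff_exists.1 hSK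
  have hT : ∀ Z ≤ P, Z ≤ cent2 X FX → Z ≤ K := fun Z h1 h2 x hx =>
    hK.mem_of_eq_one (h1 hx) (hRep_eq_one h.sX.le (h2 hx))
  have hLP := h.LP.trans inf_le_left
  have hFL : ⁅F, L⁆ ≤ F := CopAct.commutator_le_of_le_normalizer (h.LP.trans inf_le_right)
  have hFL' : ⁅F, L⁆ ≤ K ⊓ F := le_inf (hT _ (hFL.trans h.sP.le) h.cLP) hFL
  have hF : ⁅F, P⁆ ≤ K := hT _ (((Subgroup.commutator_mono h.sP.le le_rfl).trans h.sP.der).trans
    h.sP.le) h.cP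
  have hFY := le_rad_of_comm h.sP.le hF
  have hPA := CopAct.commutator_le_of_le_normalizer h.sP.hAP
  have hSP := hS.trans inf_le_left
  obtain ⟨hAK, hYA, h3⟩ := hK.lemK h.prime (natCast_ne_zero_of_coprime h.sX.cop) h.sX.hA h.sP.hAP
    h.sP.copA h.sP.sol (h.sP.der.trans hFY) (hS hs) hsK fun v h0 hv =>
      mem_pfix_of_nrm h.sX.le h.sX.hA (hSP.trans h.PX) (hPA.trans h.PX) (hS.trans inf_le_right)
        (CopAct.le_normalizer_commutator h.sP.hAP Subgroup.le_normalizer)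
        (hSP.trans (Subgroup.normalizer_commutator_ge_left ..)) h.sX.copA
        (IsPGroup.coprime_card_of_ne p q h.pq _ _ (h.sP.pP.to_le hPA) h.sX.pP)
        (card_ne_zero_of_le hK.card hPA) h.sX.sol star h0 hv s hs
  have hLY := le_norm_rad h.sP.der hLP hFL'
  have hLA := CopAct.commutator_le_of_le_normalizer h.sL.hAP
  have h4 : ⁅L, A⁆ ≤ cent2 P (P ⊓ cent2 P K) := by
    rcases h3 with h3 | ⟨w, h1, h2, h3⟩
    · exact Subgroup.commutator_le.2 fun x hx a ha => comm_mem_of_norm (le_norm_cent2 hLP hLY hx)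
        (le_cent2_of_comm_le h.sP.hAP h3 ha)
    · exact nf h.tp h.sP.pP h.sL.pP hLP h.sP.hAP h.sL.hAP h.prime h.sP.copA h.sL.copA h.sP.le
        h.sP.der h.sP.pow hK.norm hAK hFL' hF hYA
        ((Subgroup.commutator_mono h.sL.der le_rfl).trans h.cL) h1 h2 h3
  have h5 : ⁅P, ⁅L, A⁆⁆ ≤ P ⊓ cent2 P K :=
    Subgroup.commutator_le.2 fun x hx b hb => comm_mem_symm ((h4 hb).2 x hx)
  have h6 := h5.trans inf_le_left
  have h7 := (Subgroup.commutator_mono h5 h6).trans rad_comm_le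
  refine ⟨(Subgroup.commutator_mono h5 le_rfl).trans hYA, h7, fun x hx => ?_⟩
  have hc := CopAct.coprime_mono (IsPGroup.coprime_card_of_ne t p h.tp _ _ h.sL.pP h.sP.pP) hLA
    (le_refl P)
  have hn := Subgroup.normalizer_commutator_ge_right P ⁅L, A⁆
  refine (mem_of_comm_der (N := (K ⊓ F) ⊓ ⁅P, ⁅L, A⁆⁆) inf_le_right (le_inf (le_inf h7
    ((Subgroup.commutator_mono h6 h6).trans h.sP.der))
    (CopAct.commutator_le_of_le_normalizer Subgroup.le_normalizer)) hn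
    (CopAct.le_normalizer_inf (hLA.trans
      (CopAct.le_normalizer_of_commutator_le inf_le_right hFL')) hn)
    (CopAct.coprime_mono hc le_rfl h6) (CopAct.isSolvable_of_le h6 h.sP.sol)
    (by rw [CopAct.commutator_commutator_eq (hLA.trans hLP) hc]; exact hx.2) fun b hb => ?_).1.1
  exact ⟨hFL' (Subgroup.commutator_mem_commutator hx.1 (hLA hb)),
    comm_mem_symm (comm_mem_of_norm (hn hb) hx.2)⟩

omit [Finite G] in
theorem le_norm_sec {B : Subgroup G} (hP : B ≤ 𝐍(P) ⊓ 𝐍(F)) (h : B ≤ 𝐍(⁅L, A⁆)) :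
    B ≤ 𝐍(⁅P, ⁅L, A⁆⁆) ⊓ 𝐍(F ⊓ ⁅P, ⁅L, A⁆⁆) :=
  have h1 := CopAct.le_normalizer_commutator (hP.trans inf_le_left) h
  le_inf h1 (CopAct.le_normalizer_inf (hP.trans inf_le_right) h1)

theorem hRep_sec_eq_one {k : Type*} [Field k] {Z : Subgroup G} (hZ : Z ≤ P) {x : G}
    (hx : x ∈ cent2 P F) (hxZ : x ∈ 𝐍(Z)) : hRep k Z (F ⊓ Z) x = 1 :=
  hRep_eq_one inf_le_right ⟨hxZ, fun y hy => ⟨hx.2 y (hZ hy), comm_mem_of_norm hxZ hy⟩⟩

theorem Tri.core (h : Tri t p q L FL P F X FX A) (hS : S ≤ ⁅P, ⁅L, A⁆⁆ ⊓ 𝐂(A))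
    (star : TStar X FX P A S) (hSF : ¬ S ≤ F) :
    ∃ w : homSp (ZMod p) ⁅P, ⁅L, A⁆⁆ (F ⊓ ⁅P, ⁅L, A⁆⁆),
      GS (𝐍(⁅P, ⁅L, A⁆⁆) ⊓ 𝐍(F ⊓ ⁅P, ⁅L, A⁆⁆)) (hRep (ZMod p) _ _) L FL A w ∧ ¬ S ≤ hker w ∧
      (∀ x ∈ L, hRep (ZMod p) _ _ x w ∈ pfix (hRep (ZMod p) _ _) A ∨
        S ≤ hker (hRep (ZMod p) _ _ x w)) ∧ ¬ ⁅L, A⁆ ≤ (prep_hRep (ZMod p) _ _).pker {w} := by
  have hLP := h.LP.trans inf_le_left
  have hLA := CopAct.commutator_le_of_le_normalizer h.sL.hAP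
  have h1 := CopAct.commutator_le_of_le_normalizer (hLA.trans hLP)
  have hS' : S ≤ P ⊓ 𝐂(A) := hS.trans (inf_le_inf_right _ h1)
  obtain ⟨s, hs, hsF⟩ := SetLike.not_le_iff_exists.1 hSF
  have hsP := (hS' hs).1
  obtain ⟨v, hv⟩ : ∃ v, hRep (AlgebraicClosure (ZMod q)) X FX s v ≠ v := by
    by_contra e
    push Not at e
    exact hsF (h.ker ⟨hsP, mem_cent2_of_hRep h.sX.pP h.sX.le h.sX.der h.sX.pow (h.PX hsP) e⟩)
  obtain ⟨K, hK, hsK⟩ := (prep_hRep _ X FX).exists_typ h.PX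
    (natCast_ne_zero_of_coprime (card_coprime_of_ne h.sP.pP h.pq)) hsP hv
  obtain ⟨k1, k2, k3⟩ := h.lemK hS' star hK fun e => hsK (e hs)
  obtain ⟨w, hw, hsw⟩ := exists_homSp (k := ZMod p) (N := F ⊓ ⁅P, ⁅L, A⁆⁆) (h.sP.pP.to_le h1)
    (N' := K ⊓ ⁅P, ⁅L, A⁆⁆) (le_inf k3 inf_le_right) inf_le_right
    (le_inf k2 (CopAct.commutator_le_of_le_normalizer Subgroup.le_normalizer))
    (fun x hx => ⟨k3 ⟨h.sP.pow x (h1 hx), pow_mem hx _⟩, pow_mem hx _⟩) (hS hs).1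
    fun e => hsK e.1
  have hAM := le_norm_sec h.sP.hA
    (CopAct.le_normalizer_commutator h.sL.hAP Subgroup.le_normalizer)
  have hLM := le_norm_sec h.LP (Subgroup.normalizer_commutator_ge_left L A)
  have h2 := CopAct.commutator_le_of_le_normalizer (hAM.trans inf_le_left)
  refine ⟨w, ⟨prep_hRep _ _ _, hLM, hAM, h.sL.hAP, h.sL.hAF, h.sL.le, h.sL.der,
    fun x hx => hRep_sec_eq_one h1 (h.cL hx) (hLM (h.sL.le (h.sL.der
      (Subgroup.commutator_mono h.sL.le le_rfl hx)))).1, h.prime,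
    natCast_ne_zero_of_coprime h.sP.cop, h.sL.copA, h.sL.sol,
    (mem_pfix_hRep hAM).2 ((le_inf k1 h2).trans hw)⟩, fun e => hsw (e hs), fun x hx => ?_,
    fun e => hsw ?_⟩
  · have h3 : ∀ Z ≤ ⁅P, ⁅L, A⁆⁆, Z ≤ K ^ᶜ x → Z ≤ hker (hRep (ZMod p) _ _ x w) :=
      fun Z e1 e2 z hz => (mem_hker_hRep (hLM hx)).2 (hw ⟨by
        obtain ⟨y, hy, rfl⟩ := e2 hz
        simpa [mul_assoc] using hy, CopAct.conj_mem' le_rfl (hLM hx).1 (e1 hz)⟩)
    by_cases e : S ≤ K ^ᶜ x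
    · exact Or.inr (h3 S (hS.trans inf_le_left) e)
    · exact Or.inl ((mem_pfix_hRep hAM).2
        (h3 _ h2 (h.lemK hS' star (hK.conj (h.LX hx) (hLP hx)) e).1))
  · refine (mem_pfix_hRep (hLA.trans hLM)).1
      (fun g hg => ((prep_hRep _ _ _).mem_pker_single.1 (e hg)).2) ?_
    rw [CopAct.commutator_commutator_eq (hLA.trans hLP) (CopAct.coprime_mono
      (IsPGroup.coprime_card_of_ne t p h.tp _ _ h.sL.pP h.sP.pP) hLA (le_refl P))]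
    exact (hS hs).1

theorem nrm_hRep_eq_of_le {k : Type*} [Field k] {N : Subgroup G} (hA : A ≤ 𝐍(X) ⊓ 𝐍(N))
    (hc : (Nat.card A).Coprime (Nat.card X)) (hs : Group.IsSolvable X) {φ : homSp k X N}
    (hD : D ≤ 𝐍(X) ⊓ 𝐍(N)) (h : ⁅X ⊓ 𝐂(A), D⁆ ≤ hker φ) {d : G} (hd : d ∈ D) :
    nrm (hRep k X N) A (hRep k X N d φ) = nrm (hRep k X N) A φ := by
  rw [← sub_eq_zero, ← map_sub]
  exact nrm_hRep_eq_zero hA hc hs fun x hx => (mem_hker_sub (hD hd) hx.1).2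
    (h (Subgroup.commutator_mem_commutator (inv_mem hx) (inv_mem hd)))

omit [Finite G] in
theorem exists_hRep_ne {k : Type*} [Field k] {N : Subgroup G} {φ : homSp k X N}
    (hD : D ≤ 𝐍(X) ⊓ 𝐍(N)) (h : ¬ ⁅X ⊓ 𝐂(A), D⁆ ≤ hker φ) : ∃ d ∈ D, hRep k X N d φ ≠ φ := by
  by_contra e
  push Not at e
  exact h ((Subgroup.commutator_mono inf_le_left le_rfl).trans ((mem_pfix_hRep hD).1 e))

omit ht hq in
theorem Tri.sub (h : Tri t p q L FL P F X FX A) : (Nat.card A).Coprime (Nat.card ↥⁅P, ⁅L, A⁆⁆) ∧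
    Group.IsSolvable ↥⁅P, ⁅L, A⁆⁆ :=
  have h1 := CopAct.commutator_le_of_le_normalizer
    ((CopAct.commutator_le_of_le_normalizer h.sL.hAP).trans (h.LP.trans inf_le_left))
  ⟨CopAct.coprime_mono h.sP.copA le_rfl h1, CopAct.isSolvable_of_le h1 h.sP.sol⟩

omit [Finite G] in
theorem comm_cent_le {Z : Subgroup G} (hD : D ≤ 𝐍(Z)) (hDA : D ≤ 𝐂(A)) :
    ⁅Z ⊓ 𝐂(A), D⁆ ≤ Z ⊓ 𝐂(A) :=
  CopAct.commutator_le_of_le_normalizer
    (CopAct.le_normalizer_inf hD (hDA.trans Subgroup.le_normalizer))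

theorem Tri.step (h : Tri t p q L FL P F X FX A) (hD : D ≤ L ⊓ 𝐂(A))
    (star : TStar X FX P A ⁅⁅P, ⁅L, A⁆⁆ ⊓ 𝐂(A), D⁆) : TStar P F L A D := by
  by_contra e
  have hDM := (hD.trans inf_le_left).trans
    (le_norm_sec h.LP (Subgroup.normalizer_commutator_ge_left L A))
  obtain ⟨w, hw, h1, h2, h3⟩ := h.core
    (comm_cent_le (hDM.trans inf_le_left) (hD.trans inf_le_right)) star e
  obtain ⟨d, hd, hd'⟩ := exists_hRep_ne hDM h1
  exact h3 (hw.step (hD hd) hd' fun x hx => (h2 x hx).imp id fun e' =>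
    nrm_hRep_eq_of_le hw.hA h.sub.1 h.sub.2 hDM e' hd)

theorem Tri.top (h : Tri t p q L FL P F X FX A) (hDA : D ≤ 𝐂(A)) (hDL : D ≤ 𝐍(L))
    (hDP : D ≤ 𝐍(P) ⊓ 𝐍(F)) (hc : (Nat.card D).Coprime (Nat.card A)) (hLD : L ≤ ⁅L, D⁆)
    (hLA : L ≤ ⁅L, A⁆) (hDF : D ≤ 𝐍(FL)) (hFD : ⁅FL, D⁆ ≤ cent2 P F)
    (star : TStar X FX P A ⁅⁅P, ⁅L, A⁆⁆ ⊓ 𝐂(A), D⁆) : TStar P F L A D := by
  by_contra e
  have hDM := le_norm_sec hDP (CopAct.le_normalizer_commutator hDL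
    (hDA.trans (Subgroup.centralizer_le_normalizer _)))
  obtain ⟨w, hw, h1, h2, h3⟩ := h.core (comm_cent_le (hDM.trans inf_le_left) hDA) star e
  obtain ⟨d, hd, hd'⟩ := exists_hRep_ne hDM h1
  have h4 := CopAct.commutator_le_of_le_normalizer h.sL.hAP
  exact h3 (h4.trans (hw.top hDM hDA hDL hc hLD hLA (fun x hx => hRep_sec_eq_one
    (CopAct.commutator_le_of_le_normalizer (h4.trans (h.LP.trans inf_le_left))) (hFD hx)
    (hw.hL (h.sL.le (CopAct.commutator_le_of_le_normalizer hDF hx))).1) hd hd'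
    fun x hx => (h2 x hx).imp id fun e' d hd =>
      nrm_hRep_eq_of_le hw.hA h.sub.1 h.sub.2 hDM e' hd))

theorem Tri.zero (h : Tri t p q L FL P F X FX A)
    (star : TStar X FX P A (⁅P, ⁅L, A⁆⁆ ⊓ 𝐂(A))) : ⁅P, ⁅L, A⁆⁆ ⊓ 𝐂(A) ≤ F := by
  by_contra e
  obtain ⟨w, hw, h1, h2, h3⟩ := h.core le_rfl star e
  exact h3 (hw.zero (fun e' => h1 fun x hx => ⟨hx.1, by rw [e']; rfl⟩)
    fun x hx => (h2 x hx).imp id (nrm_hRep_eq_zero hw.hA h.sub.1 h.sub.2))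

end Cfsg.Agent.Loc.H78
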