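import Mathlib
import Cfsg.Agent.Loc.TurK

/-!
The configuration in which an operator group centralising `A` fixes every vector fixed by `A`.
-/

set_option autoImplicit false

namespace Cfsg.Agent.Loc.H78

open Cfsg Module Cfsg.Agent.FT Cfsg.Agent.GT
open scoped commutatorElement

local notation:75 H " ^ᶜ " g:76 => Subgroup.map (MulEquiv.toMonoidHom (MulAut.conj g)) H

section Grp

variable {G : Type*} [Group G] {H Y B Z : Subgroup G} {x d e : G}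

theorem pow_gcd_mem {a b : ℕ} (ha : x ^ a ∈ Z) (hb : x ^ b ∈ Z) : x ^ a.gcd b ∈ Z := by
  induction a, b using Nat.gcd.induction with
  | H0 n => simpa using hb
  | H1 m n _ ih =>
    rw [Nat.gcd_rec]
    refine ih ?_ ha
    rw [← Nat.div_add_mod n m, pow_add, pow_mul] at hb
    exact (mul_mem_cancel_left (pow_mem ha _)).1 hb

theorem mem_of_comm_sup [Finite G] (hY : Y ≤ H) (hd : ⁅H, H⁆ ≤ Y) (hBH : B ≤ 𝐍(H))
    (hBY : B ≤ 𝐍(Y)) (hc : (Nat.card B).Coprime (Nat.card H)) (hs : Group.IsSolvable H)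
    (hx : x ∈ ⁅H, B⁆ ⊔ Y) (h : B ≤ cent1 x Y) : x ∈ Y := by
  have h1 := (CopAct.commutator_le_of_le_normalizer hBH).trans (norm_of_der hY hd)
  obtain ⟨z, hz, y, hy, rfl⟩ := (CopAct.mem_sup_iff_of_le_normalizer' h1).1 (sup_comm _ Y ▸ hx)
  refine mul_mem (mem_of_comm_der hY hd hBH hBY hc hs hz fun b hb => ?_) hy
  have h2 := CopAct.conj_mem h1 hz (comm_mem_symm (comm_mem_of_norm (hBY hb) hy))
  convert mul_mem (inv_mem h2) (h hb).2 using 1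
  simp only [commutatorElement_def]
  group

theorem conj_mul_mem (hd : ⁅H, H⁆ ≤ Y) (hdH : d ∈ 𝐍(H)) (h2 : ∀ x ∈ H, ⁅d ^ 2, x⁆ ∈ Y)
    (hf : ∀ x ∈ H, ⁅d, x⁆ ∈ Y → x ∈ Y) (hx : x ∈ H) : d * x * d⁻¹ * x ∈ Y := by
  have h1 := CopAct.conj_mem le_rfl hdH hx
  refine hf _ (mul_mem h1 hx) ?_
  convert mul_mem (h2 x hx) (hd (Subgroup.commutator_mem_commutator hx h1)) using 1
  simp only [commutatorElement_def, pow_two]
  group

theorem comm_mul_mem (hdY : d ∈ 𝐍(Y)) (h1 : ∀ x ∈ H, d * x * d⁻¹ * x ∈ Y)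
    (h2 : ∀ x ∈ H, e * x * e⁻¹ * x ∈ Y) (hx : x ∈ H) : ⁅d * e, x⁆ ∈ Y := by
  convert mul_mem (CopAct.conj_mem le_rfl hdY (h2 x hx)) (h1 _ (inv_mem hx)) using 1
  simp only [commutatorElement_def]
  group

theorem cent2_le_cent1 [Finite G] (hY : Y ≤ H) (hx : x ∈ H) : cent2 H Y ≤ cent1 x Y :=
  fun _ hd => ⟨cent2_le_norm hY hd, comm_mem_symm (hd.2 x hx)⟩

end Grp

variable {k : Type*} [Field k] {G : Type*} [Group G] {W : Type*} [AddCommGroup W] [Module k W]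

structure Bas (M : Subgroup G) (ρ : G → End k W) (L F A D : Subgroup G) : Prop where
  prep : PRep M ρ
  hL : L ≤ M
  hA : A ≤ M
  hD : D ≤ M
  cardL : (Nat.card L : k) ≠ 0
  cardA : (Nat.card A : k) ≠ 0
  prime : (Nat.card A).Prime
  hFL : F ≤ L
  der : ⁅L, L⁆ ≤ F
  hAL : A ≤ 𝐍(L)
  hDL : D ≤ 𝐍(L)
  hDF : D ≤ 𝐍(F)
  hDA : D ≤ 𝐂(A)
  cAL : (Nat.card A).Coprime (Nat.card L)
  cDL : (Nat.card D).Coprime (Nat.card L)
  cDA : (Nat.card D).Coprime (Nat.card A)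
  sol : Group.IsSolvable L
  tL : ∀ x ∈ ⁅F, L⁆, ρ x = 1
  tD : ∀ x ∈ ⁅F, D⁆, ρ x = 1
  LD : L ≤ ⁅L, D⁆
  LA : L ≤ ⁅L, A⁆
  fix : pfix ρ A ≤ pfix ρ D

variable [Finite G] {M L F A D K H : Subgroup G} {ρ : G → End k W}

theorem Bas.centA (h : Bas M ρ L F A D) : L ⊓ 𝐂(A) ≤ F :=
  (inf_le_inf_right _ h.LA).trans
    ((CopAct.commutator_inf_centralizer_le h.hAL h.cAL).trans h.der)

theorem Bas.le_inf (h : Bas M ρ L F A D) (hK : IsTyp M ρ L K) {B : Subgroup G} (hB : B ≤ 𝐍(F))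
    (e : ∀ x ∈ ⁅F, B⁆, ρ x = 1) : ⁅F, B⁆ ≤ K ⊓ F := fun x hx =>
  have h1 := CopAct.commutator_le_of_le_normalizer hB hx
  ⟨hK.mem_of_eq_one (h.hFL h1) (e x hx), h1⟩

theorem Bas.FY (h : Bas M ρ L F A D) (hK : IsTyp M ρ L K) : F ≤ L ⊓ cent2 L K :=
  le_rad_of_comm h.hFL ((h.le_inf hK (norm_of_der h.hFL h.der) h.tL).trans inf_le_left)

theorem Bas.DY (h : Bas M ρ L F A D) (hK : IsTyp M ρ L K) : D ≤ 𝐍(L ⊓ cent2 L K) :=
  le_norm_rad h.der h.hDL (h.le_inf hK h.hDF h.tD)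

theorem Bas.typ (h : Bas M ρ L F A D) (hK : IsTyp M ρ L K) (hne : ¬ L ≤ K) :
    A ≤ 𝐍(K) ∧ ⁅L ⊓ cent2 L K, A⁆ ≤ K ∧ D ≤ 𝐍(K) ∧ ⁅L ⊓ cent2 L K, D⁆ ≤ K ∧
      ¬ L ≤ L ⊓ cent2 L K := by
  have key : ∀ d ∈ D, ∀ v, nrm ρ A (ρ d v) = nrm ρ A v := fun d hd v => by
    rw [h.prep.nrm_comm h.hA (h.hD hd) (Subgroup.centralizer_le_normalizer _ (h.hDA hd)),
      h.fix (h.prep.nrm_mem_pfix h.hA v) d hd]
  have hco : ∀ d ∈ D, (orderOf d).Coprime (Nat.card A) := fun d hd =>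
    h.cDA.coprime_dvd_left (D.orderOf_dvd_natCard hd)
  have nf : ¬ ∀ d ∈ D, ∀ v ∈ H78.typ ρ L K, ρ d v = v := fun e => hne (h.LD.trans
    ((_root_.le_inf (CopAct.commutator_le_of_le_normalizer h.hDL) (Subgroup.commutator_le.2
      fun x hx d hd => comm_mem_of_norm (hK.norm_ker hx) ⟨h.hD hd, e d hd⟩)).trans hK.ker))
  obtain ⟨v₀, hv₀, hv0⟩ := (Submodule.ne_bot_iff _).1 hK.ne
  have hAK : A ≤ 𝐍(K) := by
    by_contra e
    refine nf fun d hd v hv => (hK.diag1 h.prime h.hA h.hAL e (h.hD hd) (h.hDL hd) (h.hDA hd)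
      (hco d hd) hv hv (key d hd v)).1 (by_contra fun e' => hv0 ?_)
    exact (hK.diag1 h.prime h.hA h.hAL e (h.hD hd) (h.hDL hd) (h.hDA hd) (hco d hd) hv₀ hv₀
      (key d hd v₀)).2 e'
  have hYA : ⁅L ⊓ cent2 L K, A⁆ ≤ K := by
    suffices A ≤ cent2 (L ⊓ cent2 L K) K from
      Subgroup.commutator_le.2 fun y hy a ha => comm_mem_symm ((this ha).2 y hy)
    by_contra e
    obtain ⟨v, hv, h0⟩ : ∃ v ∈ H78.typ ρ L K, nrm ρ A v ≠ 0 := by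
      by_contra e'
      push Not at e'
      exact e (hK.of_fix_eq_bot h.prime h.hA h.hAL e').2
    have hu : nrm ρ A v ∈ H78.typ ρ L K := by
      rw [nrm_apply]
      refine Submodule.sum_mem _ fun b hb => ?_
      have hb' : b ∈ A := by simpa using hb
      exact hK.mem (h.hA hb') (h.hAL hb') (hAK hb') hv
    have hDK : D ≤ 𝐍(K) := le_norm_of_conj_mem fun d hd x hx => by
      have h1 := hK.conj (h.hD hd) (h.hDL hd)
      have h2 := h.prep.typ_conj h.hL hK.le (h.hD hd) (h.hDL hd) hu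
      rw [h.fix (h.prep.nrm_mem_pfix h.hA v) d hd] at h2
      exact (show K ^ᶜ d ≤ K from by_contra fun e' => h0 (hK.eq_zero h1.le h1.norm e' hu h2.1))
        ⟨x, hx, rfl⟩
    refine nf fun d hd v hv => (hK.diag2 h.prime h.hA h.hAL hAK e (h.hD hd) (h.hDL hd) (hDK hd)
      (h.hDA hd) (hco d hd) hv hv fun y _ => key d hd _).1 (by_contra fun e' => hv0 ?_)
    exact (hK.diag2 h.prime h.hA h.hAL hAK e (h.hD hd) (h.hDL hd) (hDK hd) (h.hDA hd) (hco d hd)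
      hv₀ hv₀ fun y _ => key d hd _).2 e'
  have hFD := h.le_inf hK h.hDF h.tD
  have dec : ∀ Z ≤ L ⊓ cent2 L K, A ≤ 𝐍(Z) → Z ≤ Z ⊓ F ⊔ ⁅L ⊓ cent2 L K, A⁆ := fun Z h1 h2 x hx => by
    have h3 := h1.trans inf_le_left
    obtain ⟨c, hc, z, hz, rfl⟩ := CopAct.exists_eq_centralizer_mul_commutator h2
      (CopAct.coprime_mono h.cAL le_rfl h3) (Or.inr (CopAct.isSolvable_of_le h3 h.sol)) hx
    exact Subgroup.mul_mem_sup ⟨hc.1, h.centA ⟨h3 hc.1, hc.2⟩⟩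
      (Subgroup.commutator_mono h1 (le_refl A) hz)
  have hDK : D ≤ 𝐍(K) := by
    rw [le_antisymm (dec K hK.le_rad hAK) (sup_le inf_le_left hYA)]
    exact CopAct.le_normalizer_sup (CopAct.le_normalizer_of_commutator_le inf_le_right hFD)
      (CopAct.le_normalizer_commutator (h.DY hK)
        (h.hDA.trans (Subgroup.centralizer_le_normalizer _)))
  refine ⟨hAK, hYA, hDK, (Subgroup.commutator_mono ((dec _ le_rfl fun a ha =>
    mem_norm_rad (h.hAL ha) (hAK ha)).trans (sup_le_sup inf_le_right hYA)) le_rfl).trans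
    (commutator_sup_le ((sup_le h.hFL hK.le).trans hK.norm) (hFD.trans inf_le_left)
      (CopAct.commutator_le_of_le_normalizer hDK)), fun e => hne ?_⟩
  exact h.LA.trans ((Subgroup.commutator_mono e le_rfl).trans hYA)

variable [IsAlgClosed k] [FiniteDimensional k W]

theorem Bas.weil (h : Bas M ρ L F A D) (hK : IsTyp M ρ L K) (hne : ¬ L ≤ K)
    (hYH : L ⊓ cent2 L K ≤ H) (hHL : H ≤ L) (nd : ND H (L ⊓ cent2 L K) K)
    (hH : ¬ H ≤ L ⊓ cent2 L K) (hAH : A ≤ 𝐍(H)) {d : G} (hd : d ∈ D) (hdH : d ∈ 𝐍(H)) {n : ℕ}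
    (hn : n ∣ orderOf d) (hn2 : 2 ≤ n) (hdn : d ^ n ∈ cent2 L (L ⊓ cent2 L K))
    (fpf : ∀ x ∈ H, ∀ i, 0 < i → i < n → d ^ i ∈ cent1 x (L ⊓ cent2 L K) → x ∈ L ⊓ cent2 L K) :
    n = 2 ∧ (2 * Nat.card A - 1) ^ 2 * Nat.card ↥(L ⊓ cent2 L K) = Nat.card H ∧
      ∃ u ∈ H78.typ ρ L K, u ≠ 0 ∧ u ∈ pfix ρ A := by
  obtain ⟨hAK, hYA, hDK, hYD, -⟩ := h.typ hK hne
  have hd' := h.der.trans (h.FY hK)
  have hAY : A ≤ 𝐍(L ⊓ cent2 L K) := fun a ha => mem_norm_rad (h.hAL ha) (hAK ha)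
  obtain ⟨U, hU, hU0, hs, hinv⟩ := hK.exists_hs hYH hHL
    ((Subgroup.commutator_mono hHL hHL).trans hd') nd le_rfl hK.ne
    fun x hx u hu => hK.memP (hHL hx) hu
  obtain ⟨a, ha, hao, haz⟩ := exists_orderOf_eq_card h.prime
  have hf : Fpf A H (L ⊓ cent2 L K) := fun x hx =>
    fpf_of_der h.prime inf_le_left hd' h.hAL hAY h.cAL h.sol x (h.LA (hHL hx))
  have hco := h.cDA.coprime_dvd_left (D.orderOf_dvd_natCard hd)
  have hda : Commute d a := (h.hDA hd a ha).symm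
  have ha1 : a ≠ 1 := fun e => h.prime.one_lt.ne (by rw [← hao, e, orderOf_one])
  obtain ⟨w, -, h2, h3, h4, h5⟩ := hs.bound hU0 hH (h.hA ha) (h.hD hd) (hAH ha) hdH (hAY ha)
    (h.DY hK hd) (hinv a (h.hA ha) (h.hAL ha) (hAK ha)
      (fun y hy => hYA (Subgroup.commutator_mem_commutator hy ha))
      fun u hu => hK.mem (h.hA ha) (h.hAL ha) (hAK ha) hu)
    (hinv d (h.hD hd) (h.hDL hd) (hDK hd)
      (fun y hy => hYD (Subgroup.commutator_mem_commutator hy hd))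
      fun u hu => hK.mem (h.hD hd) (h.hDL hd) (hDK hd) hu) hda h.prime
    (by rw [← hao, pow_orderOf_eq_one]) h.cardA hco hn (hao ▸ hf.semi ha)
    fun x hx hxY i hi hi' e => by
      have e1 : a ^ i * d ^ i ∈ cent1 x (L ⊓ cent2 L K) := by
        rw [← hda.symm.mul_pow, ← hda.eq]
        exact ⟨pow_mem (mul_mem (h.DY hK hd) (hAY ha)) i, comm_mem_symm e⟩
      have e2 := eq_one_of_mul_mem (Z := cent1 x _) h.prime (fun e' => hxY (hf x hx a ha ha1 (e' ha).2))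
        (pow_mem (h.hDA hd) i) (hco.coprime_dvd_left (orderOf_pow_dvd i)) (pow_mem ha i) e1
      rw [e2, one_mul] at e1
      obtain ⟨j, rfl⟩ := hao ▸ orderOf_dvd_of_pow_eq_one e2
      have e3 := pow_gcd_mem e1 (cent2_le_cent1 inf_le_left (hHL hx) hdn)
      rw [(hco.coprime_dvd_left hn).symm.gcd_mul_left_cancel] at e3
      have hj := Nat.pos_of_mul_pos_left hi
      exact hxY (fpf x hx _ (Nat.gcd_pos_of_pos_left _ hj) ((Nat.gcd_le_left _ hj).trans_lt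
        (Nat.lt_of_mul_lt_mul_left hi')) e3)
  have hex : ∃ u ∈ U, u ≠ 0 ∧ ρ a u = u := by
    by_contra e
    push Not at e
    have := h4 fun u hu e' => by_contra fun e'' => e u hu e'' e'
    nlinarith [h.prime.pos]
  have hB : Subgroup.zpowers (d ^ n) ≤ D := Subgroup.zpowers_le.2 (pow_mem hd n)
  have hc : ⁅L, Subgroup.zpowers (d ^ n)⁆ ≤ K := by
    rw [← CopAct.commutator_commutator_eq (hB.trans h.hDL) (CopAct.coprime_mono h.cDL hB le_rfl)]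
    exact (Subgroup.commutator_mono (Subgroup.commutator_le.2 fun x hx b hb => comm_mem_symm
      ((Subgroup.zpowers_le.2 hdn hb).2 x hx)) hB).trans hYD
  obtain ⟨h6, h7⟩ := h5 hex (fun u _ e =>
    h.fix (pfix_anti haz (h.prep.mem_pfix_zpowers (h.hA ha) e)) d hd) (fun x hx u hu =>
      (hK.comm (hHL hx) (h.hD (pow_mem hd n)) (h.hDL (pow_mem hd n)) (hDK (pow_mem hd n))
        (hc (Subgroup.commutator_mem_commutator (hHL hx) (Subgroup.mem_zpowers _))) (hU hu)).symm)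
    hn2
  obtain ⟨u, hu, hu0, e⟩ := hex
  exact ⟨h6, by rw [← h7, Nat.add_sub_cancel, h2], u, hU hu, hu0,
    pfix_anti haz (h.prep.mem_pfix_zpowers (h.hA ha) e)⟩

omit [IsAlgClosed k] [FiniteDimensional k W] in
theorem Bas.nd (h : Bas M ρ L F A D) (hK : IsTyp M ρ L K) (hne : ¬ L ≤ K)
    (hYH : L ⊓ cent2 L K ≤ H) (hHL : H ≤ L) (nd : ND H (L ⊓ cent2 L K) K) {B : Subgroup G}
    (hB : B ≤ D) (hBH : B ≤ 𝐍(H)) : ND (⁅H, B⁆ ⊔ L ⊓ cent2 L K) (L ⊓ cent2 L K) K :=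
  nd.comm (hHL.trans hK.norm) hYH ((Subgroup.commutator_mono le_rfl hHL).trans rad_comm_le) hBH
    (CopAct.coprime_mono h.cDL hB hHL) (CopAct.isSolvable_of_le hHL h.sol)
    (orth (hHL.trans hK.norm) (hB.trans (h.typ hK hne).2.2.1) ((Subgroup.commutator_mono
      ((Subgroup.commutator_mono hHL hHL).trans h.der) hB).trans
        ((h.le_inf hK h.hDF h.tD).trans inf_le_left)))

theorem Bas.sq_mem {q : ℕ} [hq : Fact q.Prime] (h : Bas M ρ L F A D) (hDq : IsPGroup q D)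
    (hK : IsTyp M ρ L K) (hne : ¬ L ≤ K) {d : G} (hd : d ∈ D)
    (hdZ : d ∉ cent2 L (L ⊓ cent2 L K)) :
    d ^ 2 ∈ cent2 L (L ⊓ cent2 L K) ∧ ∃ u ∈ H78.typ ρ L K, u ≠ 0 ∧ u ∈ pfix ρ A := by
  classical
  obtain ⟨m, hm⟩ := (IsPGroup.iff_orderOf.1 hDq) ⟨d, hd⟩
  rw [Subgroup.orderOf_mk] at hm
  have hm' : d ^ q ^ m ∈ cent2 L (L ⊓ cent2 L K) := by rw [← hm, pow_orderOf_eq_one]; exact one_mem _
  have hex : ∃ j, d ^ q ^ j ∈ cent2 L (L ⊓ cent2 L K) := ⟨m, hm'⟩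
  obtain ⟨j, hj⟩ : ∃ j, Nat.find hex = j + 1 := Nat.exists_eq_succ_of_ne_zero fun e =>
    hdZ (by simpa [e] using Nat.find_spec hex)
  have h1 := hj ▸ Nat.find_spec hex
  have h2 := Nat.find_min hex (show j < Nat.find hex by omega)
  have hB : Subgroup.zpowers (d ^ q ^ j) ≤ D := Subgroup.zpowers_le.2 (pow_mem hd _)
  have hAY : A ≤ 𝐍(L ⊓ cent2 L K) := fun a ha => mem_norm_rad (h.hAL ha) ((h.typ hK hne).1 ha)
  have hBL := hB.trans h.hDL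
  obtain ⟨h3, -, h4⟩ := h.weil hK hne le_sup_right
    (sup_le (CopAct.commutator_le_of_le_normalizer hBL) inf_le_left)
    (h.nd hK hne inf_le_left le_rfl (nd_rad L K) hB hBL)
    (fun e => h2 (le_cent2_of_comm_le hBL (le_sup_left.trans e) (Subgroup.mem_zpowers _)))
    (CopAct.le_normalizer_sup (CopAct.le_normalizer_commutator h.hAL
      (CopAct.le_normalizer_of_le_centralizer
        (Subgroup.le_centralizer_iff.1 (hB.trans h.hDA)))) hAY) hd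
    (CopAct.le_normalizer_sup (A := Subgroup.zpowers d) (CopAct.le_normalizer_commutator
      (Subgroup.zpowers_le.2 (h.hDL hd)) (CopAct.le_normalizer_of_isMulCommutative inferInstance
        le_rfl (Subgroup.zpowers_le.2 (Subgroup.npow_mem_zpowers d _))))
      (Subgroup.zpowers_le.2 (h.DY hK hd)) (Subgroup.mem_zpowers d))
    (n := q ^ (j + 1)) (hm ▸ pow_dvd_pow q (hj ▸ Nat.find_min' hex hm'))
    (hq.out.two_le.trans (Nat.le_self_pow j.succ_ne_zero q)) h1 fun x hx i hi hi' e => by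
      have hxL := sup_le (CopAct.commutator_le_of_le_normalizer hBL) inf_le_left hx
      have e3 := pow_gcd_mem e (cent2_le_cent1 inf_le_left hxL h1)
      obtain ⟨l, hl, e4⟩ := (Nat.dvd_prime_pow hq.out).1 (Nat.gcd_dvd_right i (q ^ (j + 1)))
      have hl' : l ≤ j := by
        by_contra e5
        rw [show l = j + 1 by omega] at e4
        exact absurd (e4 ▸ Nat.gcd_le_left _ hi) hi'.not_ge
      refine mem_of_comm_sup inf_le_left (h.der.trans (h.FY hK)) hBL (hB.trans (h.DY hK))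
        (CopAct.coprime_mono h.cDL hB le_rfl) h.sol hx (Subgroup.zpowers_le.2 ?_)
      obtain ⟨c, rfl⟩ := Nat.exists_eq_add_of_le hl'
      rw [pow_add, pow_mul, ← e4]
      exact pow_mem e3 _
  exact ⟨h3 ▸ h1, h4⟩

theorem Bas.inv (h : Bas M ρ L F A D) (hK : IsTyp M ρ L K) (hne : ¬ L ≤ K)
    (sq : ∀ d ∈ D, d ^ 2 ∈ cent2 L (L ⊓ cent2 L K)) {Y Z : Subgroup G} (hY : Y = L ⊓ cent2 L K)
    (hZ : Z = D ⊓ cent2 L Y) (hYH : Y ≤ H) (hHL : H ≤ L) (nd : ND H Y K) (hAH : A ≤ 𝐍(H))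
    (hDH : D ≤ 𝐍(H)) {d : G} (hd : d ∈ D) {H' : Subgroup G}
    (hH' : H' = ⁅H, Subgroup.zpowers d ⊔ Z⁆ ⊔ Y) :
    H' ≤ H ∧ ND H' Y K ∧ A ≤ 𝐍(H') ∧ D ≤ 𝐍(H') ∧ (∀ x ∈ H', ⁅d, x⁆ ∈ Y → x ∈ Y) ∧
      (H' ≤ Y ∨ (2 * Nat.card A - 1) ^ 2 * Nat.card Y = Nat.card H') := by
  subst hY hH'
  have hB : Subgroup.zpowers d ⊔ Z ≤ D := sup_le (Subgroup.zpowers_le.2 hd) (hZ ▸ inf_le_left)
  have hZ' : Z ≤ cent2 L (L ⊓ cent2 L K) := hZ ▸ inf_le_right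
  have hDD : ⁅D, D⁆ ≤ Z := hZ ▸ _root_.le_inf
    (CopAct.commutator_le_of_le_normalizer Subgroup.le_normalizer)
    (Subgroup.commutator_le.2 fun x hx y hy => by
      convert mul_mem (mul_mem (sq x hx) (sq _ (mul_mem (inv_mem hx) hy))) (sq _ (inv_mem hy))
        using 1
      simp only [commutatorElement_def, pow_two]
      group)
  have h1 := sup_le (CopAct.commutator_le_of_le_normalizer (hB.trans hDH)) hYH
  have h2 := h.nd hK hne hYH hHL nd hB (hB.trans hDH)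
  have h3 := CopAct.le_normalizer_sup (CopAct.le_normalizer_commutator hAH
    (CopAct.le_normalizer_of_le_centralizer (Subgroup.le_centralizer_iff.1 (hB.trans h.hDA))))
    (show A ≤ 𝐍(L ⊓ cent2 L K) from fun a ha => mem_norm_rad (h.hAL ha) ((h.typ hK hne).1 ha))
  have h4 := CopAct.le_normalizer_sup (CopAct.le_normalizer_commutator hDH
    (norm_of_der hB (hDD.trans le_sup_right))) (h.DY hK)
  have h5 : ∀ x ∈ ⁅H, Subgroup.zpowers d ⊔ Z⁆ ⊔ L ⊓ cent2 L K, ⁅d, x⁆ ∈ L ⊓ cent2 L K →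
      x ∈ L ⊓ cent2 L K := fun x hx e => mem_of_comm_sup hYH
    ((Subgroup.commutator_mono hHL hHL).trans (h.der.trans (h.FY hK))) (hB.trans hDH)
    (hB.trans (h.DY hK)) (CopAct.coprime_mono h.cDL hB hHL) (CopAct.isSolvable_of_le hHL h.sol) hx
    (sup_le (Subgroup.zpowers_le.2 ⟨h.DY hK hd, comm_mem_symm e⟩)
      (hZ'.trans (cent2_le_cent1 inf_le_left (hHL (h1 hx)))))
  refine ⟨h1, h2, h3, h4, h5, or_iff_not_imp_left.2 fun e => (h.weil hK hne le_sup_right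
    (h1.trans hHL) h2 e h3 hd (h4 hd) (n := 2) ?_ le_rfl (sq d hd) fun x hx i hi hi' e' =>
      h5 x hx (comm_mem_symm (by simpa [show i = 1 by omega] using e'.2))).2.1⟩
  by_contra e'
  have h6 := pow_gcd_mem (sq d hd) (show d ^ orderOf d ∈ _ by
    rw [pow_orderOf_eq_one]; exact one_mem _)
  rw [(Nat.Prime.coprime_iff_not_dvd Nat.prime_two).2 e', pow_one] at h6
  exact e fun x hx => h5 x hx (h6.2 x (hHL (h1 hx)))

theorem Bas.mul_mem (h : Bas M ρ L F A D) (hK : IsTyp M ρ L K) (hne : ¬ L ≤ K)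
    (sq : ∀ d ∈ D, d ^ 2 ∈ cent2 L (L ⊓ cent2 L K)) {d e : G} (hd : d ∈ D) (he : e ∈ D)
    (hdZ : d ∉ cent2 L (L ⊓ cent2 L K)) (heZ : e ∉ cent2 L (L ⊓ cent2 L K)) :
    d * e ∈ cent2 L (L ⊓ cent2 L K) := by
  obtain ⟨Y, hY⟩ : ∃ Y, Y = L ⊓ cent2 L K := ⟨_, rfl⟩
  obtain ⟨Z, hZ⟩ : ∃ Z, Z = D ⊓ cent2 L Y := ⟨_, rfl⟩
  have hYL : Y ≤ L := hY ▸ inf_le_left
  have i0 := fun c (hc : c ∈ D) =>
    h.inv hK hne sq hY hZ hYL le_rfl (hY ▸ nd_rad L K) h.hAL h.hDL hc rfl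
  have hDY : D ≤ 𝐍(Y) := hY ▸ h.DY hK
  have hder : ⁅L, L⁆ ≤ Y := hY ▸ h.der.trans (h.FY hK)
  rw [← hY] at hdZ heZ sq ⊢
  have m0 : ∀ c ∈ D, c ∈ cent2 L (⁅L, Subgroup.zpowers c ⊔ Z⁆ ⊔ Y) := fun c hc =>
    ⟨h.hDL hc, fun x hx => Subgroup.mem_sup_left (comm_mem_symm
      (Subgroup.commutator_mem_commutator hx (Subgroup.mem_sup_left (Subgroup.mem_zpowers c))))⟩
  have n0 : ∀ c ∈ D, c ∉ cent2 L Y → ¬ ⁅L, Subgroup.zpowers c ⊔ Z⁆ ⊔ Y ≤ Y :=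
    fun c hc hcZ e' => hcZ (cent2_mono e' (m0 c hc))
  obtain ⟨H, hH⟩ : ∃ H, H = ⁅L, Subgroup.zpowers d ⊔ Z⁆ ⊔ Y := ⟨_, rfl⟩
  obtain ⟨a1, a2, a3, a4, a5, a6⟩ := i0 d hd
  have a7 := n0 d hd hdZ
  have a8 := m0 d hd
  rw [← hH] at a1 a2 a3 a4 a5 a6 a7 a8
  have hYH : Y ≤ H := hH ▸ le_sup_right
  have claim : ∀ c ∈ D, c ∉ cent2 L Y → c ∈ cent2 H Y ∨ d * c ∈ cent2 L Y := fun c hc hcZ => by
    obtain ⟨b1, -, -, -, b5, b6⟩ := h.inv hK hne (hY ▸ sq) hY hZ hYH a1 a2 a3 a4 hc rfl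
    refine b6.imp (fun e' => ⟨a4 hc, fun x hx => e' (Subgroup.mem_sup_left (comm_mem_symm
      (Subgroup.commutator_mem_commutator hx
        (Subgroup.mem_sup_left (Subgroup.mem_zpowers c)))))⟩) fun e' => ?_
    have e1 := Subgroup.eq_of_le_of_card_ge b1 (e' ▸ (a6.resolve_left a7).ge)
    have e2 := Subgroup.eq_of_le_of_card_ge (e1.ge.trans
      (sup_le_sup_right (Subgroup.commutator_mono a1 le_rfl) Y))
      (a6.resolve_left a7 ▸ ((i0 c hc).2.2.2.2.2.resolve_left (n0 c hc hcZ)).ge)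
    rw [e1] at b5
    have hHH := (Subgroup.commutator_mono a1 a1).trans hder
    have hB : Subgroup.zpowers (d * c) ≤ D := Subgroup.zpowers_le.2 (D.mul_mem hd hc)
    refine le_cent2_of_comm_le (hB.trans h.hDL) ?_ (Subgroup.mem_zpowers _)
    rw [← CopAct.commutator_commutator_eq (hB.trans h.hDL) (CopAct.coprime_mono h.cDL hB le_rfl)]
    refine (Subgroup.commutator_mono (K₁ := H) (Subgroup.commutator_le.2 fun x hx b hb =>
      comm_mem_symm ((Subgroup.zpowers_le.2 ((cent2 L H).mul_mem a8 (e2 ▸ m0 c hc)) hb).2 x hx))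
      le_rfl).trans (Subgroup.commutator_le.2 fun x hx b hb => comm_mem_symm
        ((Subgroup.zpowers_le.2 (show d * c ∈ cent2 H Y from ⟨a4 (D.mul_mem hd hc), fun y hy =>
          comm_mul_mem (hDY hd) (fun z hz => conj_mul_mem hHH (a4 hd)
            (fun z hz => (sq d hd).2 z (a1 hz)) a5 hz) (fun z hz => conj_mul_mem hHH (a4 hc)
            (fun z hz => (sq c hc).2 z (a1 hz)) b5 hz) hy⟩) hb).2 x hx))
  by_contra hde
  rcases claim e he heZ with c1 | c1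
  · rcases claim _ (D.mul_mem hd he) hde with c2 | c2
    · exact a7 fun x hx => a5 x hx (((mul_mem_cancel_right c1).1 c2).2 x hx)
    · rw [← mul_assoc, ← pow_two, mul_mem_cancel_left (sq d hd)] at c2
      exact heZ c2
  · exact hde c1

omit [IsAlgClosed k] [FiniteDimensional k W] in
theorem Bas.exists_notMem (h : Bas M ρ L F A D) (hK : IsTyp M ρ L K) (hne : ¬ L ≤ K) :
    ¬ D ≤ cent2 L (L ⊓ cent2 L K) := fun e => (h.typ hK hne).2.2.2.2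
  (h.LD.trans (Subgroup.commutator_le.2 fun x hx _ hd => comm_mem_symm ((e hd).2 x hx)))

theorem Bas.not_le_comm {q : ℕ} [hq : Fact q.Prime] (h : Bas M ρ L F A D) (hDq : IsPGroup q D)
    (hK : IsTyp M ρ L K) (hne : ¬ L ≤ K) {B : Subgroup G} (hBD : B ≤ 𝐍(D)) (hBL : B ≤ 𝐍(L))
    (hBF : B ≤ 𝐍(F)) (e : ∀ x ∈ ⁅F, B⁆, ρ x = 1) : ¬ D ≤ ⁅D, B⁆ := fun e' => by
  have hBZ := le_norm_cent2 hBL (le_norm_rad h.der hBL (h.le_inf hK hBF e))
  refine h.exists_notMem hK hne (e'.trans (Subgroup.commutator_le.2 fun d hd b hb => ?_))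
  by_cases hdZ : d ∈ cent2 L (L ⊓ cent2 L K)
  · exact comm_mem_symm (comm_mem_of_norm (hBZ hb) hdZ)
  rw [show ⁅d, b⁆ = d * (b * d⁻¹ * b⁻¹) by simp [commutatorElement_def, mul_assoc]]
  refine h.mul_mem hK hne (fun c hc => by_cases (fun e1 => pow_mem e1 2)
    fun e1 => (h.sq_mem hDq hK hne hc e1).1) hd (CopAct.conj_mem hBD hb (inv_mem hd)) hdZ
    fun e1 => hdZ ?_
  simpa [mul_assoc] using CopAct.conj_mem' hBZ hb e1

theorem Bas.eq_of_fix {q : ℕ} [hq : Fact q.Prime] (h : Bas M ρ L F A D) (hDq : IsPGroup q D)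
    {x : G} (hx : x ∈ F) (e : ∀ v ∈ pfix ρ A, ρ x v = v) (v : W) : ρ x v = v := by
  by_contra hv
  obtain ⟨K, hK, hxK⟩ := h.prep.exists_typ h.hL h.cardL (h.hFL hx) hv
  have hne : ¬ L ≤ K := fun e' => hxK (e' (h.hFL hx))
  obtain ⟨d, hd, hdZ⟩ := SetLike.not_le_iff_exists.1 (h.exists_notMem hK hne)
  obtain ⟨u, hu, hu0, hu'⟩ := (h.sq_mem hDq hK hne hd hdZ).2
  exact hu0 (hK.fpf (h.FY hK hx) hxK hu (e u hu'))

omit [IsAlgClosed k] [FiniteDimensional k W] in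
theorem Bas.comm_fix (h : Bas M ρ L F A D) {x : G} (hx : x ∈ ⁅F, A⁆) (v : W) : ρ x v = v := by
  by_contra hv
  have hxL := CopAct.commutator_le_of_le_normalizer h.hAL
    (Subgroup.commutator_mono h.hFL (le_refl A) hx)
  obtain ⟨K, hK, hxK⟩ := h.prep.exists_typ h.hL h.cardL hxL hv
  exact hxK ((h.typ hK fun e' => hxK (e' hxL)).2.1
    (Subgroup.commutator_mono (h.FY hK) (le_refl A) hx))

omit [IsAlgClosed k] [FiniteDimensional k W] in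
theorem Bas.not_triv (h : Bas M ρ L F A D) (hK : IsTyp M ρ L K) (hne : ¬ L ≤ K) :
    ¬ ∀ x ∈ F, ρ x = 1 := fun e => (h.typ hK hne).2.2.2.2 (le_rad_of_comm le_rfl
  (h.der.trans fun x hx => hK.mem_of_eq_one (h.hFL hx) (e x hx)))

/-- Two consecutive layers on which `A` acts without centralising the upper one. -/
structure Duo (t p : ℕ) (L FL P F A : Subgroup G) : Prop where
  prime : (Nat.card A).Prime
  sL : Sec t L FL A
  sP : Sec p P F A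
  tp : t ≠ p
  LP : L ≤ 𝐍(P) ⊓ 𝐍(F)
  cL : ⁅FL, L⁆ ≤ cent2 P F
  LA : L ≤ ⁅L, A⁆
  PL : P ≤ ⁅P, L⁆
  ne : ¬ P ≤ F

variable {t p q : ℕ} [ht : Fact t.Prime] [hp : Fact p.Prime] [hq : Fact q.Prime]
  {FL P B : Subgroup G}

theorem Duo.exists_typ (h : Duo t p L FL P F A) :
    ∃ K, IsTyp (𝐍(P) ⊓ 𝐍(F)) (hRep (AlgebraicClosure (ZMod p)) P F) L K ∧ ¬ L ≤ K := by
  obtain ⟨s, hs, v, hv⟩ : ∃ s ∈ L, ∃ v, hRep (AlgebraicClosure (ZMod p)) P F s v ≠ v := by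
    by_contra e
    push Not at e
    exact h.ne (h.PL.trans (Subgroup.commutator_le.2 fun x hx s hs => comm_mem_symm
      ((mem_cent2_of_hRep h.sP.pP h.sP.le h.sP.der h.sP.pow (h.LP hs) (e s hs)).2 x hx)))
  obtain ⟨K, hK, hsK⟩ := (prep_hRep _ P F).exists_typ h.LP
    (natCast_ne_zero_of_coprime (card_coprime_of_ne h.sL.pP h.tp)) hs hv
  exact ⟨K, hK, fun e => hsK (e hs)⟩

theorem Duo.zero (h : Duo t p L FL P F A) (hF : FL ≤ cent2 P F) : ¬ P ⊓ 𝐂(A) ≤ F := fun e => by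
  obtain ⟨K, hK, hne⟩ := h.exists_typ
  have h1 := (hK.of_fix_eq_bot h.prime h.sP.hA h.sL.hAP fun v _ => nrm_hRep_eq_zero h.sP.hA
    h.sP.copA h.sP.sol (e.trans (le_hker h.sP.le v))).2
  have h2 : L ≤ L ⊓ cent2 L K := le_rad_of_comm le_rfl (h.sL.der.trans fun x hx =>
    hK.mem_of_eq_one (h.sL.le hx) (hRep_eq_one h.sP.le (hF hx)))
  exact hne (h.LA.trans
    (Subgroup.commutator_le.2 fun x hx a ha => comm_mem_symm ((h1 ha).2 x (h2 hx))))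

theorem Duo.bas (h : Duo t p L FL P F A) (hDq : IsPGroup q D) (hqt : q ≠ t)
    (hqA : (Nat.card A).Coprime q) (hDA : D ≤ 𝐂(A)) (hDL : D ≤ 𝐍(L) ⊓ 𝐍(FL))
    (hDP : D ≤ 𝐍(P) ⊓ 𝐍(F)) (cD : ⁅FL, D⁆ ≤ cent2 P F) (LD : L ≤ ⁅L, D⁆)
    (e : ⁅P ⊓ 𝐂(A), D⁆ ≤ F) :
    Bas (𝐍(P) ⊓ 𝐍(F)) (hRep (AlgebraicClosure (ZMod p)) P F) L FL A D :=
  ⟨prep_hRep _ _ _, h.LP, h.sP.hA, hDP,
    natCast_ne_zero_of_coprime (card_coprime_of_ne h.sL.pP h.tp),
    natCast_ne_zero_of_coprime h.sP.cop, h.prime, h.sL.le, h.sL.der, h.sL.hAP,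
    hDL.trans inf_le_left, hDL.trans inf_le_right, hDA, h.sL.copA,
    IsPGroup.coprime_card_of_ne q t hqt _ _ hDq h.sL.pP,
    (CopAct.coprime_of_isPGroup_right hqA hDq).symm, h.sL.sol,
    fun _ hx => hRep_eq_one h.sP.le (h.cL hx), fun _ hx => hRep_eq_one h.sP.le (cD hx), LD, h.LA,
    pfix_le_pfix_hRep h.sP.le h.sP.hA hDP hDA h.sP.copA h.sP.sol e⟩

theorem Duo.aux (h : Duo t p L FL P F A) (hDq : IsPGroup q D)
    (b : Bas (𝐍(P) ⊓ 𝐍(F)) (hRep (AlgebraicClosure (ZMod p)) P F) L FL A D) :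
    FL ≤ L ⊓ 𝐂(A) ⊔ L ⊓ cent2 P F ∧
      ∀ S ≤ L ⊓ 𝐂(A), ⁅P ⊓ 𝐂(A), S⁆ ≤ F → S ≤ cent2 P F := by
  refine ⟨fun x hx => ?_, fun S hS e x hx => ?_⟩
  · obtain ⟨c, hc, z, hz, rfl⟩ := CopAct.exists_eq_centralizer_mul_commutator h.sL.hAF
      (CopAct.coprime_mono h.sL.copA le_rfl h.sL.le)
      (Or.inr (CopAct.isSolvable_of_le h.sL.le h.sL.sol)) hx
    have hzL := h.sL.le (CopAct.commutator_le_of_le_normalizer h.sL.hAF hz)
    exact Subgroup.mul_mem_sup ⟨h.sL.le hc.1, hc.2⟩ ⟨hzL, mem_cent2_of_hRep h.sP.pP h.sP.le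
      h.sP.der h.sP.pow (h.LP hzL) (b.comm_fix hz)⟩
  · exact mem_cent2_of_hRep h.sP.pP h.sP.le h.sP.der h.sP.pow (h.LP (hS hx).1)
      (b.eq_of_fix hDq (b.centA (hS hx)) fun v hv => pfix_le_pfix_hRep h.sP.le h.sP.hA
        ((hS.trans inf_le_left).trans h.LP) (hS.trans inf_le_right) h.sP.copA h.sP.sol e hv x hx)

theorem Duo.one (h : Duo t p L FL P F A) (hDq : IsPGroup q D)
    (b : Bas (𝐍(P) ⊓ 𝐍(F)) (hRep (AlgebraicClosure (ZMod p)) P F) L FL A D) :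
    ¬ ⁅P ⊓ 𝐂(A), L ⊓ 𝐂(A)⁆ ≤ F := fun e => by
  obtain ⟨K, hK, hne⟩ := h.exists_typ
  obtain ⟨h1, h2⟩ := h.aux hDq b
  exact b.not_triv hK hne fun x hx =>
    hRep_eq_one h.sP.le (sup_le (h2 _ le_rfl e) inf_le_right (h1 hx))

theorem Duo.two (h : Duo t p L FL P F A) (hDq : IsPGroup q D)
    (b : Bas (𝐍(P) ⊓ 𝐍(F)) (hRep (AlgebraicClosure (ZMod p)) P F) L FL A D) (hBA : B ≤ 𝐂(A))
    (hBD : B ≤ 𝐍(D)) (hBL : B ≤ 𝐍(L) ⊓ 𝐍(FL)) (hBP : B ≤ 𝐍(P) ⊓ 𝐍(F)) (hDB : D ≤ ⁅D, B⁆) :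
    ¬ ⁅P ⊓ 𝐂(A), ⁅L ⊓ 𝐂(A), B⁆⁆ ≤ F := fun e => by
  obtain ⟨K, hK, hne⟩ := h.exists_typ
  obtain ⟨h1, h2⟩ := h.aux hDq b
  have hL := hBL.trans inf_le_left
  refine b.not_le_comm hDq hK hne hBD hL (hBL.trans inf_le_right) (fun x hx =>
    hRep_eq_one h.sP.le (commutator_sup_le ((sup_le inf_le_left inf_le_left).trans
      (le_norm_cent2 (h.LP.trans inf_le_left) (h.LP.trans inf_le_right)))
      (h2 _ (comm_cent_le hL hBA) e) ((CopAct.commutator_le_of_le_normalizer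
        (CopAct.le_normalizer_inf hL (le_norm_cent2 (hBP.trans inf_le_left)
          (hBP.trans inf_le_right)))).trans inf_le_right)
      (Subgroup.commutator_mono h1 (le_refl B) hx))) hDB

end Cfsg.Agent.Loc.H78
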