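import Mathlib
import Cfsg.Agent.Loc.TurBase
import Cfsg.Agent.FT.B10Aux2
import Cfsg.Agent.FG.H93NilRes
import Cfsg.Agent.GT.PComponentsOf
import Cfsg.Agent.GT.CoprimeProd

/-!
Existence of invariant towers of the length of the Fitting height.
-/

set_option autoImplicit false

namespace Cfsg.Agent.Loc.H78

open Cfsg Cfsg.Agent.FT Cfsg.Agent.GT Cfsg.Agent.FG.H93
open scoped commutatorElement

variable {G : Type*} [Group G]

/-- The kernels of the actions in a tower. -/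
def towK (Q : ℕ → Subgroup G) (M : Subgroup G) : ℕ → Subgroup G
  | 0 => M
  | j + 1 => cent2 (Q j) (towK Q M j)

structure Tow (H A M : Subgroup G) (m : ℕ) (Q : ℕ → Subgroup G) (p : ℕ → ℕ) : Prop where
  le : ∀ i ≤ m, Q i ≤ H
  prime : ∀ i ≤ m, (p i).Prime
  pG : ∀ i ≤ m, IsPGroup (p i) (Q i)
  hA : ∀ i ≤ m, A ≤ 𝐍(Q i)
  nn : ∀ i j, i ≤ j → j ≤ m → Q j ≤ 𝐍(Q i)
  ne : ∀ i < m, p (i + 1) ≠ p i
  top : ¬ Q m ≤ towK Q M m

variable {H A M B : Subgroup G} {m : ℕ} {Q : ℕ → Subgroup G} {p : ℕ → ℕ}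

theorem towK_mono {M' : Subgroup G} (h : M ≤ M') (j : ℕ) : towK Q M j ≤ towK Q M' j := by
  induction j with
  | zero => exact h
  | succ j ih => exact cent2_mono ih

theorem towK_cons (R : Subgroup G) (j : ℕ) :
    towK (fun i => Nat.casesOn i R Q) M (j + 1) = towK Q (cent2 R M) j := by
  induction j with
  | zero => rfl
  | succ j ih => exact congrArg (cent2 (Q j)) ih

theorem towK_congr {Q' : ℕ → Subgroup G} (j : ℕ) (h : ∀ i < j, Q' i = Q i) :
    towK Q' M j = towK Q M j := by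
  induction j with
  | zero => rfl
  | succ j ih => rw [towK, towK, h j j.lt_succ_self, ih fun i hi => h i (by omega)]

variable [Finite G]

theorem le_norm_towK (j : ℕ) (hM : B ≤ 𝐍(M)) (h : ∀ i < j, B ≤ 𝐍(Q i)) : B ≤ 𝐍(towK Q M j) := by
  induction j with
  | zero => exact hM
  | succ j ih => exact le_norm_cent2 (h j j.lt_succ_self) (ih fun i hi => h i (by omega))

theorem le_norm_iterRes (n : ℕ) (h : A ≤ 𝐍(H)) : A ≤ 𝐍(iterRes n H) := fun a ha => by
  rw [Subgroup.mem_normalizer_iff_map_conj_eq, map_iterRes,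
    Subgroup.mem_normalizer_iff_map_conj_eq.1 (h ha)]

theorem quot_iterRes (n : ℕ) (h : H ≤ 𝐍(M)) : quot (iterRes n H) M = iterRes n (quot H M) := by
  have e : (iterRes n H).subgroupOf 𝐍(M) = iterRes n (H.subgroupOf 𝐍(M)) := by
    refine Subgroup.map_injective (Subgroup.subtype_injective _) ?_
    rw [map_iterRes, Subgroup.map_subgroupOf_eq_of_le h,
      Subgroup.map_subgroupOf_eq_of_le ((iterRes_le n H).trans h)]
  rw [quot, mim, e, map_iterRes]
  rfl

theorem nilRes_le_comm' (S : Subgroup G) : nilRes S ≤ ⁅nilRes S, S⁆ := by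
  obtain ⟨n, hn⟩ := exists_lcs_eq_nilRes S
  rw [← hn (n + 1) n.le_succ, Subgroup.lowerCentralSeries_succ, hn n le_rfl]
  exact Subgroup.commutator_mono (nilRes_le_lcs S (n + 1) |>.trans
    (by rw [Subgroup.lowerCentralSeries_succ, hn n le_rfl])) le_rfl

omit [Finite G] in
theorem exists_iterRes_eq_bot (hs : Group.IsSolvable H) : ∃ n, iterRes n H = ⊥ := by
  obtain ⟨n, hn⟩ := hs.solvable
  refine ⟨n, le_bot_iff.1 ?_⟩
  have : ∀ j, iterRes j H ≤ (derivedSeries H j).map H.subtype := fun j => by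
    induction j with
    | zero => simp [iterRes_zero, ← MonoidHom.range_eq_map]
    | succ j ih =>
      rw [derivedSeries_succ, Subgroup.map_commutator]
      exact (nilRes_le_lcs _ 1).trans (Subgroup.commutator_mono ih ih)
  simpa [hn] using this n

omit [Finite G] in
theorem iterRes_anti {a b : ℕ} (h : a ≤ b) : iterRes b H ≤ iterRes a H := by
  induction h with
  | refl => exact le_rfl
  | step _ ih => exact (nilRes_le _).trans ih

theorem le_of_nilpotent_comm {t : ℕ} [Fact t.Prime] {N S S₁ R L : Subgroup G}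
    (hN : Group.IsNilpotent N) (hSN : S ≤ 𝐍(N)) (hNS : N ≤ ⁅N, S⁆) (hR : IsSyl t R N)
    (hS : S ≤ N ⊔ S₁) (hS₁ : S₁ ≤ cent2 R L) (h1 : ⁅R, R⁆ ≤ L) (h2 : L ≤ R) : R ≤ L := by
  have hRt := B10.syl_pgroup hR
  have e : R = pCoreOf t N := B10.syl_eq_of_le hR (isPGroup_pCoreOf t N)
    (le_pCoreOf_of_isNilpotent hR.1 hRt) (pCoreOf_le N)
  have hO : pPrimeCoreOf t N ≤ 𝐂(R) := e ▸ pPrimeCoreOf_le_centralizer_pCoreOf N
  have hNe : R ⊔ pPrimeCoreOf t N = N := e ▸ pCoreOf_sup_pPrimeCoreOf t N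
  have hO' := normalizer_le_normalizer_pPrimeCoreOf (p := t) N
  have hOL : pPrimeCoreOf t N ≤ 𝐍(L) := CopAct.le_normalizer_of_le_centralizer
    (hO.trans (CopAct.centralizer_anti h2))
  have h3 : S ≤ cent2 R L := hS.trans (sup_le (hNe.ge.trans (sup_le
    (le_cent2_of_comm_le Subgroup.le_normalizer h1) (hO.trans (cent_le_cent2 _ _)))) hS₁)
  have h4 : ⁅N, S⁆ ≤ L ⊔ pPrimeCoreOf t N := by
    conv_lhs => rw [← hNe]
    exact commutator_sup_le (CopAct.le_normalizer_sup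
      (sup_le (CopAct.le_normalizer_of_commutator_le h2 h1) hOL)
      (hNe.le.trans (Subgroup.le_normalizer.trans hO')))
      ((Subgroup.commutator_le.2 fun x hx s hs => comm_mem_symm ((h3 hs).2 x hx)).trans
        le_sup_left) ((CopAct.commutator_le_of_le_normalizer (hSN.trans hO')).trans le_sup_right)
  intro y hy
  obtain ⟨l, hl, o, ho, rfl⟩ := (CopAct.mem_sup_iff_of_le_normalizer hOL).1 (h4 (hNS (hR.1 hy)))
  rwa [CopAct.eq_one_of_coprime (CopAct.coprime_of_isPGroup_right (coprime_card_pPrimeCoreOf t N)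
    hRt) ho ((mul_mem_cancel_left (h2 hl)).1 hy), mul_one]

theorem tow_step {t : ℕ} [ht : Fact t.Prime] {R : Subgroup G} (hHM : H ≤ 𝐍(M))
    (h1 : iterRes (m + 2) H ≤ M) (hR : IsSyl t R (iterRes (m + 1) H)) (hRM : ¬ R ≤ M) :
    iterRes (m + 1) (H ⊓ 𝐍(R)) ≤ cent2 R M ⊔ R ∧ ∃ s, s.Prime ∧ s ≠ t ∧
      ∃ U ≤ iterRes m (H ⊓ 𝐍(R)), IsPGroup s U ∧ ¬ U ≤ cent2 R M ⊔ R := by
  have hRt := B10.syl_pgroup hR
  have hNH := iterRes_le (m + 1) H
  have hRH := hR.1.trans hNH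
  refine ⟨(le_inf (iterRes_mono _ inf_le_left) ((iterRes_le _ _).trans inf_le_right)).trans
    (B10.le_of_forall_syl fun s hs _ => ?_), ?_⟩
  · have := Fact.mk hs
    by_cases hst : s = t
    · subst hst
      exact ⟨R, B10.syl_of_le hR (le_inf hR.1 Subgroup.le_normalizer) inf_le_left, le_sup_right⟩
    obtain ⟨U, hU⟩ := B10.syl_exists s (iterRes (m + 1) H ⊓ 𝐍(R))
    have hUR := hU.1.trans inf_le_right
    refine ⟨U, hU, (le_cent2_of_comm_le hUR (le_trans (le_nilRes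
      ((CopAct.commutator_le_of_le_normalizer hUR).trans hR.1) (hU.1.trans inf_le_left)
      (CopAct.commutator_commutator_eq hUR (IsPGroup.coprime_card_of_ne s t hst _ _
        (B10.syl_pgroup hU) hRt)).ge) h1)).trans le_sup_left⟩
  by_contra hne
  push Not at hne
  have hS₁R := (iterRes_le m (H ⊓ 𝐍(R))).trans inf_le_right
  have hS₁H := (iterRes_le m (H ⊓ 𝐍(R))).trans inf_le_left
  obtain ⟨U, hU⟩ := B10.syl_exists t (iterRes m (H ⊓ 𝐍(R)))
  have hUR : R ⊔ U ≤ 𝐍(R) := sup_le Subgroup.le_normalizer (hU.1.trans hS₁R)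
  have hUH : R ⊔ U ≤ H := sup_le hRH (hU.1.trans hS₁H)
  have h2 : iterRes m (H ⊓ 𝐍(R)) ≤ cent2 R (⁅R, R ⊔ U⁆ ⊔ M) :=
    B10.le_of_forall_syl fun s hs _ => by
      have := Fact.mk hs
      have h3 : R ⊔ U ≤ cent2 R (⁅R, R ⊔ U⁆ ⊔ M) := le_cent2_of_comm_le hUR le_sup_left
      by_cases hst : s = t
      · subst hst
        exact ⟨U, hU, le_sup_right.trans h3⟩
      obtain ⟨V, hV⟩ := B10.syl_exists s (iterRes m (H ⊓ 𝐍(R)))
      exact ⟨V, hV, (hne s hs hst V hV.1 (B10.syl_pgroup hV)).trans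
        (sup_le (cent2_mono le_sup_right) (le_sup_left.trans h3))⟩
  have hN : NormalIn (iterRes (m + 1) H) H := ⟨hNH, le_normalizer_iterRes _ H⟩
  have h4 : iterRes m H ≤ iterRes (m + 1) H ⊔ iterRes m (H ⊓ 𝐍(R)) := by
    rw [sup_comm, ← quot_le_quot_iff' ((iterRes_le m H).trans hN.2) (hS₁H.trans hN.2),
      quot_iterRes m hN.2, quot_iterRes m (inf_le_left.trans hN.2)]
    exact iterRes_mono m ((quot_mono _ (B10.syl_frattini hR hN).ge).trans
      (quot_self_sup (inf_le_left.trans hN.2)).le)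
  have hSM := (iterRes_le m H).trans hHM
  have h5 := PG.commutator_lt_of_isPGroup (isPGroup_quot M hRt) (isPGroup_quot M
    (CopAct.isPGroup_sup_of_le_normalizer hRt (B10.syl_pgroup hU) (hU.1.trans hS₁R)))
    (quot_le_norm M hUR) (mt (quot_eq_bot_iff (hRH.trans hHM)).1 hRM)
  refine h5.not_ge (le_of_nilpotent_comm (t := t) (N := quot (iterRes (m + 1) H) M)
    (S := quot (iterRes m H) M) (S₁ := quot (iterRes m (H ⊓ 𝐍(R))) M) ?_
    (quot_le_norm M ((iterRes_le m H).trans hN.2)) ?_ (isPiHallOf_quot hR (hNH.trans hHM)) ?_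
    (le_cent2_of_comm_le (quot_le_norm M hS₁R) ?_)
    (Subgroup.commutator_mono le_rfl (quot_mono M le_sup_left)) h5.le)
  · rw [← nilRes_eq_bot_iff, quot_iterRes _ hHM, ← iterRes_succ, ← quot_iterRes _ hHM]
    exact quot_eq_bot_of_le h1
  · rw [← quot_commutator (hNH.trans hHM) hSM]
    exact quot_mono M (nilRes_le_comm' _)
  · rw [← quot_sup (hNH.trans hHM) (hS₁H.trans hHM)]
    exact quot_mono M h4
  · rw [← quot_commutator (hRH.trans hHM) (hS₁H.trans hHM), ← quot_commutator (hRH.trans hHM)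
      (hUH.trans hHM), ← quot_sup_self (((CopAct.commutator_le_of_le_normalizer hUR).trans
        hRH).trans hHM)]
    exact quot_mono M (Subgroup.commutator_le.2 fun x hx s hs => comm_mem_symm ((h2 hs).2 x hx))

theorem exists_tow (m : ℕ) : ∀ (H M : Subgroup G) (q : ℕ), Group.IsSolvable H →
    (Nat.card A).Coprime (Nat.card H) → A ≤ 𝐍(H) → A ≤ 𝐍(M) → H ≤ 𝐍(M) →
    iterRes (m + 1) H ≤ M →
    (∃ s, s.Prime ∧ s ≠ q ∧ ∃ U ≤ iterRes m H, IsPGroup s U ∧ ¬ U ≤ M) →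
    ∃ Q p, Tow H A M m Q p ∧ p 0 ≠ q := by
  have key : ∀ (m : ℕ) (H M : Subgroup G) (s : ℕ) [Fact s.Prime], Group.IsSolvable H →
      (Nat.card A).Coprime (Nat.card H) → A ≤ 𝐍(H) → H ≤ 𝐍(M) → ∀ U ≤ iterRes m H, IsPGroup s U →
      ¬ U ≤ M → ∃ R, IsSyl s R (iterRes m H) ∧ A ≤ 𝐍(R) ∧ ¬ R ≤ M := by
    intro m H M s _ hs hc hAH hHM U hU hUs hUM
    obtain ⟨R, h1, h2, h3, h4⟩ := CopAct.exists_invariant_sylowIn (le_norm_iterRes m hAH)
      (CopAct.coprime_mono hc le_rfl (iterRes_le m H))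
      (Or.inr (CopAct.isSolvable_of_le (iterRes_le m H) hs)) s
    have hR := B10.syl_iff.2 ⟨h1, h2, h3⟩
    obtain ⟨g, hg, e⟩ := B10.syl_conj_le hR hUs hU
    refine ⟨R, hR, h4, fun e' => hUM fun x hx => ?_⟩
    simpa [mul_assoc] using CopAct.conj_mem' hHM (iterRes_le m H hg) (e' (e ⟨x, hx, rfl⟩))
  induction m with
  | zero =>
    rintro H M q hs hc hAH - hHM - ⟨s, hs', hsq, U, hU, hUs, hUM⟩
    have := Fact.mk hs'
    obtain ⟨R, h1, h2, h3⟩ := key 0 H M s hs hc hAH hHM U hU hUs hUM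
    exact ⟨fun _ => R, fun _ => s, ⟨fun _ _ => h1.1, fun _ _ => hs', fun _ _ => B10.syl_pgroup h1,
      fun _ _ => h2, fun _ _ _ _ => Subgroup.le_normalizer, fun _ hi => by omega, h3⟩, hsq⟩
  | succ m ih =>
    rintro H M q hs hc hAH hAM hHM h0 ⟨s, hs', hsq, U, hU, hUs, hUM⟩
    have := Fact.mk hs'
    obtain ⟨R, h1, h2, h3⟩ := key (m + 1) H M s hs hc hAH hHM U hU hUs hUM
    obtain ⟨h4, h5⟩ := tow_step hHM h0 h1 h3
    obtain ⟨Q, p, hT, hp⟩ := ih (H ⊓ 𝐍(R)) (cent2 R M ⊔ R) s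
      (CopAct.isSolvable_of_le inf_le_left hs) (CopAct.coprime_mono hc le_rfl inf_le_left)
      (CopAct.le_normalizer_inf hAH (CopAct.le_normalizer_normalizer h2))
      (CopAct.le_normalizer_sup (le_norm_cent2 h2 hAM) h2) (CopAct.le_normalizer_sup
        (le_norm_cent2 inf_le_right (inf_le_left.trans hHM)) inf_le_right) h4 h5
    refine ⟨fun i => Nat.casesOn i R Q, fun i => Nat.casesOn i s p, ⟨?_, ?_, ?_, ?_, ?_, ?_, ?_⟩,
      hsq⟩
    · rintro (_ | i) hi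
      exacts [h1.1.trans (iterRes_le _ H), (hT.le i (by omega)).trans inf_le_left]
    · rintro (_ | i) hi
      exacts [hs', hT.prime i (by omega)]
    · rintro (_ | i) hi
      exacts [B10.syl_pgroup h1, hT.pG i (by omega)]
    · rintro (_ | i) hi
      exacts [h2, hT.hA i (by omega)]
    · rintro (_ | i) (_ | j) hij hj
      exacts [Subgroup.le_normalizer, (hT.le j (by omega)).trans inf_le_right, by omega,
        hT.nn i j (by omega) (by omega)]
    · rintro (_ | i) hi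
      exacts [hp, hT.ne i (by omega)]
    · rw [towK_cons]
      exact fun e => hT.top (e.trans (towK_mono le_sup_left m))

theorem exists_tow_bot (hs : Group.IsSolvable H) (hc : (Nat.card A).Coprime (Nat.card H))
    (hAH : A ≤ 𝐍(H)) (h1 : iterRes (m + 1) H = ⊥) (h2 : iterRes m H ≠ ⊥) :
    ∃ Q p, Tow H A ⊥ m Q p := by
  obtain ⟨x, hx, hx'⟩ := CopAct.exists_prime_orderOf_mem h2
  obtain ⟨Q, p, h, -⟩ := exists_tow m H ⊥ 1 hs hc hAH Subgroup.le_normalizer_of_normal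
    Subgroup.le_normalizer_of_normal h1.le ⟨_, hx', hx'.one_lt.ne', Subgroup.zpowers x,
      Subgroup.zpowers_le.2 hx, IsPGroup.of_card (n := 1) (by rw [Nat.card_zpowers, pow_one]),
      fun e => hx'.one_lt.ne' (orderOf_eq_one_iff.2 (e (Subgroup.mem_zpowers x)))⟩
  exact ⟨Q, p, h⟩

end Cfsg.Agent.Loc.H78
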