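import Mathlib
import Cfsg.Agent.Loc.BlkBase

/-! Two abstract lemmas for the focal subgroup theorem of Glauberman (odd primes). -/

namespace Cfsg.Agent.Loc.Foc

open Cfsg Cfsg.Agent.GT Cfsg.Agent.Loc.Mss Cfsg.Agent.Loc.PU Subgroup
open scoped commutatorElement

universe u
variable {G : Type*} [Group G] {p : ℕ}

theorem cm_mul_r (a b c : G) : ⁅a, b * c⁆ = ⁅a, b⁆ * (b * ⁅a, c⁆ * b⁻¹) := by
  simp only [commutatorElement_def]; group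

theorem cm_mul_l (a b c : G) : ⁅a * b, c⁆ = (a * ⁅b, c⁆ * a⁻¹) * ⁅a, c⁆ := by
  simp only [commutatorElement_def]; group

theorem cm_conj (g a b : G) : g * ⁅a, b⁆ * g⁻¹ = ⁅g * a * g⁻¹, g * b * g⁻¹⁆ := by
  simp only [commutatorElement_def]; group

theorem cm_one {a b : G} (h : a * b = b * a) : ⁅a, b⁆ = 1 :=
  commutatorElement_eq_one_iff_mul_comm.2 h

theorem conj_eq_of_comm {a b : G} (h : a * b = b * a) : a * b * a⁻¹ = b := by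
  rw [h, mul_inv_cancel_right]

/-- The data of the quadratic lemma. -/
structure QD (A As W R : Subgroup G) (g b : G) : Prop where
  ab : As ≤ 𝐂[As]
  le : As ≤ W
  fac : ∀ w ∈ W, ∃ x ∈ As, ∃ y ∈ cj(g, As), w = x * y
  self : W ⊓ 𝐂[As] ≤ As
  norm : A ⊔ cj(g, A) ≤ 𝐍[W]
  gmem : g ∈ A ⊔ cj(g, A)
  split : ∀ x ∈ As, ∃ x₀ ∈ As, x₀ ∈ 𝐂[A] ∧ ∃ v ∈ 𝐂[W], x = x₀ * v
  comm : ⁅As, A⁆ ≤ R
  RZ : R ≤ 𝐙[W]
  bmem : b ∈ cj(g, A)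
  bR : R ⊓ cj(b, R) ≤ ⊥
  bA : As ⊓ cj(b, As) ≤ 𝐙[W]

namespace QD
variable {A As W R : Subgroup G} {g b : G} (h : QD A As W R g b)
include h

theorem gn : g ∈ 𝐍[W] := h.norm h.gmem

theorem An : A ≤ 𝐍[W] := le_sup_left.trans h.norm

theorem le' : cj(g, As) ≤ W := cj_le_of_norm h.le h.gn

theorem ab' {x y : G} (hx : x ∈ cj(g, As)) (hy : y ∈ cj(g, As)) : x * y = y * x := by
  have : cj(g, As) ≤ 𝐂[cj(g, As)] := by rw [← cj_cent]; exact cj_mono g h.ab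
  exact mem_cent.1 (this hy) x hx

theorem ab0 {x y : G} (hx : x ∈ As) (hy : y ∈ As) : x * y = y * x := mem_cent.1 (h.ab hy) x hx

theorem Z_le : 𝐙[W] ≤ As := le_trans (inf_le_inf_left _ (cent_anti h.le)) h.self

theorem mem_Z {y : G} (h1 : y ∈ As) (h2 : y ∈ cj(g, As)) : y ∈ 𝐙[W] := by
  refine ⟨h.le h1, mem_cent.2 fun w hw => ?_⟩
  obtain ⟨x, hx, z, hz, rfl⟩ := h.fac w hw
  rw [mul_assoc, h.ab' hz h2, ← mul_assoc, h.ab0 hx h1, mul_assoc]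

theorem comm' : ⁅cj(g, As), cj(g, A)⁆ ≤ 𝐙[W] := by
  rw [← cj_comm]
  exact cj_le_of_norm (h.comm.trans h.RZ) (norm_Z le_rfl h.gn)

theorem mem_cm {U : Subgroup G} (hU : W ≤ 𝐍[U]) {y : G} (hy : y ∈ cj(g, As))
    (h1 : ∀ x ∈ As, ⁅x, y⁆ ∈ U) : y ∈ W ⊓ cmod W U := by
  refine ⟨h.le' hy, hU (h.le' hy), fun w hw => ?_⟩
  obtain ⟨x, hx, z, hz, rfl⟩ := h.fac w hw
  rw [cm_mul_l, cm_one (h.ab' hz hy), mul_one, mul_inv_cancel, one_mul]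
  exact h1 x hx

theorem factor {U : Subgroup G} (hU : W ≤ 𝐍[U]) {w : G} (hw : w ∈ W ⊓ cmod W U) :
    ∃ x ∈ As, ∃ y ∈ cj(g, As), w = x * y ∧ y ∈ W ⊓ cmod W U := by
  obtain ⟨x, hx, y, hy, rfl⟩ := h.fac w hw.1
  refine ⟨x, hx, y, hy, rfl, h.mem_cm hU hy fun x' hx' => ?_⟩
  have h1 := hw.2.2 x' (h.le hx')
  rw [cm_mul_r, cm_one (h.ab0 hx' hx), one_mul] at h1
  have := conj_mem_of_norm' (hU (h.le hx)) h1
  rwa [show x⁻¹ * (x * ⁅x', y⁆ * x⁻¹) * x = ⁅x', y⁆ by group] at this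

theorem key {P : Subgroup G} {y : G} (hy : y ∈ cj(g, As)) (h1 : ∀ x ∈ As, ⁅x, y⁆ ∈ P) {x : G}
    (hx : x ∈ As) : ⁅x, y⁆ ∈ P ⊓ cj(b, P) := by
  refine ⟨h1 x hx, mem_cj.2 ?_⟩
  have hb : b ∈ 𝐍[W] := h.norm (mem_sup_right h.bmem)
  obtain ⟨x₃, hx₃, y₃, hy₃, e⟩ := h.fac _ (conj_mem_of_norm' hb (h.le hx))
  have h2 := h.comm' (commutator_mem_commutator hy (inv_mem h.bmem))
  have h3 := cm_conj b⁻¹ x y
  rw [inv_inv, e, show b⁻¹ * y * b = ⁅y, b⁻¹⁆⁻¹ * y by simp only [commutatorElement_def]; group,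
    cm_mul_r, cm_one (mem_cent.1 (inv_mem h2.2) _ (mul_mem (h.le hx₃) (h.le' hy₃))), one_mul,
    cm_mul_l, cm_one (h.ab' hy₃ hy), mul_one, mul_inv_cancel, one_mul,
    conj_eq_of_comm (mem_cent.1 (inv_mem h2.2) _ ?_).symm] at h3
  · rw [h3]; exact h1 _ hx₃
  · exact comm_le_left le_normalizer (commutator_mem_commutator (h.le hx₃) (h.le' hy))

theorem ext0 {P : Subgroup G} {y : G} (hy : y ∈ W) (h1 : ∀ x ∈ As, x ∈ 𝐂[A] → ⁅x, y⁆ ∈ P) :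
    ∀ x ∈ As, ⁅x, y⁆ ∈ P := fun x hx => by
  obtain ⟨x₀, h2, h3, v, hv, rfl⟩ := h.split x hx
  rw [cm_mul_l, cm_one (mem_cent.1 hv y hy).symm, mul_one, mul_inv_cancel, one_mul]
  exact h1 _ h2 h3

theorem conj_eq {x a w : G} (hx : x ∈ 𝐂[A]) (ha : a ∈ A) :
    ⁅a, ⁅x, w⁆⁆ * ⁅x, w⁆ = ⁅x, ⁅a, w⁆ * w⁆ := by
  have := cm_conj a x w
  rw [conj_eq_of_comm (mem_cent.1 hx a ha)] at this
  rw [show ⁅a, w⁆ * w = a * w * a⁻¹ by simp only [commutatorElement_def]; group, ← this]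
  simp only [commutatorElement_def]; group

theorem comm_mem {U : Subgroup G} (hU : A ≤ 𝐍[U]) {a w : G} (ha : a ∈ A)
    (hw : w ∈ W ⊓ cmod W U) : ⁅a, w⁆ ∈ W ⊓ cmod W U :=
  comm_le_right (norm_inf h.An (norm_cmod h.An hU)) (commutator_mem_commutator ha hw)

theorem stepA {a w : G} (ha : a ∈ A) (hw : w ∈ W ⊓ cmod W 𝐙[W]) : ⁅a, w⁆ ∈ As := by
  obtain ⟨x₁, hx₁, y₁, hy₁, e, h1⟩ := h.factor (norm_Z le_normalizer)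
    (h.comm_mem (norm_Z h.An) ha hw)
  have h2 : ∀ x ∈ As, ⁅x, y₁⁆ ∈ R := h.ext0 h1.1 fun x hx hc => by
    have h3 := h.conj_eq (w := w) hc ha
    have h4 := hw.2.2 x (h.le hx)
    rw [e, cm_mul_r, cm_mul_r, cm_one (h.ab0 hx hx₁), one_mul,
      conj_eq_of_comm (mem_cent.1 (h1.2.2 x (h.le hx)).2 _ (h.le hx₁)),
      conj_eq_of_comm (mem_cent.1 h4.2 _ (mul_mem (h.le hx₁) h1.1)), mul_left_inj] at h3
    rw [← h3, ← commutatorElement_inv]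
    exact inv_mem (h.comm (commutator_mem_commutator (h.Z_le h4) ha))
  have h3 : y₁ ∈ As := h.self ⟨h1.1, mem_cent.2 fun x hx =>
    commutatorElement_eq_one_iff_mul_comm.1 (mem_bot.1 (h.bR (h.key hy₁ h2 hx)))⟩
  rw [e]; exact mul_mem hx₁ h3

theorem stepA' {y : G} (hy : y ∈ cj(g, As)) (h1 : ∀ a ∈ A, ⁅a, y⁆ ∈ 𝐙[W]) : y ∈ 𝐙[W] := by
  have h2 : A ⊔ cj(g, A) ≤ cmod (cj(g, As) ⊓ cmod A 𝐙[W]) 𝐙[W] := by
    refine sup_le (le_cmod.2 ⟨norm_Z h.An, ?_⟩) (le_cmod.2 ⟨norm_Z (le_sup_right.trans h.norm),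
      (commutator_mono inf_le_left le_rfl).trans h.comm'⟩)
    rw [commutator_comm]
    exact (commutator_mono le_rfl inf_le_right).trans (comm_cmod_le _ _)
  have h3 := (h2 h.gmem).2 y ⟨hy, norm_Z le_normalizer (h.le' hy), h1⟩
  refine h.mem_Z (h.self ⟨h.le' hy, mem_cent.2 fun x hx => ?_⟩) hy
  have h4 := h.ab' (conj_mem_cj (g := g) hx) hy
  have h5 := mem_cent.1 h3.2 _ (h.le' (conj_mem_cj (g := g) hx))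
  have h6 : g * x * g⁻¹ * (⁅y, g⁆⁻¹ * y) = ⁅y, g⁆⁻¹ * y * (g * x * g⁻¹) := by
    rw [← mul_assoc, (Commute.inv_right h5).eq, mul_assoc, h4, ← mul_assoc]
  rw [show ⁅y, g⁆⁻¹ * y = g * y * g⁻¹ by simp only [commutatorElement_def]; group] at h6
  have := congrArg (fun t => g⁻¹ * t * g) h6
  simpa [mul_assoc] using this

theorem stepB {y : G} (hy : y ∈ cj(g, As)) (h1 : y ∈ W ⊓ cmod W (W ⊓ cmod W 𝐙[W])) :
    y ∈ W ⊓ cmod W 𝐙[W] := by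
  have n1 : W ≤ 𝐍[𝐙[W]] := norm_Z le_normalizer
  have n2 : W ≤ 𝐍[W ⊓ cmod W 𝐙[W]] := norm_inf le_normalizer (norm_cmod le_normalizer n1)
  refine h.mem_cm n1 hy fun x hx => h.bA (h.key hy (h.ext0 h1.1 fun x₀ hx₀ hc₀ => ?_) hx)
  obtain ⟨x₁, hx₁, y₁, hy₁, e, -⟩ := h.factor n1 (h1.2.2 x₀ (h.le hx₀))
  rw [e]
  refine mul_mem hx₁ (h.Z_le (h.stepA' hy₁ fun a ha => ?_))
  obtain ⟨x₄, hx₄, y₄, hy₄, e₄, h4⟩ := h.factor n2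
    (h.comm_mem (norm_inf h.An (norm_cmod h.An (norm_Z h.An))) ha h1)
  have h5 : ∀ x ∈ As, x ∈ 𝐂[A] → ⁅a, ⁅x, y⁆⁆ =
      x₄ * ⁅x, y₄⁆ * x₄⁻¹ * ⁅x₄ * y₄, ⁅x, y⁆⁆ := fun x hx hc => by
    have h3 := h.conj_eq (w := y) hc ha
    rw [e₄, cm_mul_r, cm_mul_r x x₄, cm_one (h.ab0 hx hx₄), one_mul] at h3
    rw [← mul_left_inj ⁅x, y⁆, h3]
    generalize ⁅x, y⁆ = c
    simp only [commutatorElement_def]; group
  have h6 : ∀ x ∈ As, ⁅x₄ * y₄, ⁅x, y⁆⁆ ∈ 𝐙[W] := fun x hx =>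
    (h1.2.2 x (h.le hx)).2.2 _ (mul_mem (h.le hx₄) h4.1)
  have h7 : ∀ x ∈ As, ⁅x, y₄⁆ ∈ As := h.ext0 h4.1 fun x hx hc => by
    have h8 := h.stepA ha (h1.2.2 x (h.le hx))
    rw [h5 x hx hc] at h8
    have h9 := (mul_mem_cancel_right (h.Z_le (h6 x hx))).1 h8
    have := mul_mem (mul_mem (inv_mem hx₄) h9) hx₄
    rwa [show x₄⁻¹ * (x₄ * ⁅x, y₄⁆ * x₄⁻¹) * x₄ = ⁅x, y₄⁆ by group] at this
  have h8 : ⁅a, ⁅x₀, y⁆⁆ ∈ 𝐙[W] := by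
    rw [h5 x₀ hx₀ hc₀]
    exact mul_mem (conj_mem_of_norm (n1 (h.le hx₄)) (h.bA (h.key hy₄ h7 hx₀))) (h6 x₀ hx₀)
  rw [e, cm_mul_r] at h8
  have h9 : ⁅a, x₁⁆ ∈ 𝐙[W] := by
    rw [← commutatorElement_inv]
    exact inv_mem (h.RZ (h.comm (commutator_mem_commutator hx₁ ha)))
  have := conj_mem_of_norm' (n1 (h.le hx₁)) ((mul_mem_cancel_left h9).1 h8)
  rwa [show x₁⁻¹ * (x₁ * ⁅a, y₁⁆ * x₁⁻¹) * x₁ = ⁅a, y₁⁆ by group] at this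

theorem quad [Finite G] [Fact p.Prime] (hW : IsPGroup p W) {a w : G} (ha : a ∈ A) (hw : w ∈ W) :
    ⁅a, w⁆ ∈ As := by
  have n1 : W ≤ 𝐍[𝐙[W]] := norm_Z le_normalizer
  have n2 : W ≤ 𝐍[W ⊓ cmod W 𝐙[W]] := norm_inf le_normalizer (norm_cmod le_normalizer n1)
  have g2 : g ∈ 𝐍[W ⊓ cmod W 𝐙[W]] :=
    norm_inf le_rfl (norm_cmod le_rfl (norm_Z le_rfl)) h.gn
  have g3 : g ∈ 𝐍[W ⊓ cmod W (W ⊓ cmod W 𝐙[W])] :=
    norm_inf le_rfl (norm_cmod le_rfl (norm_inf le_rfl (norm_cmod le_rfl (norm_Z le_rfl)))) h.gn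
  refine h.stepA ha ((?_ : W ≤ _) hw)
  by_contra hc
  refine Blk.exists_fix hW hW le_normalizer n2 n2 hc fun u hu => ?_
  obtain ⟨x, hx, y, hy, rfl, h1⟩ := h.factor n2 hu
  have h2 := h.stepB (conj_mem_cj hx) (conj_mem_of_norm g3 ((mul_mem_cancel_right h1).1 hu))
  have h3 := conj_mem_of_norm' g2 h2
  rw [show g⁻¹ * (g * x * g⁻¹) * g = x by group] at h3
  exact mul_mem h3 (h.stepB hy h1)

end QD

theorem conj_mem_cmod {L Q D : Subgroup G} (hL : L ≤ 𝐍[Q]) (hD : Q ≤ 𝐍[D]) :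
    L ≤ 𝐍[Q ⊓ cmod L D] := norm_of_forall_cj_le fun l hl => cj_le_iff.2 fun u hu => by
  refine ⟨conj_mem_of_norm (hL hl) hu.1, hD (conj_mem_of_norm (hL hl) hu.1), fun x hx => ?_⟩
  rw [show ⁅x, l * u * l⁻¹⁆ = ⁅x * l, u⁆ * ⁅l, u⁆⁻¹ by simp only [commutatorElement_def]; group]
  exact mul_mem (hu.2.2 _ (mul_mem hx hl)) (inv_mem (hu.2.2 _ hl))

/-- The Steinberg module lemma. -/
theorem st_lemma {G : Type u} [Group G] [Finite G] [hp : Fact p.Prime] (hp2 : p ≠ 2)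
    {L M A Q D Y : Subgroup G} {g a₀ : G} (hQ : IsPGroup p Q) (hA : IsPGroup p A)
    (hL : L ≤ 𝐍[Q]) (hDQ : D ≤ Q) (hQQ : ⁅Q, Q⁆ ≤ D) (hQM : ⁅M, Q⁆ ≤ D) (hAM : A ≤ M) (hAL : A ≤ L)
    (hg : g ∈ L) (cover : ∀ x ∈ L, x ∉ M → ∃ a ∈ A, ∃ m ∈ M, x = a * g * m) (ha₀ : a₀ ∈ A)
    (ti : g⁻¹ * a₀⁻¹ * g ∉ M) (hY : Y ≤ Q) (hYL : Y ≤ L) (hAY : A ≤ 𝐍[Y]) (hgY : g ∈ 𝐍[Y])
    (aff : ∀ u ∈ Y, ∃ a ∈ A, ⁅a₀, u⁆ * ⁅a₀, u⁆ * ⁅a, u⁆⁻¹ ∈ cmod L D) : Y ≤ cmod L D := by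
  have hD : Q ≤ 𝐍[D] := norm_of_comm_le hDQ hQQ
  have hN := conj_mem_cmod hL hD
  by_contra hc
  obtain ⟨u, hu, hu'⟩ := SetLike.not_le_iff_exists.1 (Blk.exists_fix (hQ.to_le hY) hA hAY
    (hAL.trans hN) (hYL.trans hN) fun h1 => hc (h1.trans inf_le_right))
  obtain ⟨W, _, π, r, S⟩ := exists_secD (L := ⊥) hDQ hQQ bot_le bot_le
  have cQ : ∀ x ∈ L, ∀ u ∈ Q, x⁻¹ * u * x ∈ Q := fun x hx u hu => conj_mem_of_norm' (hL hx) hu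
  have mQ : ∀ a ∈ L, ∀ u ∈ Q, ⁅a, u⁆ ∈ Q := fun a ha u hu =>
    comm_le_right hL (commutator_mem_commutator ha hu)
  have mD : ∀ a ∈ M, ∀ u ∈ Q, ⁅a, u⁆ ∈ D := fun a ha u hu =>
    hQM (commutator_mem_commutator ha hu)
  have f1 : ∀ u ∈ Q, ∀ m ∈ M, m⁻¹ * u * m ∈ Q → π (m⁻¹ * u * m) = π u := fun u hu m hm h1 => by
    rw [S.eq_iff h1 hu]
    have := mD _ (inv_mem hm) u hu
    rwa [commutatorElement_def, inv_inv] at this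
  have f2 : ∀ u ∈ cmod L D, u ∈ D → ∀ x ∈ L, π (x⁻¹ * u * x) = 0 := fun u hu h1 x hx => by
    rw [← (S.ker u (hDQ h1)).2 h1, S.eq_iff (cQ x hx u (hDQ h1)) (hDQ h1)]
    have := hu.2 _ (inv_mem hx)
    rwa [commutatorElement_def, inv_inv] at this
  have f3 : ∀ u ∈ Q, ∀ a ∈ L, ∀ x ∈ L, π (x⁻¹ * ⁅a, u⁆ * x) =
      π ((a⁻¹ * x)⁻¹ * u * (a⁻¹ * x)) - π (x⁻¹ * u * x) := fun u hu a ha x hx => by
    rw [← S.div (cQ _ (mul_mem (inv_mem ha) hx) u hu) (cQ x hx u hu)]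
    congr 1; simp only [commutatorElement_def]; group
  have huQ := hY hu.1
  have f4 : ∀ x ∈ L, x ∉ M → π (x⁻¹ * u * x) = π (g⁻¹ * u * g) := fun x hx hM => by
    obtain ⟨a, ha, m, hm, rfl⟩ := cover x hx hM
    have h1 := f3 u huQ a⁻¹ (inv_mem (hAL ha)) g hg
    rw [f2 _ (hu.2.2 _ (inv_mem ha)).2 (mD _ (inv_mem (hAM ha)) u huQ) g hg, inv_inv, eq_comm,
      sub_eq_zero] at h1
    have h2 := cQ _ hx u huQ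
    rw [show (a * g * m)⁻¹ * u * (a * g * m) = m⁻¹ * ((a * g)⁻¹ * u * (a * g)) * m by group]
      at h2 ⊢
    rw [f1 _ (cQ _ (mul_mem (hAL ha) hg) u huQ) m hm h2, h1]
  have f5 : π (g⁻¹ * u * g) - π u ≠ 0 := fun h1 => hu' ⟨huQ, hD huQ, fun x hx => by
    have h2 := cQ _ (inv_mem hx) u huQ
    rw [commutatorElement_def, ← S.eq_iff (by simpa using h2) huQ]
    by_cases hM : x⁻¹ ∈ M
    · simpa using f1 u huQ _ hM h2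
    · simpa [sub_eq_zero.1 h1] using f4 _ (inv_mem hx) hM⟩
  have hu1 := conj_mem_of_norm hgY hu.1
  obtain ⟨a, ha, h1⟩ := aff _ hu1
  have hq := hY hu1
  have d0 := mD _ (hAM ha₀) _ hq
  have d1 := mD _ (hAM ha) _ hq
  have h2 := f2 _ h1 (mul_mem (mul_mem d0 d0) (inv_mem d1)) g hg
  rw [show g⁻¹ * (⁅a₀, g * u * g⁻¹⁆ * ⁅a₀, g * u * g⁻¹⁆ * ⁅a, g * u * g⁻¹⁆⁻¹) * g =
      (g⁻¹ * ⁅a₀, g * u * g⁻¹⁆ * g) * (g⁻¹ * ⁅a₀, g * u * g⁻¹⁆ * g) *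
        (g⁻¹ * ⁅a, g * u * g⁻¹⁆ * g)⁻¹ by group,
    S.div (mul_mem (cQ g hg _ (hDQ d0)) (cQ g hg _ (hDQ d0))) (cQ g hg _ (hDQ d1)),
    S.mul _ (cQ g hg _ (hDQ d0)) _ (cQ g hg _ (hDQ d0)), f3 _ hq _ (hAL ha₀) g hg,
    f3 _ hq _ (hAL ha) g hg] at h2
  have e : ∀ c : G, (c⁻¹ * g)⁻¹ * (g * u * g⁻¹) * (c⁻¹ * g) =
      (g⁻¹ * c⁻¹ * g)⁻¹ * u * (g⁻¹ * c⁻¹ * g) := fun c => by group
  have mL : ∀ c ∈ A, g⁻¹ * c⁻¹ * g ∈ L := fun c hc =>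
    mul_mem (mul_mem (inv_mem hg) (inv_mem (hAL hc))) hg
  rw [e, e, f4 _ (mL _ ha₀) ti, show g⁻¹ * (g * u * g⁻¹) * g = u by group] at h2
  by_cases hM : g⁻¹ * a⁻¹ * g ∈ M
  · rw [f1 u huQ _ hM (cQ _ (mL _ ha) u huQ), sub_self, sub_zero] at h2
    have h3 := mul_mem (cQ g hg u huQ) (inv_mem huQ)
    rw [← S.div (cQ g hg u huQ) huQ] at h2 f5
    obtain ⟨k, hk⟩ := pg_iff.1 hQ _ h3
    have h4 := S.pow h3 (p ^ k)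
    obtain ⟨j, hj⟩ : Odd (p ^ k) := (hp.out.odd_of_ne_two hp2).pow
    rw [hk, S.one, hj, add_nsmul, mul_nsmul, two_nsmul, h2, nsmul_zero, zero_add, one_nsmul] at h4
    exact f5 h4.symm
  · rw [f4 _ (mL _ ha) hM, add_sub_cancel_right] at h2
    exact f5 h2

end Cfsg.Agent.Loc.Foc
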