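import Mathlib
import Cfsg.Agent.Loc.FocQuad
import Cfsg.Agent.Loc.PUCL

/-! The rank one case of the focal subgroup theorem for odd primes. -/

namespace Cfsg.Agent.Loc.Foc

open Cfsg Cfsg.Agent.GT Cfsg.Agent.Loc.Mss Cfsg.Agent.Loc.PU Subgroup Matrix
open scoped commutatorElement MatrixGroups

universe u
variable {G : Type u} [Group G] [Finite G] {p q : ℕ} [hp : Fact p.Prime]

section ffd
variable {L S M : Subgroup G} {K : Type*} [Field K] {ρ : G → SL(2, K)} {φ : G → Fin 2 → K}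

theorem pg_V (L : Subgroup G) : IsPGroup p ↥𝐙[𝐎[p, L]] := (pg_core L).to_le inf_le_left

theorem ffd_ker (D : FFD p q L S ρ φ) (h : PUD p q L S M) {k : G} (hk : k ∈ L) (e : ρ k = 1) :
    k ∈ 𝐂[𝐙[𝐎[p, L]]] := by
  have n0 : L ≤ 𝐍[𝐙[L]] := norm_Z le_normalizer
  have h1 : L ≤ 𝐍[L ⊓ cmod 𝐙[𝐎[p, L]] 𝐙[L]] := norm_inf le_normalizer (norm_cmod D.nat.norm n0)
  refine (h.syl.inf inf_le_left (h.le.trans h1)).le_of_res_le ?_ (fun s hs => ?_)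
    ⟨hk, (D.nat.ker_iff' hk).1 e⟩
  · refine res_le_cent_of_two (W := 𝐙[L]) (pg_V L) ((Mss.res_le _).trans (inf_le_left.trans
      D.nat.norm)) ((commutator_mono le_rfl ((Mss.res_le _).trans inf_le_right)).trans
      (comm_cmod_le _ _)) ((Mss.res_le _).trans (inf_le_left.trans (le_cent_Z L)))
  · exact le_cent_Z _ ((D.ker s hs.1).1 ((D.nat.ker_iff' hs.2.1).2 hs.2.2))

theorem ffd_inf (hp2 : p ≠ 2) (D : FFD p q L S ρ φ) (h : PUD p q L S M) :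
    ⁅𝐙[𝐎[p, L]], S⁆ ⊓ 𝐙[L] ≤ ⊥ := by
  haveI := D.nat.charP (pg_V L)
  have h2 : (2 : K) ≠ 0 := fun e => hp2 ((Nat.prime_dvd_prime_iff_eq hp.out Nat.prime_two).1
    ((CharP.cast_eq_zero_iff K p 2).1 (by exact_mod_cast e)))
  obtain ⟨z, hz, ez⟩ := D.nat.ρ_surj (-1)
  have ab : ∀ u ∈ 𝐙[𝐎[p, L]], ∀ v ∈ 𝐙[𝐎[p, L]], u * v = v * u := fun u hu v hv =>
    mem_cent.1 hv.2 u hu.1
  have fz : ∀ v ∈ 𝐙[𝐎[p, L]], φ ⁅z, v⁆ = (-2 : K) • φ v := fun v hv => by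
    rw [D.nat.φ_comm hz hv, ez, mv_neg_one, neg_smul, two_smul]; abel
  let U : Subgroup G :=
    { carrier := {u | ∃ v ∈ 𝐙[𝐎[p, L]], ⁅z, v⁆ = u}
      one_mem' := ⟨1, one_mem _, by simp⟩
      mul_mem' := by
        rintro _ _ ⟨a, ha, rfl⟩ ⟨b, hb, rfl⟩
        exact ⟨_, mul_mem ha hb, by
          rw [cm_mul_r, conj_eq_of_comm (ab _ ha _ (D.nat.comm_mem hz hb))]⟩
      inv_mem' := by
        rintro _ ⟨a, ha, rfl⟩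
        refine ⟨_, inv_mem ha, eq_inv_of_mul_eq_one_right ?_⟩
        rw [← conj_eq_of_comm (ab _ ha _ (D.nat.comm_mem hz (inv_mem ha))), ← cm_mul_r]
        simp }
  have h3 : ⁅𝐙[𝐎[p, L]], S⁆ ≤ U := by
    rw [commutator_comm]
    refine commutator_le.2 fun s hs v hv => ?_
    have hsL := h.le hs
    obtain ⟨w, hw, ew⟩ := D.nat.φ_surj ((-2 : K)⁻¹ • φ v)
    have hu := D.nat.comm_mem hz hw
    have h4 : v * ⁅z, w⁆⁻¹ ∈ 𝐙[L] := by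
      rw [← D.nat.φ_eq_iff hv hu, fz w hw, ew, smul_smul, mul_inv_cancel₀ (neg_ne_zero.2 h2),
        one_smul]
    have h5 := ffd_ker D h (k := z⁻¹ * (s * z * s⁻¹))
      (mul_mem (inv_mem hz) (mul_mem (mul_mem hsL hz) (inv_mem hsL))) (by
        rw [D.nat.ρ_mul _ (inv_mem hz) _ (mul_mem (mul_mem hsL hz) (inv_mem hsL)),
          D.nat.ρ_conj hsL hz, D.nat.ρ_inv hz, ez]; simp)
    have h6 := D.nat.conj_mem hsL hw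
    have h7 : s * ⁅z, w⁆ * s⁻¹ = ⁅z, s * w * s⁻¹⁆ := by
      rw [cm_conj, show s * z * s⁻¹ = z * (z⁻¹ * (s * z * s⁻¹)) by group, cm_mul_l,
        cm_one (mem_cent.1 h5 _ h6).symm]
      simp
    rw [show v = (v * ⁅z, w⁆⁻¹) * ⁅z, w⁆ by group, cm_mul_r, cm_one (mem_cent.1 h4.2 s hsL),
      one_mul, conj_eq_of_comm (mem_cent.1 h4.2 _ (h.le (h.V_le (D.nat.comm_mem hsL hu)))).symm,
      commutatorElement_def s, h7]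
    exact mul_mem ⟨_, h6, rfl⟩ (inv_mem ⟨_, hw, rfl⟩)
  intro x hx
  obtain ⟨v, hv, rfl⟩ := h3 hx.1
  have h4 := D.nat.φ_of_mem hx.2
  rw [fz v hv, smul_eq_zero, D.nat.φ_ker v hv] at h4
  exact mem_bot.2 (cm_one (mem_cent.1 (h4.resolve_left (neg_ne_zero.2 h2)).2 z hz))

theorem ffd_cover (D : FFD p q L S ρ φ) {A : Subgroup G} (hA : A ≤ S) (hs : A ⊔ 𝐎[p, L] = S)
    {g : G} (hg : g ∈ L) (hg' : g ∉ 𝐍[𝐙[S]]) {x : G} (hx : x ∈ L) (hx' : x ∉ L ⊓ 𝐍[𝐙[S]]) :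
    ∃ a ∈ A, ∃ m ∈ L ⊓ 𝐍[𝐙[S]], x = a * g * m := by
  have h1 : ρ g 1 0 ≠ 0 := fun e => hg' ((D.nat.mem_norm_X hg).2 e)
  have h2 : ρ x 1 0 ≠ 0 := fun e => hx' ⟨hx, (D.nat.mem_norm_X hx).2 e⟩
  obtain ⟨s, hs', e⟩ := D.nat.up_surj
    ((ρ g 1 0 * ρ x 0 0 - ρ g 0 0 * ρ x 1 0) / (ρ g 1 0 * ρ x 1 0))
  have hAL := hA.trans D.nat.leS
  obtain ⟨a, ha, t, ht, rfl⟩ := (mem_sup_norm' (hAL.trans (le_norm_core L))).1 (hs.ge hs')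
  rw [D.nat.ρ_mul _ (hAL ha) _ (pCoreOf_le L ht), (D.ker t (hs.le (mem_sup_right ht))).2 ht,
    mul_one] at e
  have h3 := mul_mem (hAL ha) hg
  have h4 := mul_mem (inv_mem h3) hx
  refine ⟨a, ha, _, ⟨h4, (D.nat.mem_norm_X h4).2 ?_⟩, by group⟩
  rw [D.nat.ρ_mul _ (inv_mem h3) _ hx, D.nat.ρ_inv h3, D.nat.ρ_mul _ (hAL ha) _ hg, e, sl_mul,
    (sl_inv _).2.2.1, (sl_inv _).2.2.2, sl_mul, sl_mul, (up_ent _).1, (up_ent _).2.1,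
    (up_ent _).2.2.1, (up_ent _).2.2.2]
  field_simp
  ring

end ffd

/-- large abelian subgroups permute -/
def Perm0 (S : Subgroup G) : Prop :=
  ∀ A ∈ abFam 0 S, ∀ B ∈ abFam 0 S, ∀ w ∈ A ⊔ B, ∃ x ∈ A, ∃ y ∈ B, w = x * y

section pud
variable {L S M A : Subgroup G} (h : PUD p q L S M) (hZ : ¬ L ≤ 𝐂[𝐙[S]]) (perm : Perm0 S)
  (hA : A ∈ abFam 0 S) (hT : ¬ A ≤ 𝐎[p, L])

theorem star_le (A L : Subgroup G) : (A ⊓ 𝐎[p, L]) ⊔ 𝐙[𝐎[p, L]] ≤ 𝐎[p, L] :=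
  sup_le inf_le_right inf_le_left

include h hZ hA hT

theorem cj_star_mem {g : G} (hg : g ∈ L) : cj(g, (A ⊓ 𝐎[p, L]) ⊔ 𝐙[𝐎[p, L]]) ∈ abFam 0 S := by
  have h1 := (h.ff_abFam hZ hA hT).2.1
  exact mem_abFam_of_card_le h1 ((cj_le_of_norm (star_le A L) (le_norm_core L hg)).trans h.core_le)
    (th_comm_map _ (abFam_comm h1)) (fun _ _ => pow_zero _) (card_cj _ _).ge

include perm

theorem norm_W {g : G} (hg : g ∈ L) : A ⊔ cj(g, A) ≤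
    𝐍[((A ⊓ 𝐎[p, L]) ⊔ 𝐙[𝐎[p, L]]) ⊔ cj(g, (A ⊓ 𝐎[p, L]) ⊔ 𝐙[𝐎[p, L]])] := by
  have hAL := (abFam_le hA).trans h.le
  have key : ∀ g ∈ L, A ≤
      𝐍[((A ⊓ 𝐎[p, L]) ⊔ 𝐙[𝐎[p, L]]) ⊔ cj(g, (A ⊓ 𝐎[p, L]) ⊔ 𝐙[𝐎[p, L]])] := fun g hg => by
    refine norm_of_forall_cj_le fun a ha => ?_
    rw [cj_sup]
    refine sup_le ((cj_of_norm (norm_sup (norm_inf le_normalizer (hAL.trans (le_norm_core L)))
      (norm_Z (hAL.trans (le_norm_core L))) ha)).le.trans le_sup_left) (cj_le_iff.2 fun y hy => ?_)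
    have h1 := cj_le_of_norm (star_le A L) (le_norm_core (p := p) L hg)
    obtain ⟨x, hx, z, hz, e⟩ := perm A hA _ (cj_star_mem h hZ hA hT hg) (a * y * a⁻¹)
      (mul_mem (mul_mem (mem_sup_left ha) (mem_sup_right hy)) (mem_sup_left (inv_mem ha)))
    have h2 := conj_mem_of_norm (le_norm_core (p := p) L (hAL ha)) (h1 hy)
    rw [e] at h2 ⊢
    exact mul_mem (mem_sup_left (mem_sup_left ⟨hx, (mul_mem_cancel_right (h1 hz)).1 h2⟩))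
      (mem_sup_right hz)
  refine sup_le (key g hg) ?_
  have := cj_mono g (key g⁻¹ (inv_mem hg))
  rwa [cj_norm, cj_sup _ _ g, cj_cj_inv, sup_comm] at this

theorem exists_quad (hp2 : p ≠ 2) : ∃ g ∈ L, g ∉ M ∧ ∃ W : Subgroup G, A ⊓ 𝐎[p, L] ≤ W ∧
    W ≤ 𝐎[p, L] ∧ A ≤ 𝐍[W] ∧ g ∈ 𝐍[W] ∧ ∀ a ∈ A, ∀ w ∈ W, ⁅a, ⁅a, w⁆⁆ ∈ 𝐙[𝐎[p, L]] := by
  classical
  obtain ⟨hs, hst, K, _, ρ, φ, D⟩ := h.ff_abFam hZ hA hT
  have hAS := abFam_le hA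
  have hAL := hAS.trans h.le
  have hex : ∃ n, ∃ g ∈ L, g ∉ M ∧ Nat.card ↥(A ⊔ cj(g, A)) = n :=
    let ⟨g, h1, h2, _⟩ := h.exists_gen
    ⟨_, g, h1, h2, rfl⟩
  obtain ⟨g₀, hg₀, hg₀', e₀⟩ := Nat.find_spec hex
  have hmin : ∀ g ∈ A ⊔ cj(g₀, A), g ∉ M → A ⊔ cj(g, A) = A ⊔ cj(g₀, A) := fun g hg hg' => by
    have h1 : A ⊔ cj(g, A) ≤ A ⊔ cj(g₀, A) := sup_le le_sup_left (cj_le_of_mem le_sup_left hg)
    refine eq_of_le_of_card_ge h1 (e₀ ▸ Nat.find_min' hex ⟨g, ?_, hg', rfl⟩)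
    exact sup_le hAL (cj_le_of_mem hAL hg₀) hg
  obtain ⟨g, hg0, hgM⟩ : ∃ g ∈ A ⊔ cj(g₀, A), g ∉ M := by
    by_contra! hc
    have h1 : 𝐎[p, L] ≤ M := h.core_le.trans h.umax.1
    refine h.umax.2.1.not_ge ((h.umax.sup_cj h.gen hg₀ hg₀').ge.trans (sup_le h.umax.1 ?_))
    rw [← hs, cj_sup, cj_of_norm (le_norm_core L hg₀)]
    exact sup_le (fun x hx => hc x (mem_sup_right hx)) h1
  have hgL : g ∈ L := sup_le hAL (cj_le_of_mem hAL hg₀) hg0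
  have hg : g ∈ A ⊔ cj(g, A) := (hmin g hg0 hgM).symm ▸ hg0
  obtain ⟨a₀, ha₀, ha₀'⟩ := SetLike.not_le_iff_exists.1 hT
  have hbM : g * a₀ * g⁻¹ ∉ M := fun h1 =>
    ha₀' (h.ti g⁻¹ (inv_mem hgL) (fun h2 => hgM (inv_mem_iff.1 h2)) a₀ (hAS ha₀) (by simpa using h1))
  have hbL : g * a₀ * g⁻¹ ∈ L := mul_mem (mul_mem hgL (hAL ha₀)) (inv_mem hgL)
  have hb0 : g * a₀ * g⁻¹ ∈ A ⊔ cj(g₀, A) := (hmin g hg0 hgM) ▸ mem_sup_right (conj_mem_cj ha₀)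
  have hNM : L ⊓ 𝐍[𝐙[S]] ≤ M :=
    h.umax.le_of_not_le (norm_Z le_normalizer) fun h1 => hZ (h.cent_of_norm_Z h1)
  have nW := norm_W h hZ perm hA hT hgL
  have hab : ∀ a ∈ A, ∀ b ∈ A, a * b = b * a := th_comm_iff.1 (abFam_comm hA)
  have c0 : A ⊓ 𝐎[p, L] ≤ 𝐂[A] := fun x hx => mem_cent.2 fun a ha => hab a ha x hx.1
  have hWT := sup_le (star_le (p := p) A L) (cj_le_of_norm (star_le A L) (le_norm_core L hgL))
  have cR : ⁅(A ⊓ 𝐎[p, L]) ⊔ 𝐙[𝐎[p, L]], A⁆ ≤ ⁅𝐙[𝐎[p, L]], S⁆ := by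
    rw [sup_comm, sup_cent_comm (inf_le_right.trans (norm_of_cent (le_cent_Z _))) c0]
    exact commutator_mono le_rfl hAS
  have RV : ⁅𝐙[𝐎[p, L]], S⁆ ≤ 𝐙[𝐎[p, L]] := comm_le_left (h.le.trans D.nat.norm)
  have sab : (A ⊓ 𝐎[p, L]) ⊔ 𝐙[𝐎[p, L]] ≤ 𝐂[(A ⊓ 𝐎[p, L]) ⊔ 𝐙[𝐎[p, L]]] :=
    le_centralizer_iff_isMulCommutative.2 (abFam_comm hst)
  have Q : QD A ((A ⊓ 𝐎[p, L]) ⊔ 𝐙[𝐎[p, L]]) _ ⁅𝐙[𝐎[p, L]], S⁆ g (g * a₀ * g⁻¹) :=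
    { ab := sab
      le := le_sup_left
      fac := perm _ hst _ (cj_star_mem h hZ hA hT hgL)
      self := (inf_le_inf_right _ (hWT.trans h.core_le)).trans (abFam_zero_inf_centralizer hst).le
      norm := nW
      gmem := hg
      split := fun x hx => by
        obtain ⟨x₀, h1, v, h2, e⟩ :=
          (mem_sup_norm' (inf_le_right.trans (norm_of_cent (le_cent_Z _)))).1 hx
        exact ⟨x₀, mem_sup_left h1, c0 h1, v, cent_anti hWT h2.2, e.symm⟩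
      comm := cR
      RZ := le_inf (RV.trans (le_sup_right.trans le_sup_left))
        (RV.trans (inf_le_right.trans (cent_anti hWT)))
      bmem := conj_mem_cj ha₀
      bR := fun x hx => ffd_inf hp2 D h ⟨hx.1, D.nat.mem_of_mem_cj hbL (fun h1 => hbM
        (hNM ⟨hbL, h1⟩)) (D.nat.comm_le_X hx.1) (cj_mono _ D.nat.comm_le_X hx.2)⟩
      bA := by
        have h1 := norm_W h hZ perm hA hT hbL
        rw [hmin _ hb0 hbM] at h1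
        refine le_inf (inf_le_left.trans le_sup_left) (le_trans ?_ (cent_anti (sup_le le_sup_left
          (cj_le_of_norm le_sup_left (h1 hg0)))))
        refine le_cent_sup (inf_le_left.trans sab) (inf_le_right.trans ?_)
        rw [← cj_cent]; exact cj_mono _ sab }
  refine ⟨g, hgL, hgM, _, le_sup_left.trans le_sup_left, hWT, Q.An, Q.gn, fun a ha w hw => ?_⟩
  rw [← commutatorElement_inv]
  exact inv_mem (RV (cR (commutator_mem_commutator (Q.quad ((pg_core L).to_le hWT) ha hw) ha)))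

theorem pud_foc (hp2 : p ≠ 2) {Q D : Subgroup G} (hQ : IsPGroup p Q) (hL : L ≤ 𝐍[Q]) (hDQ : D ≤ Q)
    (hQQ : ⁅Q, Q⁆ ≤ D) (hQM : ⁅L ⊓ 𝐍[𝐙[S]], Q⁆ ≤ D) : Q ⊓ L ≤ cmod L D := by
  obtain ⟨hs, -, K, _, ρ, φ, F⟩ := h.ff_abFam hZ hA hT
  obtain ⟨g, hg, hgM, W, w1, w2, w3, w4, w5⟩ := exists_quad h hZ perm hA hT hp2
  have hAS := abFam_le hA
  have hAL := hAS.trans h.le
  have hNM : L ⊓ 𝐍[𝐙[S]] ≤ M :=
    h.umax.le_of_not_le (norm_Z le_normalizer) fun h1 => hZ (h.cent_of_norm_Z h1)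
  obtain ⟨a, ha, ha'⟩ := SetLike.not_le_iff_exists.1 hT
  have hQT : Q ⊓ L ≤ 𝐎[p, L] :=
    Blk.le_core_of_norm (hQ.to_le inf_le_left) inf_le_right (norm_inf hL le_normalizer)
  have st : ∀ Y : Subgroup G, Y ≤ L → A ≤ 𝐍[Y] → g ∈ 𝐍[Y] → (∀ u ∈ Q ⊓ Y, ∃ b ∈ A,
      ⁅a, u⁆ * ⁅a, u⁆ * ⁅b, u⁆⁻¹ ∈ cmod L D) → Q ⊓ Y ≤ cmod L D := fun Y h1 h2 h3 h4 =>
    st_lemma hp2 hQ (h.syl.pg.to_le hAS) hL hDQ hQQ hQM
      (le_inf hAL (hAS.trans (norm_Z le_normalizer))) hAL hg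
      (fun x hx hx' => ffd_cover F hAS hs hg (fun h5 => hgM (hNM ⟨hg, h5⟩)) hx hx') ha
      (fun h5 => ha' (inv_mem_iff.1 (h.ti g hg hgM _ (inv_mem (hAS ha)) (hNM h5)))) inf_le_left
      (inf_le_right.trans h1) (norm_inf (hAL.trans hL) h2) (norm_inf inf_le_left inf_le_right (mem_inf.2 ⟨hL hg, h3⟩)) h4
  have e : ∀ u : G, ⁅a, u⁆ * ⁅a, u⁆ * ⁅a * a, u⁆⁻¹ = ⁅a, ⁅a, u⁆⁆⁻¹ := fun u => by
    simp only [commutatorElement_def]; group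
  have mQ : ∀ b ∈ A, ∀ u ∈ Q, ⁅b, u⁆ ∈ Q := fun b hb u hu =>
    comm_le_right hL (commutator_mem_commutator (hAL hb) hu)
  have s1 := st 𝐙[𝐎[p, L]] (h.V_le.trans h.le) (hAL.trans F.nat.norm) (F.nat.norm hg)
    fun u hu => ⟨_, mul_mem ha ha, by
      rw [e, cm_one (mem_cent.1 (F.nat.comm_mem_X (hAS ha) hu.2).2 a (hAS ha)), inv_one]
      exact one_mem _⟩
  have s2 := st W (w2.trans (pCoreOf_le L)) w3 w4 fun u hu => ⟨_, mul_mem ha ha, by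
    rw [e]
    exact inv_mem (s1 ⟨mQ a ha _ (mQ a ha u hu.1), w5 a ha u hu.2⟩)⟩
  refine st L le_rfl (hAL.trans le_normalizer) (le_normalizer hg) fun u hu => ?_
  have huS := h.core_le (hQT hu)
  have h1 : cj(u, A) ∈ abFam 0 S := mem_abFam_of_card_le hA (cj_le_of_mem hAS huS)
    (th_comm_map _ (abFam_comm hA)) (fun _ _ => pow_zero _) (card_cj _ _).ge
  have h2 : ⁅a, u⁆ ∈ A ⊔ cj(u, A) := by
    rw [show ⁅a, u⁆ = a * (u * a⁻¹ * u⁻¹) by simp only [commutatorElement_def]; group]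
    exact mul_mem (mem_sup_left ha) (mem_sup_right (conj_mem_cj (inv_mem ha)))
  obtain ⟨x, hx, y, hy, e1⟩ := perm A hA _ h1 _ (mul_mem h2 h2)
  have hb := mem_cj.1 hy
  have h3 : ⁅a, u⁆ * ⁅a, u⁆ * ⁅(u⁻¹ * y * u)⁻¹, u⁆⁻¹ = x * (u⁻¹ * y * u) := by
    rw [e1]; simp only [commutatorElement_def]; group
  have h4 := mul_mem (mul_mem (mQ a ha u hu.1) (mQ a ha u hu.1)) (inv_mem (mQ _ (inv_mem hb) u hu.1))
  refine ⟨_, inv_mem hb, s2 ⟨h4, w1 ?_⟩⟩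
  rw [h3] at h4 ⊢
  exact ⟨mul_mem hx hb, hQT ⟨h4, hAL (mul_mem hx hb)⟩⟩

end pud

end Cfsg.Agent.Loc.Foc
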