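import Mathlib
import Cfsg.Agent.Loc.FocPud
import Cfsg.Agent.Loc.CGSmRoot
import Cfsg.Agent.Loc.CFTransMin

/-! The characteristic subgroup used in the focal subgroup theorem for odd primes. -/

namespace Cfsg.Agent.Loc.Foc

open Cfsg Cfsg.Agent.GT Cfsg.Agent.Loc.Mss Cfsg.Agent.Loc.PU Cfsg.Agent.Loc.Blk Subgroup
open scoped commutatorElement Pointwise

universe u

section defs
variable {G G' : Type*} [Group G] [Group G'] {p : ℕ}

/-- join of the Frattini subgroups of the good minimal centrally large subgroups -/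
def phiJ (p : ℕ) (B : Subgroup G) : Subgroup G := ⨆ R : {R // MCLmax p B R}, Φ[R.1]

open Classical in
/-- `phiJ` unless trivial, then the Thompson subgroup -/
noncomputable def kB (p : ℕ) (B : Subgroup G) : Subgroup G :=
  if phiJ p B = ⊥ then thJ 0 B else phiJ p B

/-- the subgroup `K(S)` -/
noncomputable def kS (p : ℕ) (S : Subgroup G) : Subgroup G := kB p 𝐁[p, S]

theorem map_frat {f : G →* G'} (hf : Function.Injective f) (R : Subgroup G) :
    Φ[R].map f = Φ[R.map f] := by
  rw [← map_frattini_of_equiv (R.equivMapOfInjective f hf), map_map, map_map]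
  rfl

theorem map_phiJ {f : G →* G'} (hf : Function.Injective f) (B : Subgroup G) :
    (phiJ p B).map f = phiJ p (B.map f) := by
  unfold phiJ
  rw [Subgroup.map_iSup]
  refine le_antisymm (iSup_le fun R => ?_) (iSup_le fun R => ?_)
  · rw [map_frat hf]
    exact le_iSup (fun R : {R // MCLmax p (B.map f) R} => Φ[R.1]) ⟨_, (mclmax_map_iff hf).2 R.2⟩
  · have e : (R.1.comap f).map f = R.1 := map_comap_eq_self (R.2.1.1.1.trans (map_le_range _ _))
    have h : MCLmax p B (R.1.comap f) := (mclmax_map_iff hf).1 (e.symm ▸ R.2)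
    refine le_trans ?_ (le_iSup (fun R : {R // MCLmax p B R} => Φ[R.1].map f) ⟨_, h⟩)
    rw [map_frat hf]
    exact (congrArg (fun X : Subgroup G' => Φ[X]) e).ge

theorem map_kB {f : G →* G'} (hf : Function.Injective f) (B : Subgroup G) :
    (kB p B).map f = kB p (B.map f) := by
  unfold kB
  rw [← map_phiJ hf, map_eq_bot_iff_of_injective _ hf]
  split_ifs
  · rw [thJ_map_of_injective f hf]
  · rfl

theorem map_kS {f : G →* G'} (hf : Function.Injective f) (S : Subgroup G) :
    (kS p S).map f = kS p (S.map f) := by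
  unfold kS
  rw [map_kB hf, CG.map_bB hf]

theorem norm_kB (B : Subgroup G) : 𝐍[B] ≤ 𝐍[kB p B] := by
  unfold kB
  split_ifs
  · exact normalizer_le_normalizer_thJ 0 B
  · exact norm_phiJoin B

theorem kS_ne_bot [Finite G] [Fact p.Prime] {S : Subgroup G} (hS : IsPGroup p S) (h : S ≠ ⊥) :
    kS p S ≠ ⊥ := by
  unfold kS kB
  split_ifs with h1
  · exact thJ_ne_bot (dvd_zero p) (hS.to_le (bB_le S)) fun h2 =>
      thJ_ne_bot dvd_rfl hS h (le_bot_iff.1 (h2 ▸ thJ_le_bB S))
  · exact h1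

theorem perm0_of [Finite G] [Fact p.Prime] {B : Subgroup G} (hB : IsPGroup p B)
    (h : phiJ p B = ⊥) : Perm0 B := by
  obtain ⟨R, hR⟩ := exists_mclmax p B
  obtain ⟨R', rfl⟩ := lift_sub hR.1.1.1
  have h1 : Φ[R'.map B.subtype] ≤ ⊥ :=
    h ▸ le_iSup (fun R : {R // MCLmax p B R} => Φ[R.1]) ⟨_, hR⟩
  rw [frat_le_iff (hB.to_le hR.1.1.1), ← Subgroup.map_commutator, le_bot_iff,
    map_eq_bot_iff_of_injective _ B.subtype_injective] at h1
  have h2 := le_centralizer_iff_isMulCommutative.1 (comm_eq_bot_iff.1 h1.1)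
  have h3 := mcl_iff_maxAb_of_comm (mclin_sub.1 hR.1) h2
  rw [maxAbelianSubgroups_eq] at h3
  intro A hA C hC w hw
  rw [abFam_eq_image] at hA hC
  obtain ⟨A, hA, rfl⟩ := hA
  obtain ⟨C, hC, rfl⟩ := hC
  rw [← Subgroup.map_sup] at hw
  obtain ⟨w, hw, rfl⟩ := hw
  rw [cd_coe_sup (cl_cd ((h3 A).2 hA).1) (cl_cd ((h3 C).2 hC).1)] at hw
  obtain ⟨x, hx, y, hy, rfl⟩ := hw
  exact ⟨_, ⟨x, hx, rfl⟩, _, ⟨y, hy, rfl⟩, rfl⟩

end defs

section functor
variable {p : ℕ}

/-- the functor `K` -/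
noncomputable def WK (p : ℕ) (Q : Type u) [Group Q] : Subgroup Q := kS p ⊤

/-- the centre as a functor -/
def WZ (Q : Type u) [Group Q] : Subgroup Q := 𝐙[(⊤ : Subgroup Q)]

theorem ind_WK {G : Type u} [Group G] (P : Subgroup G) : inducedFunctor (WK p) P = kS p P := by
  unfold inducedFunctor WK
  rw [map_kS P.subtype_injective, th_map_top_subtype]

theorem ind_WZ {G : Type u} [Group G] (P : Subgroup G) : inducedFunctor WZ P = 𝐙[P] := by
  unfold inducedFunctor WZ
  rw [map_Z P.subtype_injective, th_map_top_subtype]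

theorem pg_top {Q : Type*} [Group Q] (h : IsPGroup p Q) : IsPGroup p (⊤ : Subgroup Q) :=
  h.to_subgroup _

variable [Fact p.Prime]

theorem char_WK : IsCharPFunctor.{u} p (WK p) := by
  refine ⟨fun Q _ _ hQ _ => kS_ne_bot (pg_top hQ) top_ne_bot, fun Q R _ _ _ _ e => ?_⟩
  unfold WK
  rw [map_kS (f := e.toMonoidHom) e.injective, map_top_of_surjective _ e.surjective]

theorem char_WZ : IsCharPFunctor.{u} p WZ := by
  refine ⟨fun Q _ _ hQ _ h => ?_, fun Q R _ _ _ _ e => ?_⟩
  · obtain ⟨x, h1, h2, h3, -⟩ := th_exists_center_order (pg_top hQ) top_ne_bot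
    exact h3 (mem_bot.1 (h ▸ (⟨h1, h2⟩ : x ∈ WZ Q)))
  · unfold WZ
    rw [map_Z (f := e.toMonoidHom) e.injective, map_top_of_surjective _ e.surjective]

theorem char_fam : ∀ W ∈ ({WZ, WK p} : Set (∀ (Q : Type u) [Group Q], Subgroup Q)),
    IsCharPFunctor p W := by
  rintro W (rfl | rfl)
  exacts [char_WZ, char_WK]

end functor

section norm
variable {G : Type*} [Group G] [Finite G] {p : ℕ} [hp : Fact p.Prime]

theorem norm_trick {V S : Subgroup G} [V.Normal] (hV : V ≤ 𝐂[V]) {z : G} (hz : z ∈ V)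
    (hzS : z ∈ 𝐂[S]) : ∃ w ∈ center G, w ∈ V ∧
      ∀ k : ℕ, z ^ k ∈ center G → (w * (z ^ S.index)⁻¹) ^ k = 1 := by
  letI : CommGroup V := { (inferInstance : Group V) with
    mul_comm := fun a b => Subtype.ext (mem_cent.1 (hV b.2) a a.2) }
  haveI := Fintype.ofFinite (G ⧸ S)
  let f : G ⧸ S → V := fun q => MulAut.conjNormal q.out ⟨z, hz⟩
  have hf : ∀ g q, f (g • q) = MulAut.conjNormal g (f q) := fun g q => by
    obtain ⟨s, hs⟩ := QuotientGroup.mk_out_eq_mul S (g * q.out)
    have e : g • q = ((g * q.out : G) : G ⧸ S) := by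
      conv_lhs => rw [← q.out_eq']
      rfl
    refine Subtype.ext ?_
    simp only [f, e, hs, MulAut.conjNormal_apply]
    have := mem_cent.1 hzS s s.2
    calc _ = g * q.out * (s * z) * (s : G)⁻¹ * (g * q.out)⁻¹ := by group
      _ = _ := by rw [this]; group
  refine ⟨(∏ q, f q : V), mem_center_iff.2 fun g => ?_, (∏ q, f q : V).2, fun k hk => ?_⟩
  · have : MulAut.conjNormal g (∏ q, f q : V) = ∏ q, f q := by
      rw [map_prod, ← Equiv.prod_comp (MulAction.toPerm g) f]
      exact Finset.prod_congr rfl fun q _ => (hf g q).symm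
    have := congrArg Subtype.val this
    rw [MulAut.conjNormal_apply] at this
    exact mul_inv_eq_iff_eq_mul.1 this
  · have h1 : ∀ q, f q ^ k = (⟨z, hz⟩ : V) ^ k := fun q => by
      refine Subtype.ext ?_
      simp only [f, ← map_pow, MulAut.conjNormal_apply, coe_pow]
      rw [mem_center_iff.1 hk, mul_inv_cancel_right]
    have h2 : ((∏ q, f q) * ((⟨z, hz⟩ : V) ^ S.index)⁻¹) ^ k = 1 := by
      rw [mul_pow, ← Finset.prod_pow, Finset.prod_congr rfl fun q _ => h1 q, Finset.prod_const,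
        inv_pow, ← pow_mul, ← pow_mul, Finset.card_univ, index, Nat.card_eq_fintype_card,
        mul_comm k, mul_inv_cancel]
    exact congrArg Subtype.val h2

theorem Z_le_center (S : Sylow p G) (hc : CF.Con p G) (h : ΩZ[p, (S : Subgroup G)] ≤ center G) :
    𝐙[(S : Subgroup G)] ≤ center G := by
  have hQ := pCore_le_sylow S
  haveI : (𝐙[pCore p G]).Normal := inferInstance
  have key : ∀ n : ℕ, ∀ z ∈ 𝐙[(S : Subgroup G)], z ^ p ^ n = 1 → z ∈ center G := by
    intro n
    induction n with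
    | zero => intro z _ e; rw [pow_zero, pow_one] at e; exact e ▸ one_mem _
    | succ n ih =>
      intro z hz e
      have h1 := ih _ (pow_mem hz p) (by rw [← pow_mul, ← pow_succ', e])
      have h2 : z ∈ 𝐂[pCore p G] := centralizer_le hQ hz.2
      obtain ⟨w, w1, w2, w3⟩ := norm_trick (V := 𝐙[pCore p G]) (Z_le_cent _) ⟨hc h2, h2⟩ hz.2
      have h3 := h (th_mem_omegaOne (mul_mem ⟨hQ w2.1, center_le_centralizer _ w1⟩
        (inv_mem (pow_mem hz _))) (w3 p h1))
      have h4 := inv_mem_iff.1 ((mul_mem_cancel_left w1).1 h3)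
      have h5 : Nat.Coprime p (S : Subgroup G).index := hp.out.coprime_iff_not_dvd.2 S.not_dvd_index
      have h6 := Nat.gcd_eq_gcd_ab p (S : Subgroup G).index
      rw [h5] at h6
      have : z = (z ^ p) ^ Nat.gcdA p (S : Subgroup G).index *
          (z ^ (S : Subgroup G).index) ^ Nat.gcdB p (S : Subgroup G).index := by
        rw [← zpow_natCast, ← zpow_natCast, ← zpow_mul, ← zpow_mul, ← zpow_add, ← h6]; simp
      rw [this]
      exact mul_mem (zpow_mem h1 _) (zpow_mem h4 _)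
  intro z hz
  obtain ⟨n, e⟩ := S.isPGroup' ⟨z, hz.1⟩
  exact key n z hz (congrArg Subtype.val e)

end norm

end Cfsg.Agent.Loc.Foc
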