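import Mathlib
import Cfsg.Agent.Loc.FocK
import Cfsg.Agent.Loc.CGSmall

/-! The family `{Z, K}` controls transfer for odd primes. -/

namespace Cfsg.Agent.Loc.Foc

open Cfsg Cfsg.Agent.GT Cfsg.Agent.Loc.Mss Cfsg.Agent.Loc.PU Cfsg.Agent.Loc.Blk Subgroup
open scoped commutatorElement

universe u
variable {G : Type u} [Group G] [Finite G] {p : ℕ} [hp : Fact p.Prime]

theorem exists_pud' {T M : Subgroup G} (h : BH.PM p T M) (hG : 𝐂[pCore p G] ≤ pCore p G)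
    (hz : 𝐂[ΩZ[p, T]] ≤ M) (hJ : 𝐍[thJ p T] ≤ M) :
    ∃ (q : ℕ) (L M₂ : Subgroup G), PUD p q L 𝐁[p, T] M₂ ∧ ¬ L ≤ M ∧ ⁅pCore p G, 𝐑[p, L]⁆ ≤ L := by
  obtain ⟨F, _, _, L, M₂, h1, h2, h3⟩ := CG.exists_pud h hG hz hJ
  exact ⟨_, L, M₂, h1, fun h4 => h2 ((Mss.res_le L).trans h4),
    h3.trans ((pCoreOf_le _).trans (Mss.res_le L))⟩

theorem foc_local (hp2 : p ≠ 2) (S : Sylow p G) {M D : Subgroup G} (h : BH.PM p (S : Subgroup G) M)
    (hc : CF.Con p G) (hZ : 𝐍[𝐙[(S : Subgroup G)]] ≠ ⊤) (hK : 𝐍[kS p (S : Subgroup G)] ≠ ⊤)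
    (hM : 𝐍[D] ≤ M) (hDQ : D ≤ pCore p G) (hMQ : ⁅M, pCore p G⁆ ≤ D) : False := by
  have nB : (S : Subgroup G) ≤ 𝐍[𝐁[p, (S : Subgroup G)]] := norm_bB le_normalizer
  have hKM : 𝐍[kS p (S : Subgroup G)] ≤ M := h.le_of_ne (nB.trans (norm_kB _)) hK
  have hZM : 𝐍[𝐙[(S : Subgroup G)]] ≤ M := h.le_of_ne (norm_Z le_normalizer) hZ
  have hz : 𝐂[ΩZ[p, (S : Subgroup G)]] ≤ M := by
    refine h.le_of_ne ((le_cent_Z _).trans (centralizer_le (th_omegaOne_le p _))) fun h1 => hZ ?_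
    exact top_le_iff.1 (norm_of_cent (le_centralizer_iff.1 ((Z_le_center S hc
      (centralizer_eq_top_iff_subset.1 h1)).trans (center_le_centralizer _))))
  have hJ : 𝐍[thJ p (S : Subgroup G)] ≤ M := by
    refine h.le_of_ne (le_normalizer_thJ p _) fun h1 => hK ?_
    haveI : (𝐂[omegaOne p (thZ p (S : Subgroup G))]).Normal := normal_of_top (norm_cent
      (h1.ge.trans ((normalizer_thJ_le_normalizer_thZ p _).trans
        (th_normalizer_le_normalizer_omegaOne p _))))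
    have h2 := h.inf_normal (N := 𝐂[omegaOne p (thZ p (S : Subgroup G))])
      (le_trans (centralizer_le fun x hx => ?_) hz)
    · rw [← bB_eq] at h2
      exact top_le_iff.1 ((normalizer_eq_top _).ge.trans (norm_kB _))
    · rw [← oc_eq] at hx
      obtain ⟨x1, x2, x3⟩ := mem_oc.1 hx
      exact th_mem_omegaOne (mem_thZ_of_mem_center x1 x2 x3) x3
  obtain ⟨q, L, M₂, hL, hLM, hQL⟩ := exists_pud' h hc hz hJ
  have hZB : 𝐙[(S : Subgroup G)] ≤ 𝐙[𝐁[p, (S : Subgroup G)]] := by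
    refine le_inf ?_ (inf_le_right.trans (centralizer_le (bB_le _)))
    rw [bB_eq]
    exact inf_le_inf_left _ (centralizer_le ((th_omegaOne_le p _).trans (thZ_le p _)))
  have hZL : ¬ L ≤ 𝐂[𝐙[𝐁[p, (S : Subgroup G)]]] := fun h1 =>
    hLM ((norm_of_cent (h1.trans (centralizer_le hZB))).trans hZM)
  by_cases h0 : phiJ p 𝐁[p, (S : Subgroup G)] = ⊥
  swap
  · refine hLM (le_trans ?_ hKM)
    unfold kS kB
    rw [if_neg h0]
    exact hL.norm_phiJoin_syl hZL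
  have hK' : kS p (S : Subgroup G) = thJ 0 𝐁[p, (S : Subgroup G)] := if_pos h0
  by_cases h1 : thJ 0 𝐁[p, (S : Subgroup G)] ≤ 𝐎[p, L]
  · refine hLM (le_trans ?_ hKM)
    rw [hK', ← thJ_eq_of_le h1 hL.core_le]
    exact (le_norm_core L).trans (normalizer_le_normalizer_thJ 0 _)
  rw [thJ_le_iff] at h1
  push Not at h1
  obtain ⟨A, hA, hT⟩ := h1
  have nQ : ∀ X : Subgroup G, X ≤ 𝐍[pCore p G] := fun X => le_top.trans (normalizer_eq_top _).ge
  have h2 : 𝐍[𝐙[𝐁[p, (S : Subgroup G)]]] ≤ M :=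
    h.le_of_ne (norm_Z nB) fun h2 => hZL (hL.cent_of_norm_Z (le_top.trans h2.ge))
  have h3 := pud_foc hL hZL (perm0_of hL.syl.pg h0) hA hT hp2 (isPGroup_pCore p) (nQ L) hDQ
    ((commutator_mono ((pCore_le_sylow S).trans h.le) le_rfl).trans hMQ)
    ((commutator_mono (inf_le_right.trans h2) le_rfl).trans hMQ)
  have h4 : ⁅pCore p G, 𝐑[p, L]⁆ ≤ D :=
    comm_res_le_of_le (isPGroup_pCore p) (nQ _) (le_inf (comm_le_left (nQ _)) hQL) (by
      rw [commutator_comm]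
      exact (commutator_mono (Mss.res_le L) h3).trans (comm_cmod_le _ _))
  exact hLM (hL.le_of_res ((norm_of_comm_le hDQ h4).trans hM) ((bB_le _).trans h.le))

theorem foc_family (hp2 : p ≠ 2) :
    FamilyControlsTransferIn p (CF.ind {WZ, WK p} G) ⊤ := by
  refine CF.section_induction (G := G)
    (P := fun H _ _ => FamilyControlsTransferIn p (CF.ind {WZ, WK p} H) ⊤)
    (fun H _ _ _ ih => by_contra fun hG => ?_) G (CF.involves_refl G)
  obtain ⟨S⟩ : Nonempty (Sylow p H) := inferInstance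
  have m1 : inducedFunctor WZ ∈ CF.ind {WZ, WK p} H := ⟨_, Or.inl rfl, rfl⟩
  have m2 : inducedFunctor (WK p) ∈ CF.ind {WZ, WK p} H := ⟨_, Or.inr rfl, rfl⟩
  by_cases hS : (S : Subgroup H).Normal
  · exact hG (CF.familyTransfer_of_normal m1 (CF.induced_normal_of_normal char_WZ S.isPGroup'))
  obtain ⟨h1, h2, h3, h4, h5, -⟩ := CF.transfer_min char_fam S hS ih hG rfl rfl
  refine foc_local hp2 S ⟨Am.isSylowOf_top S, h4, h2, fun K hK => ?_, h3 _ le_normalizer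
    fun h => hS (normalizer_eq_top_iff.1 h)⟩ h1 (fun h => ?_) (fun h => ?_) le_rfl inf_le_right
    (le_inf (le_trans (le_inf ?_ ?_) h5) ?_)
  · by_cases h : K = ⊤
    exacts [Or.inr h, Or.inl (h3 K hK h)]
  · exact hG (CF.familyTransfer_of_normal (T := S) m1
      (by rw [ind_WZ]; exact normalizer_eq_top_iff.1 h))
  · exact hG (CF.familyTransfer_of_normal (T := S) m2
      (by rw [ind_WK]; exact normalizer_eq_top_iff.1 h))
  · exact (commutator_le_right _ _).trans (pCore_le_sylow S)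
  · exact commutator_mono le_rfl ((pCore_le_sylow S).trans h4)
  · exact commutator_le_right _ _

theorem foc_le (hp2 : p ≠ 2) (S : Sylow p G) : (S : Subgroup G) ⊓ commutator G ≤
    (S : Subgroup G) ⊓ ⁅𝐍[𝐙[(S : Subgroup G)]], 𝐍[𝐙[(S : Subgroup G)]]⁆ ⊔
      (S : Subgroup G) ⊓ ⁅𝐍[kS p (S : Subgroup G)], 𝐍[kS p (S : Subgroup G)]⁆ := by
  refine ((foc_family hp2).le_trSub (CF.isConjugacyFunctor_ind char_fam)
    (CF.sylIn_top S)).trans (CF.trSub_le_iff.2 ?_)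
  rintro _ ⟨_, rfl | rfl, rfl⟩
  · simp only [top_inf_eq, ind_WZ]; exact le_sup_left
  · simp only [top_inf_eq, ind_WK]; exact le_sup_right

end Cfsg.Agent.Loc.Foc
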