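import Mathlib
import Cfsg.Agent.GW.Cop
import Cfsg.Agent.GT.CoprimeGen
import Cfsg.Agent.GT.PGroupRank
import Cfsg.Agent.GT.StableClosure

/-! Thompson's dihedral lemma, in the form used in the Klinger-Mason method. -/

set_option autoImplicit false

namespace Cfsg.Agent.Loc.KM

open Cfsg Subgroup Cfsg.Agent.GT

variable {G : Type*} [Group G] [Finite G] {p : ℕ} [hp : Fact p.Prime] {A B D E Q V : Subgroup G}
  {t z : G}

theorem odd_card (hp2 : p ≠ 2) (hQ : IsPGroup p Q) : Odd (Nat.card Q) := by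
  obtain ⟨n, hn⟩ := hQ.exists_card_eq
  rw [hn]; exact (hp.1.odd_of_ne_two hp2).pow

theorem not_two_dvd (hp2 : p ≠ 2) (hQ : IsPGroup p Q) : ¬ 2 ∣ Nat.card Q :=
  (odd_card hp2 hQ).not_two_dvd_nat

theorem not_dvd (hp2 : p ≠ 2) (hQ : IsPGroup 2 Q) : ¬ p ∣ Nat.card Q := fun h => by
  obtain ⟨n, hn⟩ := hQ.exists_card_eq
  exact hp2 ((Nat.prime_dvd_prime_iff_eq hp.1 Nat.prime_two).1 (hp.1.dvd_of_dvd_pow (hn ▸ h)))

theorem cop (hp2 : p ≠ 2) (hA : IsPGroup p A) (hQ : IsPGroup 2 Q) :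
    (Nat.card A).Coprime (Nat.card Q) := CopAct.coprime_of_isPGroup_left hA (not_dvd hp2 hQ)

theorem mul_card_le (hB : IsPGroup p B) (h : A < B) : p * Nat.card A ≤ Nat.card B := by
  obtain ⟨n, hn⟩ := hB.exists_card_eq
  obtain ⟨m, hm⟩ := (hB.to_le h.le).exists_card_eq
  have := card_lt_of_lt h
  rw [hn, hm] at this ⊢
  rw [← pow_succ']
  exact Nat.pow_le_pow_right hp.1.pos ((Nat.pow_lt_pow_iff_right hp.1.one_lt).1 this)

omit [Finite G] hp in
theorem comm_of_le (h : A ≤ centralizer (A : Set G)) : IsMulCommutative A :=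
  ⟨⟨fun a b => Subtype.ext (h b.2 a a.2)⟩⟩

omit [Finite G] hp in
theorem le_of_comm (h : IsMulCommutative A) : A ≤ centralizer (A : Set G) := fun b hb a ha =>
  congrArg Subtype.val (mul_comm' (⟨a, ha⟩ : A) ⟨b, hb⟩)

/-- An elementary abelian 2-group acting faithfully on a `p`-group acts faithfully on an
elementary abelian subgroup. -/
theorem exists_faithful (hp2 : p ≠ 2) (hQ : IsPGroup p Q) (hE : IsElementaryAbelian 2 E)
    (hEQ : E ≤ normalizer (Q : Set G)) (hf : E ⊓ centralizer (Q : Set G) = ⊥) (hDQ : D ≤ Q)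
    (hD : IsElementaryAbelian p D) (hED : E ≤ centralizer (D : Set G)) :
    ∃ V : Subgroup G, D ≤ V ∧ V ≤ Q ∧ IsElementaryAbelian p V ∧ E ≤ normalizer (V : Set G) ∧
      E ⊓ centralizer (V : Set G) = ⊥ := by
  obtain ⟨M, hDM, ⟨hMQ, hMc, hEM⟩, hmax⟩ := exists_maximal_ge
    (P := fun M : Subgroup G => M ≤ Q ∧ M ≤ centralizer (M : Set G) ∧ E ≤ normalizer (M : Set G))
    ⟨hDQ, hD.le_centralizer, le_normalizer_of_le_centralizer hED⟩
  refine ⟨omegaOne p M, hD.le_omegaOne hDM, (PG.omegaOne_le _).trans hMQ,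
    PG.isElementaryAbelian_omegaOne (comm_of_le hMc),
    hEM.trans (PG.normalizer_le_normalizer_omegaOne M), eq_bot_iff.2 fun e he => ?_⟩
  have he2 : e * e = 1 := by rw [← sq]; exact hE.2 e he.1
  have hc : (Nat.card (zpowers e)).Coprime p :=
    GW.coprime_zpowers_of_sq (hp.1.odd_of_ne_two hp2) he2
  have h1 : zpowers e ≤ centralizer (M : Set G) :=
    CopAct.le_centralizer_of_pow_prime_eq_one (comm_of_le hMc) (hQ.to_le hMQ)
      (zpowers_le.2 (hEM he.1)) hc fun v hv hvp => by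
        rw [centralizer_zpowers]
        exact mem_centralizer_singleton_iff.2 (he.2 v (subset_closure ⟨hv, hvp⟩))
  rw [← hf]
  refine ⟨he.1, zpowers_le.1 (CopAct.thompson_times (hQ.to_le hMQ) hc hQ
    (le_centralizer_iff.1 h1) (hMQ.trans le_normalizer) (zpowers_le.2 (hEQ he.1)) ?_)⟩
  have hEC : E ≤ normalizer ((Q ⊓ centralizer (M : Set G) : Subgroup G) : Set G) :=
    CopAct.le_normalizer_inf hEQ (CopAct.le_normalizer_centralizer hEM)
  have hCp : IsPGroup p (Q ⊓ centralizer (M : Set G) : Subgroup G) := hQ.to_le inf_le_left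
  rw [centralizer_zpowers]
  refine CopAct.le_of_cocyclic_centralizer_le hE.1 hEC (cop hp2 hCp hE.isPGroup).symm ?_
  rintro B hBE ⟨a, ha, hBa⟩ x hx
  by_cases heB : e ∈ B
  · exact centralizer_le_centralizer_singleton heB hx.2
  obtain ⟨c, hc, y, hy, hey, rfl⟩ := GW.exists_fixed_mul_inverted
    (Q := Q ⊓ centralizer (M : Set G) ⊓ centralizer (B : Set G))
    (odd_card hp2 (hCp.to_le inf_le_left)) he2
    (CopAct.le_normalizer_inf_centralizer_of_isMulCommutative hE.1 hBE hEC he.1) hx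
  have hEe : E ≤ B ⊔ zpowers e := by
    rcases CopAct.eq_or_relIndex_eq_of_cocyclic hE hBE ⟨a, ha, hBa⟩ with h | h
    · rw [← h]; exact le_sup_left
    · have h2 := mul_card_le (p := 2) (hE.isPGroup.to_le (sup_le hBE (zpowers_le.2 he.1)))
        (lt_of_le_of_ne le_sup_left fun e' => heB (e'.ge (mem_sup_right (mem_zpowers e))))
      exact (eq_of_le_of_card_ge (sup_le hBE (zpowers_le.2 he.1))
        (by rw [← PG.relIndex_mul_card hBE, h]; exact h2)).ge
  have hEy : E ≤ normalizer (zpowers y : Set G) := hEe.trans (sup_le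
    (le_normalizer_of_le_centralizer (le_centralizer_iff.1 (zpowers_le.2 hy.2)))
    (zpowers_le.2 (by rw [← map_conj_eq_self_iff, map_conj_zpowers, hey, zpowers_inv])))
  have hyM := hmax (M ⊔ zpowers y) ⟨sup_le hMQ (zpowers_le.2 hy.1.1), by
    rw [centralizer_sup, centralizer_zpowers]
    exact sup_le (le_inf hMc (le_centralizer_singleton_iff.2 hy.1.2))
      (zpowers_le.2 ⟨hy.1.2, mem_centralizer_singleton_iff.2 rfl⟩),
    CopAct.le_normalizer_sup hEM hEy⟩ le_sup_left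
  exact mul_mem hc.2 (le_centralizer_singleton_iff.2 (zpowers_le.1 h1)
    (hyM.le (mem_sup_right (mem_zpowers y))))

theorem exists_step (hp2 : p ≠ 2) (hV : IsPGroup p V) (hE : IsElementaryAbelian 2 E)
    (hEV : E ≤ normalizer (V : Set G)) (hf : E ⊓ centralizer (V : Set G) = ⊥) (hz : z ∈ E)
    (h1 : z ≠ 1) : ∃ B ≤ E, 2 * Nat.card B = Nat.card E ∧
      ¬ V ⊓ centralizer (B : Set G) ≤ centralizer ({z} : Set G) ∧
      p * Nat.card (V ⊓ centralizer (E : Set G) : Subgroup G) ≤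
        Nat.card (V ⊓ centralizer (B : Set G) : Subgroup G) := by
  obtain ⟨B, hBE, h2, h3⟩ : ∃ B ≤ E, B.relIndex E = 2 ∧
      ¬ V ⊓ centralizer (B : Set G) ≤ centralizer ({z} : Set G) := by
    by_contra! hc
    have := CopAct.le_of_hyperplane_centralizer_le hE (fun e => h1 (by simpa [e] using hz)) hEV
      (not_two_dvd hp2 hV) hc
    exact h1 (hf.le ⟨hz, le_centralizer_singleton_iff.1 this⟩)
  exact ⟨B, hBE, by rw [← PG.relIndex_mul_card hBE, h2], h3, mul_card_le (hV.to_le inf_le_left)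
    (lt_of_le_of_ne (inf_le_inf_left _ (centralizer_anti hBE)) fun e => h3
      (e.ge.trans (inf_le_right.trans (centralizer_le_centralizer_singleton hz))))⟩

theorem exists_invol (hp2 : p ≠ 2) (hV : IsPGroup p V) (m : ℕ) : ∀ {E : Subgroup G},
    IsElementaryAbelian 2 E → E ≤ normalizer (V : Set G) → E ⊓ centralizer (V : Set G) = ⊥ →
    2 ^ (m + 1) ≤ Nat.card E → ∃ t ∈ E, t ≠ 1 ∧
      p ^ m * Nat.card (V ⊓ centralizer (E : Set G) : Subgroup G) ≤
        Nat.card (V ⊓ centralizer ({t} : Set G) : Subgroup G) := by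
  have key : ∀ {E : Subgroup G} {k : ℕ}, 2 ^ (k + 1) ≤ Nat.card E → ∃ t ∈ E, t ≠ 1 :=
    fun {E k} h => by
      have : E ≠ ⊥ := fun e => by
        rw [e, card_bot] at h
        exact absurd h (not_le.2 (Nat.one_lt_two_pow k.succ_ne_zero))
      obtain ⟨⟨t, ht⟩, h1⟩ := ne_bot_iff_exists_ne_one.1 this
      exact ⟨t, ht, fun e => h1 (Subtype.ext e)⟩
  induction m with
  | zero =>
    intro E _ _ _ h
    obtain ⟨t, ht, h1⟩ := key h
    exact ⟨t, ht, h1, by
      simpa using card_le_of_le (inf_le_inf_left V (centralizer_le_centralizer_singleton ht))⟩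
  | succ m ih =>
    intro E hE hEV hf h
    obtain ⟨z, hz, h1⟩ := key h
    obtain ⟨B, hBE, h2, -, h3⟩ := exists_step hp2 hV hE hEV hf hz h1
    obtain ⟨t, ht, ht1, h4⟩ := ih (hE.mono hBE) (hBE.trans hEV)
      (le_bot_iff.1 (hf ▸ inf_le_inf_right _ hBE)) (by rw [pow_succ] at h; omega)
    exact ⟨t, hBE ht, ht1, le_trans (by rw [pow_succ, mul_assoc]; gcongr) h4⟩

end Cfsg.Agent.Loc.KM
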