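import Mathlib
import Cfsg.Agent.Loc.KMDih
import Cfsg.Agent.GT.CoprimeAct

/-! Two 2-groups of symplectic type around commuting involutions. -/

set_option autoImplicit false

namespace Cfsg.Agent.Loc.KM

open Cfsg Subgroup Cfsg.Agent.GT
open scoped commutatorElement

/-- A quaternion group acting on an `F₂`-space cannot centralize a subspace of codimension at most
one in the fixed points of its (nontrivially acting) central involution. -/
theorem quat_aux {V : Type*} [CommGroup V] (hV : ∀ v : V, v * v = 1) {a b c : MulAut V}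
    (ha : a * a = c) (hb : b * b = c) (hab : (a * b) * (a * b) = c) (hcc : c * c = 1) (hc : c ≠ 1)
    (Y : Subgroup V) (hYa : ∀ y ∈ Y, a y = y) (hYb : ∀ y ∈ Y, b y = y)
    (hK : ∀ u v, c u = u → c v = v → u ∉ Y → v ∉ Y → u * v ∈ Y) : False := by
  have hc2 : ∀ v, c (c v) = v := fun v => by simpa using congrArg (fun f : MulAut V => f v) hcc
  have ha2 : ∀ v, a (a v) = c v := fun v => by simpa using congrArg (fun f : MulAut V => f v) ha
  have hb2 : ∀ v, b (b v) = c v := fun v => by simpa using congrArg (fun f : MulAut V => f v) hb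
  have hab2 : ∀ v, a (b (a (b v))) = c v := fun v => by
    simpa using congrArg (fun f : MulAut V => f v) hab
  have hca : ∀ v, c (a v) = a (c v) := fun v => by rw [← ha2, ← ha2]
  have hcb : ∀ v, c (b v) = b (c v) := fun v => by rw [← hb2, ← hb2]
  have hba : ∀ v, b (a v) = a (b (c v)) := fun v => by
    apply a.injective
    have := hab2 (b (c v))
    rw [hb2, hc2, hcb, hc2] at this
    rw [this, ha2, hcb, hc2]
  have cancel : ∀ u w : V, u * w = 1 → u = w := fun u w h =>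
    mul_right_cancel (h.trans (hV w).symm)
  -- `N v = c v * v`; find `v` with `N v ≠ 1` fixed by `a` and `b`
  obtain ⟨v, hv, hva, hvb⟩ : ∃ v, c v * v ≠ 1 ∧ a (c v * v) = c v * v ∧ b (c v * v) = c v * v := by
    have step : ∀ d : MulAut V, (∀ v, d (d v) = c v) → ∀ v, c v * v ≠ 1 →
        d (c v * v) ≠ c v * v → c (d v * v) * (d v * v) = d (c v * v) * (c v * v) ∧
        d (c v * v) * (c v * v) ≠ 1 ∧ d (d (c v * v) * (c v * v)) = d (c v * v) * (c v * v) :=
      fun d hd v _ h2 => ⟨by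
        rw [map_mul, map_mul, ← hd (d v), hd v]; ac_rfl, fun e => h2 (cancel _ _ e), by
        rw [map_mul d (d _), hd, map_mul c, hc2]; ac_rfl⟩
    obtain ⟨v, hv⟩ : ∃ v, c v * v ≠ 1 := by
      by_contra! h
      exact hc (MulEquiv.ext fun v => cancel _ _ (h v))
    obtain ⟨v, hv, hva⟩ : ∃ v, c v * v ≠ 1 ∧ a (c v * v) = c v * v := by
      by_cases h : a (c v * v) = c v * v
      · exact ⟨v, hv, h⟩
      · obtain ⟨h1, h2, h3⟩ := step a ha2 v hv h
        exact ⟨a v * v, h1 ▸ h2, h1 ▸ h3⟩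
    by_cases h : b (c v * v) = c v * v
    · exact ⟨v, hv, hva, h⟩
    · obtain ⟨h1, h2, h3⟩ := step b hb2 v hv h
      refine ⟨b v * v, h1 ▸ h2, ?_, h1 ▸ h3⟩
      have h4 : c (c v * v) = c v * v := by rw [map_mul, hc2, mul_comm]
      have h5 := hba (c v * v)
      rw [hva, h4] at h5
      rw [h1, map_mul a (b _), ← h5, hva]
  have key : ∀ d : MulAut V, (∀ v, d (d v) = c v) → (∀ y ∈ Y, d y = y) →
      d (c v * v) = c v * v → c (d v * v) = d v * v ∧ d v * v ∉ Y := fun d hd hY h => by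
    refine ⟨cancel _ _ ?_, fun hm => hv ?_⟩
    · calc c (d v * v) * (d v * v) = d (c v * v) * (c v * v) := by
            rw [map_mul, map_mul, ← hd (d v), hd v]; ac_rfl
        _ = 1 := by rw [h, hV]
    · have := hY _ hm
      rw [map_mul, hd] at this
      calc c v * v = (c v * d v) * (d v * v) := by
            rw [mul_assoc, ← mul_assoc (d v), hV, one_mul]
        _ = 1 := by rw [this, hV]
  obtain ⟨h1, h2⟩ := key a ha2 hYa hva
  obtain ⟨h3, h4⟩ := key b hb2 hYb hvb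
  obtain ⟨-, h6⟩ := key (a * b) (fun v => hab2 v) (fun y hy => by simp [hYa y hy, hYb y hy])
    (by simp only [MulAut.mul_apply]; rw [hvb, hva])
  have h7 := hK _ _ h1 h3 h2 h4
  have h8 : a (b v * v) * (b v * v) ∈ Y := by
    by_cases h : a (b v * v) ∈ Y
    · exact absurd (a.injective (hYa _ h) ▸ h) h4
    · exact hK _ _ (by rw [hca, h3]) h3 h h4
  refine h6 ?_
  have e : (a * b) v * v = a (b v * v) * (b v * v) * (a v * v * (b v * v)) := by
    rw [MulAut.mul_apply, map_mul]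
    calc a (b v) * v = a (b v) * v * ((a v * a v) * ((b v * v) * (b v * v))) := by
          rw [hV, hV, one_mul, mul_one]
      _ = _ := by ac_rfl
  rw [e]; exact mul_mem h8 h7

variable {G : Type*} [Group G] [Finite G] {p : ℕ} [hp : Fact p.Prime] {A A' C C' : Subgroup G}
  {t z : G}

/-- A critical subgroup of `O₂(C(t))`, of symplectic type. -/
structure Crit (A : Subgroup G) (t : G) (C : Subgroup G) : Prop where
  ord : orderOf t = 2
  two : IsPGroup 2 C
  norm : centralizer ({t} : Set G) ≤ normalizer (C : Set G)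
  mem : t ∈ C
  cen : C ≤ centralizer ({t} : Set G)
  sq : ∀ x ∈ C, x ^ 2 ∈ centralizer (C : Set G)
  comm : ∀ x ∈ C, ∀ y ∈ C, ⁅x, y⁆ ∈ zpowers t
  le : A ≤ centralizer ({t} : Set G)
  inv : ∀ V ≤ C, IsElementaryAbelian 2 V → A ≤ normalizer (V : Set G) → V ≤ zpowers t
  faith : A ⊓ centralizer (C : Set G) = ⊥

namespace Crit

omit [Finite G] in
theorem mul_self (h : Crit A t C) : t * t = 1 := by
  rw [← _root_.sq, ← h.ord, pow_orderOf_eq_one]

omit [Finite G] in
theorem ne_one (h : Crit A t C) : t ≠ 1 := fun e => by simpa [e] using h.ord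

omit [Finite G] in
theorem omega_le (h : Crit A t C) {M : Subgroup G} (hM : M ≤ C) (hc : IsMulCommutative M)
    (hA : A ≤ normalizer (M : Set G)) : omegaOne 2 M ≤ zpowers t :=
  h.inv _ ((PG.omegaOne_le _).trans hM) (PG.isElementaryAbelian_omegaOne hc)
    (hA.trans (PG.normalizer_le_normalizer_omegaOne M))

omit [Finite G] in
theorem comm_center (C : Subgroup G) :
    IsMulCommutative (C ⊓ centralizer (C : Set G) : Subgroup G) :=
  comm_of_le (inf_le_right.trans (centralizer_anti inf_le_left))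

omit [Finite G] in
theorem norm_center (h : Crit A t C) : centralizer ({t} : Set G) ≤
    normalizer ((C ⊓ centralizer (C : Set G) : Subgroup G) : Set G) :=
  CopAct.le_normalizer_inf h.norm (CopAct.le_normalizer_centralizer h.norm)

omit [Finite G] in
theorem zpowers_le (h : Crit A t C) : zpowers t ≤ C ⊓ centralizer (C : Set G) :=
  Subgroup.zpowers_le.2 ⟨h.mem, le_centralizer_singleton_iff.1 h.cen⟩

theorem le_centralizer (hp2 : p ≠ 2) (h : Crit A t C) (hA : IsPGroup p A) {M : Subgroup G}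
    (hM : M ≤ C) (hc : IsMulCommutative M) (hAM : A ≤ normalizer (M : Set G)) :
    A ≤ centralizer (M : Set G) :=
  CopAct.le_centralizer_of_pow_prime_eq_one hc (h.two.to_le hM) hAM
    (Nat.coprime_two_right.2 (odd_card hp2 hA)) fun _ hv hv2 =>
      Subgroup.zpowers_le.2 (le_centralizer_singleton_iff.1 h.le)
        (h.omega_le hM hc hAM (subset_closure ⟨hv, hv2⟩))

omit [Finite G] in
/-- A subgroup not containing `t` meets `Z(C)` trivially. -/
theorem eq_one (h : Crit A t C) {H : Subgroup G} (ht : t ∉ H) {x : G} (hx : x ∈ H)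
    (hZ : x ∈ C ⊓ centralizer (C : Set G)) : x = 1 := by
  by_contra h1
  have h2 := PG.omegaOne_ne_bot (h.two.to_le ((Subgroup.zpowers_le.2 hZ).trans inf_le_left))
    (by simpa using h1)
  obtain ⟨⟨y, hy⟩, hy1⟩ := ne_bot_iff_exists_ne_one.1 h2
  have h3 := h.omega_le inf_le_left (comm_center C) (h.le.trans h.norm_center)
    (PG.omegaOne_mono (Subgroup.zpowers_le.2 hZ) hy)
  rcases GW.eq_or_eq_of_mem_zpowers h.mul_self h3 with e | e
  · exact hy1 (Subtype.ext e)
  · exact ht (e ▸ Subgroup.zpowers_le.2 hx (PG.omegaOne_le _ hy))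

omit [Finite G] in
theorem inf_le (h : Crit A z C) (ht : t ∈ C) {H : Subgroup G} (hz : z ∉ H) (htH : t ∈ H)
    (hn : C ⊓ centralizer ({t} : Set G) ≤ normalizer (H : Set G)) :
    C ⊓ H ≤ zpowers t := by
  intro w hw
  have hzc : ∀ x ∈ C, Commute z x := fun x hx =>
    (mem_centralizer_singleton_iff.1 (h.cen hx)).symm
  have dich : ∀ x ∈ C, ∀ y ∈ C, x * y = y * x ∨ x * y = z * (y * x) := fun x hx y hy =>
    (GW.eq_or_eq_of_mem_zpowers h.mul_self (h.comm x hx y hy)).imp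
      commutatorElement_eq_one_iff_mul_comm.1 fun e => by
        rw [← e, commutatorElement_def]; group
  have h1 : ∀ x ∈ C, x * t = t * x → x * w = w * x := fun x hx hxt =>
    (dich x hx w hw.1).resolve_right fun e => hz (by
      have := mul_mem (conj_mem_of_mem_normalizer
        (hn ⟨hx, mem_centralizer_singleton_iff.2 hxt⟩) hw.2) (inv_mem hw.2)
      rwa [e, show z * (w * x) * x⁻¹ * w⁻¹ = z by group] at this)
  by_cases hc : w ∈ centralizer (C : Set G)
  · rw [h.eq_one hz hw.2 ⟨hw.1, hc⟩]; exact one_mem _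
  obtain ⟨x₀, hx₀, h2⟩ : ∃ x ∈ C, x * w ≠ w * x := by
    by_contra! h'; exact hc h'
  have h3 := (dich x₀ hx₀ w hw.1).resolve_left h2
  have h4 := (dich x₀ hx₀ t ht).resolve_left fun e => h2 (h1 x₀ hx₀ e)
  have h5 : w * t = 1 := h.eq_one hz (mul_mem hw.2 htH) ⟨mul_mem hw.1 ht, fun x hx => by
    rcases dich x hx t ht with e | e
    · rw [← mul_assoc, h1 x hx e, mul_assoc, e, mul_assoc]
    · have h6 := h1 (x * x₀) (mul_mem hx hx₀) (by
        rw [mul_assoc, h4, ← mul_assoc, ← (hzc x hx).eq, mul_assoc, ← mul_assoc x, e,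
          ← mul_assoc, ← mul_assoc, h.mul_self, one_mul, mul_assoc])
      have h7 : x * w = z * (w * x) := by
        rw [mul_assoc, h3, ← mul_assoc x, ← (hzc x hx).eq] at h6
        apply mul_right_cancel (b := x₀)
        rw [mul_assoc z, mul_assoc w, ← h6, ← mul_assoc z, ← mul_assoc z, h.mul_self, one_mul,
          mul_assoc]
      rw [← mul_assoc, h7, mul_assoc, mul_assoc, e, ← mul_assoc w, ← (hzc w hw.1).eq,
        mul_assoc z w, ← mul_assoc z z, h.mul_self, one_mul, mul_assoc]⟩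
  rw [eq_inv_of_mul_eq_one_left h5]
  exact inv_mem (mem_zpowers t)

theorem index_two (h : Crit A t C) (hz : z ∈ centralizer ({t} : Set G)) {u v : G} (hu : u ∈ C)
    (hv : v ∈ C) (hu' : u⁻¹ * (z * u * z⁻¹) ∈ centralizer (C : Set G))
    (hv' : v⁻¹ * (z * v * z⁻¹) ∈ centralizer (C : Set G)) :
    ∃ w ∈ ({u, v, u * v} : Set G), ∃ y ∈ C ⊓ centralizer (C : Set G), w * y⁻¹ ∈
      centralizer ({z} : Set G) := by
  let K : Subgroup G :=
    { carrier := {u | u ∈ C ∧ u⁻¹ * (z * u * z⁻¹) ∈ centralizer (C : Set G)}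
      one_mem' := ⟨one_mem _, by simp⟩
      mul_mem' := fun {a b} ha hb => ⟨mul_mem ha.1 hb.1, by
        have : (a * b)⁻¹ * (z * (a * b) * z⁻¹) =
          (b⁻¹ * (a⁻¹ * (z * a * z⁻¹))) * (z * b * z⁻¹) := by group
        rw [this, ha.2 b⁻¹ (inv_mem hb.1), mul_assoc]
        exact mul_mem ha.2 hb.2⟩
      inv_mem' := fun {a} ha => ⟨inv_mem ha.1, by
        have : a⁻¹⁻¹ * (z * a⁻¹ * z⁻¹) = (a * (a⁻¹ * (z * a * z⁻¹))⁻¹) * a⁻¹ := by group
        rw [this, (centralizer (C : Set G)).inv_mem ha.2 a ha.1, mul_inv_cancel_right]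
        exact (centralizer (C : Set G)).inv_mem ha.2⟩ }
  let φ : K →* G := MonoidHom.mk' (fun a => (a : G)⁻¹ * (z * a * z⁻¹)) fun a b => by
    have : ((a * b : K) : G)⁻¹ * (z * (a * b : K) * z⁻¹) =
      ((b : G)⁻¹ * ((a : G)⁻¹ * (z * a * z⁻¹))) * (z * b * z⁻¹) := by push_cast; group
    rw [this, a.2.2 _ (inv_mem b.2.1), mul_assoc]
  have hr : φ.range ≤ C ⊓ centralizer (C : Set G) := by
    rintro _ ⟨a, rfl⟩
    exact ⟨mul_mem (C.inv_mem a.2.1) (conj_mem_of_mem_normalizer (h.norm hz) a.2.1), a.2.2⟩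
  have hcyc : IsCyclic (C ⊓ centralizer (C : Set G) : Subgroup G) :=
    (PG.isCyclic_iff_card_omegaOne_le (h.two.to_le inf_le_left) (comm_center C)).2
      ((card_le_of_le (h.omega_le inf_le_left (comm_center C) (h.le.trans h.norm_center))).trans
        (by rw [Nat.card_zpowers, h.ord]))
  have : IsCyclic φ.range := isCyclic_of_injective (inclusion hr) (inclusion_injective hr)
  obtain ⟨⟨_, g, rfl⟩, hg⟩ := IsCyclic.exists_generator (α := φ.range)
  have key : ∀ a : K, ∃ m : ℤ, φ a = φ g ^ m := fun a => by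
    obtain ⟨m, hm⟩ := mem_zpowers_iff.1 (hg ⟨φ a, a, rfl⟩)
    exact ⟨m, by simpa using (congrArg Subtype.val hm).symm⟩
  have fin : ∀ (a : K) (k : ℤ), φ a = φ g ^ (2 * k) → ∃ y ∈ C ⊓ centralizer (C : Set G),
      (a : G) * y⁻¹ ∈ centralizer ({z} : Set G) := fun a k e => by
    refine ⟨((g ^ k) ^ 2 : K), ⟨((g ^ k) ^ 2).2.1, h.sq _ (g ^ k).2.1⟩, ?_⟩
    have h1 : φ (a * ((g ^ k) ^ 2)⁻¹) = 1 := by
      rw [map_mul, map_inv, map_pow, map_zpow, e, mul_comm, zpow_mul, zpow_ofNat, mul_inv_cancel]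
    have h2 : ((a * ((g ^ k) ^ 2)⁻¹ : K) : G)⁻¹ * (z * (a * ((g ^ k) ^ 2)⁻¹ : K) * z⁻¹) = 1 := h1
    rw [inv_mul_eq_one, eq_mul_inv_iff_mul_eq] at h2
    exact mem_centralizer_singleton_iff.2 h2
  obtain ⟨m, hm⟩ := key ⟨u, hu, hu'⟩
  obtain ⟨n, hn⟩ := key ⟨v, hv, hv'⟩
  rcases Int.even_or_odd' m with ⟨k, rfl | rfl⟩
  · exact ⟨u, by simp, fin _ k hm⟩
  rcases Int.even_or_odd' n with ⟨l, rfl | rfl⟩
  · exact ⟨v, by simp, fin _ l hn⟩
  exact ⟨u * v, by simp, fin (⟨u, hu, hu'⟩ * ⟨v, hv, hv'⟩) (k + l + 1)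
    (by rw [map_mul, hm, hn, ← zpow_add]; congr 1; ring)⟩

theorem sym (hp2 : p ≠ 2) (h : Crit A z C) (h' : Crit A' t C') (hA' : IsPGroup p A') (ht : t ∈ C)
    (hzA : z ∈ normalizer (A' : Set G)) (hn : ¬ A' ≤ centralizer ({z} : Set G)) {i j : G}
    (hi : i ∈ C ⊓ centralizer ({t} : Set G)) (hj : j ∈ C ⊓ centralizer ({t} : Set G))
    (hi2 : i * i = z) (hj2 : j * j = z) (hij : (i * j) * (i * j) = z) : False := by
  set Z := C' ⊓ centralizer (C' : Set G) with hZ
  have hzt : z ∈ centralizer ({t} : Set G) := hi2 ▸ mul_mem hi.2 hi.2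
  have : (Z.subgroupOf C').Normal :=
    normal_subgroupOf_of_le_normalizer (h'.cen.trans h'.norm_center)
  let ψ : centralizer ({t} : Set G) →* MulAut (C' ⧸ Z.subgroupOf C') :=
    CopAct.quotHom (CopAct.conjHom h'.norm) (Z.subgroupOf C')
      (CopAct.actInv_conjHom_subgroupOf h'.norm h'.norm_center)
  have hker : ∀ g : centralizer ({t} : Set G), ψ g = 1 ↔
      ∀ k ∈ C', k⁻¹ * (g * k * (g : G)⁻¹) ∈ Z := fun g =>
    (CopAct.mem_ker_quotHom (a := g)).trans ⟨fun hk k hk' => hk ⟨k, hk'⟩, fun hk k => hk k k.2⟩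
  have hψz : ψ ⟨z, hzt⟩ ≠ 1 := fun e => hn fun a ha => by
    have hg : a * (z * a⁻¹ * z⁻¹) ∈ A' := mul_mem ha (conj_mem_of_mem_normalizer hzA (inv_mem ha))
    have h1 : ψ (⟨a, h'.le ha⟩ * (⟨z, hzt⟩ * ⟨a, h'.le ha⟩⁻¹ * ⟨z, hzt⟩⁻¹)) = 1 := by simp [e]
    have hzp : zpowers (a * (z * a⁻¹ * z⁻¹)) ≤ A' := Subgroup.zpowers_le.2 hg
    have h2 := CopAct.le_centralizer_of_commutator_le (K := C') (N := Z)
      (cop hp2 (hA'.to_le hzp) (h'.two.to_le inf_le_left))
      (by
        rw [commutator_le]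
        rintro k hk g hg'
        have h3 : ψ ⟨g, h'.le (hzp hg')⟩ = 1 := by
          obtain ⟨n, rfl⟩ := mem_zpowers_iff.1 hg'
          rw [← one_zpow n, ← h1, ← map_zpow]; rfl
        simpa [commutatorElement_def, mul_assoc] using (hker _).1 h3 k⁻¹ (inv_mem hk))
      (hzp.trans (h'.le_centralizer hp2 hA' inf_le_left (comm_center C')
        (h'.le.trans h'.norm_center)))
    have h4 : a * (z * a⁻¹ * z⁻¹) = 1 := h'.faith.le ⟨hg, h2 (mem_zpowers _)⟩
    refine mem_centralizer_singleton_iff.2 ?_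
    calc a * z = a * (z * a⁻¹ * z⁻¹) * (z * a) := by group
      _ = z * a := by rw [h4, one_mul]
  have hzC : z ∉ C' := fun hz => hψz ((hker _).2 fun k hk => by
    simpa [commutatorElement_def, mul_assoc, hZ] using h'.zpowers_le (h'.comm _ (inv_mem hk) z hz))
  have hle := h.inf_le ht hzC h'.mem (inf_le_right.trans h'.norm)
  let : CommGroup (C' ⧸ Z.subgroupOf C') := { (inferInstance : Group _) with
    mul_comm := by
      rintro ⟨a⟩ ⟨b⟩
      refine QuotientGroup.eq.2 ?_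
      simpa [commutatorElement_def, mul_assoc, mem_subgroupOf, hZ] using
        (h'.zpowers_le (h'.comm _ (inv_mem b.2) _ (inv_mem a.2))).2 }
  have hfix : ∀ x : G, ∀ hx : x ∈ C ⊓ centralizer ({t} : Set G),
      ∀ y ∈ ((centralizer ({z} : Set G)).subgroupOf C').map (QuotientGroup.mk' (Z.subgroupOf C')),
      ψ ⟨x, hx.2⟩ y = y := by
    rintro x hx _ ⟨k, hk, rfl⟩
    refine (QuotientGroup.eq (a := k) (b := CopAct.conjHom h'.norm ⟨x, hx.2⟩ k)).2
      (h'.zpowers_le (hle ⟨?_, ?_⟩)) |>.symm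
    · have := mul_mem (conj_mem_of_mem_normalizer (h.norm (inv_mem hk)) hx.1) (inv_mem hx.1)
      simpa [mul_assoc, CopAct.coe_conjHom_apply] using this
    · exact (k⁻¹ * CopAct.conjHom h'.norm ⟨x, hx.2⟩ k).2
  refine quat_aux (a := ψ ⟨i, hi.2⟩) (b := ψ ⟨j, hj.2⟩) (c := ψ ⟨z, hzt⟩) ?_
    (by rw [← map_mul]; congr 1; exact Subtype.ext hi2)
    (by rw [← map_mul]; congr 1; exact Subtype.ext hj2)
    (by rw [← map_mul, ← map_mul]; congr 1; exact Subtype.ext hij)
    (by rw [← map_mul, ← map_one ψ]; congr 1; exact Subtype.ext h.mul_self) hψz _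
    (hfix i hi) (hfix j hj) ?_
  · rintro ⟨a⟩
    exact (QuotientGroup.eq_one_iff (a * a)).2
      ⟨(a * a).2, by simpa [_root_.sq] using h'.sq a a.2⟩
  rintro ⟨u⟩ ⟨v⟩ hu hv hu' hv'
  obtain ⟨w, hw, y, hy, hwy⟩ := h'.index_two hzt u.2 v.2 (QuotientGroup.eq.1 hu.symm).2
    (QuotientGroup.eq.1 hv.symm).2
  have key : ∀ k : C', (k : G) = w → (k : C' ⧸ Z.subgroupOf C') ∈
      ((centralizer ({z} : Set G)).subgroupOf C').map (QuotientGroup.mk' (Z.subgroupOf C')) :=
    fun k hk => ⟨k * ⟨y, hy.1⟩⁻¹, by rw [← hk] at hwy; exact hwy,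
      QuotientGroup.eq.2 (by simpa [mem_subgroupOf, hZ] using hy.2)⟩
  rcases hw with e | e | e
  · exact absurd (key u e.symm) hu'
  · exact absurd (key v e.symm) hv'
  · exact key (u * v) (Eq.symm e)

end Crit

end Cfsg.Agent.Loc.KM
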