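import Mathlib
import Cfsg.Agent.Loc.C2PA

/-! A swapped pair of opposite blocks whose modules have controlled normalizers. -/

set_option autoImplicit false
set_option linter.unusedSectionVars false

namespace Cfsg.Agent.Loc.C2P

open Cfsg Cfsg.Agent.GT Cfsg.Agent.Loc.Mss Cfsg.Agent.Loc.PU Cfsg.Agent.Loc.Blk
  Cfsg.Agent.Loc.GC Subgroup
open scoped commutatorElement MatrixGroups

/-- One block with `O₂(L) = V` and control over `N(V)`. -/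
structure Hf {G : Type*} [Group G] (L B V : Subgroup G) (q : ℕ) : Prop where
  b : BkE L B V q
  o : 𝐎[2, L] = V
  n : 𝐍[V] ≤ 𝐍[𝐑[2, L]]
  k : ∀ P : Subgroup G, IsPGroup 2 P → P ≤ 𝐍[V] → P ≤ cmod V 𝐙[L] → P ≤ V
  c : 𝐙[L] ≠ ⊥ → ∃ d ∈ 𝐙[L], d ≠ 1 ∧ 𝐂[zpowers d] ≤ 𝐍[V]

/-- Two opposite blocks interchanged in `N(B)`. -/
structure Cf {G : Type*} [Group G] (L L' B V W : Subgroup G) (q : ℕ) : Prop where
  lc : LC G
  h1 : Hf L B V q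
  h2 : Hf L' B W q
  sup : V ⊔ W = B
  inf : V ⊓ W = 𝐙[B]
  z : 𝐙[L] ⊓ 𝐙[L'] = ⊥
  sw : ∃ x ∈ 𝐍[B], cj(x, L) = L'

variable {G : Type*} [Group G] [Finite G]

theorem pg_zp' {B : Subgroup G} (hB : IsPGroup 2 B) {x : G} (h : x ^ 2 ∈ B) :
    IsPGroup 2 (zpowers x) := by
  obtain ⟨k, hk⟩ := pg_iff.1 hB _ h
  exact IsPGroup.of_card_dvd_pow (n := k + 1) (by
    rw [Nat.card_zpowers]
    exact orderOf_dvd_of_pow_eq_one (by rw [pow_succ', pow_mul, hk]))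

theorem exists_inv_of {B Y P : Subgroup G} {p : ℕ} [Fact p.Prime] (s : Syl 2 B Y) (yB : Y ≤ 𝐍[B])
    (hP : Syl p P Y) (k : ∀ b ∈ B, b ∈ 𝐍[P] → b = 1) {x : G} (hx : x ∈ 𝐍[B]) (xY : x ∈ 𝐍[Y])
    (x0 : x ∉ B) (x2 : x ^ 2 ∈ B) : ∃ t ∈ B ⊔ zpowers x, t ∉ B ∧ t ^ 2 = 1 := by
  have px := pg_zp' s.pg x2
  obtain ⟨m, hm, c, hc, e⟩ := hP.frattini xY
  have ec : c = m⁻¹ * x := by rw [e, inv_mul_cancel_left]
  have c2 : c ^ 2 ∈ Y := by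
    have := Y.mul_mem (Y.mul_mem (Y.inv_mem hm) (conj_mem_of_norm xY (Y.inv_mem hm))) (s.le x2)
    rwa [show m⁻¹ * (x * m⁻¹ * x⁻¹) * x ^ 2 = c ^ 2 by rw [ec, pow_two, pow_two]; group] at this
  obtain ⟨a, j, ⟨i, hj⟩, ej⟩ := Nat.exists_eq_two_pow_mul_odd (orderOf_pos c).ne'
  have cB : c ∈ 𝐍[B] := by rw [ec]; exact Subgroup.mul_mem _ (Subgroup.inv_mem _ (yB hm)) hx
  have pt : IsPGroup 2 (zpowers (c ^ j)) := IsPGroup.of_card_dvd_pow (n := a) (by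
    rw [Nat.card_zpowers]
    exact orderOf_dvd_of_pow_eq_one (by rw [← pow_mul, mul_comm, ← ej, pow_orderOf_eq_one]))
  have t0 : c ^ j ∉ Y := fun l => x0 (s.le_of_norm' px (zpowers_le.2 (by
    rw [hj, pow_succ, pow_mul, Y.mul_mem_cancel_left (Y.pow_mem c2 i)] at l
    rw [e]; exact Y.mul_mem hm l)) (zpowers_le.2 hx) (mem_zpowers x))
  have t4 : (c ^ j) ^ 2 ∈ Y := by rw [← pow_mul, mul_comm, pow_mul]; exact Y.pow_mem c2 j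
  have t5 : c ^ j ∈ zpowers x ⊔ Y := Subgroup.pow_mem _ (by
    rw [ec]
    exact Subgroup.mul_mem _ (mem_sup_right (Y.inv_mem hm)) (mem_sup_left (mem_zpowers x))) j
  have t6 := Subgroup.pow_mem _ cB j
  have t7 := Subgroup.pow_mem _ hc j
  generalize c ^ j = u at pt t0 t4 t5 t6 t7
  have t1 : u ^ 2 ∈ B := s.le_of_norm' (pt.to_le (zpowers_le.2 (npow_mem_zpowers u 2)))
    (zpowers_le.2 t4) (zpowers_le.2 (Subgroup.pow_mem _ t6 2)) (mem_zpowers _)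
  have t3 := k _ t1 (Subgroup.pow_mem _ t7 2)
  obtain ⟨g, hg, l⟩ := ((Syl.self px).sup_sup s (zpowers_le.2 xY) (zpowers_le.2 hx)).conj_le pt
    (zpowers_le.2 t5)
  have gB : g ∈ 𝐍[B] := sup_le (zpowers_le.2 hx) yB hg
  refine ⟨g * u * g⁻¹, ?_, fun l => t0 (s.le ?_), by rw [conj_pow, t3]; group⟩
  · rw [sup_comm]; exact l (conj_mem_cj (mem_zpowers _))
  · simpa [mul_assoc] using conj_mem_of_norm' gB l

namespace Hf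

variable {L B V : Subgroup G} {q : ℕ} (h : Hf L B V q)
include h

theorem cj (g : G) : Hf cj(g, L) cj(g, B) cj(g, V) q := by
  refine ⟨e_cj h.b g, by rw [← cj_core, h.o], by
    rw [← cj_norm, ← cj_res, ← cj_norm]; exact cj_mono g h.n, fun P h1 h2 h3 => ?_, fun e => ?_⟩
  · rw [← cj_norm, le_cj_iff_inv_le] at h2
    rw [← cj_Z, ← cj_cmod, le_cj_iff_inv_le] at h3
    exact le_cj_iff_inv_le.2 (h.k _ (pg_cj h1 _) h2 h3)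
  · rw [← cj_Z] at e ⊢
    obtain ⟨d, hd, d1, l⟩ := h.c fun e' => e (by rw [e', cj_bot])
    refine ⟨_, conj_mem_cj hd, by simpa using d1, ?_⟩
    rw [← cj_zp, ← cj_cent, ← cj_norm]
    exact cj_mono g l

theorem nL {s : G} (hB : s ∈ 𝐍[B]) (hV : s ∈ 𝐍[V]) : s ∈ 𝐍[L] := by
  obtain ⟨F, _, ρ, φ, b, -⟩ := h.b
  rw [← b.E_sup]
  exact norm_sup (zpowers_le.2 (h.n hV)) (zpowers_le.2 hB) (mem_zpowers s)

theorem nD : 𝐍[V] ≤ 𝐍[𝐙[L]] := by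
  rw [← e_ZL h.b]
  exact norm_inf le_rfl (norm_cent h.n)

theorem ea : EA V := by
  obtain ⟨F, _, ρ, φ, b, -⟩ := h.b
  exact b.ea

theorem le : B ≤ L := (e_syl h.b).le

theorem pg : IsPGroup 2 B := (e_syl h.b).pg

theorem mem_B {x : G} (hx : x ∈ L) (hn : x ∈ 𝐍[B]) (pg : IsPGroup 2 (zpowers x)) : x ∈ B :=
  (e_syl h.b).le_of_norm' pg (zpowers_le.2 hx) (zpowers_le.2 hn) (mem_zpowers x)

end Hf

namespace Cf

variable {L L' B V W : Subgroup G} {q : ℕ} (h : Cf L L' B V W q)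
include h

theorem symm : Cf L' L B W V q := by
  obtain ⟨x, hx, e⟩ := h.sw
  exact ⟨h.lc, h.h2, h.h1, by rw [sup_comm, h.sup], by rw [inf_comm, h.inf],
    by rw [inf_comm, h.z], x⁻¹, inv_mem hx, by rw [← e, cj_inv_cj]⟩

theorem cj (g : G) : Cf cj(g, L) cj(g, L') cj(g, B) cj(g, V) cj(g, W) q := by
  obtain ⟨x, hx, e⟩ := h.sw
  refine ⟨h.lc, h.h1.cj g, h.h2.cj g, by rw [← cj_sup, h.sup], by rw [← cj_inf, h.inf, cj_Z],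
    by rw [← cj_Z, ← cj_Z, ← cj_inf, h.z, cj_bot], g * x * g⁻¹, ?_, ?_⟩
  · rw [← cj_norm]; exact conj_mem_cj hx
  · rw [← e, cj_cj, cj_cj, inv_mul_cancel_right]

theorem bd {P : Subgroup G} (pg : IsPGroup 2 P) (h1 : B ≤ P) (h2 : P ≤ 𝐍[B]) :
    BD P B V W 𝐙[B] 𝐙[L] q ∧ 2 ^ B.relIndex (P ⊓ 𝐍[V]) ≤ q := by
  obtain ⟨F, _, ρ, φ, b, rfl⟩ := h.h1.b
  exact b.bd h.h1.o h.h2.ea h.sup h.inf pg h1 h2 (fun s hs => h.h1.nL (h2 hs.1) hs.2)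
    fun s hs e => b.V_le (h.h1.k _ (pg.to_le (zpowers_le.2 hs.1)) (zpowers_le.2 hs.2)
      (zpowers_le.2 e) (mem_zpowers s))

theorem bd0 : BD B B V W 𝐙[B] 𝐙[L] q := (h.bd h.h1.pg le_rfl le_normalizer).1

theorem nL' {s : G} (hB : s ∈ 𝐍[B]) (hV : s ∈ 𝐍[V]) : s ∈ 𝐍[L'] :=
  h.h2.nL hB ((h.bd0.norm_iff hB).1 hV)

theorem nV {s : G} (hB : s ∈ 𝐍[B]) (hL : s ∈ L') : s ∈ 𝐍[V] :=
  (h.bd0.norm_iff hB).2 (e_norm_V h.h2.b hL)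

theorem eq_one {x : G} (h1 : x ∈ 𝐙[L]) (h2 : x ∈ 𝐙[L']) : x = 1 := mem_bot.1 (h.z.le ⟨h1, h2⟩)

theorem exists_sw : ∃ x ∈ 𝐍[B], x ∉ 𝐍[V] ∧ cj(x, L) = L' := by
  obtain ⟨x, hx, e⟩ := h.sw
  exact ⟨x, hx, fun l => h.bd0.ne (by rw [← cj_of_norm l, ← h.h1.o, cj_core, e, h.h2.o]), e⟩

theorem sw_eq {a : G} (ha : a ∈ 𝐍[B]) (hV : a ∉ 𝐍[V]) : cj(a, L) = L' := by
  obtain ⟨x, hx, hx', e⟩ := h.exists_sw
  have := h.nL' (mul_mem ha (inv_mem hx))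
    (h.bd0.mul_mem_norm ha (inv_mem hx) hV fun l => hx' (inv_mem_iff.1 l))
  rw [← cj_of_norm this, ← e, cj_cj, inv_mul_cancel_right]

theorem D'_ne (hD : 𝐙[L] ≠ ⊥) : 𝐙[L'] ≠ ⊥ := by
  obtain ⟨x, -, e⟩ := h.sw
  rwa [← e, ← cj_Z, Ne, cj_eq_bot]

theorem V_ne : V ≠ ⊥ := fun e => h.bd0.not_V_le (e ▸ bot_le)

theorem cent : 𝐂[V] ≤ V := by
  obtain ⟨S, hS⟩ := Syl.exists 2 𝐍[V]
  exact cent_le_of_syl (h.lc V h.V_ne h.h1.ea.pg) hS (h.h1.k _ hS.pg.to_inf_left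
    (inf_le_left.trans hS.le) (le_cmod.2 ⟨(inf_le_left.trans hS.le).trans h.h1.nD,
      (comm_eq_bot_iff'.2 inf_le_right).trans_le bot_le⟩))

theorem card_D_le : Nat.card ↥𝐙[L] ≤ q := by
  have h1 := csup_le _ _ h.bd0.leD h.symm.bd0.leD
  rw [h.z, card_bot, h.symm.bd0.cardZ] at h1
  exact Nat.le_of_mul_le_mul_right (by omega) (cpos 𝐙[L'])

theorem D_conj {d e : G} (hd : d ∈ 𝐙[L]) (d1 : d ≠ 1) (he : e ∈ 𝐙[B]) (e1 : e ∉ 𝐙[L']) :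
    ∃ g ∈ 𝐍[V], g * d * g⁻¹ ∈ 𝐙[L] ∧ g * d * g⁻¹ * e⁻¹ ∈ 𝐙[L'] := by
  obtain ⟨g, hg, hg', l⟩ := e_trans h.h2.b (h.bd0.leD hd) (fun l => d1 (h.eq_one hd l)) he e1
  exact ⟨g, h.nV hg' hg, conj_mem_of_norm (h.h1.nD (h.nV hg' hg)) hd, l⟩

theorem cent_D {e : G} (he : e ∈ 𝐙[L]) (e1 : e ≠ 1) : 𝐂[zpowers e] ≤ 𝐍[V] := by
  obtain ⟨d, hd, d1, l⟩ := h.h1.c fun l => e1 (mem_bot.1 (l ▸ he))
  obtain ⟨g, hg, h1, h2⟩ := h.D_conj hd d1 (h.bd0.leD he) fun l => e1 (h.eq_one he l)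
  rw [← mul_inv_eq_one.1 (h.eq_one (mul_mem h1 (inv_mem he)) h2), ← cj_zp, ← cj_cent]
  exact cj_le_of_mem l hg

theorem Z_le (hD : 𝐙[L] ≠ ⊥) : 𝐙[B] ≤ 𝐙[L'] ⊔ 𝐙[L] := fun z hz => by
  by_cases e : z ∈ 𝐙[L']
  · exact mem_sup_left e
  obtain ⟨⟨d, hd⟩, d1⟩ := ne_bot_iff_exists_ne_one.1 hD
  obtain ⟨g, -, h1, h2⟩ := h.D_conj hd (fun l => d1 (Subtype.ext l)) hz e
  have := mul_mem_sup (inv_mem h2) h1
  rwa [mul_inv_rev, inv_inv, inv_mul_cancel_right] at this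

theorem card_D (hD : 𝐙[L] ≠ ⊥) : Nat.card ↥𝐙[L] = q := by
  have h1 := csup (H := 𝐙[L']) (K := 𝐙[L]) (norm_of_cent
    (h.symm.bd0.leD.trans (h.bd0.eaZ.ab.trans (cent_anti h.bd0.leD))))
  rw [h.symm.z, card_bot, le_antisymm (sup_le h.symm.bd0.leD h.bd0.leD) (h.Z_le hD),
    h.symm.bd0.cardZ] at h1
  exact Nat.eq_of_mul_eq_mul_right (cpos 𝐙[L']) (by linarith)

section big
variable (hq : 2 < q)
include hq

theorem ea_eq {P A : Subgroup G} (pg : IsPGroup 2 P) (h1 : B ≤ P) (h2 : P ≤ 𝐍[B]) (hA : EA A)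
    (hP : A ≤ P) (hc : Nat.card V ≤ Nat.card A) : A = V ∨ A = W :=
  h.bd0.ea_eq' hA (by_contra fun l => hq.ne' ((h.bd pg h1 h2).1.two_of_ea hA hP hc l).1) hc

theorem wc0 {P : Subgroup G} (pg : IsPGroup 2 P) (h1 : B ≤ P) (h2 : P ≤ 𝐍[B]) {g : G}
    (hg : cj(g, B) ≤ P) : g ∈ 𝐍[B] := by
  have k : ∀ A, EA A → A ≤ B → Nat.card V ≤ Nat.card A → cj(g, A) ≤ B := fun A a b c => by
    rcases h.ea_eq hq pg h1 h2 (a.cj g) ((cj_mono g b).trans hg) (c.trans (card_cj _ _).ge) with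
      e | e <;> rw [e]
    exacts [h.bd0.V_le, h.bd0.W_le]
  refine Mss.mem_norm_of_cj_le ?_
  nth_rw 1 [← h.sup]
  rw [cj_sup]
  exact sup_le (k V h.h1.ea h.bd0.V_le le_rfl) (k W h.h2.ea h.bd0.W_le h.bd0.cardWV.ge)

theorem norm_of_pg {P : Subgroup G} (pg : IsPGroup 2 P) (h1 : B ≤ P) : P ≤ 𝐍[B] := by
  by_contra hn
  obtain ⟨g, hg, hg1, hg2⟩ := Inv.exists_mem_normalizer_of_lt pg
    (inf_le_left : P ⊓ 𝐍[B] ≤ P) fun l => hn (l.trans inf_le_right)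
  have l := le_inf h1 (le_normalizer : B ≤ 𝐍[B])
  exact hg1 ⟨hg, h.wc0 hq pg.to_inf_left l inf_le_right (cj_le_of_norm l hg2)⟩

theorem wc {g : G} (hg : cj(g, B) ≤ 𝐍[B]) : g ∈ 𝐍[B] :=
  h.wc0 hq (pg_sup (pg_cj h.h1.pg g) h.h1.pg hg) le_sup_right (sup_le hg le_normalizer) le_sup_left

variable {T : Subgroup G} (hT : Syl 2 T ⊤) (hB : B ≤ T)
include hT hB

theorem bdT : BD T B V W 𝐙[B] 𝐙[L] q := (h.bd hT.pg hB (h.norm_of_pg hq hT.pg hB)).1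

theorem sylS : Syl 2 (T ⊓ 𝐍[V]) 𝐍[V] := by
  have b := h.bdT hq hT hB
  have h1 := (hT.mono b.norm le_top).inf b.norm_B fun t ht => cj_eq_iff.1 (by
    rw [cj_inf, cj_norm, cj_norm]
    rcases b.cj_or (b.norm ht) with ⟨a, b⟩ | ⟨a, b⟩ <;> rw [a, b]
    exact inf_comm _ _)
  refine Syl.of_maximal hT.pg.to_inf_left inf_le_right fun P pg h2 h3 => ?_
  have h4 := h.norm_of_pg hq pg ((le_inf hB b.norm_V).trans h2)
  exact (h1.ge_of_le pg ((inf_le_inf_left T inf_le_left).trans h2)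
    (le_inf h3 fun s hs => (b.norm_iff (h4 hs)).1 (h3 hs))).trans (inf_le_inf_left T inf_le_left)

theorem exists_swT : ∃ a ∈ T, a ∉ 𝐍[V] := by
  have b := h.bdT hq hT hB
  obtain ⟨x, hx, hx', -⟩ := h.exists_sw
  refine SetLike.not_le_iff_exists.1 fun l => hx' ((hT.mono b.norm le_top).le_of_res_le
    (res_le_of_pow fun y hy => ⟨1, ?_⟩) l hx)
  rw [pow_one, pow_two]
  by_cases e : y ∈ 𝐍[V]
  exacts [mul_mem e e, b.mul_mem_norm hy hy e e]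

omit hT hB in
/-- Every coset `x B` of order two contains an involution. -/
theorem exists_inv {x : G} (hx : x ∈ 𝐍[B]) (x0 : x ∉ B) (x2 : x ^ 2 ∈ B) :
    ∃ t ∈ B ⊔ zpowers x, t ∉ B ∧ t ^ 2 = 1 := by
  have n1 : L' ⊓ 𝐍[B] ≤ 𝐍[L ⊓ 𝐍[B]] :=
    norm_inf (fun s hs => h.h1.nL hs.2 (h.nV hs.2 hs.1)) (norm_of_le inf_le_right)
  have n2 : L ⊓ 𝐍[B] ≤ 𝐍[L' ⊓ 𝐍[B]] :=
    norm_inf (fun s hs => h.h2.nL hs.2 (h.symm.nV hs.2 hs.1)) (norm_of_le inf_le_right)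
  have s1 := (e_syl h.h1.b).mono (le_inf h.h1.le le_normalizer) (inf_le_left : L ⊓ 𝐍[B] ≤ L)
  have s2 := (e_syl h.h2.b).mono (le_inf h.h2.le le_normalizer) (inf_le_left : L' ⊓ 𝐍[B] ≤ L')
  have s := s2.sup_sup s1 n1 le_normalizer
  rw [sup_idem] at s
  set Y := L' ⊓ 𝐍[B] ⊔ L ⊓ 𝐍[B] with hY
  have yB : Y ≤ 𝐍[B] := sup_le inf_le_right inf_le_right
  have xY : x ∈ 𝐍[Y] := cj_eq_iff.1 (by
    rw [hY, cj_sup, cj_inf, cj_inf, cj_of_mem hx]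
    by_cases e : x ∈ 𝐍[V]
    · rw [cj_of_norm (h.h1.nL hx e), cj_of_norm (h.nL' hx e)]
    · rw [h.sw_eq hx e, h.symm.sw_eq hx fun l => e ((h.bd0.norm_iff hx).2 l), sup_comm])
  obtain ⟨p, hp, hd⟩ := Nat.exists_prime_and_dvd (n := B.relIndex (L ⊓ 𝐍[B])) fun e => by
    obtain ⟨g, h1, h2, h3⟩ := e_exists_tor h.h1.b hq
    exact h3 (relIndex_eq_one.1 e ⟨h1, h2⟩)
  have := Fact.mk hp
  have p2 : p ≠ 2 := fun e => s1.nd (e ▸ hd)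
  have d1 : p ∣ Nat.card ↥(L ⊓ 𝐍[B]) := hd.trans (relIndex_dvd_card _ _)
  have d2 : p ∣ Nat.card ↥(L' ⊓ 𝐍[B]) := by
    obtain ⟨y, hy, e⟩ := h.sw
    rwa [← e, ← cj_of_mem hy, ← cj_inf, card_cj]
  obtain ⟨P, hP⟩ := Syl.exists p Y
  have dj : ∀ y ∈ P, y ∈ B → y = 1 := fun y a b =>
    mem_bot.1 ((IsPGroup.disjoint_of_ne p 2 p2 P B hP.pg h.h1.pg).le_bot ⟨a, b⟩)
  have k : ∀ {L L' V W : Subgroup G}, Cf L L' B V W q → L ⊓ 𝐍[B] ≤ Y → Y ≤ 𝐍[L ⊓ 𝐍[B]] →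
      p ∣ Nat.card ↥(L ⊓ 𝐍[B]) → ∀ b ∈ B, b ∈ 𝐍[P] → b ∈ 𝐙[L] := fun h l n d b hb hb' => by
    obtain ⟨⟨g, hg⟩, g1⟩ := ne_bot_iff_exists_ne_one.1 fun e =>
      (Nat.Prime.coprime_iff_not_dvd hp).1 ((hP.inf l (hP.le.trans n)).eq_bot_iff.1 e).symm d
    obtain ⟨a1, a2, a3⟩ := e_tor h.h1.b hg.2.1 hg.2.2 fun l => g1 (Subtype.ext (dj g hg.1 l))
    have e : ⁅g, b⁆ = 1 := dj _ (comm_mem_of_norm' hb' hg.1) (comm_mem_of_norm hg.2.2 hb)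
    exact a1 b (a2 b (h.h1.o ▸ a3 b hb (e ▸ one_mem _)) (e ▸ one_mem _)) (e ▸ one_mem _)
  have k1 := k h le_sup_right (sup_le n1 le_normalizer) d1
  have k2 := k h.symm le_sup_left (sup_le le_normalizer n2) d2
  exact exists_inv_of s yB hP (fun b h1 h2 => h.eq_one (k1 b h1 h2) (k2 b h1 h2)) hx xY x0 x2

end big

section field
variable {t : G} (tB : t ∈ 𝐍[B]) (tV : t ∈ 𝐍[V]) (t0 : t ∉ B) (t2 : t ^ 2 = 1)
include tB tV t0 t2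

theorem fixX : Nat.card ↥(𝐙[B] ⊓ cmod (zpowers t) 𝐙[L]) ^ 2 ≤ q * Nat.card ↥𝐙[L] ^ 2 :=
  e_fix h.h1.b (h.h1.nL tB tV) tB fun l => t0 ((h.bd (pg_sup' h.h1.pg (pg_zp t2) (zpowers_le.2 tB))
    le_sup_left (sup_le le_normalizer (zpowers_le.2 tB))).1.ker t
    ⟨mem_sup_right (mem_zpowers t), tV⟩ fun _ hz => comm_swap.1 ((l hz).2 t (mem_zpowers t)))

theorem fix_le : 𝐙[B] ⊓ 𝐂[zpowers t] ≤ 𝐙[B] ⊓ cmod (zpowers t) 𝐙[L] := fun z hz =>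
  ⟨hz.1, norm_Z (h.h1.le.trans le_normalizer) hz.1.1, fun s hs => by
    rw [comm_eq_one.2 (mem_cent.1 hz.2 s hs)]; exact one_mem _⟩

theorem fixY : Nat.card ↥(𝐙[B] ⊓ 𝐂[zpowers t]) ≤ q := by
  have tW := (h.bd0.norm_iff tB).1 tV
  have a1 := h.fixX tB tV t0 t2
  have a2 := h.symm.fixX tB tW t0 t2
  have a3 := csup_le _ _ (h.fix_le tB tV t0 t2)
    (le_inf h.bd0.leD (le_cmod_self (zpowers_le.2 (h.h1.nD tV))))
  have a4 := csup_le (𝐙[B] ⊓ 𝐂[zpowers t] ⊓ 𝐙[L]) _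
    (inf_le_left.trans (h.symm.fix_le tB tW t0 t2))
    (le_inf h.symm.bd0.leD (le_cmod_self (zpowers_le.2 (h.h2.nD tW))))
  rw [inf_assoc _ 𝐙[L], h.z, inf_bot_eq, card_bot, mul_one] at a4
  have p1 := cpos 𝐙[L]
  have p2 := cpos 𝐙[L']
  generalize Nat.card ↥(𝐙[B] ⊓ cmod (zpowers t) 𝐙[L]) = x at *
  generalize Nat.card ↥(𝐙[B] ⊓ cmod (zpowers t) 𝐙[L']) = x' at *
  generalize Nat.card ↥(𝐙[B] ⊓ 𝐂[zpowers t] ⊓ 𝐙[L]) = u at *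
  generalize Nat.card ↥(𝐙[B] ⊓ 𝐂[zpowers t]) = y at *
  generalize Nat.card ↥𝐙[L] = d at *
  generalize Nat.card ↥𝐙[L'] = d' at *
  have b1 : y * (d * d') ≤ x * x' := by
    calc _ = y * d * d' := by ring
      _ ≤ x * u * d' := Nat.mul_le_mul_right _ a3
      _ = x * (u * d') := by ring
      _ ≤ _ := Nat.mul_le_mul_left _ a4
  have b2 : (y * (d * d')) ^ 2 ≤ (q * (d * d')) ^ 2 := by
    calc _ ≤ (x * x') ^ 2 := Nat.pow_le_pow_left b1 2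
      _ = x ^ 2 * x' ^ 2 := by ring
      _ ≤ q * d ^ 2 * (q * d' ^ 2) := Nat.mul_le_mul a1 a2
      _ = _ := by ring
  exact Nat.le_of_mul_le_mul_right ((Nat.pow_le_pow_iff_left two_ne_zero).1 b2) (Nat.mul_pos p1 p2)

omit h tB tV t0 in
theorem sq_fix {X Y : Subgroup G} (hX : EA X) (hY : Y ≤ X) (h1 : t ∈ 𝐍[X]) (h2 : t ∈ 𝐍[Y]) :
    Nat.card X * Nat.card Y ≤ Nat.card ↥(X ⊓ cmod (zpowers t) Y) ^ 2 :=
  card_le_sq_fix hY (hX.comm_le _) (fun x hx => (hX.sq x hx).symm ▸ one_mem _) h1 h2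
    fun x _ => by rw [t2, commutatorElement_one_left]; exact one_mem _

omit h tB tV t0 in
theorem sq_fix0 {X : Subgroup G} (hX : EA X) (h1 : t ∈ 𝐍[X]) :
    Nat.card X ≤ Nat.card ↥(X ⊓ 𝐂[zpowers t]) ^ 2 := by
  have := sq_fix t2 hX bot_le h1 (norm_normal ⊤ ⊥ (mem_top t))
  rwa [card_bot, mul_one, GC.cmod_bot] at this

theorem fixW : ∃ w ∈ W, w ∉ 𝐙[B] ∧ w ∈ 𝐂[zpowers t] := by
  by_contra hn
  push Not at hn
  have a1 := sq_fix0 t2 h.h2.ea ((h.bd0.norm_iff tB).1 tV)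
  have a2 := cle (X := W ⊓ 𝐂[zpowers t]) (Y := 𝐙[B] ⊓ 𝐂[zpowers t]) fun w hw =>
    ⟨by_contra fun l => hn w hw.1 l hw.2, hw.2⟩
  have a3 := a1.trans (Nat.pow_le_pow_left a2 2)
  have a4 := h.fixY tB tV t0 t2
  have a5 := (Nat.pow_le_pow_left (cle (h.fix_le tB tV t0 t2)) 2).trans (h.fixX tB tV t0 t2)
  have a6 := h.bd0.one_lt
  have a7 := cpos 𝐙[L]
  rw [h.bd0.cardW, h.bd0.cardZ] at a3
  have a8 : Nat.card ↥𝐙[L] = 1 := by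
    have := a3.trans (Nat.pow_le_pow_left a4 2)
    nlinarith [Nat.mul_pos a7 a7, Nat.mul_pos (one_pos.trans a6) (one_pos.trans a6)]
  rw [a8] at a3 a5
  nlinarith

theorem exists_l : ∃ l ∈ L, l ∉ 𝐍[B] ∧ t ∈ 𝐍[cj(l, B)] := by
  have a1 := sq_fix t2 h.h1.ea (h.bd0.leD.trans h.bd0.Z_le_V) tV (h.h1.nD tV)
  obtain ⟨v, hv, hv'⟩ := SetLike.not_le_iff_exists.1
    fun l : V ⊓ cmod (zpowers t) 𝐙[L] ≤ 𝐙[B] => by
      have a2 := a1.trans ((Nat.pow_le_pow_left (cle (le_inf l inf_le_right)) 2).trans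
        (h.fixX tB tV t0 t2))
      have a6 := h.bd0.one_lt
      have a7 := cpos 𝐙[L]
      rw [h.bd0.cardV, h.bd0.cardZ] at a2
      nlinarith [Nat.mul_pos (one_pos.trans a6) (Nat.mul_pos a7 a7)]
  obtain ⟨g, hg, e⟩ := e_conj h.h1.b hv.1
  have tL := h.h1.nL tB tV
  refine ⟨g⁻¹, inv_mem hg, fun l => hv' ?_, ?_⟩
  · simpa [mul_assoc] using conj_mem_of_norm (norm_Z le_rfl l) e
  have m : g * (t * g⁻¹ * t⁻¹) ∈ L := mul_mem hg (conj_mem_of_norm tL (inv_mem hg))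
  have n : g * (t * g⁻¹ * t⁻¹) ∈ 𝐍[B] := by_contra fun l => hv' (h.bd0.leD (by
    have c := hv.2.2 t (mem_zpowers t)
    have c1 := conj_mem_of_norm (norm_Z le_normalizer hg) c
    have := e_ZZ h.h1.b m l (mul_mem (h.bd0.leD c1) e) (mem_cj.2 (by
      convert conj_mem_of_norm (norm_Z le_rfl tB) e using 1
      rw [commutatorElement_def]; group))
    simpa [mul_assoc] using conj_mem_of_norm' (norm_Z le_normalizer hg)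
      ((mul_mem_cancel_left c1).1 this)))
  refine cj_eq_iff.1 ?_
  rw [cj_cj, show t * g⁻¹ = g⁻¹ * (g * (t * g⁻¹ * t⁻¹) * t) by group, ← cj_cj,
    cj_of_norm (mul_mem n tB)]

theorem exists_out : ∃ w ∈ L, w ∉ 𝐍[B] ∧ w ∈ 𝐂[zpowers t] := by
  obtain ⟨l, hl, l0, l1⟩ := h.exists_l tB tV t0 t2
  have h' := h.cj l
  rw [cj_of_mem hl, cj_of_norm (e_norm_V h.h1.b hl)] at h'
  obtain ⟨w, hw, w0, w1⟩ := h'.fixW l1 tV
    (fun e => t0 (h.h1.mem_B (h'.h1.le e) tB (pg_zp t2))) t2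
  have m := h'.bd0.W_le hw
  exact ⟨w, h'.h1.le m, fun n => w0 (h'.bd0.mem_Z (h.h1.o ▸ e_ti h.h1.b hl l0
    (h.h1.mem_B (h'.h1.le m) n (pg_zp (h'.h2.ea.sq w hw))) m) hw), w1⟩

theorem core_B : 𝐎[2, 𝐂[zpowers t]] ⊓ L ≤ B := by
  obtain ⟨w, hw, w0, w1⟩ := h.fixW tB tV t0 t2
  have wB := h.bd0.W_le hw
  obtain ⟨g, hg, l⟩ := (e_syl h.h1.b).le_conj (pg_sup' (pg_core _).to_inf_left
    (pg_zp (h.h2.ea.sq w hw)) (norm_inf (zpowers_le.2 (le_norm_core _ w1))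
      (norm_of_le (zpowers_le.2 (h.h1.le wB)))))
    (sup_le inf_le_right (zpowers_le.2 (h.h1.le wB)))
  have : g ∈ 𝐍[B] := by_contra fun n => w0 (h.bd0.mem_Z (h.h1.o ▸ e_ti h.h1.b hg n wB
    (l (mem_sup_right (mem_zpowers w)))) hw)
  exact le_sup_left.trans (l.trans (cj_of_norm this).le)

theorem core_V : 𝐎[2, 𝐂[zpowers t]] ⊓ L ≤ V := fun y hy => by
  obtain ⟨w, hw, w0, w1⟩ := h.exists_out tB tV t0 t2
  have c := h.core_B tB tV t0 t2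
  exact h.h1.o ▸ e_ti h.h1.b hw w0 (c hy) (mem_cj.2 (c ⟨conj_mem_of_norm' (le_norm_core _ w1) hy.1,
    L.mul_mem (L.mul_mem (L.inv_mem hw) hy.2) hw⟩))

theorem core_Z : 𝐎[2, 𝐂[zpowers t]] ⊓ B ≤ 𝐙[B] := fun _ hy =>
  h.bd0.mem_Z (h.core_V tB tV t0 t2 ⟨hy.1, h.h1.le hy.2⟩)
    (h.symm.core_V tB ((h.bd0.norm_iff tB).1 tV) t0 t2 ⟨hy.1, h.h2.le hy.2⟩)

theorem core_D : 𝐎[2, 𝐂[zpowers t]] ⊓ B ≤ 𝐙[L] := fun y hy => by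
  obtain ⟨w, hw, w0, w1⟩ := h.exists_out tB tV t0 t2
  have c := h.core_Z tB tV t0 t2
  have m := conj_mem_of_norm' (le_norm_core (p := 2) _ w1) hy.1
  exact e_ZZ h.h1.b hw w0 (c hy) (mem_cj.2 (c ⟨m, h.core_B tB tV t0 t2
    ⟨m, L.mul_mem (L.mul_mem (L.inv_mem hw) (h.h1.le hy.2)) hw⟩⟩))

theorem core : 𝐎[2, 𝐂[zpowers t]] ⊓ B = ⊥ :=
  eq_bot_iff.2 ((le_inf (h.core_D tB tV t0 t2)
    (h.symm.core_D tB ((h.bd0.norm_iff tB).1 tV) t0 t2)).trans h.z.le)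

end field

/-- If `O₂(C(t))` normalizes `B` it meets `B`. -/
theorem core_ne {t : G} (tB : t ∈ 𝐍[B]) (t1 : t ≠ 1) (t2 : t ^ 2 = 1)
    (hn : 𝐎[2, 𝐂[zpowers t]] ≤ 𝐍[B]) : 𝐎[2, 𝐂[zpowers t]] ⊓ B ≠ ⊥ := fun e => by
  have c : B ⊓ 𝐂[zpowers t] ≤ 𝐂[𝐎[2, 𝐂[zpowers t]]] := comm_eq_bot_iff'.1 (eq_bot_iff.2
    ((le_inf (comm_le_left (inf_le_right.trans (le_norm_core _)))
      ((commutator_mono le_rfl inf_le_left).trans (comm_le_right hn))).trans e.le))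
  have c1 := (le_inf ((chP_cent h.lc t2 t1).le_core inf_le_right c) inf_le_left).trans e.le
  have c2 := sq_fix0 t2 h.bd0.eaZ (norm_Z le_rfl tB)
  rw [le_bot_iff.1 ((inf_le_inf_right _ inf_le_left).trans c1), card_bot] at c2
  exact h.bd0.Z_ne_bot (card_eq_one.1 (le_antisymm c2 (cpos _)))

end Cf

end Cfsg.Agent.Loc.C2P
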