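import Mathlib
import Cfsg.Agent.Loc.C2PB
import Cfsg.Agent.Loc.C2TC
import Cfsg.Agent.GT.ThompsonFusionZJ
import Cfsg.Agent.S1232
import Cfsg.Agent.S0501

/-! A swapped pair of opposite blocks forces sectional rank at most four. -/

set_option autoImplicit false
set_option linter.unusedSectionVars false

namespace Cfsg.Agent.Loc.C2P

open Cfsg Cfsg.Agent.GT Cfsg.Agent.Loc.Mss Cfsg.Agent.Loc.PU Cfsg.Agent.Loc.Blk
  Cfsg.Agent.Loc.GC Subgroup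
open scoped commutatorElement MatrixGroups

variable {G : Type*} [Group G] [Finite G]

theorem sq_step {C V : Subgroup G} (hC : IsPGroup 2 C) (h : ¬ C ≤ V) :
    ∃ d ∈ C, d ∉ V ∧ d ^ 2 ∈ V := by
  by_contra hn
  push Not at hn
  refine h fun x hx => by_contra fun l => ?_
  obtain ⟨k, hk⟩ := pg_iff.1 hC x hx
  have : ∀ n, x ^ 2 ^ n ∉ V := fun n => by
    induction n with
    | zero => simpa using l
    | succ n ih => rw [pow_succ, pow_mul]; exact hn _ (pow_mem hx _) ih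
  exact this k (hk ▸ one_mem V)

theorem sec_of_eight {T V : Subgroup G} (hT : IsPGroup 2 T) (l : V ≤ T) (hV : EA V)
    (hc : 𝐂[V] ≤ V) (h8 : Nat.card V = 8) : SectionalPRankLE 2 4 T :=
  S1232.result hT (V.subgroupOf T)
    (ea_iff.1 ⟨fun _ hx => mem_cent.2 fun _ hy => Subtype.ext (hV.mul_comm hy hx),
      fun v hv => Subtype.ext (hV.sq v hv)⟩)
    (by rw [← h8]; exact Nat.card_congr (subgroupOfEquivOfLe l).toEquiv)
    (by rw [cent_subgroupOf l, le_antisymm hc hV.ab])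

theorem sec_of_four {T V : Subgroup G} (hT : IsPGroup 2 T) (l : V ≤ T) (hV : EA V)
    (hc : 𝐂[V] ≤ V) (h4 : Nat.card V = 4) : SectionalPRankLE 2 4 T := by
  refine S0501.result hT fun A hA h1 h2 => ?_
  rw [← card_map_of_injective T.subtype_injective]
  have n : T ≤ 𝐍[A.map T.subtype] := (map_subtype_top _).ge.trans (map_norm_le _ (norm_normal ⊤ A))
  have e : EA (A.map T.subtype) := ⟨map_cent_le _ (ea_iff.2 ⟨h1, h2⟩).ab, by
    rintro _ ⟨a, ha, rfl⟩; exact congrArg Subtype.val (h2 a ha)⟩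
  have le := map_subtype_le A
  generalize A.map T.subtype = X at n e le
  by_cases h0 : X = ⊥
  · rw [h0, card_bot]; omega
  by_cases hX : V ≤ X
  · exact h4 ▸ cle ((e.ab.trans (cent_anti hX)).trans hc)
  obtain ⟨v, hv, hv'⟩ := SetLike.not_le_iff_exists.1 hX
  obtain ⟨⟨z, hz⟩, z1⟩ := ne_bot_iff_exists_ne_one.1 (th_inf_center_ne_bot hT le n h0)
  have zV := hc (cent_anti l hz.2)
  have h5 := two_le (le_sup_left : zpowers z ≤ zpowers z ⊔ zpowers v)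
    fun k => hv' (zpowers_le.2 hz.1 (k (mem_sup_right (mem_zpowers v))))
  have h6 := two_le (bot_le : ⊥ ≤ zpowers z) fun k => z1 (Subtype.ext (k (mem_zpowers z)))
  rw [card_bot] at h6
  have h7 : zpowers z ⊔ zpowers v = V :=
    eq_of_le_of_card_ge (sup_le (zpowers_le.2 zV) (zpowers_le.2 hv)) (by omega)
  have h8 := cle (X := X ⊓ 𝐂[zpowers v]) (Y := X ⊓ V) (le_inf inf_le_left (le_trans (by
    rw [← h7]
    exact le_cent_sup (inf_le_left.trans (e.ab.trans (cent_anti (zpowers_le.2 hz.1)))) inf_le_right)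
    hc))
  have h9 := two_le (inf_le_right : X ⊓ V ≤ V) fun k => hX (k.trans inf_le_left)
  have := Cf.sq_fix0 (hV.sq v hv) e (n (l hv))
  nlinarith

namespace Cf

variable {L L' B V W : Subgroup G} {q : ℕ} (h : Cf L L' B V W q)
include h

theorem eV : ∀ v ∈ V, ∃ g ∈ 𝐍[V], g * v * g⁻¹ ∈ 𝐙[B] := fun _ hv =>
  (e_conj h.h1.b hv).imp fun _ e => ⟨e_norm_V h.h1.b e.1, e.2⟩

theorem sq_mem {a : G} (ha : a ∈ 𝐍[B]) : a ^ 2 ∈ 𝐍[V] := by
  rw [pow_two]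
  by_cases e : a ∈ 𝐍[V]
  exacts [mul_mem e e, h.bd0.mul_mem_norm ha ha e e]

theorem exists_field (hq : 2 < q) {T : Subgroup G} (hT : Syl 2 T ⊤) (hB : B ≤ T)
    (hS : ¬ T ⊓ 𝐍[V] ≤ B) : ∃ f ∈ T ⊓ 𝐍[V], f ∉ B ∧ f ^ 2 = 1 := by
  have b := h.bdT hq hT hB
  obtain ⟨x, hx, x0, x2⟩ := sq_step hT.pg.to_inf_left hS
  obtain ⟨t, ht, t0⟩ := h.exists_inv hq (b.norm hx.1) x0 x2
  exact ⟨t, sup_le (le_inf hB b.norm_V) (zpowers_le.2 hx) ht, t0⟩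

theorem field_ext (hq : 2 < q) {T : Subgroup G} (hT : Syl 2 T ⊤) (hB : B ≤ T) {t : G}
    (ht : t ∈ T) (tV : t ∈ 𝐍[V]) (t0 : t ∉ B) (t2 : t ^ 2 = 1)
    (s : Syl 2 (T ⊓ 𝐂[zpowers t]) 𝐂[zpowers t]) : False :=
  have b := h.bdT hq hT hB
  h.core_ne (b.norm ht) (fun e => t0 (e ▸ one_mem B)) t2
    (s.core_le.trans (inf_le_left.trans b.norm)) (h.core (b.norm ht) tV t0 t2)

section eight
variable (hq : 8 ≤ q) {T : Subgroup G} (hT : Syl 2 T ⊤) (hB : B ≤ T)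
include hq hT hB

theorem bd8 : BD T B V W 𝐙[B] 𝐙[L] q := h.bdT (by omega) hT hB

theorem sc {x g : G} (hx : x ∈ B) (hn : g * x * g⁻¹ ∈ 𝐍[B]) : g * x * g⁻¹ ∈ B := by
  have b := h.bd8 hq hT hB
  obtain ⟨n, hn', l⟩ := (hT.mono b.norm le_top).conj_le
    ((pg_cj h.h1.pg g).to_le (zpowers_le.2 (conj_mem_cj hx))) (zpowers_le.2 hn)
  have e : n * g * x * (n * g)⁻¹ = n * (g * x * g⁻¹) * n⁻¹ := by group
  have := (b.sc hq hT h.lc h.eV h.symm.eV).2 x hx (n * g) (e ▸ l (conj_mem_cj (mem_zpowers _)))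
  have := conj_mem_of_norm' hn' this
  rwa [show n⁻¹ * (n * g * x * (n * g)⁻¹) * n = g * x * g⁻¹ by group] at this

theorem not_conj {t s : G} (tB : t ∈ 𝐍[B]) (t0 : t ∉ B) (c : IsConj t s) : s ∉ B := fun l => by
  obtain ⟨g, rfl⟩ := isConj_iff.1 c
  have e : g⁻¹ * (g * t * g⁻¹) * g⁻¹⁻¹ = t := by group
  exact t0 (e ▸ h.sc hq hT hB l (e.symm ▸ tB))

theorem lemK_sw {Y : Subgroup G} (hY : Y ≤ 𝐙[B]) (h0 : Y ≠ ⊥) {t : G} (tY : t ∈ 𝐍[Y])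
    (tB : t ∈ 𝐍[B]) (tV : t ∉ 𝐍[V]) : 𝐍[Y] ≤ 𝐍[B] := by
  have b := h.bd8 hq hT hB
  rcases b.lemK hq hT (h.lc Y h0 (b.eaZ.pg.to_le hY))
    (norm_of_cent (b.cent_Z.trans (cent_anti hY))) with l | l | l
  exacts [l, (tV (l tY)).elim, (tV ((b.norm_iff tB).2 (l tY))).elim]

variable {t : G} (tV : t ∉ 𝐍[V]) (t2 : t ^ 2 = 1)
include tV t2

theorem swap1 (ht : t ∈ T) (s : Syl 2 (T ⊓ 𝐂[zpowers t]) 𝐂[zpowers t]) :
    𝐂[zpowers t] ≤ 𝐍[B] := by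
  have b := h.bd8 hq hT hB
  have tB := b.norm ht
  have r := s.core_le.trans (inf_le_left.trans b.norm)
  have k : ∀ y ∈ 𝐎[2, 𝐂[zpowers t]], y ∈ B → y ^ 2 = 1 → y ∈ 𝐙[B] := fun y h1 h2 h3 =>
    b.mem_Z_of_swap tB tV h2 h3 (cent_zpowers.1 (core_le _ h1))
  have n : 𝐂[zpowers t] ≤ 𝐍[𝐎[2, 𝐂[zpowers t]] ⊓ 𝐙[B]] :=
    norm_of_forall_cj_le fun c hc => cj_le_iff.2 fun y hy => by
      have m := conj_mem_of_norm (le_norm_core _ hc) hy.1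
      exact ⟨m, k _ m (h.sc hq hT hB hy.2.1 (r m)) (by rw [conj_pow, b.eaZ.sq y hy.2]; group)⟩
  refine n.trans (h.lemK_sw hq hT hB inf_le_right (fun e => ?_) (n (cent_zpowers.2 rfl)) tB tV)
  obtain ⟨y, hy, y0, y2⟩ := sq_step (V := ⊥) (pg_core (p := 2) 𝐂[zpowers t]).to_inf_left
    fun l => h.core_ne tB (fun e => tV (e ▸ one_mem _)) t2 r (le_bot_iff.1 l)
  exact y0 (e.le ⟨hy.1, k y hy.1 hy.2 y2⟩)

theorem swap2 (tB : t ∈ 𝐍[B]) (hc : 𝐂[zpowers t] ≤ 𝐍[B]) {g : G} (hg : t ∈ 𝐍[cj(g, B)]) :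
    g ∈ 𝐍[B] := by
  have b := h.bd0
  have c := sq_fix0 t2 (b.cj g).eaZ ((b.cj g).norm_Z hg)
  obtain ⟨⟨z, hz⟩, z1⟩ := ne_bot_iff_exists_ne_one.1 fun e : cj(g, 𝐙[B]) ⊓ 𝐂[zpowers t] = ⊥ => by
    rw [e, card_bot] at c
    exact (b.cj g).Z_ne_bot (card_eq_one.1 (le_antisymm c (cpos _)))
  have e : g * (g⁻¹ * z * g) * g⁻¹ = z := by group
  have zB : z ∈ B := e ▸ h.sc hq hT hB (mem_cj.1 hz.1).1 (e.symm ▸ hc hz.2)
  have zZ := b.mem_Z_of_swap tB tV zB ((b.cj g).eaZ.sq z hz.1) (cent_zpowers.1 hz.2)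
  exact h.wc (by omega) ((norm_of_cent ((b.cj g).cent_Z.trans (cent_anti (zpowers_le.2 hz.1)))).trans
    (h.lemK_sw hq hT hB (zpowers_le.2 zZ) (zpowers_ne_bot.2 fun l => z1 (Subtype.ext l))
      (norm_zp z (cent_zpowers.2 (cent_zpowers.1 hz.2).symm)) tB tV))

theorem swap3 (tB : t ∈ 𝐍[B]) (hc : 𝐂[zpowers t] ≤ 𝐍[B]) (s : Syl 2 B 𝐍[V]) {u : G}
    (u2 : u * u = 1) (e : t * u = u * t) (c : IsConj t (t * u)) : u ∈ 𝐙[B] := by
  have b := h.bd0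
  have t0 : t ∉ B := fun l => tV (b.norm_V l)
  have uB := hc (cent_zpowers.2 e)
  have k : ∀ x ∈ 𝐍[B], x ^ 2 = 1 → x ∈ 𝐍[V] → x ∈ B := fun x h1 h2 h3 =>
    s.le_of_norm' (pg_zp h2) (zpowers_le.2 h3) (zpowers_le.2 h1) (mem_zpowers x)
  have a1 : (t * u) ^ 2 = 1 := by rw [(show Commute t u from e).mul_pow, t2, pow_two, u2, mul_one]
  have a2 := b.mul_mem_norm tB (mul_mem tB uB) tV fun l =>
    h.not_conj hq hT hB tB t0 c (k _ (mul_mem tB uB) a1 l)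
  rw [← mul_assoc, ← pow_two, t2, one_mul] at a2
  exact b.mem_Z_of_swap tB tV (k u uB (by rw [pow_two, u2]) a2) (by rw [pow_two, u2]) e

theorem swap4 (tB : t ∈ 𝐍[B]) (hc : 𝐂[zpowers t] ≤ 𝐍[B]) (s : Syl 2 B 𝐍[V]) : False := by
  have b := h.bd0
  have t0 : t ∉ B := fun l => tV (b.norm_V l)
  obtain ⟨l, hl, l0⟩ := e_exists_out h.h1.b
  have c : IsConj t (l * t * l⁻¹) := isConj_iff.2 ⟨l, rfl⟩
  rcases dihedral (by rw [← pow_two, t2]) (by rw [← pow_two, conj_pow, t2]; group) c with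
    ⟨r, r2, r1, e⟩ | ⟨u, u1, u2, e1, e2, c1, c2⟩
  · have n : l⁻¹ * r ∈ 𝐍[B] := hc (cent_zpowers.2 (by
      calc t * (l⁻¹ * r) = l⁻¹ * (l * t * l⁻¹) * r := by group
        _ = _ := by rw [← e]; group))
    have e1 : cj(r, B) = cj(l, B) := by
      rw [show r = l * (l⁻¹ * r) by group, ← cj_cj, cj_of_norm n]
    have e2 : B ⊓ cj(l, B) = V := le_antisymm (fun x hx => h.h1.o ▸ e_ti h.h1.b hl l0 hx.1 hx.2)
      (le_inf b.V_le ((cj_of_norm (e_norm_V h.h1.b hl)).ge.trans (cj_mono l b.V_le)))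
    have rV : r ∈ 𝐍[V] := cj_eq_iff.1 (by
      rw [← e2, ← e1, cj_inf, cj_cj, r2, cj_one, inf_comm])
    obtain ⟨g, -, k⟩ := s.conj_le (pg_zp (by rw [pow_two, r2])) (zpowers_le.2 rV)
    exact h.not_conj hq hT hB tB t0 (r1.trans (isConj_iff.2 ⟨g, rfl⟩))
      (k (conj_mem_cj (mem_zpowers r)))
  · have a1 := h.swap3 hq hT hB tV t2 tB hc s u2 e1 c1
    have a2 := h.swap3 hq hT hB tV t2 tB hc s (u := l⁻¹ * u * l)
      (by calc _ = l⁻¹ * (u * u) * l := by group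
            _ = 1 := by rw [u2]; group)
      (by calc _ = l⁻¹ * (l * t * l⁻¹ * u) * l := by group
            _ = _ := by rw [e2]; group)
      (c2.trans (isConj_iff.2 ⟨l⁻¹, by group⟩))
    have a3 := e_ZZ h.h1.b hl l0 a1 (mem_cj.2 a2)
    have a4 := conj_mem_cj (g := t) a3
    rw [cj_Z, h.sw_eq tB tV, e1, mul_inv_cancel_right] at a4
    exact u1 (h.eq_one a3 a4)

omit tV t2 in
theorem false8 : False := by
  have b := h.bd8 hq hT hB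
  have q2 : 2 < q := by omega
  by_cases hS : T ⊓ 𝐍[V] ≤ B
  · obtain ⟨a, ha, a0⟩ := h.exists_swT q2 hT hB
    obtain ⟨f, hf, f0, f2⟩ := h.exists_inv q2 (b.norm ha) (fun l => a0 (b.norm_V l))
      (hS ⟨pow_mem ha 2, h.sq_mem (b.norm ha)⟩)
    obtain ⟨g, ht, s⟩ := exists_ext hT f2
    have t0 := h.not_conj hq hT hB (b.norm (sup_le hB (zpowers_le.2 ha) hf)) f0
      (isConj_iff.2 ⟨g, rfl⟩)
    have t2 : (g * f * g⁻¹) ^ 2 = 1 := by rw [conj_pow, f2]; group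
    have tV : g * f * g⁻¹ ∉ 𝐍[V] := fun l => t0 (hS ⟨ht, l⟩)
    have s' := h.sylS q2 hT hB
    rw [le_antisymm hS (le_inf hB b.norm_V)] at s'
    exact h.swap4 hq hT hB tV t2 (b.norm ht) (h.swap1 hq hT hB tV t2 ht s) s'
  · obtain ⟨f, hf, f0, f2⟩ := h.exists_field q2 hT hB hS
    obtain ⟨g, ht, s⟩ := exists_ext hT f2
    have t0 := h.not_conj hq hT hB (b.norm hf.1) f0 (isConj_iff.2 ⟨g, rfl⟩)
    have t2 : (g * f * g⁻¹) ^ 2 = 1 := by rw [conj_pow, f2]; group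
    have tV : g * f * g⁻¹ ∉ 𝐍[V] := fun l => h.field_ext q2 hT hB ht l t0 t2 s
    have n := h.swap2 hq hT hB tV t2 (b.norm ht) (h.swap1 hq hT hB tV t2 ht s) (g := g)
      (by rw [← cj_norm]; exact conj_mem_cj (b.norm hf.1))
    have m := conj_mem_cj (g := g) hf.2
    rw [cj_norm] at m
    rcases b.cj_or n with ⟨e, -⟩ | ⟨e, -⟩ <;> rw [e] at m
    exacts [tV m, tV ((b.norm_iff (b.norm ht)).2 m)]

end eight

end Cf

namespace Cf

variable {L L' B V W : Subgroup G} (h : Cf L L' B V W 4) (hD : 𝐙[L] ≠ ⊥)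
include h hD

/-- No element interchanging `V` and `W` has its square in `B`. -/
theorem no_sw {a : G} (ha : a ∈ 𝐍[B]) (a0 : a ∉ 𝐍[V]) (a2 : a ^ 2 ∈ B) : False := by
  have b := h.bd0
  obtain ⟨g, hg, gB, g0⟩ := e_exists_tor h.h1.b (by omega)
  obtain ⟨g1, g2, -⟩ := e_tor h.h1.b hg gB g0
  have hk : a * g * a⁻¹ ∈ L' := h.sw_eq ha a0 ▸ conj_mem_cj hg
  have kB : a * g * a⁻¹ ∈ 𝐍[B] := mul_mem (mul_mem ha gB) (inv_mem ha)
  obtain ⟨-, -, k3⟩ := e_tor h.h2.b hk kB fun l => g0 (by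
    simpa [mul_assoc] using conj_mem_of_norm' ha l)
  have gV := e_norm_V h.h1.b hg
  have kV := h.nV kB hk
  have nZ : 𝐍[B] ≤ 𝐍[𝐙[B]] := norm_Z le_rfl
  have bW : B ≤ cmod W 𝐙[B] :=
    le_cmod.2 ⟨norm_Z le_normalizer, (commutator_mono b.W_le le_rfl).trans b.comm_B⟩
  have gW : g ∈ 𝐍[cmod W 𝐙[B]] :=
    norm_cmod (zpowers_le.2 ((b.norm_iff gB).1 gV)) (zpowers_le.2 (nZ gB)) (mem_zpowers g)
  have up : ∀ c ∈ 𝐍[B], (∀ v ∈ V, ⁅c, v⁆ ∈ 𝐙[B]) → a * c * a⁻¹ ∈ cmod W 𝐙[B] := fun c h1 h2 => by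
    have := conj_mem_cj (g := a) ((mem_cmod_iff_comm (nZ h1)).2 h2)
    rwa [cj_cmod, (b.swap ha a0).1, cj_of_norm (nZ ha)] at this
  have m : g⁻¹ * a ^ 2 * g * (a ^ 2)⁻¹ ∈ cmod W 𝐙[B] :=
    bW (mul_mem (conj_mem_of_norm' gB a2) (inv_mem a2))
  obtain ⟨⟨d, hd⟩, d1⟩ := ne_bot_iff_exists_ne_one.1 (h.D'_ne hD)
  have dZ := h.symm.bd0.leD hd
  have fin : ∀ c ∈ 𝐍[B], c ∈ 𝐍[V] → (∀ v ∈ V, ⁅c, v⁆ ∈ 𝐙[B]) → c ∈ cmod W 𝐙[B] →
      c * d * c⁻¹ = g * d * g⁻¹ → False := fun c h1 h2 h3 h4 e => by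
    obtain ⟨w, hw, w0⟩ := SetLike.not_le_iff_exists.1 b.not_W_le
    obtain ⟨v, hv, l⟩ := b.cover hw w0 dZ
    have a1 := h3 v hv
    have a2 := (mem_cmod_iff_comm (nZ h1)).1 h4 w hw
    have a3 : c * ⁅v, w⁆ * c⁻¹ = ⁅v, w⁆ := by
      rw [conjugate_commutatorElement, show c * v * c⁻¹ = ⁅c, v⁆ * v by group,
        show c * w * c⁻¹ = ⁅c, w⁆ * w by group,
        b.comm_mul_left a1.1 (b.V_le hv) (mul_mem a2.1 (b.W_le hw)),
        b.comm_Z_left a1 (mul_mem a2.1 (b.W_le hw)), one_mul,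
        b.comm_mul_right (b.V_le hv) a2.1 (b.W_le hw), b.comm_Z_right a2 (b.V_le hv), one_mul]
    have a4 := comm_mem_of_norm (h.h1.nD h2) l
    refine d1 (Subtype.ext (h.eq_one (g1 d dZ ?_) hd))
    convert a4 using 1
    calc ⁅g, d⁆ = c * d * c⁻¹ * d⁻¹ := by rw [e, commutatorElement_def]
      _ = c * d * c⁻¹ * (c * ⁅v, w⁆ * c⁻¹)⁻¹ * ⁅v, w⁆ * d⁻¹ := by rw [a3]; group
      _ = _ := by rw [commutatorElement_def c]; group
  have kc : ∀ x ∈ 𝐙[L'], a * g * a⁻¹ * x = x * (a * g * a⁻¹) := fun x hx => mem_cent.1 hx.2 _ hk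
  generalize ek : a * g * a⁻¹ = k at *
  have e2 : a * k * a⁻¹ = g * (g⁻¹ * a ^ 2 * g * (a ^ 2)⁻¹) := by rw [← ek, pow_two]; group
  rcases three_cycle b.Z_le_V b.eaV b.cardV gV (nZ gB) kV (nZ kB) g2
    (fun v hv e => b.mem_Z hv (h.h2.o ▸ k3 v (b.V_le hv) (h.h2.o.symm ▸ b.Z_le_W e))) with l | l
  · refine fin _ (mul_mem gB kB) (mul_mem gV kV) l ?_ ?_
    · have := up _ (mul_mem gB kB) l
      rw [show a * (g * k) * a⁻¹ = a * g * a⁻¹ * (a * k * a⁻¹) by group, ek, e2, ← mul_assoc,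
        mul_mem_cancel_right m] at this
      simpa [mul_assoc] using conj_mem_of_norm gW this
    · calc _ = g * (k * d) * k⁻¹ * g⁻¹ := by group
        _ = _ := by rw [kc d hd]; group
  · refine fin _ (mul_mem (inv_mem kB) gB) (mul_mem (inv_mem kV) gV) l ?_ ?_
    · have := inv_mem (up _ (mul_mem (inv_mem kB) gB) l)
      rwa [show (a * (k⁻¹ * g) * a⁻¹)⁻¹ = (a * g * a⁻¹)⁻¹ * (a * k * a⁻¹) by group, ek, e2,
        ← mul_assoc, mul_mem_cancel_right m] at this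
    · have := kc _ (conj_mem_of_norm (h.h2.nD ((b.norm_iff gB).1 gV)) hd)
      calc _ = k⁻¹ * (g * d * g⁻¹ * k) := by group
        _ = _ := by rw [← this]; group

variable {T : Subgroup G} (hT : Syl 2 T ⊤) (hB : B ≤ T)
include hT hB

theorem not_omega {t : G} (tB : t ∈ 𝐍[B]) (tV : t ∈ 𝐍[V]) (t0 : t ∉ B) (t2 : t ^ 2 = 1)
    {d g : G} (hd : d ∈ 𝐙[L]) (e : g * d * g⁻¹ = t) : False := by
  have b := h.bd0
  have d1 : d ≠ 1 := fun l => t0 (by rw [← e, l]; simp)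
  have n : 𝐂[zpowers t] ≤ 𝐍[cj(g, V)] := by
    rw [← e, ← cj_zp, ← cj_cent, ← cj_norm]; exact cj_mono g (h.cent_D hd d1)
  have l : cj(g, V) ≤ 𝐂[zpowers t] := by
    rw [← e, ← cj_zp, ← cj_cent]
    exact cj_mono g (b.eaV.ab.trans (cent_anti (zpowers_le.2 (b.Z_le_V (b.leD hd)))))
  have pV := pg_cj b.eaV.pg g
  have c1 := csup ((inf_le_right : B ⊓ 𝐂[zpowers t] ≤ _).trans n)
  rw [le_bot_iff.1 ((le_inf (inf_le_right.trans (le_core_of_norm pV l n))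
    (inf_le_left.trans inf_le_left)).trans (h.core tB tV t0 t2).le), card_bot, card_cj] at c1
  have s := (h.sylS (by omega) hT hB).cj g
  rw [cj_norm] at s
  obtain ⟨k, -, c2⟩ := s.conj_le (pg_sup h.h1.pg.to_inf_left pV (inf_le_right.trans n))
    (sup_le (inf_le_right.trans n) (norm_of_cent (b.eaV.cj g).ab))
  have c3 := cle c2
  rw [card_cj, card_cj] at c3
  have c4 := card_inf_mul_relIndex B (T ⊓ 𝐍[V])
  rw [inf_eq_left.2 (le_inf hB b.norm_V), b.card_B] at c4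
  have c5 := (Nat.pow_le_pow_iff_right one_lt_two).1
    ((h.bd hT.pg hB (h.norm_of_pg (by omega) hT.pg hB)).2.trans_eq (show 4 = 2 ^ 2 from rfl))
  have c6 := csup_le (V ⊓ 𝐂[zpowers t]) (W ⊓ 𝐂[zpowers t]) (inf_le_inf_right _ b.V_le)
    (inf_le_inf_right _ b.W_le)
  rw [inf_inf_inf_comm, inf_idem, h.inf] at c6
  have c7 := h.fixY tB tV t0 t2
  have c8 := sq_fix0 t2 b.eaV tV
  have c9 := sq_fix0 t2 b.eaW ((b.norm_iff tB).1 tV)
  have cV : Nat.card V = 64 := by rw [b.cardV, b.cardZ, h.card_D hD]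
  rw [b.cardWV] at c9
  rw [cV] at c1 c4 c8 c9
  have a1 : 8 ≤ Nat.card ↥(V ⊓ 𝐂[zpowers t]) := by nlinarith
  have a2 : 8 ≤ Nat.card ↥(W ⊓ 𝐂[zpowers t]) := by nlinarith
  have a3 := (Nat.mul_le_mul a1 a2).trans (c6.trans (Nat.mul_le_mul_left _ c7))
  have a4 := Nat.mul_le_mul_left (4 * 64) c5
  omega

theorem not_fused {f : G} (hf : f ∈ T ⊓ 𝐍[V]) (f0 : f ∉ B) (f2 : f ^ 2 = 1) {g : G}
    (hg : g * f * g⁻¹ ∈ B) : False := by
  have q2 : 2 < 4 := by omega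
  have b := h.bdT q2 hT hB
  obtain ⟨g, hg⟩ : ∃ g : G, f ∈ cj(g, 𝐙[B]) := by
    rcases b.mem_or hg (by rw [conj_pow, f2]; group) with l | l
    · obtain ⟨c, -, e⟩ := h.eV _ l
      exact ⟨(c * g)⁻¹, mem_cj.2 (by convert e using 1; group)⟩
    · obtain ⟨c, -, e⟩ := h.symm.eV _ l
      exact ⟨(c * g)⁻¹, mem_cj.2 (by convert e using 1; group)⟩
  have c := sq_fix0 f2 (b.eaZ.of_le b.leD) (h.h1.nD hf.2)
  obtain ⟨⟨d, hd⟩, d1⟩ := ne_bot_iff_exists_ne_one.1 fun e : 𝐙[L] ⊓ 𝐂[zpowers f] = ⊥ => by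
    rw [e, card_bot, h.card_D hD] at c
    omega
  have d2 := b.eaZ.sq d (b.leD hd.1)
  obtain ⟨P, h1, hP⟩ := Syl.exists_ge (pg_zp d2) (zpowers_le.2 hd.2)
  obtain ⟨c, hc, l⟩ := hP.conj_le (pg_cj h.h1.pg g)
    ((b.cj g).cent_Z.trans (cent_anti (zpowers_le.2 hg)))
  obtain ⟨k, -, l'⟩ := hT.le_conj hP.pg le_top
  have h3 := l.trans l'
  rw [le_cj_iff_inv_le, cj_cj, cj_cj] at h3
  have fk : f ∈ cj(k, 𝐙[B]) := by
    have h4 := conj_mem_of_norm (b.norm_Z (h.wc q2 (h3.trans b.norm))) (mem_cj.1 hg)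
    refine mem_cj.2 ?_
    convert h4 using 1
    calc _ = k⁻¹ * (f * c) * c⁻¹ * k := by group
      _ = _ := by rw [cent_zpowers.1 hc]; group
  have dk := mem_cj.1 (l' (h1 (mem_zpowers d)))
  have d3 : (k⁻¹ * d * k) ^ 2 = 1 := by
    rw [show k⁻¹ * d * k = k⁻¹ * d * k⁻¹⁻¹ by group, conj_pow, d2]; group
  by_cases dB : k⁻¹ * d * k ∈ B
  swap
  · exact h.not_omega hD hT hB (b.norm dk)
      (by_contra fun l => h.no_sw hD (b.norm dk) l (d3 ▸ one_mem B)) dB d3 hd.1 (g := k⁻¹)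
      (by group)
  have key : ∀ A, EA A → Nat.card V ≤ Nat.card A → d ∈ A → f ∈ A → False := fun A a1 a2 a3 a4 => by
    obtain ⟨m, hm, a5⟩ := (h.sylS q2 hT hB).conj_le a1.pg ((a1.ab.trans
      (cent_anti (zpowers_le.2 a3))).trans (h.cent_D hd.1 fun e => d1 (Subtype.ext e)))
    have a6 := conj_mem_cj (g := m) a4
    rcases h.ea_eq q2 hT.pg hB b.norm (a1.cj m) (a5.trans inf_le_left)
      (a2.trans (card_cj _ _).ge) with e | e <;> rw [e] at a6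
    · exact f0 (b.V_le (by simpa [mul_assoc] using conj_mem_of_norm' hm a6))
    have fW := (b.norm_iff (b.norm hf.1)).1 hf.2
    have a7 : f ∈ 𝐂[𝐙[L]] := by
      simpa [mul_assoc] using conj_mem_of_norm' (norm_cent h.h1.nD hm)
        (cent_anti b.leD (b.cent_Z (b.W_le a6)))
    refine f0 ((h.symm.bdT q2 hT hB).ker f ⟨hf.1, fW⟩ fun z hz => ?_)
    obtain ⟨x, hx, y, hy, rfl⟩ := (mem_sup_norm (norm_of_cent (b.leD.trans (b.eaZ.ab.trans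
      (cent_anti h.symm.bd0.leD))))).1 (h.Z_le hD hz)
    rw [commutatorElement_mul_left_eq_conj_mul, comm_eq_one.2 (mem_cent.1 a7 y hy), mul_one,
      mul_inv_cancel, one_mul]
    exact comm_mem_of_norm' (h.h2.nD fW) hx
  rcases b.mem_or dB d3 with e | e
  · exact key _ (b.eaV.cj k) (card_cj _ _).ge (mem_cj.2 e) (cj_mono k b.Z_le_V fk)
  · exact key _ (b.eaW.cj k) (b.cardWV.ge.trans (card_cj _ _).ge) (mem_cj.2 e)
      (cj_mono k b.Z_le_W fk)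

theorem false4 : False := by
  have q2 : 2 < 4 := by omega
  have b := h.bdT q2 hT hB
  obtain ⟨a, ha, a0⟩ := h.exists_swT q2 hT hB
  obtain ⟨f, hf, f0, f2⟩ := h.exists_field q2 hT hB fun l =>
    h.no_sw hD (b.norm ha) a0 (l ⟨pow_mem ha 2, h.sq_mem (b.norm ha)⟩)
  obtain ⟨g, ht, s⟩ := exists_ext hT f2
  have t2 : (g * f * g⁻¹) ^ 2 = 1 := by rw [conj_pow, f2]; group
  exact h.field_ext q2 hT hB ht (by_contra fun l => h.no_sw hD (b.norm ht) l (t2 ▸ one_mem B))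
    (h.not_fused hD hT hB hf f0 f2) t2 s

end Cf

theorem Cf.sec {L L' B V W : Subgroup G} {q : ℕ} (h : Cf L L' B V W q) :
    SectionalPRankLE 2 4 G := by
  obtain ⟨T, hB, hT⟩ := Syl.exists_ge h.h1.pg le_top
  obtain ⟨P, rfl⟩ := hT.exists_sylow_top
  refine Inv.Sec.sec_of_sylow P ?_
  have b := h.bd0
  obtain ⟨n, rfl⟩ := b.pow_two
  have c := b.cardV
  rw [b.cardZ] at c
  rcases n with _ | _ | _ | n
  · exact absurd b.one_lt (by omega)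
  · by_cases hD : 𝐙[L] = ⊥
    · exact sec_of_four hT.pg (b.V_le.trans hB) b.eaV h.cent (by rw [c, hD, card_bot]; rfl)
    · exact sec_of_eight hT.pg (b.V_le.trans hB) b.eaV h.cent (by rw [c, h.card_D hD]; rfl)
  · by_cases hD : 𝐙[L] = ⊥
    · exact C2T.B4.sec (hD ▸ h.bdT (by omega) hT hB)
    · exact (Cf.false4 h hD hT hB).elim
  · exact (h.false8 (by rw [pow_succ, pow_succ, pow_succ]; have := Nat.one_le_two_pow (n := n); omega)
      hT hB).elim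

end Cfsg.Agent.Loc.C2P
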