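import Mathlib
import Cfsg.Agent.Loc.C2PC
import Cfsg.Agent.GT.LocalLayer

/-! Pushing up a rank one uniqueness subgroup in characteristic two type: the reduction. -/

set_option autoImplicit false
set_option linter.unusedSectionVars false

namespace Cfsg.Agent.Loc.C2P

open Cfsg Cfsg.Agent.GT Cfsg.Agent.Loc.Mss Cfsg.Agent.Loc.PU Cfsg.Agent.Loc.Blk
  Cfsg.Agent.Loc.GC Subgroup Matrix
open scoped commutatorElement MatrixGroups

variable {G : Type*} [Group G] [Finite G]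

theorem bB_of_syl {T X S : Subgroup G} (hT : Syl 2 T X) (hS : IsPGroup 2 S) (hX : S ≤ X)
    (h : 𝐁[2, T] ≤ S) : 𝐁[2, S] = 𝐁[2, T] := by
  obtain ⟨g, -, h2⟩ := hT.le_conj hS hX
  have h3 : thJ 2 T ≤ thJ 2 cj(g, T) := thJ_le_iff.mpr fun A hA => le_thJ (mem_abFam_of_card_le
    ((map_mem_abFam_iff _ (th_inf_ker_of_injective _ (cj_inj g) T) (abFam_le hA)).mpr hA)
    ((le_thJ hA).trans ((thJ_le_bB T).trans (h.trans h2))) (abFam_comm hA)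
    (abFam_pow hA) (card_cj A g).le)
  have h4 := eq_of_le_of_card_ge h3 (by rw [← cj_thJ, card_cj])
  have h5 : 𝐁[2, T] = 𝐁[2, cj(g, T)] := by
    refine eq_of_le_of_card_ge ?_ (by rw [← cj_bB, card_cj])
    rw [bB_eq cj(g, T), thZ, ← h4]
    exact le_inf (h.trans h2) (by rw [bB_eq]; exact inf_le_right)
  rw [h5] at h ⊢
  exact CG.bB_eq_of_le h h2

section avg
variable {L B V : Subgroup G} {F : Type} [Field F] {ρ : G → SL(2, F)} {φ : G → Fin 2 → F}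
  (h : Bk L B V ρ φ)
include h

/-- A cocycle vanishing on the Sylow subgroup is a coboundary. -/
theorem bk_avg {y : G} (hy : y ∈ 𝐎[2, L]) (hB : ∀ b ∈ B, ⁅b, y⁆ ∈ 𝐙[L]) :
    y ∈ V ⊔ (B ⊓ 𝐂[𝐑[2, L]]) := by
  classical
  have := h.nat.toNatD.charP h.ea.pg
  have m : ∀ g ∈ L, ⁅g, y⁆ ∈ V := fun g hg =>
    comm_swap.1 (h.commT (commutator_mem_commutator hy hg))
  have c : ∀ g ∈ L, ∀ k ∈ L, φ ⁅g * k, y⁆ = (ρ g).1 *ᵥ φ ⁅k, y⁆ + φ ⁅g, y⁆ := fun g hg k hk => by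
    rw [commutatorElement_mul_left_eq_conj_mul,
      h.nat.φ_mul _ (h.nat.toNatD.conj_mem hg (m k hk)) _ (m g hg), h.nat.equiv g hg _ (m k hk)]
  let Q := L ⧸ B.subgroupOf L
  have : Fintype Q := Fintype.ofFinite _
  have c1 : ∀ (g : L) (x : Q), φ ⁅((g • x).out : G), y⁆ = φ ⁅(g : G) * x.out, y⁆ := fun g x => by
    obtain ⟨b, e⟩ := QuotientGroup.mk_out_eq_mul (B.subgroupOf L) (g * x.out)
    have e1 : g • x = ((g * x.out : L) : Q) := by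
      conv_lhs => rw [← x.out_eq]
      rfl
    rw [e1, e, Subgroup.coe_mul, c _ (g * x.out).2 _ b.1.2, h.nat.toNatD.φ_of_mem (hB b.1.1 b.2),
      mulVec_zero, zero_add, Subgroup.coe_mul]
  obtain ⟨v, hv, ev⟩ := h.nat.φ_surj (∑ x : Q, φ ⁅(x.out : G), y⁆)
  have odd : ((Fintype.card Q : ℕ) : F) = 1 := by
    have : Odd (Fintype.card Q) := by
      rw [← Nat.card_eq_fintype_card]
      exact Nat.not_even_iff_odd.1 fun e => h.syl.nd e.two_dvd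
    obtain ⟨k, hk⟩ := this
    rw [hk]; push_cast; rw [CharTwo.two_eq_zero]; ring
  have c2 : ∀ g ∈ L, ⁅g, y * v⁆ ∈ 𝐙[L] := fun g hg => by
    have e1 := Equiv.sum_comp (MulAction.toPerm (⟨g, hg⟩ : L)) fun x : Q => φ ⁅(x.out : G), y⁆
    simp only [MulAction.toPerm_apply, c1] at e1
    rw [Finset.sum_congr rfl fun x _ => c g hg _ x.out.2, Finset.sum_add_distrib, ← mulVec_sum,
      ← ev, Finset.sum_const, Finset.card_univ, ← Nat.cast_smul_eq_nsmul F, odd, one_smul] at e1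
    have e2 := h.nat.toNatD.comm_mem hg hv
    rw [commutatorElement_mul_right_eq_mul_conj, mul_assoc, mul_assoc, ← mul_assoc y,
      ← mem_cent.1 (h.O_cent hy) _ e2, mul_inv_cancel_right,
      ← h.nat.φ_ker _ (mul_mem (m g hg) e2), h.nat.φ_mul _ (m g hg) _ e2,
      h.nat.toNatD.φ_comm hg hv, ← add_sub_assoc, add_comm, e1, sub_self]
  have yv : y * v ∈ B := mul_mem (h.O_le hy) (h.V_le hv)
  have c3 : 𝐑[2, L] ≤ 𝐂[zpowers (y * v)] := res_le_cent_of_comm (h.pg.to_le (h.ZL_le.trans inf_le_left))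
    (by rw [commutator_comm]
        exact comm_zpowers_le ⟨norm_Z le_normalizer (h.le yv), c2⟩) (le_cent_Z L)
  rw [sup_comm]
  simpa using mul_mem_sup (show y * v ∈ B ⊓ 𝐂[𝐑[2, L]] from ⟨yv, cent_comm c3 (mem_zpowers _)⟩)
    (inv_mem hv)

theorem bk_O_le {L' W : Subgroup G} {F' : Type} [Field F'] {ρ' : G → SL(2, F')}
    {φ' : G → Fin 2 → F'} (h' : Bk L' B W ρ' φ') (o : ¬ W ≤ 𝐎[2, L]) :
    𝐎[2, L] ≤ V ⊔ (B ⊓ 𝐂[𝐑[2, L]]) := by
  have e : 𝐎[2, L] = V ⊔ (𝐎[2, L'] ⊓ 𝐎[2, L]) := by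
    rw [← dedekind (h'.O_le.trans (h.le.trans h.norm_V)) h.V_le_O, h.opp_sup h' o,
      inf_eq_right.2 h.O_le]
  refine e.le.trans (sup_le le_sup_left fun y hy => bk_avg h hy.2 fun b hb => ?_)
  rw [← h'.opp_sup h (h.opp_symm h' o)] at hb
  obtain ⟨w, hw, x, hx, rfl⟩ := (mem_sup_norm (h.O_le.trans (h'.le.trans h'.norm_V))).1 hb
  rw [commutatorElement_mul_left_eq_conj_mul, comm_eq_one.2 (mem_cent.1 (h'.O_cent hy.1) w hw),
    mul_one]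
  exact conj_mem_of_norm (norm_Z le_normalizer (h.le (h'.V_le hw)))
    (h.comm_O (commutator_mem_commutator hx hy.2))

end avg

/-- The hypotheses of the pushing up theorem, with `N(T) ≰ N(O²(H))`. -/
structure Hy {G : Type*} [Group G] (H T Bo : Subgroup G) : Prop where
  lc : LC G
  syl : Syl 2 T H
  um : UMax 𝐑[2, H] (T ⊓ 𝐑[2, H]) Bo
  cor : ∀ N ≤ Bo, 𝐑[2, H] ≤ 𝐍[N] → IsPGroup 2 N
  uq : ∀ X : Subgroup G, X ≠ ⊥ → IsPGroup 2 X → H ≤ 𝐍[X] → 𝐍[X] ≤ 𝐍[𝐑[2, H]]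
  chp : ChP 2 𝐍[𝐑[2, H]]
  hs : ∀ S : Subgroup G, IsPGroup 2 S → 𝐎[2, H] ≤ S →
    S ≤ 𝐍[𝐑[2, H]] ⊓ cmod 𝐑[2, H] 𝐎[2, 𝐑[2, H]] → S ≤ 𝐎[2, H]
  out : ¬ 𝐍[T] ≤ 𝐍[𝐑[2, H]]

theorem le_C1 {K X Y : Subgroup G} (h1 : X ≤ 𝐍[K]) (h2 : ⁅K, X⁆ ≤ Y) (h3 : K ≤ 𝐍[Y])
    (h4 : IsPGroup 2 ↥(K ⊓ Y)) : X ≤ 𝐍[K] ⊓ cmod K 𝐎[2, K] :=
  le_inf h1 (le_cmod.2 ⟨norm_core h1, (le_inf (comm_le_left h1) h2).trans
    (le_core_of_norm h4 inf_le_left (norm_inf le_normalizer h3))⟩)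

namespace Hy

variable {H T Bo : Subgroup G} (h : Hy H T Bo)
include h

theorem sylQ : Syl 2 𝐎[2, H] (𝐍[𝐑[2, H]] ⊓ cmod 𝐑[2, H] 𝐎[2, 𝐑[2, H]]) :=
  Syl.of_maximal (pg_core H) (le_C1 ((core_le H).trans (le_norm_res H))
    (comm_le_right ((res_le H).trans (le_norm_core H))) ((res_le H).trans (le_norm_core H))
    (pg_core H).to_inf_right) h.hs

theorem coreM : 𝐎[2, 𝐍[𝐑[2, H]]] ≤ 𝐎[2, H] :=
  have n := (le_norm_res (p := 2) H).trans (le_norm_core (p := 2) _)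
  h.sylQ.le_of_norm (pg_core _) (le_C1 (core_le _) (comm_le_right ((res_le H).trans n))
    ((res_le H).trans n) (pg_core _).to_inf_right) ((core_le H).trans n)

theorem chpH : ChP 2 H := h.chp.of_core_le (le_norm_res H) (h.coreM.trans (core_le H))

theorem sylT : Syl 2 T (H ⊔ 𝐍[𝐑[2, H]] ⊓ cmod 𝐑[2, H] 𝐎[2, 𝐑[2, H]]) := by
  have := h.syl.sup_sup h.sylQ (norm_inf (norm_of_le (le_norm_res H))
    (norm_cmod (le_norm_res H) (norm_core (le_norm_res H)))) (h.syl.le.trans (le_norm_core H))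
  rwa [sup_eq_left.2 h.syl.core_le] at this

theorem umH : UMax H T (Bo ⊔ T) := by
  have n := h.syl.le.trans (le_norm_res (p := 2) H)
  have n1 : T ≤ 𝐍[Bo] := norm_of_forall_cj_le fun t ht => h.um.2.2 _
    ((cj_of_norm (norm_inf le_normalizer n ht)).ge.trans (cj_mono t h.um.1))
    ((cj_lt_cj.2 h.um.2.1).trans_eq (cj_of_norm (n ht)))
  refine ⟨le_sup_right, lt_of_le_not_ge (sup_le (h.um.2.1.le.trans (res_le H)) h.syl.le) fun l =>
    h.um.2.1.not_ge ((le_inf ((res_le H).trans l) le_rfl).trans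
      ((dedekind n1 h.um.2.1.le).le.trans (sup_le le_rfl h.um.1))), fun X h1 h2 => ?_⟩
  have e := dedekind' n h1
  rw [h.syl.res_sup, inf_eq_right.2 h2.le] at e
  refine e.le.trans (sup_le_sup_right (h.um.2.2 _ (le_inf inf_le_right (inf_le_left.trans h1))
    (lt_of_le_not_ge inf_le_left fun l => h2.not_ge ?_)) T)
  exact h.syl.le_of_res_le (l.trans inf_le_right) h1

theorem not_norm {X : Subgroup G} (h0 : X ≠ ⊥) (pg : IsPGroup 2 X) (h1 : 𝐍[T] ≤ 𝐍[X]) :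
    ¬ H ≤ 𝐍[X] := fun l => h.out (h1.trans (h.uq X h0 pg l))

theorem T_ne : T ≠ ⊥ := fun e => by
  have e1 := le_bot_iff.1 (h.syl.core_le.trans e.le)
  have := h.chpH
  rw [ChP, e1, cent_bot, inf_top_eq] at this
  exact h.umH.2.1.not_ge (this.trans bot_le)

theorem gen {L : Subgroup G} (h1 : ¬ 𝐑[2, L] ≤ Bo ⊔ T) (h2 : L ≤ H) {X : Subgroup G} (h3 : L ≤ X)
    (h4 : T ≤ X) : H ≤ X :=
  h.umH.le_of_not_le_max h4 fun l => h1 ((res_le L).trans ((le_inf h2 h3).trans l))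

theorem pu1 {F : Type} [Field F] [Finite F] {L M₂ : Subgroup G} (h1 : ¬ 𝐑[2, L] ≤ Bo ⊔ T)
    (h2 : L ≤ H) (P : PUD 2 (Nat.card F) L 𝐁[2, T] M₂) :
    ∃ (W D : Subgroup G) (ρ : G → SL(2, F)) (φ : G → Fin 2 → F), PU1 2 L 𝐁[2, T] W D ρ φ :=
  exists_pu1 P fun C a b c l => by
    have n := normalizer_le_normalizer_map_subtype 𝐁[2, T] (C.subgroupOf 𝐁[2, T])
    rw [map_subgroupOf_eq_of_le a] at n
    have n1 := (norm_bB (p := 2) (le_refl 𝐍[T])).trans n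
    exact h.not_norm b (h.syl.pg.to_le (a.trans (bB_le T))) n1
      (h.gen h1 h2 l (le_normalizer.trans n1))

theorem exists_blk : ∃ (L : Subgroup G) (F : Type) (_ : Field F) (ρ : G → SL(2, F))
    (φ : G → Fin 2 → F), Bk L 𝐁[2, T] 𝐕[2, L] ρ φ ∧ L ≤ H ∧ ¬ 𝐑[2, L] ≤ Bo ⊔ T ∧ Inv T L := by
  obtain ⟨P, L, -, a, ⟨b, c, d, F, _, _, M₂, e⟩, -⟩ := exists_pb_aux h.syl h.chpH
    (h.umH.le_of_not_le (le_cent_oz T) fun l => h.not_norm (oz_ne_bot h.syl.pg h.T_ne)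
      (h.syl.pg.to_le (Mss.oz_le T)) (norm_oz le_rfl) (norm_of_cent l))
    (h.umH.le_of_not_le (le_normalizer_thJ 2 T) (h.not_norm (thJ_ne_bot dvd_rfl h.syl.pg h.T_ne)
      (h.syl.pg.to_le (thJ_le 2 T)) (normalizer_le_normalizer_thJ 2 T))) h.umH.2.1.not_ge
    fun F _ _ L M₂ h1 h2 h3 => by
      obtain ⟨W, D, ρ, φ, U⟩ := h.pu1 h2 h1 h3
      exact fun x hx => have := U.commT (commutator_mono le_rfl (res_le L) hx)
        mem_oz.2 ⟨this.1, this.2, U.powV x this⟩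
  obtain ⟨W, D, ρ, φ, U⟩ := h.pu1 c (b.trans a) e
  exact ⟨L, F, _, ρ, φ, .of_pu1 e U, b.trans a, c, d⟩

theorem bB_eq {R : Subgroup G} (pg : IsPGroup 2 R) (n : 𝐁[2, T] ≤ 𝐍[R])
    (l : R ≤ H ⊔ 𝐍[𝐑[2, H]] ⊓ cmod 𝐑[2, H] 𝐎[2, 𝐑[2, H]]) : 𝐍[R ⊔ 𝐁[2, T]] ≤ 𝐍[𝐁[2, T]] := by
  have := bB_of_syl h.sylT (pg_sup' pg (h.syl.pg.to_le (bB_le T)) n)
    (sup_le l ((bB_le T).trans h.sylT.le)) le_sup_right
  nth_rw 2 [← this]
  exact norm_bB le_rfl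

variable {L V : Subgroup G} {F : Type} [Field F] {ρ : G → SL(2, F)} {φ : G → Fin 2 → F}
  (b : Bk L 𝐁[2, T] V ρ φ) (lH : L ≤ H) (nL : ¬ 𝐑[2, L] ≤ Bo ⊔ T)
include b lH nL

theorem exists_opp : ∃ x ∈ 𝐍[T], ¬ cj(x, V) ≤ 𝐎[2, L] := by
  by_contra hn
  push Not at hn
  have l : ncl 𝐍[T] V ≤ 𝐎[2, L] := ncl_le_iff.2 hn
  exact h.not_norm (fun e => b.not_V_le ((le_ncl _ V).trans (e.le.trans bot_le)))
    ((pg_core L).to_le l) (le_norm_ncl _ V) (h.gen nL lH (norm_of_comm_le l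
      (b.commT.trans (le_ncl _ V))) (le_normalizer.trans (le_norm_ncl _ V)))

theorem cj_le {t : G} (ht : t ∈ T) : cj(t, V) ≤ 𝐎[2, L] := by_contra fun o =>
  b.opp_false (b.cj' (norm_bB le_normalizer ht)) o h.chpH lH (cj_le_of_mem lH (h.syl.le ht))
    (h.syl.core_le.trans (norm_bB le_normalizer))

theorem V_le0 : V ≤ V0 T L := le_V0 fun _ ht => le_cj_iff_inv_le.2 (h.cj_le b lH nL (inv_mem ht))

omit h b lH nL in
theorem V0_le' : V0 T L ≤ 𝐎[2, L] := (V0_le (one_mem T)).trans (cj_one _).le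

theorem norm_V0 : H ≤ 𝐍[V0 T L] :=
  h.gen nL lH (norm_of_comm_le V0_le' (b.commT.trans (h.V_le0 b lH nL)))
    (norm_of_forall_cj_le fun s hs => le_V0 fun t ht => by
      have := cj_mono s (V0_le (L := L) (mul_mem (inv_mem hs) ht))
      rwa [cj_cj, mul_inv_cancel_left] at this)

theorem pg_cent : IsPGroup 2 ↥(𝐑[2, H] ⊓ 𝐂[V0 T L]) := by
  have n := norm_inf (le_norm_res (p := 2) H) (norm_cent (h.norm_V0 b lH nL))
  refine h.cor _ (le_sup_left.trans (h.um.2.2 _ le_sup_right (lt_of_le_not_ge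
    (sup_le inf_le_left inf_le_right) fun l => b.not_E_le ?_))) ((res_le H).trans n)
  have := res_le_of_le_sup ((inf_le_left.trans h.syl.le).trans n) h.syl.pg.to_inf_left l
  rw [res_res] at this
  exact (res_mono lH).trans (this.trans (inf_le_right.trans (cent_anti (h.V_le0 b lH nL))))

/-- Opposite blocks have no common central involution. -/
theorem z_eq {L' W : Subgroup G} {F' : Type} [Field F'] {ρ' : G → SL(2, F')}
    {φ' : G → Fin 2 → F'} (b' : Bk L' 𝐁[2, T] W ρ' φ') (o : ¬ W ≤ 𝐎[2, L]) :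
    𝐙[L] ⊓ 𝐙[L'] = ⊥ := by
  by_contra h0
  obtain ⟨⟨z, hz⟩, z1⟩ := ne_bot_iff_exists_ne_one.1 h0
  have hc := chP_cent h.lc (b.eaZ.sq z (b.ZL_le hz.1)) fun e => z1 (Subtype.ext e)
  have l1 : L ≤ 𝐂[zpowers z] := cent_comm (zpowers_le.2 hz.1.2)
  have n1 := l1.trans (le_norm_core (p := 2) _)
  have n2 : L' ≤ 𝐍[𝐎[2, 𝐂[zpowers z]]] := (cent_comm (zpowers_le.2 hz.2.2)).trans (le_norm_core _)
  have pR := pg_core (p := 2) 𝐂[zpowers z]
  set R := 𝐎[2, 𝐂[zpowers z]] with hR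
  have a1 := b.le_O pR n1
  have a2 := b'.le_O pR n2
  have a3 : 𝐑[2, L] ≤ 𝐂[R ⊓ L] := by_contra fun l => b.opp_symm b' o (by
    have := b.U_le_of_comm pR.to_inf_left (norm_inf n1 le_normalizer)
      (norm_of_le (a1.trans b.O_le)) l
    rw [← b.U_sup]
    exact sup_le ((le_inf (this.trans inf_le_left) (b.U_le.trans (b.V_le.trans b'.le))).trans a2)
      (b.ZL_le.trans (b'.Z_le.trans b'.V_le_O)))
  have a4 := bk_O_le b b' o
  have nP : L ≤ 𝐍[𝐁[2, T] ⊓ 𝐂[𝐑[2, L]]] := by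
    nth_rw 1 [← b.E_sup]
    exact sup_le (norm_of_cent (cent_comm inf_le_right))
      (norm_inf le_normalizer (norm_cent (b.le.trans (le_norm_res L))))
  have a5 : 𝐙[L] ≤ 𝐁[2, T] ⊓ 𝐂[𝐑[2, L]] :=
    le_inf (b.ZL_le.trans inf_le_left) (inf_le_right.trans (cent_anti b.E_le))
  have a6 : 𝐁[2, T] ⊓ 𝐂[𝐑[2, L]] ≤ 𝐁[2, T] := inf_le_left
  have a7 : 𝐁[2, T] ⊓ 𝐂[𝐑[2, L]] ≤ 𝐂[𝐑[2, L]] := inf_le_right
  generalize 𝐁[2, T] ⊓ 𝐂[𝐑[2, L]] = P at a4 nP a5 a6 a7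
  have n3 := norm_inf n1 (norm_cent nP)
  have a8 : R ⊓ 𝐂[P] ⊓ 𝐁[2, T] ≤ 𝐙[𝐁[2, T]] := le_inf inf_le_right (by
    refine le_trans ?_ (cent_anti (b'.opp_sup b (b.opp_symm b' o)).ge)
    refine le_cent_sup (((inf_le_inf inf_le_left b'.le).trans a2).trans b'.O_cent)
      (le_trans (le_cent_sup (((inf_le_inf inf_le_left b.le).trans a1).trans b.O_cent)
        (inf_le_left.trans inf_le_right)) (cent_anti a4)))
  have lM := lH.trans (le_norm_res (p := 2) H)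
  have n4 := norm_inf n3 (norm_of_le lM)
  have p4 : IsPGroup 2 ↥(R ⊓ 𝐂[P] ⊓ 𝐍[𝐑[2, H]]) := pR.to_inf_left.to_inf_left
  have n5 := norm_inf n1 (lH.trans (le_norm_res (p := 2) H))
  have a9 : 𝐑[2, L] ≤ 𝐂[R ⊓ 𝐑[2, H]] := by_contra fun l => b.not_U_le_ZL (b.le_ZL' b.U_le
    (cent_comm (a3.trans (cent_anti (le_inf ((b.U_le_of_comm pR.to_inf_left n5
      ((norm_of_le le_sup_left).trans (h.bB_eq pR.to_inf_left (b.le.trans n5)
        (inf_le_right.trans ((res_le H).trans le_sup_left)))) l).trans inf_le_left)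
      (b.U_le.trans (b.V_le.trans b.le)))))))
  have c1 : 𝐑[2, L] ≤ 𝐂[R ⊓ 𝐂[P] ⊓ 𝐍[𝐑[2, H]]] := res_le_cent_of_two p4 (b.E_le.trans n4)
    (le_inf ((comm_le_left (b.E_le.trans n4)).trans (inf_le_left.trans inf_le_left))
      ((commutator_mono le_rfl (res_mono lH)).trans (comm_le_right inf_le_right))) a9
  have c2 : R ⊓ 𝐂[P] ⊓ 𝐍[𝐑[2, H]] ≤ 𝐂[V0 T L] := le_trans (le_cent_sup (by
      rw [← b.U_sup]
      exact le_cent_sup ((cent_comm c1).trans (cent_anti (comm_le_right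
        (b.V_le.trans (b.le.trans (le_norm_res L))))))
        ((inf_le_left.trans inf_le_right).trans (cent_anti a5)))
    (inf_le_left.trans inf_le_right)) (cent_anti (V0_le'.trans a4))
  have n6 := (res_le (p := 2) H).trans (norm_cent (h.norm_V0 b lH nL))
  have c3 := h.bB_eq p4 (b.le.trans n4) ((le_C1 inf_le_right
    ((commutator_mono le_rfl c2).trans (comm_le_right n6)) n6 (h.pg_cent b lH nL)).trans
    le_sup_right)
  have c4 : R ⊓ 𝐂[P] ≤ R ⊓ 𝐂[P] ⊓ 𝐍[𝐑[2, H]] := by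
    refine le_inf le_rfl (by_contra fun l => ?_)
    obtain ⟨g, hg, g1, g2⟩ := Inv.exists_mem_normalizer_of_lt
      (pg_sup' pR.to_inf_left b.pg (b.le.trans n3)) (sup_le_sup_right inf_le_left _)
      fun k => l (le_sup_left.trans (k.trans (sup_le inf_le_right (b.le.trans lM))))
    obtain ⟨n, hn, s, hs, rfl⟩ := (mem_sup_norm (b.le.trans n3)).1 hg
    have k1 := (mul_mem_cancel_right (norm_of_le le_sup_right hs)).1 g2
    have k2 : ⁅𝐁[2, T], zpowers n⁆ ≤ V0 T L := (le_inf ((commutator_mono le_rfl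
      (zpowers_le.2 hn)).trans (comm_le_right (b.le.trans n3)))
      (comm_le_left (zpowers_le.2 (c3 k1)))).trans (a8.trans (b.Z_le.trans (h.V_le0 b lH nL)))
    exact g1 (mul_mem_sup ⟨hn, h.uq _ (fun e => b.not_V_le ((h.V_le0 b lH nL).trans
      (e.le.trans bot_le))) ((pg_core L).to_le V0_le') (h.norm_V0 b lH nL)
      (norm_of_comm_le (V0_le'.trans b.O_le) k2 (mem_zpowers n))⟩ hs)
  exact b.not_pg (hc.pg_of_res_le l1 (thompson_times_pResidualOf Nat.prime_two (b.pg.to_le a6)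
    (res_res L) pR a7 (a6.trans (b.le.trans n1)) (b.E_le.trans n1) (c4.trans (cent_comm c1))))

theorem cf (i : Inv T L) {x : G} (hx : x ∈ 𝐍[T]) (o : ¬ cj(x, V) ≤ 𝐎[2, L]) :
    Cf L cj(x, L) 𝐁[2, T] V cj(x, V) (Nat.card F) := by
  have xB : x ∈ 𝐍[𝐁[2, T]] := norm_bB le_rfl hx
  have b' := b.cj' xB
  have z := h.z_eq b lH nL b' o
  obtain ⟨o1, o2, sup, inf⟩ := b.opp_eq b' o z
  have tB : T ≤ 𝐍[𝐁[2, T]] := norm_bB le_normalizer
  have tV : T ≤ 𝐍[V] := fun t ht => ((b.bkE.opp_cj b'.bkE o z (tB ht)).resolve_right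
    fun e => o (e.1 ▸ h.cj_le b lH nL ht)).elim fun e _ => cj_eq_iff.1 e
  have tL : T ≤ 𝐍[L] := (le_inf le_rfl (o1.symm ▸ tV)).trans i
  have tL' : T ≤ 𝐍[cj(x, L)] := by rw [← cj_norm, ← cj_of_norm hx]; exact cj_mono x tL
  have hV := h.gen nL lH b.norm_V tV
  have eK : 𝐑[2, H] = 𝐑[2, L] := le_antisymm ((res_mono (h.gen nL lH le_sup_left le_sup_right)).trans
    (res_sup_eq tL h.syl.pg).le) (res_mono lH)
  have V0 : V ≠ ⊥ := fun e => b.not_V_le (e ▸ bot_le)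
  have nM := h.uq V V0 b.ea.pg hV
  have VQ : V ≤ 𝐎[2, H] := le_core_of_norm b.ea.pg (b.V_le.trans (b.le.trans lH)) hV
  have QT : 𝐎[2, H] ≤ T := h.syl.core_le
  have nQ := lH.trans (le_norm_core (p := 2) H)
  have nD : V ≤ 𝐍[𝐙[L]] := norm_Z (b.V_le.trans (b.le.trans le_normalizer))
  have c1 : V ≤ cmod 𝐎[2, H] 𝐙[L] := by
    have := b.cover inf_le_left (norm_inf b.norm_V (norm_cmod nQ (norm_Z le_normalizer)))
      (Blk.exists_fix b.ea.pg (pg_core H) (QT.trans tV) (QT.trans (norm_Z tL)) nD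
        fun l => b.not_V_le (l.trans b.ZL_le))
    exact this.ge.trans (sup_le inf_le_right (le_cmod_self (QT.trans (norm_Z tL))))
  have QB : 𝐎[2, H] ≤ 𝐁[2, T] := fun s hs => by
    have e : ∀ v ∈ V, ⁅v, s⁆ ∈ 𝐙[L] := fun v hv => comm_swap.1 ((c1 hv).2 s hs)
    have sW := b'.norm_V' tL' tB (QT hs)
    obtain ⟨θ, a1, -, -, a4⟩ := b'.semi h.syl.pg tB tL'
    have c : s ∈ cmod 𝐁[2, T] cj(x, V) := ⟨sW, fun y hy => by
      rw [← sup] at hy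
      obtain ⟨v, hv, w, hw, rfl⟩ := (mem_sup_norm' (b.V_le.trans (b'.le.trans b'.norm_V))).1 hy
      rw [commutatorElement_mul_left_eq_conj_mul]
      exact mul_mem (conj_mem_of_norm (b'.norm_V (b'.le (b.V_le hv))) (comm_mem_of_norm' sW hw))
        (b'.Z_le (b.ZL_le (e v hv)))⟩
    have c2 := (a1 ⟨s, QT hs⟩).1 (a4 _ fun y hy => le_cmod.2 ⟨norm_Z (b'.V_le.trans
      (b'.le.trans le_normalizer)), b'.ea.comm_le _⟩ ((inv_mem c).2 _ (inv_mem hy)))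
    exact inf_cent_Z_le T ⟨QT hs, mem_cent.2 fun y hy =>
      comm_eq_one.1 (z.le ⟨e y (b.Z_le hy), c2.2 y hy⟩)⟩
  have QV : 𝐎[2, H] ≤ V := (le_inf le_rfl (QB.trans b.le)).trans (o1 ▸ b.le_O (pg_core H) nQ)
  have MV : 𝐍[𝐑[2, H]] ≤ 𝐍[V] := by
    rw [← le_antisymm (h.coreM.trans QV) (h.chp.le_core (VQ.trans ((core_le H).trans
      (le_norm_res H))) (b.ea.ab.trans (cent_anti (h.coreM.trans QV))))]
    exact le_norm_core _
  have h1 : Hf L 𝐁[2, T] V (Nat.card F) := by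
    refine ⟨b.bkE, o1, eK ▸ nM, fun P pg l1 l2 => le_sup_left.trans ((h.hs _ (pg_sup pg b.ea.pg l1)
      (QV.trans le_sup_right) (sup_le ?_ (VQ.trans h.sylQ.le))).trans QV), fun e => ?_⟩
    · have n := (res_le (p := 2) H).trans (norm_cmod hV (norm_Z (h.gen nL lH le_normalizer tL)))
      refine le_C1 (l1.trans nM) ((commutator_mono le_rfl l2).trans (comm_le_right n)) n
        ((pg_core L).to_le fun g hg => ?_)
      have gL := b.E_le (eK ▸ hg.1)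
      exact (b.ker g gL).1 ((b.nat.toNatD.ker_iff' gL).2 hg.2)
    · obtain ⟨⟨d, hd⟩, d1⟩ := ne_bot_iff_exists_ne_one.1 (th_inf_center_ne_bot h.syl.pg
        (b.ZL_le.trans (inf_le_left.trans (bB_le T))) (norm_Z tL) e)
      have d2 : d ≠ 1 := fun l => d1 (Subtype.ext l)
      exact ⟨d, hd.1, d2, (norm_zp d).trans ((h.uq _ (zpowers_ne_bot.2 d2)
        (pg_zp (b.eaZ.sq d (b.ZL_le hd.1))) ((h.gen nL lH (cent_comm (zpowers_le.2 hd.1.2))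
          (cent_comm (zpowers_le.2 hd.2))).trans (norm_zp d))).trans MV)⟩
  have h2 := h1.cj x
  rw [cj_of_norm xB] at h2
  exact ⟨h.lc, h1, h2, sup, inf, z, x, xB, rfl⟩

omit b lH nL in
theorem sec : SectionalPRankLE 2 4 G := by
  obtain ⟨L, F, _, ρ, φ, b, lH, nL, i⟩ := h.exists_blk
  obtain ⟨x, hx, o⟩ := h.exists_opp b lH nL
  exact (h.cf b lH nL i hx o).sec

end Hy

end Cfsg.Agent.Loc.C2P
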