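import Mathlib
import Cfsg.Agent.Loc.C2PD
import Cfsg.Agent.GT.PPrimeCore

/-! The rank one quotients `Z₃` and `SL₂(2ⁿ)` have a unique maximal subgroup over a Sylow
subgroup. -/

set_option autoImplicit false
set_option linter.unusedSectionVars false

namespace Cfsg.Agent.Loc.C2P

open Cfsg Cfsg.Agent.GT Cfsg.Agent.Loc.Mss Cfsg.Agent.Loc.PU Cfsg.Agent.Loc.Blk
  Cfsg.Agent.Loc.GC Subgroup Matrix
open scoped commutatorElement MatrixGroups

variable {G : Type*} [Group G] [Finite G]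

theorem umax_three {S : Subgroup G} (hS : Syl 2 S ⊤)
    (e : G ⧸ pCore 2 G ≃* Multiplicative (ZMod 3)) :
    ∃ Bo, UMax ⊤ S Bo ∧ ∀ N ≤ Bo, N.Normal → IsPGroup 2 N := by
  have i : (𝐎[2, (⊤ : Subgroup G)]).index = 3 := by
    rw [pCoreOf_top, index, Nat.card_congr e.toEquiv]; simp
  have s : Syl 2 𝐎[2, (⊤ : Subgroup G)] ⊤ := ⟨le_top, pg_core _, by rw [relIndex_top_right, i]; omega⟩
  refine ⟨𝐎[2, ⊤], ⟨s.le_of_norm' hS.pg le_top (le_top.trans (le_norm_core ⊤)),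
    Ne.lt_top fun l => by rw [l, index_top] at i; omega, fun X h1 h2 => ?_⟩,
    fun N h _ => (pg_core ⊤).to_le h⟩
  have := relIndex_mul_index (hS.core_le.trans h1)
  rw [i] at this
  rcases (Nat.dvd_prime Nat.prime_three).1 (Dvd.intro_left _ this) with l | l
  · exact absurd (index_eq_one.1 l) h2.ne
  · rw [l] at this
    exact relIndex_eq_one.1 (by omega)

theorem umax_sl {F : Type*} [Field F] [Finite F] [CharP F 2] {S : Subgroup G} (hS : Syl 2 S ⊤)
    (e : G ⧸ pCore 2 G ≃* SL(2, F)) :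
    ∃ Bo, UMax ⊤ S Bo ∧ ∀ N ≤ Bo, N.Normal → IsPGroup 2 N := by
  obtain ⟨π, hπ, hk, hπS⟩ : ∃ π : G →* SL(2, F), Function.Surjective π ∧ π.ker = pCore 2 G ∧
      S.map π = upU F := by
    let π₀ := e.toMonoidHom.comp (QuotientGroup.mk' (pCore 2 G))
    have h0 : Function.Surjective π₀ := e.surjective.comp (QuotientGroup.mk'_surjective _)
    have h1 := hS.map π₀
    rw [map_top_of_surjective _ h0] at h1
    obtain ⟨A, -, hA⟩ := h1.conj_eq (syl_upU (F := F) (p := 2))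
    refine ⟨(MulAut.conj A).toMonoidHom.comp π₀, (MulAut.conj A).surjective.comp h0, ?_,
      by rw [← Subgroup.map_map, hA]⟩
    ext g
    simp [π₀]
  have hU : upU F ≤ borel F := by rintro _ ⟨t, rfl⟩; rfl
  have hO : π.ker ≤ S := hk.le.trans (pCoreOf_top.ge.trans hS.core_le)
  refine ⟨(borel F).comap π, ⟨map_le_iff_le_comap.1 (hπS.le.trans hU), Ne.lt_top fun h => ?_,
    fun X h1 h2 x hx => by_contra fun l => h2.not_ge ?_⟩, fun N h hN => ?_⟩
  · obtain ⟨g, hg⟩ := hπ (slLo 1)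
    have := h.ge (mem_top g)
    rw [mem_comap, hg] at this
    exact one_ne_zero (α := F) this
  · have : S ⊔ cj(x, S) ⊔ π.ker = ⊤ := by
      rw [← comap_map_eq, Subgroup.map_sup, map_cj, hπS, upU_sup_cj l, comap_top]
    exact this.ge.trans (sup_le (sup_le h1 (cj_le_of_mem h1 hx)) (hO.trans h1))
  · refine hS.pg.to_le (le_trans (fun k hk => ?_) hO)
    have h1 : ∀ A : SL(2, F), (A * π k * A⁻¹) 1 0 = 0 := fun A => by
      obtain ⟨g, rfl⟩ := hπ A
      rw [← map_inv, ← map_mul, ← map_mul]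
      exact h (hN.conj_mem k hk g)
    have a := h1 1
    have b := h1 (slLo 1)
    have c := h1 (slLo 1 * slUp (-1))
    have d := sl_det (π k)
    rw [one_mul, inv_one, mul_one] at a
    simp only [sl_mul, sl_inv, up_ent, lo_ent] at b c
    have e1 : π k 0 1 = 0 := by linear_combination -c
    have e2 : π k 1 1 = π k 0 0 := by linear_combination -b + a - e1
    rw [e1, e2, zero_mul, sub_zero, mul_self_eq_one_iff, CharTwo.neg_eq, or_self] at d
    exact sl_ext d e1 a (e2.trans d)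

theorem umax_amb {K S : Subgroup G} (hS : Syl 2 S K)
    (h : ∀ S : Subgroup K, Syl 2 S ⊤ → ∃ Bo, UMax ⊤ S Bo ∧ ∀ N ≤ Bo, N.Normal → IsPGroup 2 N) :
    ∃ Bo, UMax K S Bo ∧ ∀ N ≤ Bo, K ≤ 𝐍[N] → IsPGroup 2 N := by
  have h1 := hS.subgroupOf le_rfl
  rw [subgroupOf_self] at h1
  obtain ⟨Bo, h2, h3⟩ := h _ h1
  have h4 := (uMax_map_iff K.subtype_injective).2 h2
  rw [map_subtype_top, map_subgroupOf_eq_of_le hS.le] at h4
  refine ⟨_, h4, fun N a b => ?_⟩
  have l := a.trans (map_subtype_le Bo)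
  rw [← map_subgroupOf_eq_of_le l]
  exact (h3 _ ((subgroupOf_le_iff l).2 a) ((normal_subgroupOf_iff_le_normalizer l).2 b)).map _

theorem exists_max_local {X : Subgroup G} (h : IsTwoLocal X) :
    ∃ M, IsMaximalTwoLocal M ∧ X ≤ M := by
  obtain ⟨M, h1, h2⟩ := Finite.exists_le_maximal (p := IsTwoLocal) h
  exact ⟨M, ⟨h2.1, fun N a b => le_antisymm (h2.2 a b) b⟩, h1⟩

end Cfsg.Agent.Loc.C2P
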