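import Mathlib
import Cfsg.Agent.Loc.CGSmall

/-! The module of a small block under automorphisms of the Baumann subgroup (`p = 2`). -/

set_option autoImplicit false
set_option linter.unusedSectionVars false

namespace Cfsg.Agent.Loc.CG

open Cfsg Cfsg.Agent.GT Cfsg.Agent.Loc.Mss Cfsg.Agent.Loc.PU Cfsg.Agent.Loc.Blk Subgroup
open scoped commutatorElement MatrixGroups

variable {G G' : Type*} [Group G] [Group G'] {q : ℕ}

/-- The position of the module `N` of a small block inside the Baumann subgroup `B`. -/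
structure Pi (q : ℕ) (B N : Subgroup G) : Prop where
  le : N ≤ B
  comm : N ≤ 𝐂[N]
  sq : ∀ n ∈ N, n * n = 1
  nm : B ≤ 𝐍[N]
  ti : ∀ n ∈ N, n ∉ 𝐂[B] → ∀ b ∈ B, b * n = n * b → b ∈ 𝐂[N]
  c1 : Nat.card B = q * Nat.card ↥(B ⊓ 𝐂[N])
  c2 : Nat.card N = q * Nat.card ↥(N ⊓ 𝐂[B])

theorem mem_cent_map_iff {f : G →* G'} (hf : Function.Injective f) {Y : Subgroup G} {x : G} :
    f x ∈ 𝐂[Y.map f] ↔ x ∈ 𝐂[Y] :=
  ⟨fun h => mem_cent.2 fun y hy => hf (by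
    rw [map_mul, map_mul]; exact mem_cent.1 h _ (mem_map_of_mem f hy)), mem_cent_map⟩

theorem pi_map_iff {f : G →* G'} (hf : Function.Injective f) {B N : Subgroup G} :
    Pi q (B.map f) (N.map f) ↔ Pi q B N := by
  constructor
  · intro h
    refine ⟨(map_le_map_iff_of_injective hf).1 h.le, (map_le_cent_iff hf).1 h.comm,
      fun n hn => hf ?_, (map_le_norm_iff hf).1 h.nm, fun n hn hn' b hb e =>
      (mem_cent_map_iff hf).1 (h.ti _ (mem_map_of_mem f hn)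
        (fun l => hn' ((mem_cent_map_iff hf).1 l)) _ (mem_map_of_mem f hb) ?_), ?_, ?_⟩
    · rw [map_mul, map_one]; exact h.sq _ (mem_map_of_mem f hn)
    · rw [← map_mul, ← map_mul, e]
    · have := h.c1
      rwa [← map_inf_cent hf, card_map_of_injective hf, card_map_of_injective hf] at this
    · have := h.c2
      rwa [← map_inf_cent hf, card_map_of_injective hf, card_map_of_injective hf] at this
  · intro h
    refine ⟨map_mono h.le, map_cent_le f h.comm, ?_, map_norm_le f h.nm, ?_, ?_, ?_⟩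
    · rintro _ ⟨n, hn, rfl⟩
      rw [← map_mul, h.sq n hn, map_one]
    · rintro _ ⟨n, hn, rfl⟩ hn' _ ⟨b, hb, rfl⟩ e
      exact mem_cent_map (h.ti n hn (fun l => hn' (mem_cent_map l)) b hb
        (hf (by rw [map_mul, map_mul, e])))
    · rw [← map_inf_cent hf, card_map_of_injective hf, card_map_of_injective hf, h.c1]
    · rw [← map_inf_cent hf, card_map_of_injective hf, card_map_of_injective hf, h.c2]

variable [Finite G]

theorem Pi.exists_mul {B W N : Subgroup G} (hW : Pi q B W) (hN : Pi q B N) (h : ¬ N ≤ 𝐂[W])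
    {b : G} (hb : b ∈ B) : ∃ n ∈ N, ∃ r ∈ B ⊓ 𝐂[W], n * r = b := by
  have hn : N ≤ 𝐍[B ⊓ 𝐂[W]] := hN.le.trans (norm_inf le_normalizer (norm_cent hW.nm))
  have e1 : N ⊓ (B ⊓ 𝐂[W]) = N ⊓ 𝐂[B] := by
    refine le_antisymm (fun n hn => ⟨hn.1, by_contra fun l => h (cent_comm fun w hw =>
      hN.ti n hn.1 l w (hW.le hw) (mem_cent.1 hn.2.2 w hw))⟩)
      (inf_le_inf_left _ ?_ |>.trans' (le_inf inf_le_left (le_refl (N ⊓ 𝐂[B]))))
    exact le_inf (inf_le_left.trans hN.le) (inf_le_right.trans (cent_anti hW.le))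
  have e2 := card_sup_mul_card_inf_of_le_normalizer hn
  rw [e1, hN.c2] at e2
  have e3 : N ⊔ B ⊓ 𝐂[W] = B := eq_of_le_of_card_ge (sup_le hN.le inf_le_left) (le_of_eq (by
    refine Nat.eq_of_mul_eq_mul_right (Nat.card_pos (α := ↥(N ⊓ 𝐂[B]))) ?_
    rw [e2, hW.c1]; ring))
  exact (mem_sup_norm' hn).1 (e3.ge hb)

theorem Pi.inf_cent_le {B W N N' D : Subgroup G} (hW : Pi q B W) (hN : Pi q B N)
    (hN' : Pi q B N') (h : ¬ N ≤ 𝐂[W]) (h' : ¬ N' ≤ 𝐂[W])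
    (d1 : ∀ r ∈ B ⊓ 𝐂[W], ∀ s ∈ B ⊓ 𝐂[W], ⁅r, s⁆ ∈ D) (d2 : ∀ r ∈ B ⊓ 𝐂[W], r * r ∈ D)
    (d3 : ∀ b ∈ B, ∀ w ∈ W, ⁅b, w⁆ ∈ D → b * w = w * b) : B ⊓ 𝐂[N] ≤ 𝐂[N'] := by
  have k0 : ∀ r ∈ B ⊓ 𝐂[W], ∃ w ∈ W, ∃ y ∈ B ⊓ 𝐂[W] ⊓ 𝐂[N], w * y = r := fun r hr => by
    obtain ⟨w, hw, y, hy, rfl⟩ := hN.exists_mul hW (fun l => h (cent_comm l)) hr.1
    exact ⟨w, hw, y, ⟨⟨hy.1, (mul_mem_cancel_left (hW.comm hw)).1 hr.2⟩, hy.2⟩, rfl⟩
  obtain ⟨n, hn, hn'⟩ := SetLike.not_le_iff_exists.1 h'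
  obtain ⟨a, ha, r, hr, e⟩ := hW.exists_mul hN h (hN'.le hn)
  obtain ⟨w, hw, y, hy, rfl⟩ := k0 r hr
  have ha' : a ∉ 𝐂[W] := fun l => hn' (e ▸ mul_mem l hr.2)
  have c1 : Commute a y := mem_cent.1 hy.2 a ha
  have c2 : Commute w y := mem_cent.1 hy.1.2 w hw
  have k1 : a * w = w * a := by
    refine d3 a (hN.le ha) w hw ?_
    have e1 := hN'.sq n hn
    have e2 : n * n = ⁅a, w⁆ * (y * y) := by
      rw [← e, commutatorElement_def, inv_eq_of_mul_eq_one_right (hN.sq a ha),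
        inv_eq_of_mul_eq_one_right (hW.sq w hw)]
      calc a * (w * y) * (a * (w * y)) = a * w * (y * (a * w)) * y := by group
        _ = _ := by rw [← (c1.mul_left c2).eq]; group
    rw [eq_inv_of_mul_eq_one_left (e2.symm.trans e1)]
    exact inv_mem (d2 y hy.1)
  have k2 : w ∈ 𝐂[B] := by_contra fun l => ha' (hW.ti w hw l a (hN.le ha) k1)
  have k3 : n ∈ 𝐂[N] := e ▸ mul_mem (hN.comm ha) (mul_mem (cent_anti hN.le k2) hy.2)
  intro b hb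
  refine hN'.ti n hn (fun l => hn' (cent_anti hW.le l)) b hb.1 ?_
  obtain ⟨m, hm, r, hr', rfl⟩ := hW.exists_mul hN h hb.1
  have hr2 : r ∈ 𝐂[N] := (mul_mem_cancel_left (hN.comm hm)).1 hb.2
  have k4 : Commute r n := by
    obtain ⟨w', hw', c, hc, e'⟩ := hN'.exists_mul hW (fun l => h' (cent_comm l)) hr'.1
    have c3 : Commute n c := mem_cent.1 hc.2 n hn
    have e1 : ⁅n, r⁆ = ⁅n, w'⁆ := by
      rw [← e', commutatorElement_def, commutatorElement_def]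
      calc n * (w' * c) * n⁻¹ * (w' * c)⁻¹ = n * w' * (c * n⁻¹) * c⁻¹ * w'⁻¹ := by group
        _ = _ := by rw [← c3.inv_left.eq]; group
    have hyr := d1 y hy.1 r hr'
    have c4 : Commute a r := mem_cent.1 hr2 a ha
    have c5 : Commute w r := mem_cent.1 hr'.2 w hw
    have c6 : Commute (a * w) ⁅y, r⁆ :=
      ((c1.mul_left c2).mul_right (c4.mul_left c5)).mul_right (c1.mul_left c2).inv_right
        |>.mul_right (c4.mul_left c5).inv_right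
    have e2 : ⁅n, r⁆ = ⁅y, r⁆ := by
      calc ⁅n, r⁆ = a * w * ⁅y, r⁆ * (r * (a * w)⁻¹) * r⁻¹ := by
            rw [← e, commutatorElement_def, commutatorElement_def]; group
        _ = _ := by rw [← (c4.mul_left c5).inv_left.eq, c6.eq]; group
    have := d3 n (hN'.le hn) w' hw' (e1 ▸ e2 ▸ hyr)
    rw [← commutatorElement_eq_one_iff_mul_comm, ← e1, commutatorElement_eq_one_iff_commute] at this
    exact this.symm
  exact (Commute.mul_left (mem_cent.1 k3 m hm) k4).eq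

theorem map_aut_mul (N : Subgroup G) (α β : MulAut G) :
    N.map (α * β).toMonoidHom = (N.map β.toMonoidHom).map α.toMonoidHom := by
  rw [map_map]; rfl

theorem map_aut_one (N : Subgroup G) : N.map (1 : MulAut G).toMonoidHom = N := map_id N

theorem Pi.map_le_cent {B W D : Subgroup G} (hW : Pi q B W)
    (d1 : ∀ r ∈ B ⊓ 𝐂[W], ∀ s ∈ B ⊓ 𝐂[W], ⁅r, s⁆ ∈ D) (d2 : ∀ r ∈ B ⊓ 𝐂[W], r * r ∈ D)
    (d3 : ∀ b ∈ B, ∀ w ∈ W, ⁅b, w⁆ ∈ D → b * w = w * b) [hB : B.Characteristic]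
    (hc : ∀ s : G, cj(s, W) ≤ 𝐂[W]) {γ : MulAut G} {m : ℕ} (hm : Odd m) {s : G}
    (e : γ ^ m = MulAut.conj s) : W.map γ.toMonoidHom ≤ 𝐂[W] := by
  by_contra h
  have hB' : ∀ α : MulAut G, B.map α.toMonoidHom = B := characteristic_iff_map_eq.1 hB
  have hp : ∀ α : MulAut G, Pi q B (W.map α.toMonoidHom) := fun α =>
    hB' α ▸ (pi_map_iff α.injective).2 hW
  have h' : ¬ W.map γ⁻¹.toMonoidHom ≤ 𝐂[W] := fun l => h (cent_comm (by
    have := map_cent_le γ.toMonoidHom l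
    rwa [← map_aut_mul, mul_inv_cancel, map_aut_one] at this))
  have hR : ∀ α : MulAut G, (B ⊓ 𝐂[W]).map α.toMonoidHom = B ⊓ 𝐂[W.map α.toMonoidHom] :=
    fun α => by rw [map_inf_cent α.injective, hB']
  have e1 : (B ⊓ 𝐂[W]).map γ.toMonoidHom = (B ⊓ 𝐂[W]).map γ⁻¹.toMonoidHom := by
    rw [hR, hR]
    exact le_antisymm (le_inf inf_le_left (hW.inf_cent_le (hp _) (hp _) h h' d1 d2 d3))
      (le_inf inf_le_left (hW.inf_cent_le (hp _) (hp _) h' h d1 d2 d3))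
  have e2 : ∀ k, (B ⊓ 𝐂[W]).map (γ ^ (2 * k + 1)).toMonoidHom =
      (B ⊓ 𝐂[W]).map γ.toMonoidHom := fun k => by
    induction k with
    | zero => simp
    | succ k ih =>
      rw [show 2 * (k + 1) + 1 = 2 * k + 1 + 1 + 1 by ring, pow_succ, map_aut_mul, e1,
        ← map_aut_mul, pow_succ, mul_inv_cancel_right, ih, e1]
  obtain ⟨k, rfl⟩ := hm
  have e3 := e2 k
  rw [e, hR, hR] at e3
  exact h (cent_comm ((le_inf hW.le (cent_comm (hc s))).trans (e3.le.trans inf_le_right)))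

namespace SDW

variable {p : ℕ} [Fact p.Prime] {T E A : Subgroup G} {K : Type} [Field K] {ρ : G → SL(2, K)}
  {φ : G → Fin 2 → K} (h : SDW p T E A ρ φ) (hB : BK p T E)
include h hB

theorem ker_iff {a : G} (ha : a ∈ A) : ρ a = 1 ↔ a ∈ A ⊓ 𝐂[𝐖[p, E]] :=
  ⟨fun e => ⟨ha, h.ker a (h.nat.leS ha) e⟩, fun l => (h.nat.ker_iff (h.nat.leS ha)).2
    fun v hv => by
      rw [commutatorElement_eq_one_iff_mul_comm.2 (mem_cent.1 l.2 v hv).symm]
      exact one_mem _⟩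

theorem star_mem : A ⊓ 𝐂[𝐖[p, E]] ⊔ 𝐖[p, E] ∈ abFam p T := by
  have hA := h.mem
  have hAc := abFam_comm hA
  have hc : IsMulCommutative ↥(A ⊓ 𝐂[𝐖[p, E]] ⊔ 𝐖[p, E]) :=
    th_comm_sup (th_comm_mono hAc inf_le_left) (th_comm_mono (oc_isMulCommutative _) (W_le E))
      (cent_comm inf_le_right)
  refine mem_abFam_of_card_le hA (sup_le (inf_le_left.trans (abFam_le hA))
    (hB.W_le_Q.trans hB.Q_le)) hc (th_pow_sup hc (fun a ha => abFam_pow hA a ha.1)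
      fun w hw => (mem_oc.1 (W_le E hw)).2.2) ?_
  have e1 := h.nat.card_S inf_le_left fun s hs => h.ker_iff hB hs
  have e2 := card_sup_mul_card_inf_of_le_normalizer (H := A ⊓ 𝐂[𝐖[p, E]]) (K := 𝐖[p, E])
    (norm_of_cent inf_le_right)
  have e3 : Nat.card ↥(A ⊓ 𝐂[𝐖[p, E]] ⊓ 𝐖[p, E]) ≤ Nat.card ↥(𝐖[p, E] ⊓ 𝐂[A]) :=
    card_le_of_le (le_inf inf_le_right ((inf_le_left.trans inf_le_left).trans (le_centralizer A)))
  refine Nat.le_of_mul_le_mul_right ?_ (Nat.card_pos (α := ↥(𝐖[p, E] ⊓ 𝐂[A])))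
  refine le_trans ?_ (Nat.mul_le_mul_left _ e3)
  rw [e2, e1, h.nat.card_V']
  exact le_of_eq (by ring)

theorem W_le_B : 𝐖[p, E] ≤ 𝐁[p, T] :=
  (le_sup_right.trans (le_thJ (h.star_mem hB))).trans (thJ_le_bB T)

omit hB in
theorem A_le : A ≤ 𝐁[p, T] := (le_thJ h.mem).trans (thJ_le_bB T)

omit hB in
theorem exists_mul {b : G} (hb : b ∈ 𝐁[p, T]) :
    ∃ a ∈ A, ∃ r ∈ 𝐁[p, T] ⊓ 𝐂[𝐖[p, E]], a * r = b := by
  obtain ⟨a, ha, e⟩ := h.split b hb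
  exact ⟨a, ha, _, ⟨Subgroup.mul_mem _ (Subgroup.inv_mem _ (h.A_le ha)) hb, e⟩,
    mul_inv_cancel_left a b⟩

omit hB in
theorem inf_cent_B : 𝐖[p, E] ⊓ 𝐂[𝐁[p, T]] = 𝐖[p, E] ⊓ 𝐂[A] :=
  le_antisymm (inf_le_inf_left _ (cent_anti h.A_le)) fun w hw => ⟨hw.1, mem_cent.2 fun b hb => by
    obtain ⟨a, ha, r, hr, rfl⟩ := h.exists_mul hb
    exact (Commute.mul_left (mem_cent.1 hw.2 a ha) (mem_cent.1 hr.2 w hw.1).symm).eq⟩

theorem card_B : Nat.card 𝐁[p, T] = Nat.card K * Nat.card ↥(𝐁[p, T] ⊓ 𝐂[𝐖[p, E]]) := by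
  have hn : A ≤ 𝐍[𝐁[p, T] ⊓ 𝐂[𝐖[p, E]]] :=
    h.A_le.trans (norm_inf le_normalizer (norm_cent (norm_W hB.B_norm)))
  have e1 := card_sup_mul_card_inf_of_le_normalizer hn
  rw [le_antisymm (sup_le h.A_le inf_le_left) fun b hb => (mem_sup_norm' hn).2 (h.exists_mul hb),
    ← inf_assoc, inf_eq_left.2 h.A_le, h.nat.card_S inf_le_left fun s hs => h.ker_iff hB hs] at e1
  refine Nat.eq_of_mul_eq_mul_right (Nat.card_pos (α := ↥(A ⊓ 𝐂[𝐖[p, E]]))) ?_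
  rw [e1]; ring

/-- a commutator `⁅b, w⁆` centralizing `E` is trivial -/
theorem cases_of_comm {b w : G} (hb : b ∈ 𝐁[p, T]) (hw : w ∈ 𝐖[p, E]) (hc : ⁅b, w⁆ ∈ 𝐂[E]) :
    b ∈ 𝐂[𝐖[p, E]] ∨ w ∈ 𝐂[𝐁[p, T]] := by
  obtain ⟨a, ha, r, hr, rfl⟩ := h.exists_mul hb
  have e : ⁅a * r, w⁆ = ⁅a, w⁆ := by
    have c : Commute r w := (mem_cent.1 hr.2 w hw).symm
    rw [commutatorElement_def, commutatorElement_def]
    calc a * r * w * (a * r)⁻¹ * w⁻¹ = a * (r * w) * r⁻¹ * a⁻¹ * w⁻¹ := by group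
      _ = _ := by rw [c.eq]; group
  by_cases e' : ρ a = 1
  · exact Or.inl (mul_mem ((h.ker_iff hB ha).1 e').2 hr.2)
  · have h1 := h.nat.comm_mem_X ha hw
    exact Or.inr (h.inf_cent_B.ge (h.nat.mem_X_of_comm ha e' hw
      ⟨h1.1, le_cent_sup (X := zpowers ⁅a, w⁆) (zpowers_le.2 (e ▸ hc)) (zpowers_le.2 h1.2)
        (mem_zpowers _)⟩)).2

end SDW

theorem SDW.pi {T E A : Subgroup G} {K : Type} [Field K] {ρ : G → SL(2, K)}
    {φ : G → Fin 2 → K} (h : SDW 2 T E A ρ φ) (hB : BK 2 T E) :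
    Pi (Nat.card K) 𝐁[2, T] 𝐖[2, E] :=
  ⟨h.W_le_B hB, ((W_le E).trans (W₀_le E)).trans (core_le_cent_W E),
    fun n hn => by rw [← sq]; exact (mem_oc.1 (W_le E hn)).2.2, norm_W hB.B_norm,
    fun n hn hn' b hb e => (h.cases_of_comm hB hb hn (by
      rw [commutatorElement_eq_one_iff_mul_comm.2 e]; exact one_mem _)).resolve_right hn',
    h.card_B hB, by rw [h.inf_cent_B, h.nat.card_V']⟩

end Cfsg.Agent.Loc.CG
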