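import Mathlib
import Cfsg.Prelude.Def_CaseTheorems
import Cfsg.Agent.Loc.MssSyl
import Cfsg.Agent.Loc.AmBasic
import Cfsg.Agent.GT.PGroupChain
import Cfsg.Agent.GT.PiGroups
import Cfsg.Agent.GT.TransferSylow
import Cfsg.Agent.Inv.LocalChar

/-! Maximal 2-local subgroups of characteristic 2 whose Sylow 2-subgroups are TI modulo the
2-core and in which the involutions of the 2-core are 2-central: one subgroup at a time. -/

set_option autoImplicit false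
set_option linter.unusedSectionVars false

namespace Cfsg.Agent.Loc.Gom

open Cfsg Cfsg.Agent.GT Subgroup Cfsg.Agent.Loc.Mss
open scoped commutatorElement

scoped notation:max "𝐐[" M "]" => Cfsg.pCoreOf 2 M
scoped notation:max "Ω[" T "]" => Cfsg.Agent.Loc.Am.omZ 2 T

variable {G : Type*} [Group G] [Finite G] {M M' S S' P X W : Subgroup G}

theorem mem_Z {x : G} : x ∈ Ω[S] ↔ x ∈ S ∧ x ∈ 𝐂[S] ∧ x * x = 1 := by
  rw [Am.mem_omZ, pow_two]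

theorem Z_le (S : Subgroup G) : Ω[S] ≤ S := Am.omZ_le 2 S

theorem Z_cent (S : Subgroup G) : Ω[S] ≤ 𝐂[S] := Am.omZ_le_centralizer 2 S

theorem Z_sq {x : G} (h : x ∈ Ω[S]) : x * x = 1 := (mem_Z.1 h).2.2

theorem cj_Z (g : G) (S : Subgroup G) : cj(g, Ω[S]) = Ω[cj(g, S)] := Am.cj_omZ 2 g S

theorem norm_Z (h : X ≤ 𝐍[S]) : X ≤ 𝐍[Ω[S]] := h.trans (Am.normalizer_le_normalizer_omZ 2 S)

theorem grow (hP : IsPGroup 2 P) (h : X ≤ P) (h1 : P ⊓ 𝐍[X] ≤ X) : P ≤ X := by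
  rcases h.lt_or_eq with h2 | h2
  · exact absurd h1 (Tr.lt_inf_normalizer hP h2).not_ge
  · exact h2.ge

theorem inv_of_sq {x : G} (h : x * x = 1) : x⁻¹ = x := inv_eq_of_mul_eq_one_right h

theorem conj_sq {x : G} (h : x * x = 1) (g : G) : g * x * g⁻¹ * (g * x * g⁻¹) = 1 := by
  rw [conj_mul, h]; simp

theorem cj_sq (h : ∀ x ∈ X, x * x = 1) (g : G) : ∀ x ∈ cj(g, X), x * x = 1 := by
  rintro _ ⟨x, hx, rfl⟩
  exact conj_sq (h x hx) g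

theorem comm_of_sq (h : ∀ x ∈ X, x * x = 1) : ∀ a ∈ X, ∀ b ∈ X, a * b = b * a :=
  fun a ha b hb => by
    rw [← inv_of_sq (h _ (mul_mem ha hb)), mul_inv_rev, inv_of_sq (h a ha), inv_of_sq (h b hb)]

theorem relIndex_le_of_map {A B C D : Subgroup G} (φ : G → G) (h1 : ∀ s ∈ B, φ s ∈ D)
    (h2 : ∀ s ∈ B, ∀ s' ∈ B, (φ s)⁻¹ * φ s' ∈ C → s⁻¹ * s' ∈ A) :
    A.relIndex B ≤ C.relIndex D := by
  refine Nat.card_le_card_of_injective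
    (fun x : B ⧸ A.subgroupOf B =>
      (QuotientGroup.mk ⟨φ x.out, h1 _ x.out.2⟩ : D ⧸ C.subgroupOf D)) fun x y e => ?_
  rw [← x.out_eq, ← y.out_eq]
  have e' := QuotientGroup.eq.1 e
  exact QuotientGroup.eq.2 (h2 _ x.out.2 _ y.out.2 (mem_subgroupOf.1 e'))

theorem relIndex_mono {B C D : Subgroup G} (h : B ≤ D) : C.relIndex B ≤ C.relIndex D :=
  relIndex_le_of_le_right h index_ne_zero_of_finite

theorem le_sup_of_relIndex {B C D : Subgroup G} (hB : B ≤ D) (hC : C ≤ D)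
    (h : C.relIndex D ≤ C.relIndex B) : D ≤ C ⊔ B := by
  have h1 := relIndex_mul_relIndex C (C ⊔ B) D le_sup_left (sup_le hC hB)
  have h2 : C.relIndex B ≤ C.relIndex (C ⊔ B) := relIndex_mono le_sup_right
  have h3 : C.relIndex (C ⊔ B) ≠ 0 := index_ne_zero_of_finite
  have h4 : (C ⊔ B).relIndex D ≠ 0 := index_ne_zero_of_finite
  rw [← relIndex_eq_one]
  by_contra h5
  have : 2 ≤ (C ⊔ B).relIndex D := by omega
  nlinarith [Nat.pos_of_ne_zero h3]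

theorem max_eq (h : IsMaximalTwoLocal M) (hX : IsPGroup 2 X) (hne : X ≠ ⊥) (hn : M ≤ 𝐍[X]) :
    𝐍[X] = M := h.2 _ ⟨X, hX, hne, rfl⟩ hn

theorem max_Q_ne (h : IsMaximalTwoLocal M) : 𝐐[M] ≠ ⊥ := by
  obtain ⟨⟨X, hX, hne, rfl⟩, -⟩ := h
  exact fun e => hne (eq_bot_iff.2 (e ▸ le_pCoreOf le_normalizer le_rfl hX))

theorem max_N_Q (h : IsMaximalTwoLocal M) : 𝐍[𝐐[M]] = M :=
  max_eq h (pg_core M) (max_Q_ne h) (le_norm_core M)

theorem exists_max (hX : IsPGroup 2 X) (hne : X ≠ ⊥) :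
    ∃ M, IsMaximalTwoLocal M ∧ 𝐍[X] ≤ M :=
  Inv.LC.exists_maximalTwoLocal_ge ⟨X, hX, hne, rfl⟩

theorem max_cj (h : IsMaximalTwoLocal M) (g : G) : IsMaximalTwoLocal cj(g, M) := by
  have key : ∀ (N : Subgroup G) (g : G), IsTwoLocal N → IsTwoLocal cj(g, N) := by
    rintro _ g ⟨X, hX, hne, rfl⟩
    exact ⟨cj(g, X), pg_cj hX g, fun e => hne (cj_eq_bot.1 e), cj_norm X g⟩
  refine ⟨key _ g h.1, fun N hN hle => ?_⟩
  rw [← h.2 _ (key N g⁻¹ hN) (cj_le_iff_le_inv.1 hle), cj_cj_inv]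

theorem pCl_cj (h : PCl 2 M) (g : G) : PCl 2 cj(g, M) := h.map _

/-- A maximal 2-local subgroup which is not 2-closed and has the three properties. -/
structure Good (M : Subgroup G) : Prop where
  mx : IsMaximalTwoLocal M
  chr : ChP 2 M
  ti : ∀ S S', Syl 2 S M → Syl 2 S' M → S ≠ S' → S ⊓ S' ≤ 𝐐[M]
  cen : ∀ x ∈ 𝐐[M], x * x = 1 → ∃ S, Syl 2 S M ∧ x ∈ 𝐂[S]
  ncl : ¬ PCl 2 M

/-- Every maximal 2-local subgroup is 2-closed or good. -/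
def Hyp (G : Type*) [Group G] : Prop :=
  ∀ M : Subgroup G, IsMaximalTwoLocal M → ¬ PCl 2 M → Good M

theorem odd_part (x : G) : ∃ m, Odd m ∧ IsPGroup 2 (zpowers (x ^ m)) := by
  obtain ⟨k, m, hm, e⟩ := Nat.exists_eq_two_pow_mul_odd (orderOf_pos x).ne'
  refine ⟨m, hm, IsPGroup.of_card_dvd_pow (n := k) ?_⟩
  rw [Nat.card_zpowers]
  exact orderOf_dvd_of_pow_eq_one (by rw [← pow_mul, mul_comm, ← e, pow_orderOf_eq_one])

theorem norm_dih {Q : Subgroup G} {x y c : G} (hx : x ∈ 𝐍[Q]) (hy : y ∈ 𝐍[Q]) (hc : c ∈ Q)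
    (e : y * x * y⁻¹ = c * x⁻¹) (m : ℕ) : y ∈ 𝐍[zpowers (x ^ m) ⊔ Q] := by
  have h1 : ∀ m : ℕ, (c * x⁻¹) ^ m * x ^ m ∈ Q := fun m => by
    induction m with
    | zero => simp [one_mem]
    | succ m ih =>
      have : (c * x⁻¹) ^ (m + 1) * x ^ (m + 1) = c * (x⁻¹ * ((c * x⁻¹) ^ m * x ^ m) * x) := by
        rw [pow_succ', pow_succ]; simp only [mul_assoc]
      rw [this]
      exact mul_mem hc (conj_mem_of_norm' hx ih)
  refine mem_norm_of_cj_le ?_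
  rw [cj_sup, cj_of_norm hy, MonoidHom.map_zpowers]
  refine sup_le (zpowers_le.2 ?_) le_sup_right
  have : (MulAut.conj y).toMonoidHom (x ^ m) = (c * x⁻¹) ^ m * x ^ m * (x ^ m)⁻¹ := by
    rw [map_pow, mul_inv_cancel_right, ← e]; rfl
  rw [this]
  exact mul_mem (mem_sup_right (h1 m)) (mem_sup_left (inv_mem (mem_zpowers _)))

namespace Good

variable (h : Good M)
include h

theorem N_Q : 𝐍[𝐐[M]] = M := max_N_Q h.mx

theorem V_ne : Ω[𝐐[M]] ≠ ⊥ := Am.omZ_ne_bot (pg_core M) (max_Q_ne h.mx)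

theorem N_V : 𝐍[Ω[𝐐[M]]] = M :=
  max_eq h.mx ((pg_core M).to_le (Z_le _)) h.V_ne (norm_Z (le_norm_core M))

theorem mem_V {x : G} : x ∈ Ω[𝐐[M]] ↔ x ∈ 𝐐[M] ∧ x * x = 1 := by
  refine ⟨fun hx => ⟨Z_le _ hx, Z_sq hx⟩, fun hx => mem_Z.2 ⟨hx.1, ?_, hx.2⟩⟩
  obtain ⟨S, hS, hc⟩ := h.cen x hx.1 hx.2
  exact cent_anti hS.core_le hc

theorem cent_le : 𝐂[𝐐[M]] ≤ 𝐐[M] :=
  (le_inf ((cent_le_norm _).trans h.N_Q.le) le_rfl).trans h.chr

theorem cj (g : G) : Good cj(g, M) where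
  mx := max_cj h.mx g
  chr := h.chr.cj g
  ti S S' h1 h2 hne := by
    have h3 := h1.cj g⁻¹
    have h4 := h2.cj g⁻¹
    rw [cj_inv_cj] at h3 h4
    rw [← cj_core, le_cj_iff_inv_le, cj_inf]
    exact h.ti _ _ h3 h4 fun e => hne (cj_eq_cj.1 e)
  cen x hx h2 := by
    rw [← cj_core] at hx
    obtain ⟨y, hy, rfl⟩ := hx
    obtain ⟨S, hS, hc⟩ := h.cen y hy ((MulAut.conj g).injective (by rw [map_mul, map_one]; exact h2))
    exact ⟨_, hS.cj g, cj_cent S g ▸ mem_map_of_mem _ hc⟩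
  ncl h1 := h.ncl (by have := pCl_cj h1 g⁻¹; rwa [cj_inv_cj] at this)

theorem syl_eq (hS : Syl 2 S M) (hS' : Syl 2 S' M) {t : G} (ht : t ∈ S) (ht' : t ∈ S')
    (hQ : t ∉ 𝐐[M]) : S = S' := by
  by_contra hne
  exact hQ (h.ti S S' hS hS' hne ⟨ht, ht'⟩)

theorem le_of_mem (hS : Syl 2 S M) (hP : IsPGroup 2 P) (hPM : P ≤ M) {t : G} (ht : t ∈ S)
    (ht' : t ∈ P) (hQ : t ∉ 𝐐[M]) : P ≤ S := by
  obtain ⟨S', h1, h2⟩ := Syl.exists_ge hP hPM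
  exact h.syl_eq hS h2 ht (h1 ht') hQ ▸ h1

theorem not_le (hS : Syl 2 S M) : ¬ S ≤ 𝐐[M] := fun h1 =>
  h.ncl (pCl_of_syl hS (le_antisymm h1 hS.core_le ▸ le_norm_core M))

theorem step (hS : Syl 2 S M) :
    ∃ t ∈ S, t ∉ 𝐐[M] ∧ t * t ∈ 𝐐[M] ∧ ∀ s ∈ S, ⁅t, s⁆ ∈ 𝐐[M] := by
  obtain ⟨t, h1, h2, h3, -, h4⟩ := PG.exists_step hS.pg hS.pg le_normalizer
    (hS.le.trans (le_norm_core M)) (lt_of_le_not_ge hS.core_le (h.not_le hS))
  exact ⟨t, h1, h2, pow_two t ▸ h3, h4⟩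

theorem Z_le_V (hS : Syl 2 S M) : Ω[S] ≤ Ω[𝐐[M]] := fun _ hx =>
  h.mem_V.2 ⟨h.cent_le (cent_anti hS.core_le (Z_cent S hx)), Z_sq hx⟩

theorem V_le (hS : Syl 2 S M) : Ω[𝐐[M]] ≤ S := (Z_le _).trans hS.core_le

theorem conj_V {g v : G} (hg : g ∈ M) (hv : v ∈ Ω[𝐐[M]]) : g * v * g⁻¹ ∈ Ω[𝐐[M]] :=
  conj_mem_of_norm (h.N_V.ge hg) hv

/-- An element of a Sylow subgroup outside the core has the same fixed points on `V` as the
Sylow subgroup. -/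
theorem mem_Z_of (hS : Syl 2 S M) {v t : G} (hv : v ∈ Ω[𝐐[M]]) (ht : t ∈ S) (hQ : t ∉ 𝐐[M])
    (hc : t * v * t⁻¹ = v) : v ∈ Ω[S] := by
  obtain ⟨S', h1, h2⟩ := h.cen v (Z_le _ hv) (Z_sq hv)
  have h3 : S' ≤ M ⊓ centralizer {v} :=
    le_inf h1.le fun s hs => mem_centralizer_singleton_iff.2 (mem_cent.1 h2 s hs)
  obtain ⟨g, hg, h4⟩ := (h1.mono h3 inf_le_left).le_conj (hS.pg.to_le (zpowers_le.2 ht))
    (zpowers_le.2 ⟨hS.le ht, mem_centralizer_singleton_iff.2 (mul_inv_eq_iff_eq_mul.1 hc)⟩)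
  have h5 := h.syl_eq hS (h1.cj_mem hg.1) ht (h4 (mem_zpowers t)) hQ
  exact mem_Z.2 ⟨h.V_le hS hv, mem_cent.2 fun s hs => mem_centralizer_singleton_iff.1
    (cj_le_of_mem h3 hg (h5 ▸ hs)).2, Z_sq hv⟩

theorem le_Q_of_chain {R U : Subgroup G} (hW : W ≤ M) (hR : M ≤ 𝐍[R]) (hU : M ≤ 𝐍[U])
    (h1 : ⁅𝐐[M], W⁆ ≤ R) (h2 : ⁅R, W⁆ ≤ U) (h3 : W ≤ 𝐂[U]) : W ≤ 𝐐[M] := by
  have hK : Mss.ncl M W ≤ M := ncl_le_self hW
  have k1 : Mss.ncl M W ≤ cmod 𝐐[M] R :=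
    ncl_le (le_cmod.2 ⟨hW.trans hR, h1⟩) (norm_cmod (le_norm_core M) hR)
  have k2 : Mss.ncl M W ≤ cmod R U := ncl_le (le_cmod.2 ⟨hW.trans hU, h2⟩) (norm_cmod hR hU)
  have k3 : Mss.ncl M W ≤ 𝐂[U] := ncl_le_cent h3 hU
  have hn : pResidualOf 2 (Mss.ncl M W) ≤ 𝐍[𝐐[M]] := (res_le _).trans (hK.trans (le_norm_core M))
  exact (le_ncl M W).trans (le_pCoreOf hK (le_norm_ncl M W) (h.chr.pg_of_res_le hK
    (res_le_cent_of_two (pg_core M) hn (comm_res_le_of_le (pg_core M) hn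
      (le_cmod.1 ((res_le _).trans k1)).2 (le_cmod.1 ((res_le _).trans k2)).2)
      ((res_le _).trans k3))))

theorem typeZ_le (hS : Syl 2 S M) (hZ : Ω[𝐐[M]] ≤ Ω[S]) (hW : W ≤ S) (hn : S ≤ 𝐍[W])
    (h2 : ∀ w ∈ W, w * w = 1) : W ≤ Ω[𝐐[M]] := by
  have h1 := hW.trans hS.le
  have h3 := h.le_Q_of_chain h1 h.N_V.ge h.N_V.ge
    ((le_inf (comm_le_left (h1.trans (le_norm_core M))) (comm_le_right (hS.core_le.trans hn))).trans
      fun x hx => h.mem_V.2 ⟨hx.1, h2 x hx.2⟩) (comm_le_left (h1.trans h.N_V.ge))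
    (hW.trans (cent_comm (hZ.trans (Z_cent S))))
  exact fun x hx => h.mem_V.2 ⟨h3 hx, h2 x hx⟩

theorem typeZ_N (hS : Syl 2 S M) (hZ : Ω[𝐐[M]] ≤ Ω[S]) : 𝐍[S] ≤ M := by
  have := norm_Z (le_refl 𝐍[S])
  rwa [le_antisymm (h.Z_le_V hS) hZ, h.N_V] at this

theorem comm_mem (hS : Syl 2 S M) {v s : G} (hv : v ∈ Ω[𝐐[M]]) (hs : s ∈ S) :
    v * (s * v * s⁻¹) ∈ Ω[S] := by
  obtain ⟨t, ht, hQ, h2, h3⟩ := h.step hS
  have hc : ∀ q ∈ 𝐐[M], ∀ w ∈ Ω[𝐐[M]], q * w * q⁻¹ = w := fun q hq w hw => by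
    rw [mem_cent.1 (Z_cent _ hw) q hq, mul_inv_cancel_right]
  have hab := comm_of_sq (X := Ω[𝐐[M]]) fun _ => Z_sq
  have hv' := h.conj_V (hS.le ht) hv
  have h4 : v * (t * v * t⁻¹) ∈ Ω[S] := h.mem_Z_of hS (mul_mem hv hv') ht hQ (by
    calc _ = t * v * t⁻¹ * (t * t * v * (t * t)⁻¹) := by
          simp only [mul_inv_rev, mul_assoc, inv_mul_cancel_left]
      _ = _ := by rw [hc _ h2 v hv, hab v hv _ hv'])
  set u := v * (t * v * t⁻¹) with hu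
  have h5 : t * v * t⁻¹ = v * u := by rw [hu, ← mul_assoc, Z_sq hv, one_mul]
  have hs' := h.conj_V (hS.le hs) hv
  refine h.mem_Z_of hS (mul_mem hv hs') ht hQ ?_
  have h6 : t * (s * v * s⁻¹) * t⁻¹ = s * v * s⁻¹ * u := by
    calc _ = ⁅t, s⁆ * (s * (t * v * t⁻¹) * s⁻¹) * ⁅t, s⁆⁻¹ := by
          rw [commutatorElement_def]; group
      _ = s * (v * u) * s⁻¹ := by
          rw [hc _ (h3 s hs) _ (h.conj_V (hS.le hs) hv'), h5]
      _ = s * v * s⁻¹ * (s * u * s⁻¹) := by group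
      _ = _ := by rw [mem_cent.1 (Z_cent S h4) s hs, mul_inv_cancel_right]
  rw [← conj_mul, h5, h6, mul_assoc, ← mul_assoc u,
    ← mem_cent.1 (Z_cent S h4) _ (h.V_le hS hs'), mul_assoc _ u, Z_sq h4, mul_one]

theorem cent_V (hS : Syl 2 S M) (hF : ¬ Ω[𝐐[M]] ≤ Ω[S]) : S ⊓ 𝐂[Ω[𝐐[M]]] ≤ 𝐐[M] := fun t ht => by
  by_contra hQ
  exact hF fun v hv => h.mem_Z_of hS hv ht.1 hQ
    (by rw [← mem_cent.1 ht.2 v hv, mul_inv_cancel_right])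

theorem sq_mem (hS : Syl 2 S M) (hF : ¬ Ω[𝐐[M]] ≤ Ω[S]) {s : G} (hs : s ∈ S) : s * s ∈ 𝐐[M] := by
  refine h.cent_V hS hF ⟨mul_mem hs hs, mem_cent.2 fun v hv => ?_⟩
  have h1 := h.comm_mem hS hv hs
  set z := v * (s * v * s⁻¹) with hz
  have h2 : s * v * s⁻¹ = v * z := by rw [hz, ← mul_assoc, Z_sq hv, one_mul]
  have h3 := mem_cent.1 (Z_cent S h1) s hs
  symm
  calc _ = s * (s * v * s⁻¹) * s := by group
    _ = s * v * s⁻¹ * (s * z) * s := by nth_rewrite 1 [h2]; group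
    _ = v * (z * z) * (s * s) := by rw [h2, h3]; group
    _ = _ := by rw [Z_sq h1, mul_one]

theorem exists_syl (hS : Syl 2 S M) (hF : ¬ Ω[𝐐[M]] ≤ Ω[S]) :
    ∃ S', Syl 2 S' M ∧ ¬ Ω[S'] ≤ Ω[S] := by
  obtain ⟨a, ha, ha'⟩ := SetLike.not_le_iff_exists.1 hF
  obtain ⟨S', h1, h2⟩ := h.cen a (Z_le _ ha) (Z_sq ha)
  exact ⟨S', h1, fun h3 => ha' (h3 (mem_Z.2 ⟨h.V_le h1 ha, h2, Z_sq ha⟩))⟩

theorem mem_Q_of (hS : Syl 2 S M) (hS' : Syl 2 S' M) {a s : G} (ha : a ∈ Ω[S']) (ha' : a ∉ Ω[S])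
    (hs : s ∈ S) (hz : a * (s * a * s⁻¹) ∈ Ω[S']) : s ∈ 𝐐[M] := by
  by_contra hQ
  have haV := h.Z_le_V hS' ha
  have hz' := h.comm_mem hS haV hs
  set z := a * (s * a * s⁻¹) with hzd
  have h1 : s * a * s⁻¹ = a * z := by rw [hzd, ← mul_assoc, Z_sq ha, one_mul]
  have h2 := h.sq_mem hS (fun h2 => ha' (h2 haV)) hs
  obtain ⟨s', hs', hQ', h3, -⟩ := h.step hS'
  have hN : ∀ {g}, g ∈ M → g ∈ 𝐍[𝐐[M]] := fun hg => le_norm_core M hg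
  have hx : s * s' ∈ M := mul_mem (hS.le hs) (hS'.le hs')
  obtain ⟨m, hm, hu⟩ := odd_part (s * s')
  have h4 : ∀ k : ℕ, (s * s') ^ k * a * ((s * s') ^ k)⁻¹ = a * z ^ k := fun k => by
    induction k with
    | zero => simp
    | succ k ih =>
      have e1 := mem_cent.1 (Z_cent S' ha) s' hs'
      have e2 := mem_cent.1 (Z_cent S' (pow_mem hz k)) s' hs'
      have e3 := mem_cent.1 (Z_cent S (pow_mem hz' k)) s hs
      calc _ = s * s' * ((s * s') ^ k * a * ((s * s') ^ k)⁻¹) * (s * s')⁻¹ := by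
            rw [pow_succ']; simp only [mul_inv_rev, mul_assoc]
        _ = s * (s' * a) * s'⁻¹ * (s' * z ^ k) * s'⁻¹ * s⁻¹ := by
            rw [ih]; simp only [mul_inv_rev, mul_assoc, inv_mul_cancel_left]
        _ = s * a * s⁻¹ * (s * z ^ k) * s⁻¹ := by
            rw [e1, e2]; simp only [mul_assoc, inv_mul_cancel_left, mul_inv_cancel_left]
        _ = _ := by rw [h1, e3, pow_succ']; simp only [mul_assoc, mul_inv_cancel, mul_one]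
  have h5 : (s * s') ^ m ∉ 𝐐[M] := fun h5 => by
    have h6 := h4 m
    obtain ⟨k, rfl⟩ := hm
    rw [mem_cent.1 (Z_cent _ haV) _ h5, mul_inv_cancel_right, pow_succ, pow_mul, pow_two,
      Z_sq hz, one_pow, one_mul] at h6
    exact ha' (h.mem_Z_of hS haV hs hQ (h1.trans h6.symm))
  have hP : IsPGroup 2 ↥(zpowers ((s * s') ^ m) ⊔ 𝐐[M]) :=
    pg_sup hu (pg_core M) (zpowers_le.2 (hN (pow_mem hx m)))
  have key : ∀ {R : Subgroup G} {y c : G}, Syl 2 R M → y ∈ R → y ∉ 𝐐[M] → c ∈ 𝐐[M] →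
      y * (s * s') * y⁻¹ = c * (s * s')⁻¹ → (s * s') ^ m ∈ R := fun hR hy hy' hc e =>
    h.le_of_mem hR (pg_sup' hP (hR.pg.to_le (zpowers_le.2 hy))
      (zpowers_le.2 (norm_dih (hN hx) (hN (hR.le hy)) hc e m)))
      (sup_le (sup_le (zpowers_le.2 (pow_mem hx m)) (pCoreOf_le M)) (zpowers_le.2 (hR.le hy)))
      hy (mem_sup_right (mem_zpowers _)) hy' (mem_sup_left (mem_sup_left (mem_zpowers _)))
  have h6 := h.syl_eq hS hS' (key hS hs hQ (mul_mem h2 h3) (by group))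
    (key hS' hs' hQ' (mul_mem h3 (conj_mem_of_norm' (hN (hS'.le hs')) h2)) (by group)) h5
  exact ha' (h6 ▸ ha)

theorem relIndex_le (hS : Syl 2 S M) (hS' : Syl 2 S' M) (hZ : ¬ Ω[S'] ≤ Ω[S]) :
    (𝐐[M]).relIndex S ≤ (Ω[S']).relIndex Ω[S] := by
  obtain ⟨a, ha, ha'⟩ := SetLike.not_le_iff_exists.1 hZ
  have haV := h.Z_le_V hS' ha
  refine relIndex_le_of_map (fun s => a * (s * a * s⁻¹)) (fun s hs => h.comm_mem hS haV hs)
    fun s hs s' hs' h1 => h.mem_Q_of hS hS' ha ha' (mul_mem (inv_mem hs) hs') ?_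
  have h2 := mul_mem (inv_mem (h.comm_mem hS haV hs)) (h.comm_mem hS haV hs')
  have h3 := mem_cent.1 (Z_cent S h2) s hs
  have : a * (s⁻¹ * s' * a * (s⁻¹ * s')⁻¹) =
      s⁻¹ * ((a * (s * a * s⁻¹))⁻¹ * (a * (s' * a * s'⁻¹)) * s) := by
    nth_rewrite 1 [← inv_of_sq (Z_sq ha)]
    group
  rwa [this, ← h3, inv_mul_cancel_left]

/-- A maximal 2-local subgroup containing two Sylow 2-subgroups of `M` is `M`. -/
theorem uniq (hH : Hyp G) (hS : Syl 2 S M) (hS' : Syl 2 S' M) (hne : S ≠ S')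
    (hM : IsMaximalTwoLocal M') (h1 : S ≤ M') (h2 : S' ≤ M') : M' = M := by
  have key : ∀ P : Subgroup G, IsPGroup 2 P → S ≤ P → ¬ S' ≤ P := fun P hP h3 h4 =>
    hne ((hS.eq_of_le hP.to_inf_left (le_inf h3 hS.le) inf_le_right).symm.trans
      (hS'.eq_of_le hP.to_inf_left (le_inf h4 hS'.le) inf_le_right))
  have h' := hH M' hM fun h3 => key _ (pg_core M') (h3 S h1 hS.pg) (h3 S' h2 hS'.pg)
  obtain ⟨R, h3, hR⟩ := Syl.exists_ge hS.pg h1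
  obtain ⟨R', h4, hR'⟩ := Syl.exists_ge hS'.pg h2
  have h5 := (le_inf (hS.core_le.trans h3) (hS'.core_le.trans h4)).trans
    (h'.ti R R' hR hR' fun e => key R hR.pg h3 (e ▸ h4))
  have h6 : ∀ {U : Subgroup G}, Syl 2 U M → U ≤ M' → 𝐐[M'] ⊓ M ≤ U := fun hU hU' =>
    hU.le_of_norm (pg_core M').to_inf_left inf_le_right
      (norm_inf (hU'.trans (le_norm_core M')) (norm_of_le hU.le))
  have h7 := grow (pg_core M') h5 (by
    rw [h.N_Q]; exact (le_inf (h6 hS h1) (h6 hS' h2)).trans (h.ti S S' hS hS' hne))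
  rw [← h'.N_Q, le_antisymm h7 h5, h.N_Q]

end Good

end Cfsg.Agent.Loc.Gom
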