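import Mathlib
import Cfsg.Agent.Loc.GomA
import Cfsg.Agent.GT.TransferAlperin

/-! Two good maximal 2-local subgroups with a common Sylow 2-subgroup; control of fusion. -/

set_option autoImplicit false
set_option linter.unusedSectionVars false

namespace Cfsg.Agent.Loc.Gom

open Cfsg Cfsg.Agent.GT Subgroup Cfsg.Agent.Loc.Mss
open scoped commutatorElement

variable {G : Type*} [Group G] [Finite G] {M M₁ M₂ S S₁ S₂ T A B X : Subgroup G}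

/-- `S` is the product of two incomparable elementary abelian subgroups containing all its
involutions. -/
structure Pr (S A B : Subgroup G) : Prop where
  sup : A ⊔ B = S
  sqA : ∀ a ∈ A, a * a = 1
  sqB : ∀ b ∈ B, b * b = 1
  inv : ∀ x ∈ S, x * x = 1 → x ∈ A ∨ x ∈ B
  nA : ¬ A ≤ B
  nB : ¬ B ≤ A

namespace Pr

variable (h : Pr S A B)
include h

theorem symm : Pr S B A :=
  ⟨(sup_comm _ _).trans h.sup, h.sqB, h.sqA, fun x hx h2 => (h.inv x hx h2).symm, h.nB, h.nA⟩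

theorem le : A ≤ S := h.sup ▸ le_sup_left

theorem comm : ∀ a ∈ A, ∀ b ∈ A, a * b = b * a := comm_of_sq h.sqA

theorem le_cent : A ≤ 𝐂[A] := fun a ha b hb => h.comm b hb a ha

theorem le_or_le (hX : X ≤ S) (h2 : ∀ x ∈ X, x * x = 1) : X ≤ A ∨ X ≤ B := by
  by_contra! hcon
  obtain ⟨a, ha, ha'⟩ := SetLike.not_le_iff_exists.1 hcon.1
  obtain ⟨b, hb, hb'⟩ := SetLike.not_le_iff_exists.1 hcon.2
  have h1 := (h.inv a (hX ha) (h2 a ha)).resolve_left ha'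
  have h3 := (h.inv b (hX hb) (h2 b hb)).resolve_right hb'
  rcases h.inv _ (hX (mul_mem ha hb)) (h2 _ (mul_mem ha hb)) with h4 | h4
  · exact ha' ((mul_mem_cancel_right h3).1 h4)
  · exact hb' ((mul_mem_cancel_left h1).1 h4)

theorem cj_le {n : G} (hn : n ∈ 𝐍[S]) : cj(n, A) ≤ A ∨ cj(n, A) ≤ B :=
  h.le_or_le (cj_le_of_norm h.le hn) (cj_sq h.sqA n)

theorem S_norm : S ≤ 𝐍[A] :=
  h.sup.ge.trans (sup_le le_normalizer fun b hb => mem_norm_of_cj_le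
    ((h.cj_le (le_normalizer (h.symm.le hb))).resolve_right fun h1 => h.nA (by
      rwa [← cj_of_mem hb, cj_le_cj] at h1)))

theorem mul {s : G} (hs : s ∈ S) : ∃ a ∈ A, ∃ b ∈ B, a * b = s :=
  (mem_sup_norm (h.symm.le.trans h.S_norm)).1 (h.sup.ge hs)

theorem inf_le_cent : A ⊓ B ≤ 𝐂[S] :=
  h.sup ▸ le_cent_sup (inf_le_left.trans h.le_cent) (inf_le_right.trans h.symm.le_cent)

theorem comm_le : ⁅S, S⁆ ≤ A := by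
  have h1 := h.symm.le.trans h.S_norm
  nth_rewrite 1 [← h.sup]
  refine sup_comm_le le_normalizer h1 (comm_le_left h.S_norm) ?_
  rw [← h.sup]
  exact comm_sup_le le_normalizer h1 (comm_le_right h1)
    ((comm_eq_bot_iff.2 h.symm.le_cent).le.trans bot_le)

theorem comm_inf : ⁅S, S⁆ ≤ A ⊓ B := le_inf h.comm_le h.symm.comm_le

theorem conj_eq {x s : G} (hx : x ∈ S) (hs : s ∈ S) : ∃ z ∈ A ⊓ B, s * x * s⁻¹ = x * z :=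
  ⟨⁅x⁻¹, s⁆, h.comm_inf (commutator_mem_commutator (inv_mem hx) hs), by
    rw [commutatorElement_def]; group⟩

theorem sq_mem {s : G} (hs : s ∈ S) : s * s ∈ A ⊓ B := by
  obtain ⟨a, ha, b, hb, rfl⟩ := h.mul hs
  have := h.comm_inf (commutator_mem_commutator (h.le ha) (h.symm.le hb))
  rwa [commutatorElement_def, inv_of_sq (h.sqA a ha), inv_of_sq (h.sqB b hb), mul_assoc] at this

end Pr

section Pair

variable (h₁ : Good M₁) (h₂ : Good M₂) (hne : M₁ ≠ M₂) (hS₁ : Syl 2 S M₁) (hS₂ : Syl 2 S M₂)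
include h₁ h₂ hne hS₁ hS₂

theorem typeF : ¬ Ω[𝐐[M₁]] ≤ Ω[S] := fun hZ => by
  have h1 := h₁.typeZ_le hS₁ hZ (h₂.V_le hS₂) (hS₂.le.trans h₂.N_V.ge) fun _ => Z_sq
  exact hne (by rw [← h₁.N_V, ← h₂.N_V, le_antisymm h1 (hZ.trans (h₂.Z_le_V hS₂))])

theorem V_not_le : ¬ Ω[𝐐[M₂]] ≤ 𝐐[M₁] := fun h1 => by
  have h3 := (le_inf (h₁.V_le hS₁) ((Z_cent _).trans (cent_anti h1))).trans
    (h₂.cent_V hS₂ (typeF h₂ h₁ hne.symm hS₂ hS₁))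
  have h4 : Ω[𝐐[M₁]] = Ω[𝐐[M₂]] := le_antisymm (fun x hx => h₂.mem_V.2 ⟨h3 hx, Z_sq hx⟩)
    fun x hx => h₁.mem_V.2 ⟨h1 hx, Z_sq hx⟩
  exact hne (by rw [← h₁.N_V, ← h₂.N_V, h4])

theorem V_inf : 𝐐[M₁] ⊓ Ω[𝐐[M₂]] = Ω[S] := by
  refine le_antisymm (fun x hx => ?_) (le_inf ((h₁.Z_le_V hS₁).trans (Z_le _)) (h₂.Z_le_V hS₂))
  obtain ⟨t, ht, ht'⟩ := SetLike.not_le_iff_exists.1 (V_not_le h₁ h₂ hne hS₁ hS₂)
  exact h₁.mem_Z_of hS₁ (h₁.mem_V.2 ⟨hx.1, Z_sq hx.2⟩) (h₂.V_le hS₂ ht) ht' (by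
    rw [comm_of_sq (fun _ => Z_sq) t ht x hx.2, mul_inv_cancel_right])

theorem chain (hS : Syl 2 S₁ M₁) (hZ : ¬ Ω[S₁] ≤ Ω[S]) :
    (Ω[S]).relIndex Ω[𝐐[M₂]] = (𝐐[M₁]).relIndex Ω[𝐐[M₂]] ∧
      (𝐐[M₁]).relIndex Ω[𝐐[M₂]] ≤ (𝐐[M₁]).relIndex S ∧
      (𝐐[M₁]).relIndex S ≤ (Ω[S₁]).relIndex Ω[S] ∧
      (Ω[S₁]).relIndex Ω[S] ≤ (Ω[S₁]).relIndex Ω[𝐐[M₁]] ∧
      (Ω[S₁]).relIndex Ω[𝐐[M₁]] = (Ω[S]).relIndex Ω[𝐐[M₁]] := by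
  refine ⟨by rw [← V_inf h₁ h₂ hne hS₁ hS₂, inf_relIndex_right], relIndex_mono (h₂.V_le hS₂),
    h₁.relIndex_le hS₁ hS hZ, relIndex_mono (h₁.Z_le_V hS₁), ?_⟩
  obtain ⟨g, -, rfl⟩ := hS₁.conj_eq hS
  have h1 := card_mul_relIndex (h₁.Z_le_V hS)
  rw [← card_mul_relIndex (h₁.Z_le_V hS₁), ← cj_Z, card_cj] at h1
  rw [← cj_Z]
  exact Nat.eq_of_mul_eq_mul_left Nat.card_pos h1

theorem side (hS : Syl 2 S₁ M₁) (e1 : S ≤ 𝐐[M₁] ⊔ Ω[𝐐[M₂]]) (e2 : S ≤ 𝐐[M₂] ⊔ Ω[𝐐[M₁]])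
    (e3 : Ω[𝐐[M₁]] ≤ Ω[S₁] ⊔ Ω[S]) :
    𝐐[M₁] ≤ 𝐐[M₂] ⊓ 𝐐[M₁] ⊔ Ω[𝐐[M₁]] ∧ ∃ D ≤ S, S ≤ 𝐍[D] ∧ (∀ X ≤ D, S ≤ 𝐍[X] → S₁ ≤ 𝐍[X]) ∧
      (∀ x ∈ 𝐐[M₁] ⊓ 𝐐[M₂], x * x ∈ D) ∧ Ω[S] ⊓ Ω[S₁] ≤ D := by
  obtain ⟨g, hg, rfl⟩ := hS₁.conj_eq hS
  have n1 : S ≤ 𝐍[𝐐[M₁]] := hS₁.le.trans (le_norm_core _)
  have n2 : S ≤ 𝐍[𝐐[M₂]] := hS₂.le.trans (le_norm_core _)
  have c1 : cj(g, 𝐐[M₁]) = 𝐐[M₁] := cj_of_norm (le_norm_core _ hg)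
  have n3 : 𝐐[M₁] ≤ 𝐍[cj(g, 𝐐[M₂])] := by
    rw [← cj_norm, ← c1]; exact cj_mono g (hS₁.core_le.trans n2)
  have z1 := (h₁.Z_le_V hS₁).trans (Z_le _)
  have z2 := (h₂.Z_le_V hS₂).trans (Z_le _)
  have h1 : 𝐐[M₁] ≤ 𝐐[M₂] ⊓ 𝐐[M₁] ⊔ Ω[𝐐[M₁]] := by
    rw [← dedekind' ((h₁.V_le hS₁).trans n2) (Z_le _)]
    exact le_inf (hS₁.core_le.trans e2) le_rfl
  have h3 : 𝐐[M₁] ≤ cj(g, 𝐐[M₂]) ⊓ 𝐐[M₁] ⊔ Ω[S] := by
    have h4 := cj_mono g h1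
    rw [cj_sup, cj_inf, c1, cj_of_norm (h₁.N_V.ge hg)] at h4
    refine h4.trans (sup_le le_sup_left (e3.trans (sup_le_sup_right (le_inf ?_
      ((h₁.Z_le_V hS).trans (Z_le _))) _)))
    rw [← cj_Z]; exact cj_mono g z2
  refine ⟨h1, 𝐐[M₁] ⊓ 𝐐[M₂] ⊓ cj(g, 𝐐[M₂]), (inf_le_left.trans inf_le_left).trans hS₁.core_le,
    e1.trans (sup_le (norm_inf (norm_inf le_normalizer (hS₁.core_le.trans n2)) n3)
      (norm_of_cent ((Z_cent _).trans (cent_anti (inf_le_left.trans inf_le_right))))),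
    fun X hX hn => ?_, fun x hx => ?_, le_inf (inf_le_left.trans (le_inf z1 z2)) ?_⟩
  · refine (cj_mono g e1).trans ?_
    rw [cj_sup, c1, cj_Z]
    exact sup_le (hS₁.core_le.trans hn)
      (norm_of_cent ((Z_cent _).trans (cent_anti (hX.trans inf_le_right))))
  · obtain ⟨d, hd, z, hz, rfl⟩ := (mem_sup_norm (z1.trans (norm_inf n3 le_normalizer))).1 (h3 hx.1)
    have h4 : d ∈ 𝐐[M₁] ⊓ 𝐐[M₂] ⊓ cj(g, 𝐐[M₂]) :=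
      ⟨⟨hd.2, (mul_mem_cancel_right (z2 hz)).1 hx.2⟩, hd.1⟩
    rw [mul_assoc, ← mul_assoc z, ← mem_cent.1 (Z_cent S hz) d (hS₁.core_le hd.2), mul_assoc d z,
      Z_sq hz, mul_one]
    exact mul_mem h4 h4
  · rw [← cj_Z]; exact inf_le_right.trans (cj_mono g z2)

theorem pair (hH : Hyp G) (hT₁ : Syl 2 S₁ M₁) (hZ₁ : ¬ Ω[S₁] ≤ Ω[S]) (hT₂ : Syl 2 S₂ M₂)
    (hZ₂ : ¬ Ω[S₂] ≤ Ω[S]) :
    Pr S 𝐐[M₁] 𝐐[M₂] ∧ 𝐐[M₁] ⊓ 𝐐[M₂] = Ω[S] ∧ Ω[S] ⊓ Ω[S₁] ⊓ (Ω[S] ⊓ Ω[S₂]) = ⊥ ∧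
      (Ω[S₁]).relIndex Ω[S] = (Ω[S]).relIndex 𝐐[M₁] := by
  obtain ⟨a1, a2, a3, a4, a5⟩ := chain h₁ h₂ hne hS₁ hS₂ hT₁ hZ₁
  obtain ⟨b1, b2, b3, b4, b5⟩ := chain h₂ h₁ hne.symm hS₂ hS₁ hT₂ hZ₂
  have e1 := le_sup_of_relIndex (h₂.V_le hS₂) hS₁.core_le (by omega)
  have e2 := le_sup_of_relIndex (h₁.V_le hS₁) hS₂.core_le (by omega)
  obtain ⟨c1, D₁, c0, c2, c3, c4, c5⟩ := side h₁ h₂ hne hS₁ hS₂ hT₁ e1 e2
    (le_sup_of_relIndex (h₁.Z_le_V hS₁) (h₁.Z_le_V hT₁) (by omega))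
  obtain ⟨d1, D₂, -, d2, d3, d4, d5⟩ := side h₂ h₁ hne.symm hS₂ hS₁ hT₂ e2 e1
    (le_sup_of_relIndex (h₂.Z_le_V hS₂) (h₂.Z_le_V hT₂) (by omega))
  have hD : D₁ ⊓ D₂ = ⊥ := by
    by_contra h1
    have h3 := norm_inf c2 d2
    obtain ⟨M, hM, h2⟩ := exists_max (hS₁.pg.to_le (inf_le_left.trans c0)) h1
    exact hne ((h₁.uniq hH hS₁ hT₁ (fun e => hZ₁ (e ▸ le_rfl)) hM (h3.trans h2)
      ((c3 _ inf_le_left h3).trans h2)).symm.trans (h₂.uniq hH hS₂ hT₂ (fun e => hZ₂ (e ▸ le_rfl))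
        hM (h3.trans h2) ((d3 _ inf_le_right h3).trans h2)))
  have h0 : ∀ x ∈ 𝐐[M₁] ⊓ 𝐐[M₂], x * x = 1 := fun x hx =>
    mem_bot.1 (hD.le ⟨c4 x hx, d4 x ⟨hx.2, hx.1⟩⟩)
  have q1 : Ω[𝐐[M₁]] = 𝐐[M₁] := le_antisymm (Z_le _)
    (c1.trans (sup_le (fun x hx => h₁.mem_V.2 ⟨hx.2, h0 x ⟨hx.2, hx.1⟩⟩) le_rfl))
  have q2 : Ω[𝐐[M₂]] = 𝐐[M₂] := le_antisymm (Z_le _)
    (d1.trans (sup_le (fun x hx => h₂.mem_V.2 ⟨hx.2, h0 x hx⟩) le_rfl))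
  have n1 := V_not_le h₁ h₂ hne hS₁ hS₂
  have n2 := V_not_le h₂ h₁ hne.symm hS₂ hS₁
  have i1 := V_inf h₁ h₂ hne hS₁ hS₂
  have s1 : ∀ x ∈ 𝐐[M₁], x * x = 1 := fun x hx => Z_sq (q1.ge hx)
  have s2 : ∀ x ∈ 𝐐[M₂], x * x = 1 := fun x hx => Z_sq (q2.ge hx)
  refine ⟨⟨le_antisymm (sup_le hS₁.core_le hS₂.core_le) (q2 ▸ e1), s1, s2, fun x hx h2 => ?_,
    q1 ▸ n2, q2 ▸ n1⟩, q2 ▸ i1, eq_bot_iff.2 (hD ▸ inf_le_inf c5 d5), ?_⟩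
  · obtain ⟨a, ha, b, hb, rfl⟩ := (mem_sup_norm ((h₂.V_le hS₂).trans
      (hS₁.le.trans (le_norm_core _)))).1 (e1 hx)
    by_cases hb' : b ∈ 𝐐[M₁]
    · exact Or.inl (mul_mem ha hb')
    · refine Or.inr (mul_mem (Z_le _ (h₂.Z_le_V hS₂ (h₁.mem_Z_of hS₁ (q1.ge ha) (h₂.V_le hS₂ hb)
        hb' ?_))) (Z_le _ hb))
      have := inv_of_sq h2
      rw [mul_inv_rev, inv_of_sq (s1 a ha), inv_of_sq (Z_sq hb)] at this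
      rw [this, mul_inv_cancel_right]
  · rw [← q1]
    omega

end Pair

theorem eq_of_syl_norm (hT : Syl 2 T ⊤) (hB : B ≤ T) (h : Syl 2 B 𝐍[B]) : B = T :=
  le_antisymm hB (grow hT.pg hB
    (h.ge_of_le hT.pg.to_inf_left (le_inf hB le_normalizer) inf_le_right))

/-- Fusion in `T` is generated by `N(T)` and by the action on their cores of the good maximal
2-local subgroups meeting `T` in a Sylow subgroup. -/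
theorem fus (hH : Hyp G) (hT : Syl 2 T ⊤) {r : G → G → Prop} (hr : Equivalence r)
    (h1 : ∀ n ∈ 𝐍[T], ∀ a ∈ T, r a (n * a * n⁻¹))
    (h2 : ∀ M, Good M → Syl 2 (T ⊓ M) M → ∀ m ∈ M, ∀ a ∈ 𝐐[M], r a (m * a * m⁻¹))
    {a g : G} (ha : a ∈ T) (hg : g * a * g⁻¹ ∈ T) : r a (g * a * g⁻¹) := by
  obtain ⟨P, rfl⟩ := hT.exists_sylow_top
  refine Tr.alperin_induction P (fun A g => ∀ a ∈ A, r a (g * a * g⁻¹))
    (fun A D g h3 h4 a ha => h4 a (h3 ha)) (fun A g k h3 h4 a ha => ?_)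
    (fun A g h3 a ha => ?_) (fun B hB hs ih n hn => ?_) (zpowers a) (zpowers_le.2 ha) g
    (fun x hx => ?_) a (mem_zpowers a)
  · have := hr.trans (h3 a ha) (h4 _ (conj_mem_cj ha))
    rwa [show k * (g * a * g⁻¹) * k⁻¹ = k * g * a * (k * g)⁻¹ by group] at this
  · obtain ⟨x, hx, rfl⟩ := ha
    have := hr.symm (h3 x hx)
    rwa [show g⁻¹ * (MulAut.conj g).toMonoidHom x * g⁻¹⁻¹ = x by simp [mul_assoc]]
  · have hs : Syl 2 ((P : Subgroup G) ⊓ 𝐍[B]) 𝐍[B] := ⟨inf_le_right, hT.pg.to_inf_left, hs⟩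
    have hB2 := hT.pg.to_le hB
    by_cases hne : B = ⊥
    · intro a ha
      rw [hne, mem_bot] at ha
      simpa [ha] using hr.refl 1
    rcases (le_pCoreOf le_normalizer le_rfl hB2).lt_or_eq with h3 | h3
    · have h4 := hs.core_le.trans inf_le_left
      exact fun a ha => ih _ h4 (card_lt_of_lt h3) n
        (fun d hd => h4 (conj_mem_of_norm (le_norm_core _ hn) hd)) a (h3.le ha)
    have key : ∀ R : Subgroup G, IsPGroup 2 R → 𝐍[B] ≤ 𝐍[R] → R ≤ B := fun R hR h4 => by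
      have h5 := le_normalizer.trans h4
      refine le_sup_right.trans (grow (pg_sup hB2 hR h5) le_sup_left ?_)
      rw [sup_comm, dedekind' h5 le_normalizer]
      exact sup_le ((le_pCoreOf inf_le_right (norm_inf h4 le_normalizer) hR.to_inf_left).trans
        h3.ge) le_rfl
    have fin : Syl 2 B 𝐍[B] → ∀ a ∈ B, r a (n * a * n⁻¹) := fun h4 a ha =>
      h1 n (eq_of_syl_norm hT hB h4 ▸ hn) a (hB ha)
    obtain ⟨M, hM, h4⟩ := exists_max hB2 hne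
    have h5 := key _ (pg_core M) (h4.trans (le_norm_core M))
    obtain ⟨R, h6, hR⟩ := Syl.exists_ge hB2 (le_normalizer.trans h4)
    have fin' : 𝐍[B] ≤ 𝐍[R] → ∀ a ∈ B, r a (n * a * n⁻¹) := fun h7 =>
      fin ((le_antisymm (key R hR.pg h7) h6 ▸ hR).mono le_normalizer h4)
    by_cases hc : PCl 2 M
    · exact fin' (hc.eq_core hR ▸ h4.trans (le_norm_core M))
    have hG := hH M hM hc
    by_cases h7 : B ≤ 𝐐[M]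
    · have h8 := hG.N_Q
      rw [le_antisymm h5 h7] at h8
      exact fun a ha => h2 M hG (h8 ▸ hs) n (h4 hn) a (h7 ha)
    · obtain ⟨t, ht, ht'⟩ := SetLike.not_le_iff_exists.1 h7
      exact fin' fun m hm => cj_eq_iff.1 (hG.syl_eq (hR.cj_mem (h4 hm)) hR
        (mem_cj.2 (h6 (conj_mem_of_norm' hm ht))) (h6 ht) ht')
  · obtain ⟨k, rfl⟩ := mem_zpowers_iff.1 hx
    rw [← conj_zpow]
    exact zpow_mem hg k

end Cfsg.Agent.Loc.Gom
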