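import Mathlib
import Cfsg.Agent.Loc.GomB
import Cfsg.Agent.Loc.CFTransfer

/-! A good maximal 2-local subgroup whose core is not a four-group contains a Sylow 2-subgroup of
the (perfect) ambient group. -/

set_option autoImplicit false
set_option linter.unusedSectionVars false

namespace Cfsg.Agent.Loc.Gom

open Cfsg Cfsg.Agent.GT Subgroup Cfsg.Agent.Loc.Mss
open scoped commutatorElement

variable {G : Type*} [Group G] [Finite G] {M S T A B D X : Subgroup G} {n t : G}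

theorem relIndex_le_two {H K : Subgroup G}
    (h : ∀ x ∈ K, ∀ y ∈ K, x ∉ H → y ∉ H → x * y ∈ H) : H.relIndex K ≤ 2 := by
  by_cases h1 : K ≤ H
  · rw [relIndex_eq_one.2 h1]; omega
  obtain ⟨a, ha, ha'⟩ := SetLike.not_le_iff_exists.1 h1
  refine (relIndex_eq_two_iff.2 ⟨a, ha, fun b hb => ?_⟩).le
  by_cases hbH : b ∈ H
  · exact Or.inr ⟨hbH, fun h1 => ha' ((mul_mem_cancel_left hbH).1 h1)⟩
  · exact Or.inl ⟨h b hb a ha hbH ha', hbH⟩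

theorem comm_aux {a b a' b' z w : G} (h1 : a * b = b * a) (h2 : a' * b' = b' * a') (z2 : z * z = 1)
    (c1 : a' * z = z * a') (c2 : b' * z = z * b') (c3 : t * z = z * t) (c4 : a' * w = w * a')
    (c5 : w * z = z * w) (e1 : b' * a * b'⁻¹ = a * z) (e2 : t * a * t⁻¹ = a')
    (e3 : t * b' * t⁻¹ = b * w) : a * a' * (b * b') = b * b' * (a * a') := by
  have e4 : b' * a = a * b' * z := by
    rw [mul_assoc, c2, ← mul_assoc, ← e1, inv_mul_cancel_right]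
  have e5 : b * a' * w = a' * b * z * w := by
    calc _ = t * (b' * a) * t⁻¹ := by rw [mul_assoc, c4, ← mul_assoc, ← e3, ← e2, conj_mul]
      _ = t * a * t⁻¹ * (t * b' * t⁻¹) * (t * z * t⁻¹) := by rw [e4]; group
      _ = _ := by rw [e2, e3, c3, mul_inv_cancel_right, mul_assoc _ z, ← c5]; group
  have e6 : a' * b = b * a' * z := by
    rw [mul_right_cancel e5, mul_assoc _ z, z2, mul_one]
  calc _ = a * (a' * b) * b' := by simp only [mul_assoc]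
    _ = a * b * (a' * (b' * z)) := by rw [e6, c2]; simp only [mul_assoc]
    _ = b * a * b' * (a' * z) := by rw [h1, ← mul_assoc a', h2]; simp only [mul_assoc]
    _ = _ := by rw [c1, mul_assoc b b', ← mul_assoc b', e4]; simp only [mul_assoc]

/-- No good subgroup has an elementary abelian core of order at most four. -/
def NoFour (G : Type*) [Group G] : Prop :=
  ∀ M : Subgroup G, Good M → (∀ x ∈ 𝐐[M], x * x = 1) → 4 < Nat.card 𝐐[M]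

/-- The configuration of a good subgroup with core `A` and Sylow subgroup `S < T`. -/
structure FA (T S A B D : Subgroup G) (n : G) : Prop where
  syl : Syl 2 T ⊤
  pr : Pr S A B
  le : S ≤ T
  NA : T ⊓ 𝐍[A] ≤ S
  nT : n ∈ T
  nN : n ∈ 𝐍[S]
  nS : n ∉ S
  eqB : cj(n, A) = B
  D_le : D ≤ A ⊓ B
  D_inf : D ⊓ cj(n, D) = ⊥
  idx : D.relIndex (A ⊓ B) = (A ⊓ B).relIndex A
  big : 4 < Nat.card A

theorem exists_FA (hH : Hyp G) (h4 : NoFour G) (hT : Syl 2 T ⊤) (h : Good M)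
    (hS : Syl 2 (T ⊓ M) M) (hn : ¬ T ≤ M) : ∃ B D n, FA T (T ⊓ M) 𝐐[M] B D n := by
  obtain ⟨n, ⟨nT, nN⟩, nS⟩ := SetLike.exists_of_lt (Tr.lt_inf_normalizer hT.pg
    (lt_of_le_not_ge (inf_le_left : T ⊓ M ≤ T) fun e => hn (e.trans inf_le_right)))
  have hS₂ := hS.cj n
  rw [cj_of_norm nN] at hS₂
  have hne : M ≠ cj(n, M) := fun e =>
    nS ⟨nT, h.N_Q.le (norm_core le_rfl (cj_eq_iff.1 e.symm))⟩
  obtain ⟨S₁, h1, h2⟩ := h.exists_syl hS (typeF h (h.cj n) hne hS hS₂)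
  have h3 : cj(n, Ω[T ⊓ M]) = Ω[T ⊓ M] := cj_of_norm (norm_Z le_rfl nN)
  obtain ⟨p1, p2, p3, p4⟩ := pair h (h.cj n) hne hS hS₂ hH h1 h2 (h1.cj n) (by
    rwa [← cj_Z, ← h3, cj_le_cj])
  exact ⟨_, Ω[T ⊓ M] ⊓ Ω[S₁], n, hT, p1, inf_le_left, by rw [h.N_Q], nT, nN, nS, cj_core M n,
    p2 ▸ inf_le_left, by rw [cj_inf, h3, cj_Z, p3], by rw [p2, inf_relIndex_left, p4],
    h4 M h p1.sqA⟩

namespace FA

variable (h : FA T S A B D n)
include h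

theorem card_B : Nat.card B = Nat.card A := h.eqB ▸ card_cj A n

theorem swap (ht : t ∈ T) (hN : t ∈ 𝐍[S]) (hS : t ∉ S) : cj(t, A) = B ∧ cj(t, B) = A := by
  have h1 : cj(t, A) = B := eq_of_le_of_card_ge ((h.pr.cj_le hN).resolve_left
    fun h1 => hS (h.NA ⟨ht, mem_norm_of_cj_le h1⟩)) (by rw [card_cj, h.card_B])
  refine ⟨h1, eq_of_le_of_card_ge ((h.pr.symm.cj_le hN).resolve_left fun h2 => h.pr.nB ?_)
    (by rw [card_cj, h.card_B])⟩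
  rwa [← cj_le_cj (g := t), h1]

theorem two {t' : G} (ht : t ∈ T) (hN : t ∈ 𝐍[S]) (hS : t ∉ S) (ht' : t' ∈ T) (hN' : t' ∈ 𝐍[S])
    (hS' : t' ∉ S) : t * t' ∈ S :=
  h.NA ⟨mul_mem ht ht', cj_eq_iff.1 (by
    rw [← cj_cj, (h.swap ht' hN' hS').1, (h.swap ht hN hS).2])⟩

theorem conj_A (ht : t ∈ T) (hN : t ∈ 𝐍[S]) (hS : t ∉ S) {a : G} (ha : a ∈ A) :
    t * a * t⁻¹ ∈ B := (h.swap ht hN hS).1 ▸ conj_mem_cj ha

theorem conj_B (ht : t ∈ T) (hN : t ∈ 𝐍[S]) (hS : t ∉ S) {a : G} (ha : a ∈ B) :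
    t * a * t⁻¹ ∈ A := (h.swap ht hN hS).2 ▸ conj_mem_cj ha

theorem mem_of_conj (ht : t ∈ T) (hN : t ∈ 𝐍[S]) (hS : t ∉ S) {a : G} (ha : t * a * t⁻¹ ∈ A) :
    a ∈ B := by
  simpa [mul_assoc] using h.conj_A (inv_mem ht) (inv_mem hN) (mt inv_mem_iff.1 hS) ha

theorem fix (ht : t ∈ T) (hN : t ∈ 𝐍[S]) (hS : t ∉ S) {x : G} (hx : x ∈ S) (h2 : x * x = 1)
    (e : t * x * t⁻¹ = x) : x ∈ A ⊓ B :=
  (h.pr.inv x hx h2).elim (fun h1 => ⟨h1, e ▸ h.conj_A ht hN hS h1⟩)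
    fun h1 => ⟨e ▸ h.conj_B ht hN hS h1, h1⟩

theorem card_fix (ht : t ∈ T) (hN : t ∈ 𝐍[S]) (hS : t ∉ S) (hX : X ≤ A ⊓ B)
    (e : ∀ x ∈ X, t * x * t⁻¹ = x) : Nat.card X ≤ (A ⊓ B).relIndex A := by
  have h1 := h.two (inv_mem h.nT) (inv_mem h.nN) (mt inv_mem_iff.1 h.nS) ht hN hS
  have h2 : D ⊓ X = ⊥ := eq_bot_iff.2 fun x hx => h.D_inf.le ⟨hx.1, mem_cj.2 (by
    have h3 := mem_cent.1 (h.pr.inf_le_cent (hX hx.2)) _ h1
    have h4 : n⁻¹ * x * n = x := by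
      calc _ = n⁻¹ * (t * x * t⁻¹) * n := by rw [e x hx.2]
        _ = n⁻¹ * t * x * (n⁻¹ * t)⁻¹ := by group
        _ = x := by rw [h3, mul_inv_cancel_right]
    rw [h4]; exact hx.1)⟩
  rw [← h.idx, ← relIndex_bot_left, ← h2, inf_relIndex_right]
  exact relIndex_mono hX

theorem elem (hX : X ≤ T ⊓ 𝐍[S]) (h2 : ∀ x ∈ X, x * x = 1) (hn : ¬ X ≤ S) :
    S ⊓ X ≤ A ⊓ B ∧ Nat.card X ≤ 2 * (A ⊓ B).relIndex A := by
  obtain ⟨t, ht, hS⟩ := SetLike.not_le_iff_exists.1 hn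
  have e : ∀ x ∈ S ⊓ X, t * x * t⁻¹ = x := fun x hx => by
    rw [comm_of_sq h2 t ht x hx.2, mul_inv_cancel_right]
  have h1 : S ⊓ X ≤ A ⊓ B := fun x hx =>
    h.fix (hX ht).1 (hX ht).2 hS hx.1 (h2 x hx.2) (e x hx)
  refine ⟨h1, ?_⟩
  rw [← card_inf_mul_relIndex S X, mul_comm]
  exact Nat.mul_le_mul (relIndex_le_two fun x hx y hy hx' hy' =>
    h.two (hX hx).1 (hX hx).2 hx' (hX hy).1 (hX hy).2 hy')
    (h.card_fix (hX ht).1 (hX ht).2 hS h1 e)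

theorem card_A : Nat.card (A ⊓ B : Subgroup G) * (A ⊓ B).relIndex A = Nat.card A :=
  card_mul_relIndex inf_le_left

theorem card_Z : 2 < Nat.card (A ⊓ B : Subgroup G) := by
  have h1 : (A ⊓ B).relIndex A ≤ Nat.card (A ⊓ B : Subgroup G) :=
    h.idx ▸ Nat.le_of_dvd Nat.card_pos (relIndex_dvd_card _ _)
  have h2 := h.card_A
  have h3 := h.big
  nlinarith

theorem N_le : 𝐍[T ⊓ 𝐍[S]] ≤ 𝐍[S] := fun x hx => by
  have key : ∀ Y ≤ S, (∀ y ∈ Y, y * y = 1) → Nat.card Y = Nat.card A → cj(x, Y) ≤ S :=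
    fun Y hY h2 h3 => by
      by_contra h4
      have h5 := (h.elem (cj_le_of_norm (hY.trans (le_inf h.le le_normalizer)) hx)
        (cj_sq h2 x) h4).2
      rw [card_cj, h3, ← h.card_A] at h5
      have h6 : (A ⊓ B).relIndex A ≠ 0 := index_ne_zero_of_finite
      have := h.card_Z
      nlinarith [Nat.pos_of_ne_zero h6]
  refine mem_norm_of_cj_le ?_
  nth_rewrite 1 [← h.pr.sup]
  rw [cj_sup]
  exact sup_le (key A h.pr.le h.pr.sqA rfl) (key B h.pr.symm.le h.pr.sqB h.card_B)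

theorem T_le : T ≤ 𝐍[S] :=
  (grow h.syl.pg inf_le_left (inf_le_inf_left T h.N_le)).trans inf_le_right

theorem N_T : 𝐍[T] ≤ 𝐍[S] := by
  have := h.N_le
  rwa [inf_eq_left.2 h.T_le] at this

theorem two' {t' : G} (ht : t ∈ T) (hS : t ∉ S) (ht' : t' ∈ T) (hS' : t' ∉ S) : t * t' ∈ S :=
  h.two ht (h.T_le ht) hS ht' (h.T_le ht') hS'

theorem norm_Z : T ≤ 𝐍[A ⊓ B] := fun t ht => by
  by_cases hS : t ∈ S
  · exact norm_inf h.pr.S_norm h.pr.symm.S_norm hS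
  · rw [← cj_eq_iff, cj_inf, (h.swap ht (h.T_le ht) hS).1, (h.swap ht (h.T_le ht) hS).2, inf_comm]

section TypeZ

variable (hc : A ⊓ B ≤ 𝐂[T])
include hc

theorem comm_r (ht : t ∈ T) (hS : t ∉ S) {a b : G} (ha : a ∈ A) (hb : b ∈ A) :
    a * (t * a * t⁻¹) * (b * (t * b * t⁻¹)) = b * (t * b * t⁻¹) * (a * (t * a * t⁻¹)) := by
  have hN := h.T_le ht
  have ha' := h.conj_A ht hN hS ha
  have hb' := h.conj_A ht hN hS hb
  obtain ⟨z, hz, e1⟩ := h.pr.conj_eq (h.pr.le ha) (h.pr.symm.le hb')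
  obtain ⟨w, hw, e2⟩ := h.pr.conj_eq (h.pr.le hb) (h.two' ht hS ht hS)
  have cz := fun s hs => mem_cent.1 (hc hz) s hs
  have cw := fun s hs => mem_cent.1 (hc hw) s hs
  have ta' := h.le (h.pr.symm.le ha')
  exact comm_aux (h.pr.comm a ha b hb) (h.pr.symm.comm _ ha' _ hb') (h.pr.sqA z hz.1) (cz _ ta')
    (cz _ (h.le (h.pr.symm.le hb'))) (cz _ ht) (cw _ ta') (cz _ (h.le (h.pr.le hw.1))) e1 rfl
    (by rw [← e2]; group)

theorem not_typeZ (hM : Good M) (hS : Syl 2 T M) (hV : Ω[𝐐[M]] = A ⊓ B) (hn : ¬ 𝐐[M] ≤ S) :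
    False := by
  have hQ := hS.core_le
  have hAT := h.pr.le.trans h.le
  have hZT : A ⊓ B ≤ T := inf_le_left.trans hAT
  have hD : D = ⊥ := by
    have := h.D_inf
    rwa [cj_of_cent (cent_comm (h.D_le.trans hc) h.nT), inf_idem] at this
  obtain ⟨a, ha, b, hb, ha', hb', hab⟩ :
      ∃ a ∈ A, ∃ b ∈ A, a ∉ A ⊓ B ∧ b ∉ A ⊓ B ∧ a * b ∉ A ⊓ B := by
    by_contra! h1
    have h2 := relIndex_le_two h1
    rw [← h.idx, hD, relIndex_bot_left] at h2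
    exact h2.not_gt h.card_Z
  have hZ : ∀ x ∈ 𝐐[M], x * x = 1 → x ∈ A ⊓ B := fun x hx h2 => hV.le (hM.mem_V.2 ⟨hx, h2⟩)
  have hZR : A ⊓ B ≤ 𝐐[M] ⊓ S := le_inf (hV.ge.trans (Z_le _)) (inf_le_left.trans h.pr.le)
  have hr : ∀ t ∈ 𝐐[M], t ∉ S → ∀ a ∈ A, a * (t * a * t⁻¹) ∈ 𝐐[M] ⊓ S := fun t ht ht' a ha => by
    refine ⟨?_, mul_mem (h.pr.le ha) (h.pr.symm.le (h.conj_A (hQ ht) (h.T_le (hQ ht)) ht' ha))⟩
    have := mul_mem (conj_mem_of_norm (le_norm_core M (hS.le (hAT ha))) ht) (inv_mem ht)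
    rwa [inv_of_sq (h.pr.sqA a ha), show a * t * a * t⁻¹ = a * (t * a * t⁻¹) by group] at this
  obtain ⟨t₀, h0, h0'⟩ := SetLike.not_le_iff_exists.1 hn
  have dec : ∀ r ∈ 𝐐[M] ⊓ S, ∃ a ∈ A, ∃ z ∈ A ⊓ B, r = a * (t₀ * a * t₀⁻¹) * z := fun r hr' => by
    obtain ⟨a, ha, b, hb, rfl⟩ := h.pr.mul hr'.2
    have h1 : (t₀ * a * t₀⁻¹)⁻¹ * b ∈ B :=
      mul_mem (inv_mem (h.conj_A (hQ h0) (h.T_le (hQ h0)) h0' ha)) hb
    refine ⟨a, ha, _, hZ _ ?_ (h.pr.sqB _ h1), by group⟩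
    have := mul_mem (inv_mem (mem_inf.1 (hr t₀ h0 h0' a ha)).1) (mem_inf.1 hr').1
    rwa [mul_inv_rev, mul_assoc, inv_mul_cancel_left] at this
  have ab : ∀ r ∈ 𝐐[M] ⊓ S, ∀ r' ∈ 𝐐[M] ⊓ S, r * r' = r' * r := fun r hr₁ r' hr₂ => by
    obtain ⟨a, ha, z, hz, rfl⟩ := dec r hr₁
    obtain ⟨b, hb, w, hw, rfl⟩ := dec r' hr₂
    have c1 : Commute (a * (t₀ * a * t₀⁻¹)) (b * (t₀ * b * t₀⁻¹)) :=
      h.comm_r hc (hQ h0) h0' ha hb
    have c2 : Commute (a * (t₀ * a * t₀⁻¹)) w :=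
      mem_cent.1 (hc hw) _ (hQ (hr t₀ h0 h0' a ha).1)
    have c3 : Commute (b * (t₀ * b * t₀⁻¹) * w) z := mem_cent.1 (hc hz) _ (hQ hr₂.1)
    exact ((c1.mul_right c2).mul_left c3.symm).eq
  have hN : M ≤ 𝐍[𝐐[M] ⊓ S] := fun g hg => mem_norm_of_cj_le fun t ht => by
    have hg1 := le_norm_core (p := 2) M hg
    have hg2 : g ∈ 𝐍[A ⊓ B] := hV ▸ hM.N_V.ge hg
    have htQ : t ∈ 𝐐[M] := cj_le_of_norm inf_le_left hg1 ht
    refine ⟨htQ, by_contra fun htS => ?_⟩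
    have htT := hQ htQ
    have h1 : t * t ∈ A ⊓ B := by
      have := conj_mem_of_norm hg2 (h.pr.sq_mem (mem_cj.1 ht).2)
      rwa [show g * (g⁻¹ * t * g * (g⁻¹ * t * g)) * g⁻¹ = t * t by group] at this
    have key : ∀ a ∈ A, a * (t * a * t⁻¹) ∈ cj(g, 𝐐[M] ⊓ S) → a ∈ A ⊓ B := fun a ha h2 => by
      have h3 : t * (a * (t * a * t⁻¹)) * t⁻¹ = a * (t * a * t⁻¹) := by
        have := ab _ (mem_cj.1 ht) _ (mem_cj.1 h2)
        calc _ = g * (g⁻¹ * t * g * (g⁻¹ * (a * (t * a * t⁻¹)) * g)) * g⁻¹ * t⁻¹ := by group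
          _ = _ := by rw [this]; group
      have h4 : t * (a * (t * a * t⁻¹)) * t⁻¹ = t * a * t⁻¹ * a := by
        calc _ = t * a * t⁻¹ * (t * t * a * (t * t)⁻¹) := by
              simp only [mul_inv_rev, mul_assoc, inv_mul_cancel_left]
          _ = _ := by rw [← mem_cent.1 (hc h1) a (hAT ha), mul_inv_cancel_right]
      have h5 := hZ _ (hr t htQ htS a ha).1 (by
        nth_rewrite 2 [← h3]
        rw [h4, mul_assoc, ← mul_assoc (t * a * t⁻¹), conj_sq (h.pr.sqA a ha), one_mul,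
          h.pr.sqA a ha])
      exact ⟨ha, h.mem_of_conj htT (h.T_le htT) htS ((mul_mem_cancel_left ha).1 h5.1)⟩
    have i1 : ∀ x ∈ 𝐐[M], x ∉ cj(g, 𝐐[M] ⊓ S) → g⁻¹ * x * g ∉ S := fun x hx h2 h3 =>
      h2 (mem_cj.2 ⟨conj_mem_of_norm' hg1 hx, h3⟩)
    have r1 := (hr t htQ htS a ha).1
    have r2 := (hr t htQ htS b hb).1
    have h2 := h.two' (hQ (conj_mem_of_norm' hg1 r1)) (i1 _ r1 (mt (key a ha) ha'))
      (hQ (conj_mem_of_norm' hg1 r2)) (i1 _ r2 (mt (key b hb) hb'))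
    have h3 : a * (t * a * t⁻¹) * (b * (t * b * t⁻¹)) ∈ cj(g, 𝐐[M] ⊓ S) :=
      mem_cj.2 ⟨conj_mem_of_norm' hg1 (mul_mem r1 r2), by
        rwa [show ∀ x y, g⁻¹ * x * g * (g⁻¹ * y * g) = g⁻¹ * (x * y) * g from
          fun x y => by group] at h2⟩
    obtain ⟨z, hz, e⟩ := h.pr.conj_eq
      (h.pr.symm.le (h.conj_A htT (h.T_le htT) htS ha)) (inv_mem (h.pr.le hb))
    have h4 := mem_cent.1 (hc hz) _ (h.le (h.pr.symm.le (h.conj_A htT (h.T_le htT) htS hb)))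
    refine hab (key _ (mul_mem ha hb) ((mul_mem_cancel_right
      (mem_cj.2 (hZR (conj_mem_of_norm' hg2 hz)))).1 ?_))
    convert h3 using 1
    calc _ = a * b * (t * a * t⁻¹) * (t * b * t⁻¹ * z) := by group
      _ = a * b * (t * a * t⁻¹ * z) * (t * b * t⁻¹) := by rw [h4]; group
      _ = _ := by rw [← e]; group
  have h1 := hM.le_Q_of_chain (hAT.trans hS.le) hN (hV ▸ hM.N_V.ge)
    (le_inf (comm_le_left ((hAT.trans hS.le).trans (le_norm_core M)))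
      ((commutator_mono le_rfl h.pr.le).trans (comm_le_right (hQ.trans h.T_le))))
    ((commutator_mono inf_le_right h.pr.le).trans h.pr.comm_inf)
    (cent_comm (inf_le_left.trans h.pr.le_cent))
  exact h.pr.nA fun x hx => (hZ x (h1 hx) (h.pr.sqA x hx)).2

end TypeZ

theorem Q_le (hH : Hyp G) (h4 : NoFour G) (hM : Good M) (hS : Syl 2 (T ⊓ M) M) : 𝐐[M] ≤ S := by
  by_contra hn
  have hQ : 𝐐[M] ≤ T := hS.core_le.trans inf_le_left
  have hAT := h.pr.le.trans h.le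
  by_cases hV : Ω[𝐐[M]] ≤ S
  · obtain ⟨t, ht, ht'⟩ := SetLike.not_le_iff_exists.1 hn
    have h1 : ∀ x ∈ Ω[𝐐[M]], t * x = x * t := fun x hx => mem_cent.1 (Z_cent _ hx) t ht
    have h2 : Ω[𝐐[M]] ≤ A ⊓ B := fun x hx => h.fix (hQ ht) (h.T_le (hQ ht)) ht' (hV hx) (Z_sq hx)
      (by rw [h1 x hx, mul_inv_cancel_right])
    have h3 : Ω[𝐐[M]] ≤ 𝐂[T] := fun x hx => mem_cent.2 fun u hu => by
      have h3 := mem_cent.1 (h.pr.inf_le_cent (h2 hx))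
      by_cases h5 : u ∈ S
      · exact h3 u h5
      · exact mul_left_cancel (a := t) (by
          rw [← mul_assoc, h3 _ (h.two' (hQ ht) ht' hu h5), ← mul_assoc, ← h1 x hx, mul_assoc])
    have h5 : T ≤ M := ((cent_comm h3).trans (cent_le_norm _)).trans hM.N_V.le
    rw [inf_eq_left.2 h5] at hS
    have h6 := hM.typeZ_le hS (fun x hx => mem_Z.2 ⟨hM.V_le hS hx, h3 hx, Z_sq hx⟩)
      (inf_le_left.trans hAT) h.norm_Z fun w hw => h.pr.sqA w hw.1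
    exact h.not_typeZ (h6.trans h3) hM hS (le_antisymm h2 h6) hn
  have hVT := (Z_le _).trans hQ
  obtain ⟨h1, h2⟩ := h.elem (le_inf hVT (hVT.trans h.T_le)) (fun _ => Z_sq) hV
  obtain ⟨t, ht, ht'⟩ := SetLike.not_le_iff_exists.1 hV
  have htN := h.T_le (hVT ht)
  have h3 : ∀ a ∈ A, a ∈ M → a ∈ A ⊓ B := fun a ha ha' => by
    have h3 := mul_mem (hM.conj_V ha' ht) (inv_mem ht)
    rw [inv_of_sq (h.pr.sqA a ha), show a * t * a * t⁻¹ = a * (t * a * t⁻¹) by group] at h3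
    have h5 := h1 ⟨mul_mem (h.pr.le ha) (h.pr.symm.le (h.conj_A (hVT ht) htN ht' ha)), h3⟩
    exact ⟨ha, h.mem_of_conj (hVT ht) htN ht' ((mul_mem_cancel_left ha).1 h5.1)⟩
  by_cases h5 : T ≤ M
  · exact h.pr.nA fun a ha => (h3 a ha (h5 (hAT ha))).2
  obtain ⟨B', D', n', h'⟩ := exists_FA hH h4 h.syl hM hS h5
  have h6 : (A ⊓ B).relIndex A ≤ 2 := relIndex_le_two fun x hx y hy hx' hy' =>
    h3 _ (mul_mem hx hy) (h'.two' (hAT hx) (fun e => hx' (h3 x hx e.2)) (hAT hy)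
      fun e => hy' (h3 y hy e.2)).2
  have h7 : Nat.card 𝐐[M] ≤ Nat.card Ω[𝐐[M]] :=
    card_le_of_le fun x hx => hM.mem_V.2 ⟨hx, h'.pr.sqA x hx⟩
  have := h'.big
  omega

theorem not_perfect (hH : Hyp G) (h4 : NoFour G) : ⁅(⊤ : Subgroup G), (⊤ : Subgroup G)⁆ ≠ ⊤ := fun hp => by
  obtain ⟨P, hP⟩ := h.syl.exists_sylow_top
  have h1 := CF.inf_commutator_le_of_focal P (D := S) fun x hx g hg => by
    rw [hP] at hx hg
    have h2 := fus hH h.syl (r := fun a b => a ∈ S ↔ b ∈ S) ⟨fun _ => Iff.rfl, Iff.symm, Iff.trans⟩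
      (fun m hm a _ => mem_normalizer_iff.1 (h.N_T hm) a)
      (fun M hM hS m hm a ha => iff_of_true (h.Q_le hH h4 hM hS ha)
        (h.Q_le hH h4 hM hS (conj_mem_of_norm (le_norm_core M hm) ha))) hx hg
    by_cases h3 : x ∈ S
    · exact mul_mem (inv_mem h3) (h2.1 h3)
    · exact h.two' (inv_mem hx) (mt inv_mem_iff.1 h3) hg (mt h2.2 h3)
  rw [hp, hP, inf_top_eq] at h1
  exact h.nS (h1 h.nT)

end FA

theorem le_of_good (hH : Hyp G) (h4 : NoFour G) (hp : ⁅(⊤ : Subgroup G), (⊤ : Subgroup G)⁆ = ⊤) (hT : Syl 2 T ⊤)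
    (h : Good M) (hS : Syl 2 (T ⊓ M) M) : T ≤ M := by
  by_contra hn
  obtain ⟨B, D, n, h1⟩ := exists_FA hH h4 hT h hS hn
  exact h1.not_perfect hH h4 hp

end Cfsg.Agent.Loc.Gom
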