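import Mathlib
import Cfsg.Agent.Loc.Scalar
import Cfsg.Agent.GT.Frattini
import Cfsg.Agent.GT.CoprimeNilp
import Cfsg.Agent.GT.PGroupChain
import Cfsg.Agent.GT.PGroupFrattini

/-!
# Subgroups `E` with `E^g ∩ N(E) ≤ E`, and `p`-groups whose subgroups of a fixed order are invariant
-/

set_option autoImplicit false

namespace Cfsg.Agent.Loc

open Subgroup Cfsg.Agent.Loc.Am

variable {G : Type*} [Group G] [Finite G] {p : ℕ} [hp : Fact p.Prime]

/-- A subgroup with `E^g ∩ N(E) ≤ E` for all `g` is normal in each `p`-group containing it. -/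
theorem le_normalizer_of_hsub {E P : Subgroup G} (hP : IsPGroup p P) (hEP : E ≤ P)
    (h : ∀ g : G, cj g E ⊓ normalizer (E : Set G) ≤ E) : P ≤ normalizer (E : Set G) := by
  by_contra hne
  have hlt : P ⊓ normalizer (E : Set G) < P :=
    lt_of_le_of_ne inf_le_left fun h' => hne (h' ▸ inf_le_right)
  have : Group.IsNilpotent P := hP.isNilpotent
  obtain ⟨g, hgQ, hgn, hgN⟩ := GT.PG.exists_mem_normalizer_notMem hlt
  refine hgn ⟨hgQ, cj_eq_self_iff.1 (eq_of_le_of_card_le ?_ (card_cj g E).ge)⟩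
  refine le_trans (le_inf le_rfl ?_) (h g)
  calc cj g E ≤ cj g (P ⊓ normalizer (E : Set G)) := cj_mono g (le_inf hEP le_normalizer)
    _ = _ := cj_eq_of_mem_normalizer hgN
    _ ≤ _ := inf_le_right

theorem conj_mem_of_hsub {E P : Subgroup G} (hP : IsPGroup p P) (hEP : E ≤ P)
    (h : ∀ g : G, cj g E ⊓ normalizer (E : Set G) ≤ E) {x g : G} (hx : x ∈ E)
    (hg : g * x * g⁻¹ ∈ P) : g * x * g⁻¹ ∈ E :=
  h g ⟨conj_mem_cj g hx, le_normalizer_of_hsub hP hEP h hg⟩

/-- A subgroup between `Φ(R)` and `R` is the intersection of the subgroups of index `p` over it. -/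
theorem mem_of_forall_relIndex {R N : Subgroup G} (hR : IsPGroup p R)
    (h1 : (frattini R).map R.subtype ≤ N) (h2 : N < R) {y : G}
    (h : ∀ M : Subgroup G, N ≤ M → M ≤ R → M.relIndex R = p → y ∈ M) : y ∈ N := by
  obtain ⟨hc, hpow⟩ := (GT.PG.map_frattini_subtype_le_iff hR).1 h1
  obtain ⟨x, hxR, hxN⟩ := SetLike.exists_of_lt h2
  obtain ⟨M, hM1, hM2, hM3, -⟩ := GT.PG.exists_relIndex_prime_notMem hp.out h2.le hc hpow hxR hxN
  by_contra hy
  obtain ⟨M', hM1', hM2', hM3', hM4, -⟩ :=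
    GT.PG.exists_relIndex_prime_notMem hp.out h2.le hc hpow (hM2 (h M hM1 hM2 hM3)) hy
  exact hM4 (h M' hM1' hM2' hM3')

omit hp in
theorem frattini_sup_lt {R K : Subgroup G} (h : K < R) : (frattini R).map R.subtype ⊔ K < R :=
  lt_of_le_of_ne (sup_le (map_subtype_le _) h.le) fun he =>
    h.ne (GT.eq_of_sup_of_le_map_frattini h.le le_rfl (by rw [sup_comm, he]))

theorem card_eq_of_relIndex {M R : Subgroup G} {k : ℕ} (hMR : M ≤ R) (hi : M.relIndex R = p)
    (hR : Nat.card R = p ^ (k + 1)) : Nat.card M = p ^ k := by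
  have := card_eq_relIndex_mul_card hMR
  rw [hi, hR, pow_succ'] at this
  exact (Nat.eq_of_mul_eq_mul_left hp.out.pos this).symm

section
variable {A A₀ : Subgroup G} (hA : A₀ ≤ A) (hcop : (Nat.card A₀).Coprime p)
  (hsec : ∀ a ∈ A₀, ∀ (F : Subgroup G) (z : G), A ≤ normalizer (F : Set G) →
    A ≤ normalizer ((F ⊔ zpowers z : Subgroup G) : Set G) → z ∈ normalizer (F : Set G) →
    z ^ p ∈ F → a * z * a⁻¹ * z⁻¹ ∈ F)
include hA hcop hsec

theorem le_centralizer_of_cyclic_of_sec {E : Subgroup G} (hE : IsPGroup p E) (hc : IsCyclic E)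
    (hAE : A ≤ normalizer (E : Set G)) : A₀ ≤ centralizer (E : Set G) := by
  refine GT.CopAct.le_centralizer_of_pow_prime_eq_one inferInstance hE (hA.trans hAE) hcop
    fun v hv hvp => ?_
  by_cases hv1 : v = 1
  · rw [hv1]; exact one_mem _
  have h1 : zpowers v = omegaOne p E := by
    refine eq_of_le_of_card_le (zpowers_le.2 (GT.PG.mem_omegaOne hv hvp)) ?_
    rw [GT.PG.card_omegaOne_eq_of_isCyclic hE (fun h => hv1 (by rwa [h, mem_bot] at hv)),
      Nat.card_zpowers, orderOf_eq_prime hvp hv1]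
  intro a ha
  have h2 := hsec a ha ⊥ v (by rw [normalizer_eq_top]; exact le_top)
    (by rw [bot_sup_eq, h1]; exact hAE.trans (GT.PG.normalizer_le_normalizer_omegaOne E))
    (by rw [normalizer_eq_top]; trivial) (mem_bot.2 hvp)
  rwa [mem_bot, mul_inv_eq_one, mul_inv_eq_iff_eq_mul] at h2

theorem le_centralizer_of_noncyclic_of_sec {R : Subgroup G} (hR : IsPGroup p R)
    (hc : ¬ IsCyclic R)
    (hinv : ∀ M : Subgroup G, M ≤ R → M.relIndex R = p → A ≤ normalizer (M : Set G)) :
    A₀ ≤ centralizer (R : Set G) := by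
  set F := (frattini R).map R.subtype with hF
  have hFR : F ≤ R := map_subtype_le _
  have key : ∀ K : Subgroup G, K < R → A ≤ normalizer ((F ⊔ K : Subgroup G) : Set G) := by
    intro K hK n hn
    refine GT.Tr.mem_normalizer_of_conj_mem fun y hy => ?_
    exact mem_of_forall_relIndex hR le_sup_left (frattini_sup_lt hK) fun M h1 h2 h3 =>
      GT.CopAct.conj_mem (hinv M h2 h3) hn (h1 hy)
  have hz : ∀ z ∈ R, zpowers z < R := fun z hz =>
    lt_of_le_of_ne (zpowers_le.2 hz) fun h => hc (h ▸ inferInstance)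
  have hAF : A ≤ normalizer (F : Set G) := by
    have := key ⊥ (by simpa using hz 1 R.one_mem)
    rwa [sup_bot_eq] at this
  have hRF : R ≤ normalizer (F : Set G) := GT.CopAct.le_normalizer_map_subtype_of_normal _
  have h1 : ⁅R, A₀⁆ ≤ F := by
    rw [commutator_le]
    intro z hzR a ha
    have := F.inv_mem (hsec a ha F z hAF (key _ (hz z hzR)) (hRF hzR)
      (((GT.PG.map_frattini_subtype_le_iff hR).1 le_rfl).2 z hzR))
    rw [commutatorElement_def]
    simpa [mul_assoc] using this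
  have h2 := GT.CopAct.sup_inf_centralizer_eq_of_commutator_le hFR
    (GT.CopAct.coprime_of_isPGroup_right hcop (hR.to_le hFR))
    (Or.inr (GT.CopAct.isSolvable_of_isPGroup (hR.to_le hFR))) h1
  have h3 := GT.eq_of_sup_of_le_map_frattini (H := R) (K := R ⊓ centralizer (A₀ : Set G))
    inf_le_left le_rfl (by rw [sup_comm]; exact h2.ge)
  exact le_centralizer_iff.1 (h3 ▸ inf_le_right)

/-- If `A` normalizes all subgroups of order `p ^ k` (and of order `4` when `p ^ k = 2`) of the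
`p`-group `B` of larger order, a `p'`-subgroup acting trivially on the `A`-invariant sections
of order `p` centralizes `B`. -/
theorem le_centralizer_of_invariant_of_sec {B : Subgroup G} (hB : IsPGroup p B) {k : ℕ}
    (hk : 1 ≤ k) (hlt : p ^ k < Nat.card B) (hAB : A₀ ≤ normalizer (B : Set G))
    (hinv : ∀ E : Subgroup G, E ≤ B → (Nat.card E = p ^ k ∨ (p ^ k = 2 ∧ Nat.card E = 4)) →
      A ≤ normalizer (E : Set G)) : A₀ ≤ centralizer (B : Set G) := by
  have hle : p ^ (k + 1) ≤ Nat.card B := by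
    obtain ⟨n, hn⟩ := GT.PG.card_eq_pow_of_isPGroup hB
    rw [hn] at hlt ⊢
    exact Nat.pow_le_pow_right hp.out.pos ((Nat.pow_lt_pow_iff_right hp.out.one_lt).1 hlt)
  have key : ∀ x ∈ B, orderOf x ≤ p ^ k → x ∈ centralizer (A₀ : Set G) := by
    intro x hx ho
    obtain ⟨E, hE1, hE2, hE3⟩ := GT.PG.exists_card_eq_pow_between hB (zpowers_le.2 hx)
      (k := k) (by rwa [Nat.card_zpowers]) hlt.le
    by_cases hc : IsCyclic E
    · exact le_centralizer_iff.1 (le_centralizer_of_cyclic_of_sec hA hcop hsec (hB.to_le hE2) hc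
        (hinv E hE2 (Or.inl hE3))) (hE1 (mem_zpowers x))
    · obtain ⟨R, hR1, hR2, hR3⟩ := GT.PG.exists_card_eq_pow_between hB hE2
        (k := k + 1) (hE3 ▸ Nat.pow_le_pow_right hp.out.pos k.le_succ) hle
      refine le_centralizer_iff.1 (le_centralizer_of_noncyclic_of_sec hA hcop hsec (hB.to_le hR2)
        (fun h => hc (isCyclic_of_le hR1)) fun M h1 h2 => ?_) (hR1 (hE1 (mem_zpowers x)))
      exact hinv M (h1.trans hR2) (Or.inl (card_eq_of_relIndex h1 h2 hR3))
  have hle1 : ∀ x : G, ∀ j ≤ k, x ^ p ^ j = 1 → orderOf x ≤ p ^ k := fun x j hj h =>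
    (Nat.le_of_dvd (pow_pos hp.out.pos j) (orderOf_dvd_of_pow_eq_one h)).trans
      (Nat.pow_le_pow_right hp.out.pos hj)
  by_cases h2 : p = 2
  · refine GT.CopAct.le_centralizer_of_pow_sq_eq_one hB hAB hcop fun x hx hx4 => ?_
    by_cases hk2 : 2 ≤ k
    · exact key x hx (hle1 x 2 hk2 hx4)
    · obtain rfl : k = 1 := by omega
      obtain ⟨j, hj, ho⟩ := (Nat.dvd_prime_pow hp.out).1 (orderOf_dvd_of_pow_eq_one hx4)
      by_cases hj2 : j = 2
      · refine le_centralizer_iff.1 (le_centralizer_of_cyclic_of_sec hA hcop hsec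
          (hB.to_le (zpowers_le.2 hx)) inferInstance (hinv _ (zpowers_le.2 hx) (Or.inr ?_)))
          (mem_zpowers x)
        rw [Nat.card_zpowers, ho, hj2, h2]
        exact ⟨rfl, rfl⟩
      · exact key x hx (ho ▸ Nat.pow_le_pow_right hp.out.pos (by omega))
  · exact GT.CopAct.le_centralizer_of_odd_of_pow_eq_one h2 hB hAB hcop fun x hx hxp =>
      key x hx (hle1 x 1 hk (by rwa [pow_one]))

end

end Cfsg.Agent.Loc
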