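import Mathlib
import Cfsg.Agent.Loc.MssSyl
import Cfsg.Agent.Loc.CFTrApp
import Cfsg.Agent.S1895
import Cfsg.Agent.GT.SchurZassenhaus
import Cfsg.Agent.GT.PGroupMaxClass

/-!
# Groups of `p`-rank at most two, `p` odd: the Sylow normalizer controls transfer
-/

set_option autoImplicit false

universe u

namespace Cfsg.Agent.Loc.IsoRk

open Cfsg Cfsg.Agent.GT Cfsg.Agent.GT.PG Cfsg.Agent.Loc.Mss Subgroup
open scoped commutatorElement

/-- Chief factors of `p`-power order in a group of `p`-rank at most two have order at most `p ^ 2`. -/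
theorem chief_le {G : Type u} [Group G] [Finite G] {p : ℕ} [Fact p.Prime] (hp : p ≠ 2)
    (hr : PRankLE p 2 G) (H K : Subgroup G) [H.Normal] [K.Normal] (hKH : K < H) {n : ℕ}
    (hn : K.relIndex H = p ^ n)
    (hchief : ∀ L : Subgroup G, L.Normal → K ≤ L → L ≤ H → L = K ∨ L = H) : n ≤ 2 := by
  obtain ⟨P₀⟩ : Nonempty (Sylow p H) := inferInstance
  have h1 : K ⊔ (P₀ : Subgroup H).map H.subtype = H := HT.sup_eq_of_coprime_relIndex hKH.le
    (map_subtype_le _) (by
      rw [hn, relIndex, subgroupOf, comap_map_eq_self_of_injective H.subtype_injective]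
      exact ((Nat.Prime.coprime_iff_not_dvd Fact.out).2 P₀.not_dvd_index).pow_left _)
  obtain ⟨P, -, ⟨hP, h2, h3⟩, hmin⟩ := exists_minimal_le (P := fun P : Subgroup G =>
    IsPGroup p P ∧ K ⊔ P = H ∧ K ⊔ normalizer (P : Set G) = ⊤) ⟨P₀.isPGroup'.map _, h1, by
      rw [eq_top_iff, ← P₀.normalizer_sup_eq_top]
      exact sup_le le_sup_right (h1.ge.trans (sup_le_sup_left le_normalizer _))⟩
  obtain ⟨U, hU, h4, h5⟩ := S1895.exists_char hp P hP (P.nontrivial_iff_ne_bot.2 fun e =>
    hKH.ne (by rw [← h2, e, sup_bot_eq])) (hr.subgroup P)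
  have h6 := CopAct.le_normalizer_map_subtype_of_characteristic (le_refl (normalizer (P : Set G))) U
  have h7 := (hchief (K ⊔ U.map P.subtype) (normal_of_sup_eq_top h3
    (le_sup_left.trans le_normalizer) (CopAct.le_normalizer_sup le_normalizer_of_normal h6))
    le_sup_left (h2 ▸ sup_le_sup_left (map_subtype_le _) _)).resolve_right fun e =>
      h4 (map_injective P.subtype_injective ((hmin _ ⟨hP.to_le (map_subtype_le _), e,
        eq_top_iff.2 (h3.ge.trans (sup_le_sup_left h6 _))⟩ (map_subtype_le _)).trans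
          (by rw [← MonoidHom.range_eq_map, range_subtype])))
  have h8 : K.relIndex H ≤ U.index := by
    rw [← h2, relIndex_sup_left]
    exact index_antitone (map_le_iff_le_comap.1 (le_sup_right.trans h7.le))
  exact (Nat.pow_le_pow_iff_right (Fact.out : p.Prime).one_lt).1 (hn ▸ h8.trans h5)

theorem iterCommutator_anti {G : Type*} [Group G] {U H : Subgroup G} (h : H ≤ 𝐍[U]) {i j : ℕ}
    (hij : i ≤ j) : iterCommutator U H j ≤ iterCommutator U H i := by
  have key : ∀ k, H ≤ 𝐍[iterCommutator U H k] := by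
    intro k
    induction k with
    | zero => exact h
    | succ k ih => exact norm_comm ih (norm_of_le le_rfl)
  induction j, hij using Nat.le_induction with
  | base => exact le_rfl
  | succ k _ ih => exact (comm_le_left (key k)).trans ih

/-- For `p` odd and `p`-rank at most two the Sylow normalizer controls transfer. -/
theorem transfer {G : Type u} [Group G] [Finite G] {p : ℕ} [hp' : Fact p.Prime] (hp : p ≠ 2)
    (hr : PRankLE p 2 G) (S : Sylow p G) :
    (S : Subgroup G) ⊓ commutator G ≤ ⁅𝐍[(S : Subgroup G)], 𝐍[(S : Subgroup G)]⁆ := by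
  let W : ∀ (Q : Type u) [Group Q], Subgroup Q := fun _ _ => ⊤
  have hW : IsCharPFunctor p W := ⟨fun Q _ _ _ h => top_ne_bot, fun Q R _ _ _ _ φ =>
    map_top_of_surjective _ φ.surjective⟩
  have hi : ∀ (H : Type u) [Group H] (T : Subgroup H), inducedFunctor W T = T := fun H _ T =>
    map_subtype_top T
  have := CF.transfer_of_criterion (G := G) hW (fun H _ _ hH _ => ⟨default, fun hn => Or.inr ?_⟩)
    G (CF.involves_refl G)
  · have h2 := this.eq_top (CF.isConjugacyFunctor_induced hW) S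
    rw [hi] at h2
    exact h2.le.trans inf_le_right
  rw [hi] at hn
  set T : Sylow p H := default
  have h1 : ¬ (T : Subgroup H) ≤ pCore p H := fun h =>
    hn (le_antisymm h (pCore_le_sylow T) ▸ inferInstance)
  obtain ⟨u, hu, hu'⟩ := SetLike.not_le_iff_exists.1 h1
  refine ⟨u, hu, hu', fun U V hUV hU => ?_⟩
  obtain ⟨K, f, hf⟩ := CF.involves_iff.1 hH
  obtain ⟨h2, hUn, hVn, h3⟩ := hUV
  have hUp : IsPGroup p U := (isPGroup_pCore (p := p) (G := H)).to_le hU
  obtain ⟨r, hr'⟩ := relIndex_eq_pow_of_isPGroup hUp V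
  have h4 : r ≤ 2 := by
    refine chief_le hp (hr.subgroup K) (U.comap f) (V.comap f) ?_ (n := r) ?_ ?_
    · exact (comap_lt_comap_of_surjective hf).2 h2
    · rw [relIndex_comap, map_comap_eq_self_of_surjective hf, hr']
    · intro L hL h5 h6
      have h7 : (L.map f).comap f = L := comap_map_eq_self ((ker_le_comap f V).trans h5)
      rcases h3 (L.map f) (hL.map f hf) (by rwa [← comap_le_comap_of_surjective hf, h7])
        (map_le_iff_le_comap.2 h6) with e | e
      · exact Or.inl (by rw [← h7, e])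
      · exact Or.inr (by rw [← h7, e])
  have h5 : 2 ≤ p - 1 := by have := hp'.out.two_le; omega
  exact (iterCommutator_anti (norm_normal _ U) (h4.trans h5)).trans
    (iterCommutator_le_of_relIndex_eq hUp (T.isPGroup'.to_le (zpowers_le.2 hu))
      (norm_normal _ U) (norm_normal _ V) h2.le hr')

/-- In a perfect group of `p`-rank at most two the Sylow subgroup is `[P, K]`. -/
theorem exists_compl {G : Type u} [Group G] [Finite G] {p : ℕ} [hp' : Fact p.Prime] (hp : p ≠ 2)
    (hr : PRankLE p 2 G) (hG : commutator G = ⊤) (S : Sylow p G) :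
    ∃ K : Subgroup G, K ≤ 𝐍[(S : Subgroup G)] ∧ (Nat.card K).Coprime p ∧
      ⁅(S : Subgroup G), K⁆ = S := by
  have h1 := transfer hp hr S
  rw [hG, inf_top_eq] at h1
  have hS := Syl.of_sylow_le S (le_normalizer (H := (S : Subgroup G)))
  generalize (S : Subgroup G) = P at h1 hS ⊢
  have hc : (P.relIndex 𝐍[P]).Coprime p := ((hp'.out.coprime_iff_not_dvd).2 hS.nd).symm
  obtain ⟨k, hk⟩ := hS.pg.exists_card_eq
  obtain ⟨K, hK, h2, h3, h4⟩ := exists_complement_of_coprime_relIndex (N := P) (L := 𝐍[P])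
    le_normalizer le_rfl (by rw [hk]; exact (hc.symm.pow_left _))
  refine ⟨K, hK, h4 ▸ hc, le_antisymm (comm_le_left hK) ?_⟩
  have hPK : P ≤ 𝐍[⁅P, K⁆] := normalizer_commutator_ge_left _ _
  have hKK : K ≤ 𝐍[⁅P, K⁆] := normalizer_commutator_ge_right _ _
  -- `D = [P,P][P,K]`
  set D : Subgroup G := ⁅P, K⁆ ⊔ ⁅P, P⁆ with hD
  have hPD : P ≤ 𝐍[D] := norm_sup hPK (norm_comm le_normalizer le_normalizer)
  have hKD : K ≤ 𝐍[D] := norm_sup hKK (norm_comm hK hK)
  have hDP : D ≤ P := sup_le (comm_le_left hK) (comm_le_left le_normalizer)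
  have h5 : ⁅𝐍[P], 𝐍[P]⁆ ≤ D ⊔ K := by
    have hKP : ⁅K, P⁆ ≤ D := by rw [commutator_comm]; exact le_sup_left
    have hPU : P ≤ 𝐍[D ⊔ K] := norm_of_comm_le le_rfl
      ((sup_comm_le le_normalizer hKD (comm_le_left hPD) hKP).trans le_sup_left)
    have hKU : K ≤ 𝐍[D ⊔ K] := norm_of_le le_sup_right
    rw [← h2]
    exact sup_comm_le hPU hKU (comm_sup_le hPU hKU (le_sup_right.trans le_sup_left)
      (le_sup_left.trans le_sup_left)) (comm_sup_le hPU hKU (hKP.trans le_sup_left)
      ((comm_le_left le_normalizer).trans le_sup_right))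
  have h6 : P ≤ D := by
    have := dedekind hKD hDP
    rw [inf_comm K P, h3, sup_bot_eq] at this
    exact this ▸ le_inf (h1.trans h5) le_rfl
  obtain ⟨n, hn⟩ : ∃ n, iterCommutator P P n = ⊥ :=
    ⟨k, iterCommutator_eq_bot_of_card hk hS.pg le_normalizer⟩
  exact le_of_le_sup_comm hn hPK hPK h6

end Cfsg.Agent.Loc.IsoRk
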