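import Mathlib
import Cfsg.Agent.Loc.IsoRkA
import Cfsg.Agent.GT.CoprimeActThms
import Cfsg.Agent.FG.CommMod
import Cfsg.Agent.S3888
import Cfsg.Agent.S3771

/-!
# Rank two `p`-groups `P = [P, A]` with a fixed central element
-/

set_option autoImplicit false

universe u

namespace Cfsg.Agent.Loc.IsoRk

open Cfsg Cfsg.Agent.GT Cfsg.Agent.GT.PG Cfsg.Agent.GT.CopAct Cfsg.Agent.Loc.Mss Subgroup
open scoped commutatorElement

/-! ### Automorphisms of `3 × 3` -/

theorem eq_or_eq_inv_of_card_three {V : Type*} [Group V] [Finite V] {F : Subgroup V}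
    (hF : Nat.card F = 3) {f g : V} (hf : f ∈ F) (hf1 : f ≠ 1) (hg : g ∈ F) (hg1 : g ≠ 1) :
    g = f ∨ g = f⁻¹ := by
  classical
  have : Fact (Nat.Prime 3) := ⟨Nat.prime_three⟩
  have h3 : f ^ 3 = 1 := by
    have := pow_card_eq_one' (G := F) (x := ⟨f, hf⟩)
    rw [hF] at this
    exact congrArg Subtype.val this
  have ho : orderOf f = 3 := orderOf_eq_prime h3 hf1
  have h1 : zpowers f = F := eq_of_le_of_card_ge (zpowers_le.2 hf) (by rw [Nat.card_zpowers, ho, hF])
  rw [← h1, mem_zpowers_iff_mem_range_orderOf, ho] at hg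
  obtain ⟨i, hi, rfl⟩ := Finset.mem_image.1 hg
  have hi := Finset.mem_range.1 hi
  interval_cases i
  · simp at hg1
  · simp
  · exact Or.inr (eq_inv_of_mul_eq_one_left (by rw [← pow_succ, h3]))

theorem card_eq_three {V : Type*} [Group V] [Finite V] (hV : Nat.card V = 3 ^ 2) {F : Subgroup V}
    (h1 : F ≠ ⊥) (h2 : F ≠ ⊤) : Nat.card F = 3 := by
  have h3 : Nat.card F ∣ 3 ^ 2 := hV ▸ card_subgroup_dvd_card F
  obtain ⟨i, hi, h4⟩ := (Nat.dvd_prime_pow Nat.prime_three).1 h3
  interval_cases i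
  · exact absurd (card_eq_one.1 h4) h1
  · exact h4
  · exact absurd (eq_top_of_card_eq F (h4.trans hV.symm)) h2

theorem exists_inv {V A : Type*} [Group V] [Finite V] [Group A] [Finite A]
    (hc : IsMulCommutative V) (he : ∀ v : V, v ^ 3 = 1) (hV : Nat.card V = 3 ^ 2)
    (ψ : A →* MulAut V) (hA : (Nat.card A).Coprime 3) (hfix : actFixed ψ = ⊥) :
    ∃ a : A, ∀ v, ψ a v = v⁻¹ := by
  have : Fact (Nat.Prime 3) := ⟨Nat.prime_three⟩
  have : Fact (Nat.Prime 2) := ⟨Nat.prime_two⟩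
  have cm : ∀ a b : V, a * b = b * a := fun a b => hc.is_comm.comm a b
  have h48 := card_mulAut_of_elementary_sq hc he hV
  have h1 : Nat.card ψ.range ∣ 3 * 2 ^ 4 := by
    have := card_subgroup_dvd_card ψ.range
    rwa [h48] at this
  have h2 : (Nat.card ψ.range).Coprime 3 := hA.coprime_dvd_left (card_range_dvd ψ)
  have h3 : IsPGroup 2 ψ.range := by
    obtain ⟨i, -, hi⟩ := (Nat.dvd_prime_pow Nat.prime_two).1 (h2.dvd_of_dvd_mul_left h1)
    exact IsPGroup.of_card hi
  have hV1 : Nontrivial V := Finite.one_lt_card_iff_nontrivial.1 (by rw [hV]; norm_num)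
  have nf : ∀ f : V, f ≠ 1 → ∃ k : A, ψ k f ≠ f := fun f hf => by
    by_contra h
    push Not at h
    exact hf (mem_bot.1 (hfix ▸ mem_actFixed.2 h))
  have h4 : (⊤ : Subgroup ψ.range) ≠ ⊥ := fun h => by
    obtain ⟨f, hf⟩ := exists_ne (1 : V)
    obtain ⟨k, hk⟩ := nf f hf
    have : (⟨ψ k, k, rfl⟩ : ψ.range) = 1 := mem_bot.1 (h ▸ mem_top _)
    exact hk (by rw [show ψ k = 1 from congrArg Subtype.val this]; rfl)
  obtain ⟨⟨_, t, rfl⟩, -, ht, ht1, ht2⟩ := exists_mem_center_of_normal h3 ⊤ h4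
  have tt : ∀ v, ψ t (ψ t v) = v := fun v => by
    have : ψ t * ψ t = 1 := by rw [← pow_two]; exact congrArg Subtype.val ht2
    rw [← MulAut.mul_apply, this]; rfl
  have tk : ∀ k v, ψ t (ψ k v) = ψ k (ψ t v) := fun k v => by
    have : ψ k * ψ t = ψ t * ψ k := congrArg Subtype.val (mem_center_iff.1 ht ⟨ψ k, k, rfl⟩)
    rw [← MulAut.mul_apply, ← this]; rfl
  let F : Subgroup V := (ψ t).toMonoidHom.eqLocus (MonoidHom.id V)
  let I : Subgroup V :=
    { carrier := {v | ψ t v = v⁻¹}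
      one_mem' := by simp
      mul_mem' := fun {a b} ha hb => by
        simp only [Set.mem_ofPred_eq] at ha hb ⊢
        rw [map_mul, ha, hb, mul_inv_rev, cm]
      inv_mem' := fun {a} ha => by
        simp only [Set.mem_ofPred_eq] at ha ⊢
        rw [map_inv, ha] }
  have mF : ∀ v, v ∈ F ↔ ψ t v = v := fun v => Iff.rfl
  have mI : ∀ v, v ∈ I ↔ ψ t v = v⁻¹ := fun v => Iff.rfl
  have hF : ∀ v, v * ψ t v ∈ F := fun v => by rw [mF, map_mul, tt, cm]
  have hI : ∀ v, v * (ψ t v)⁻¹ ∈ I := fun v => by rw [mI, map_mul, map_inv, tt]; group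
  have dec : ∀ v, ∃ f ∈ F, ∃ g ∈ I, f * g = v := fun v => by
    refine ⟨(v * ψ t v)⁻¹, inv_mem (hF v), (v * (ψ t v)⁻¹)⁻¹, inv_mem (hI v), ?_⟩
    rw [← mul_inv_rev, inv_eq_iff_mul_eq_one, cm v (ψ t v), ← he v, pow_succ, pow_two]
    simp only [mul_assoc, inv_mul_cancel_left]
  have fin : ∀ k : A, (∀ f ∈ F, ψ k f = f⁻¹) → (∀ g ∈ I, ψ k g = g⁻¹) → ∀ v, ψ k v = v⁻¹ :=
    fun k h5 h6 v => by
      obtain ⟨f, hf, g, hg, rfl⟩ := dec v
      rw [map_mul, h5 f hf, h6 g hg, mul_inv_rev, cm]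
  by_cases hF1 : F = ⊥
  · exact ⟨t, fin t (fun f hf => by rw [hF1, mem_bot] at hf; simp [hf]) fun g hg => hg⟩
  have hF2 : F ≠ ⊤ := fun h => ht1 (Subtype.ext (MulEquiv.ext fun v => (mF v).1 (h ▸ mem_top v)))
  obtain ⟨⟨f, hf⟩, hf1⟩ := ne_bot_iff_exists_ne_one.1 hF1
  have hf1 : f ≠ 1 := fun h => hf1 (Subtype.ext h)
  have hI1 : I ≠ ⊥ := fun h => hF2 (eq_top_iff.2 fun v _ => by
    obtain ⟨f, hf, g, hg, rfl⟩ := dec v
    rw [h, mem_bot] at hg
    simpa [hg] using hf)
  have hI2 : I ≠ ⊤ := fun h => hf1 (by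
    have h5 := ((mF f).1 hf).symm.trans ((mI f).1 (h ▸ mem_top f))
    have h6 := he f
    rw [pow_succ, pow_two] at h6
    nth_rewrite 1 [h5] at h6
    simpa using h6)
  have cF := card_eq_three hV hF1 hF2
  have cI := card_eq_three hV hI1 hI2
  have all : ∀ (U : Subgroup V) (k : A) (u : V), Nat.card U = 3 → u ∈ U → u ≠ 1 →
      ψ k u = u⁻¹ → ∀ w ∈ U, ψ k w = w⁻¹ := fun U k u hU hu hu1 h w hw => by
    by_cases hw1 : w = 1
    · simp [hw1]
    rcases eq_or_eq_inv_of_card_three hU hu hu1 hw hw1 with rfl | rfl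
    · exact h
    · rw [map_inv, h]
  obtain ⟨⟨g, hg⟩, hg1⟩ := ne_bot_iff_exists_ne_one.1 hI1
  have hg1 : g ≠ 1 := fun h => hg1 (Subtype.ext h)
  obtain ⟨k, hk⟩ := nf f hf1
  have h5 : ψ k f = f⁻¹ := (eq_or_eq_inv_of_card_three cF hf hf1
    ((mF _).2 (by rw [tk, (mF f).1 hf])) (by simpa using hf1)).resolve_left hk
  rcases eq_or_eq_inv_of_card_three cI hg hg1 (g := ψ k g)
    ((mI _).2 (by rw [tk, (mI g).1 hg, map_inv])) (by simpa using hg1) with h6 | h6
  · refine ⟨k * t, fin _ (all F _ f cF hf hf1 ?_) (all I _ g cI hg hg1 ?_)⟩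
    · rw [map_mul, MulAut.mul_apply, (mF f).1 hf, h5]
    · rw [map_mul, MulAut.mul_apply, (mI g).1 hg, map_inv, h6]
  · exact ⟨k, fin _ (all F _ f cF hf hf1 h5) (all I _ g cI hg hg1 h6)⟩

/-! ### An automorphism inverting the abelianization -/

theorem comm_aux {Q : Type*} [Group Q] {u v c d : Q} {m : ℤ} (hc : c ∈ center Q)
    (hu : ∀ w, ⁅u, w⁆ ∈ center Q) (hd : Commute u d) :
    ⁅u ^ m * c, v⁻¹ * d⁆ = ⁅u, v⁆ ^ (-m) := by
  have h1 : ∀ w, u * w = ⁅u, w⁆ * (w * u) := fun w => by group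
  let f : Q →* Q := MonoidHom.mk' (fun w => ⁅u, w⁆) fun a b => by
    have := mem_center_iff.1 (hu b)
    calc ⁅u, a * b⁆ = ⁅u, a⁆ * (a * ⁅u, b⁆) * a⁻¹ := by group
      _ = _ := by rw [this a]; group
  have h2 : ⁅u, v⁻¹ * d⁆ = ⁅u, v⁆⁻¹ := by
    have h3 : f (v⁻¹ * d) = (f v)⁻¹ * f d := by rw [map_mul, map_inv]
    have h4 : f d = 1 := commutatorElement_eq_one_iff_commute.2 hd
    rw [h4, mul_one] at h3
    exact h3
  rw [zpow_neg, ← inv_zpow, ← h2]
  generalize v⁻¹ * d = w
  have h3 : ⁅u ^ m * c, w⁆ = ⁅u ^ m, w⁆ := by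
    have := mem_center_iff.1 hc w
    calc ⁅u ^ m * c, w⁆ = u ^ m * (c * w) * c⁻¹ * (u ^ m)⁻¹ * w⁻¹ := by group
      _ = _ := by rw [← this]; group
  rw [h3]
  have h4 : w * u⁻¹ * w⁻¹ = u⁻¹ * ⁅u, w⁆ := by group
  have h5 : Commute u⁻¹ ⁅u, w⁆ := mem_center_iff.1 (hu w) _
  calc ⁅u ^ m, w⁆ = u ^ m * (w * u⁻¹ * w⁻¹) ^ m := by rw [conj_zpow]; group
    _ = _ := by rw [h4, h5.mul_zpow]; group

theorem act_lcs {Q : Type*} [Group Q] (σ : Q →* Q) (h : ∀ g, σ g * g ∈ commutator Q) (i : ℕ) :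
    ∀ g ∈ (⊤ : Subgroup Q).lowerCentralSeries i,
      (g ^ ((-1 : ℤ) ^ (i + 1)))⁻¹ * σ g ∈ (⊤ : Subgroup Q).lowerCentralSeries (i + 1) := by
  induction i with
  | zero =>
    intro g _
    have := (inferInstance : (commutator Q).Normal).mem_comm (h g)
    simpa [commutator_def] using this
  | succ i ih =>
    set N := (⊤ : Subgroup Q).lowerCentralSeries (i + 1 + 1) with hN
    let π := QuotientGroup.mk' N
    have hz : ∀ g ∈ (⊤ : Subgroup Q).lowerCentralSeries (i + 1), π g ∈ center (Q ⧸ N) := by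
      intro g hg
      rw [mem_center_iff]
      intro y
      obtain ⟨y, rfl⟩ := QuotientGroup.mk'_surjective N y
      exact ((FG.commutatorElement_mem_normal_iff g y N).1
        (commutator_mem_commutator hg (mem_top y))).symm
    have key : ∀ g ∈ (⊤ : Subgroup Q).lowerCentralSeries (i + 1),
        π (σ g) = π g ^ ((-1 : ℤ) ^ (i + 1 + 1)) := by
      intro g hg
      induction hg using closure_induction with
      | mem g hg =>
        obtain ⟨u, hu, v, -, rfl⟩ := hg
        have h1 : σ u = u ^ ((-1 : ℤ) ^ (i + 1)) * ((u ^ ((-1 : ℤ) ^ (i + 1)))⁻¹ * σ u) := by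
          group
        have h2 : σ v = v⁻¹ * (v * σ v) := by group
        have h3 : v * σ v ∈ (⊤ : Subgroup Q).lowerCentralSeries 1 :=
          (inferInstance : (commutator Q).Normal).mem_comm (h v)
        rw [map_commutatorElement, h1, h2, map_commutatorElement, map_mul π (u ^ _), map_mul π v⁻¹,
          map_zpow, map_inv π v, comm_aux (hz _ (ih u hu)), map_commutatorElement, pow_succ _ (i + 1)]
        · simp
        · intro w
          obtain ⟨w, rfl⟩ := QuotientGroup.mk'_surjective N w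
          rw [← map_commutatorElement]
          exact hz _ (commutator_mem_commutator hu (mem_top w))
        · exact (FG.commutatorElement_mem_normal_iff _ _ N).1
            (FG.commutator_lowerCentralSeries_le' ⊤ i 1 (commutator_mem_commutator hu h3))
      | one => simp
      | mul a b ha hb iha ihb =>
        have : Commute (π a) (π b) := (mem_center_iff.1 (hz b hb) _)
        rw [map_mul, map_mul, iha, ihb, map_mul, this.mul_zpow]
      | inv a _ iha => rw [map_inv, map_inv, iha, map_inv, inv_zpow]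
    intro g hg
    rw [← QuotientGroup.eq, ← QuotientGroup.mk'_apply, ← QuotientGroup.mk'_apply, map_zpow]
    exact (key g hg).symm

/-! ### The structure theorem -/

/-- A rank two `p`-group equal to its commutator with a `p'`-group fixing a central element. -/
structure St (p : ℕ) {P A : Type*} [Group P] [Group A] (φ : A →* MulAut P) (x : P) : Prop where
  odd : p ≠ 2
  pg : IsPGroup p P
  rk : PRankLE p 2 P
  cop : (Nat.card A).Coprime p
  comm : actComm φ ⊤ = ⊤
  ne : x ≠ 1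
  pow : x ^ p = 1
  cen : x ∈ center P
  fix : x ∈ actFixed φ

variable {P A : Type*} [Group P] [Group A] [Finite P] [Finite A] {φ : A →* MulAut P} {p : ℕ}
  [hp : Fact p.Prime] {x : P}

theorem St.cop' (h : St p φ x) (U : Subgroup P) : (Nat.card A).Coprime (Nat.card U) := by
  obtain ⟨k, hk⟩ := (h.pg.to_subgroup U).exists_card_eq
  rw [hk]; exact h.cop.pow_right _

theorem St.not_comm (h : St p φ x) : ¬ IsMulCommutative P := fun hc => by
  have := actComm_inf_actFixed_eq_bot (φ := φ) (U := ⊤) inferInstance (actInv_top φ) (h.cop' _)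
  rw [h.comm, top_inf_eq] at this
  exact h.ne (mem_bot.1 (this ▸ h.fix))

theorem St.fix_le (h : St p φ x) : actFixed φ ≤ commutator P := by
  have := actComm_inf_actFixed_le (φ := φ) (U := ⊤) (actInv_top φ) (h.cop' _)
  rwa [h.comm, top_inf_eq] at this

theorem St.center_le (h : St p φ x) {a : P} (ha : a ^ p = 1) (ha' : a ∉ center P) :
    center P ≤ actFixed φ := by
  refine act_trivial_of_abelian_of_pow_eq_one inferInstance (h.pg.to_subgroup _)
    (actInv_of_characteristic φ _) h.cop fun y hy hy' => ?_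
  refine (zpowers_le.2 h.fix) ?_
  by_contra hn
  have h1 : zpowers x ⊔ zpowers y ≤ center P := sup_le (zpowers_le.2 h.cen) (zpowers_le.2 hy)
  have h2 := (IsElementaryAbelian.zpowers h.pow).sup_zpowers hy' (center_le_centralizer _ hy)
  have h3 : a ∈ 𝐂[zpowers x ⊔ zpowers y] := cent_comm (A := zpowers x ⊔ zpowers y) (B := ⊤)
    (h1.trans cent_top.ge) (mem_top a)
  have h4 := h.rk.card_le (h2.sup_zpowers ha h3)
  rw [card_sup_zpowers hp.out (cent_le_norm _ h3) (fun e => ha' (h1 e)) (ha ▸ one_mem _),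
    card_sup_zpowers hp.out (cent_le_norm _ (center_le_centralizer _ hy)) hn (hy' ▸ one_mem _),
    Nat.card_zpowers, orderOf_eq_prime h.pow h.ne] at h4
  have := hp.out.one_lt
  nlinarith [Nat.mul_pos (Nat.zero_lt_of_lt this) (Nat.zero_lt_of_lt this)]

theorem St.exp_gamma (h : St p φ x) (hZ : center P ≤ actFixed φ)
    (hD : ∀ y ∈ commutator P, y ^ p = 1) : ∀ g ∈ 𝐂[commutator P], g ^ p = 1 := by
  set Γ := 𝐂[commutator P] with hΓ
  have h1 : ∀ g ∈ Γ, g ^ p ∈ center P := fun g hg => mem_center_iff.2 fun y => by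
    have h2 : ⁅g, y⁆ ∈ commutator P := commutator_mem_commutator (mem_top g) (mem_top y)
    have := commutatorElement_pow_left_of_commute (x := g) (y := y) (mem_cent.1 hg _ h2).symm p
    rw [hD _ h2, commutatorElement_eq_one_iff_mul_comm] at this
    exact this.symm
  have h2 : ⁅Γ, Γ⁆ ≤ 𝐂[Γ] := (commutator_mono le_top le_top).trans (cent_comm le_rfl)
  have h3 : ∀ {a b : P}, a ∈ Γ → b ∈ Γ → (a * b) ^ p = a ^ p * b ^ p := fun ha hb =>
    CopAct.mul_pow_of_class_two (hp.out.odd_of_ne_two h.odd) h2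
      (fun g hg => center_le_centralizer _ (h1 g hg)) ha hb
  let Ω : Subgroup P :=
    { carrier := {g | g ∈ Γ ∧ g ^ p = 1}
      one_mem' := ⟨one_mem _, one_pow _⟩
      mul_mem' := fun {a b} ha hb => ⟨mul_mem ha.1 hb.1, by rw [h3 ha.1 hb.1, ha.2, hb.2, mul_one]⟩
      inv_mem' := fun {a} ha => ⟨inv_mem ha.1, by rw [inv_pow, ha.2, inv_one]⟩ }
  have hi : ActInv φ Γ := (actInv_of_characteristic φ _).centralizer
  have h4 := actComm_sup_actFixed hi (h.cop' _) (Or.inr (by
    have := (h.pg.to_subgroup Γ).isNilpotent; infer_instance))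
  have h5 : Γ ≤ Ω := h4.ge.trans (sup_le (actComm_le_iff.2 fun u hu a =>
    ⟨mul_mem (inv_mem hu) (hi a u hu), by
      rw [h3 (inv_mem hu) (hi a u hu), ← map_pow, mem_actFixed.1 (hZ (h1 u hu)) a, inv_pow,
        inv_mul_cancel]⟩) fun g hg => ⟨hg.1, hD g (h.fix_le hg.2)⟩)
  exact fun g hg => (h5 hg).2

theorem St.card_of_exp (h : St p φ x) (he : ∀ g : P, g ^ p = 1) : Nat.card P = p ^ 3 := by
  have h1 := S3771.result h.pg h.rk he
  obtain ⟨n, hn⟩ := h.pg.exists_card_eq
  rw [hn, Nat.pow_le_pow_iff_right hp.out.one_lt] at h1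
  rw [hn]
  congr 1
  by_contra h2
  have h3 := sq_dvd_index_center h.pg h.not_comm
  have h4 := (center P).index_mul_card
  have h5 : p ∣ Nat.card (center P) := by
    have := orderOf_dvd_natCard (⟨x, h.cen⟩ : center P)
    rwa [← Subgroup.orderOf_coe, orderOf_eq_prime h.pow h.ne] at this
  have h6 : p ^ 3 ∣ p ^ n := by rw [← hn, ← h4, pow_succ]; exact mul_dvd_mul h3 h5
  rw [Nat.pow_dvd_pow_iff_le_right hp.out.one_lt] at h6
  omega

omit [Finite P] in
theorem comm_of_gens {a b z : P} (hc : closure ({a, b, z} : Set P) = ⊤) (B : Subgroup P) [B.Normal]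
    (h1 : ⁅a, b⁆ ∈ B) (h2 : ⁅a, z⁆ ∈ B) (h3 : b * z = z * b) : commutator P ≤ B := by
  have h4 : ⁅b, z⁆ ∈ B := commutatorElement_eq_one_iff_mul_comm.2 h3 ▸ one_mem _
  have sy : ∀ {u v : P}, ⁅u, v⁆ ∈ B → ⁅v, u⁆ ∈ B := fun {u v} h =>
    commutatorElement_inv u v ▸ inv_mem h
  rw [_root_.commutator_def, ← hc]
  refine FG.commutator_closure_closure_le_normal _ _ B ?_
  rintro u (rfl | rfl | rfl) v (rfl | rfl | rfl) <;>
    first | assumption | exact sy ‹_› | (rw [commutatorElement_self]; exact one_mem _)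

omit [Finite P] in
theorem mem_center_of_gens {a b z w : P} (hc : closure ({a, b, z} : Set P) = ⊤)
    (h1 : a * w = w * a) (h2 : b * w = w * b) (h3 : z * w = w * z) : w ∈ center P := by
  have : (⊤ : Subgroup P) ≤ centralizer {w} := by
    rw [← hc, closure_le]
    rintro u (rfl | rfl | rfl) <;> exact mem_centralizer_singleton_iff.2 ‹_›
  exact mem_center_iff.2 fun g => mem_centralizer_singleton_iff.1 (this (mem_top g))

theorem St.not_center (h : St p φ x) {a b z : P} (hc : closure ({a, b, z} : Set P) = ⊤)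
    (h3 : b * z = z * b) : a ∉ center P := fun ha => by
  have := comm_of_gens hc ⊥ (mem_bot.2 (commutatorElement_eq_one_iff_mul_comm.2
    (mem_center_iff.1 ha b).symm)) (mem_bot.2 (commutatorElement_eq_one_iff_mul_comm.2
    (mem_center_iff.1 ha z).symm)) h3
  exact h.not_comm ⟨⟨fun u v => commutatorElement_eq_one_iff_mul_comm.1 (mem_bot.1
    (this (commutator_mem_commutator (mem_top u) (mem_top v))))⟩⟩

omit [Finite P] in
theorem comm_eq_conj {a b c : P} (h : a⁻¹ * b * a = b * c) : ⁅a, b⁆ = (a * b) * c⁻¹ * (a * b)⁻¹ := by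
  have : c = b⁻¹ * (a⁻¹ * b * a) := by rw [h]; group
  rw [this, commutatorElement_def]
  group

theorem St.exp_of_central (h : St p φ x) (hZ : center P ≤ actFixed φ) {B : Subgroup P}
    (hB : commutator P ≤ B) (h1 : B ≤ center P) (h2 : ∀ y ∈ B, y ^ p = 1) (g : P) : g ^ p = 1 :=
  h.exp_gamma hZ (fun y hy => h2 y (hB hy)) g
    (cent_comm (B := ⊤) ((hB.trans h1).trans cent_top.ge) (mem_top g))

theorem St.fam_two (h : St p φ x) {a b z w : P} (hc : closure ({a, b, z} : Set P) = ⊤)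
    (ha : a ^ p = 1) (hw : w ^ p = 1) (hw' : w ∈ center P) (h1 : a * z = z * a)
    (h2 : b * z = z * b) (h3 : a⁻¹ * b * a = b * w) (g : P) : g ^ p = 1 := by
  have hB : zpowers w ≤ center P := zpowers_le.2 hw'
  have : (zpowers w).Normal := normal_of_top (norm_of_cent (cent_comm (hB.trans cent_top.ge)))
  refine h.exp_of_central (h.center_le ha (h.not_center hc h2)) (comm_of_gens hc (zpowers w) ?_
    (commutatorElement_eq_one_iff_mul_comm.2 h1 ▸ one_mem _) h2) hB
    (IsElementaryAbelian.zpowers hw).2 g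
  rw [comm_eq_conj h3]
  exact this.conj_mem _ (inv_mem (mem_zpowers w)) _

theorem St.fam_three (h : St p φ x) {a b z : P} {m : ℕ} (hc : closure ({a, b, z} : Set P) = ⊤)
    (ha : a ^ p = 1) (hb : b ^ p = 1) (hm : p ∣ m) (hw : (z ^ m) ^ p = 1)
    (h2 : b * z = z * b) (h3 : a⁻¹ * b * a = b * z ^ m) (h4 : a⁻¹ * z * a = b * z) (g : P) :
    g ^ p = 1 := by
  have hZ := h.center_le ha (h.not_center hc h2)
  have hbz : Commute b z := h2
  have hw' : z ^ m ∈ center P := by
    refine mem_center_of_gens hc ?_ (hbz.pow_right m) ((Commute.refl z).pow_right m)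
    obtain ⟨k, rfl⟩ := hm
    have : a⁻¹ * z ^ (p * k) * a = z ^ (p * k) := by
      have := conj_pow (a := a⁻¹) (b := z) (i := p * k)
      rw [inv_inv] at this
      rw [← this, h4, hbz.mul_pow, pow_mul b, hb, one_pow, one_mul]
    conv_lhs => rw [← this]
    group
  set B := zpowers b ⊔ zpowers (z ^ m) with hB
  have hBe : IsElementaryAbelian p B :=
    (IsElementaryAbelian.zpowers hb).sup_zpowers hw (center_le_centralizer _ hw')
  have mb : b ∈ B := mem_sup_left (mem_zpowers _)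
  have mw : z ^ m ∈ B := mem_sup_right (mem_zpowers _)
  have hzB : z ∈ 𝐂[B] := by
    rw [hB, cent_sup]
    exact ⟨cent_comm (A := zpowers b) (B := zpowers z) (zpowers_le.2 (cent_comm (A := zpowers z)
      (B := zpowers b) (zpowers_le.2 (mem_cent.2 fun u ⟨i, hi⟩ => hi ▸ (hbz.zpow_left i))) |>.trans
        le_rfl (mem_zpowers b))) (mem_zpowers z),
      mem_cent.2 fun u ⟨i, hi⟩ => hi ▸ (((Commute.refl z).pow_left m).zpow_left i)⟩
  have hBn : B.Normal := by
    refine normal_of_top ?_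
    rw [← hc, closure_le]
    rintro u (rfl | rfl | rfl)
    · refine (inv_mem_iff (H := 𝐍[B])).1 (mem_norm_of_cj_le ?_)
      rw [hB, cj_sup, MonoidHom.map_zpowers, MonoidHom.map_zpowers]
      refine sup_le (zpowers_le.2 ?_) (zpowers_le.2 ?_)
      · change u⁻¹ * b * u⁻¹⁻¹ ∈ B
        rw [inv_inv, h3]; exact mul_mem mb mw
      · change u⁻¹ * z ^ m * u⁻¹⁻¹ ∈ B
        rw [mem_center_iff.1 hw', mul_inv_cancel_right]; exact mw
    · exact le_normalizer mb
    · exact cent_le_norm _ hzB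
  have h5 : a⁻¹ * z * a = z * b := h4.trans h2
  have h6 : commutator P ≤ B := comm_of_gens hc B
    (by rw [comm_eq_conj h3]; exact hBn.conj_mem _ (inv_mem mw) _)
    (by rw [comm_eq_conj h5]; exact hBn.conj_mem _ (inv_mem mb) _) h2
  have h7 : z ^ m = 1 := by
    obtain ⟨k, rfl⟩ := hm
    rw [pow_mul, h.exp_gamma hZ (fun y hy => hBe.2 y (h6 hy)) z (cent_anti h6 hzB), one_pow]
  rw [h7, mul_one] at h3
  refine h.exp_of_central hZ h6 (sup_le (zpowers_le.2 ?_) (zpowers_le.2 hw')) hBe.2 g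
  refine mem_center_of_gens hc ?_ rfl h2.symm
  conv_lhs => rw [← h3]
  group

theorem St.odd_of_maxClass (h : St 3 φ x) {n : ℕ} (hn : Nat.card P = 3 ^ (n + 3))
    (hc : Group.nilpotencyClass P = n + 2) : Even n := by
  have hi := actInv_of_characteristic φ (commutator P)
  have hfix : actFixed (quotHom φ _ hi) = ⊥ := by
    rw [actFixed_quotHom hi (h.cop' _) (Or.inr (by
      have := (h.pg.to_subgroup (commutator P)).isNilpotent; infer_instance)),
      Subgroup.map_eq_bot_iff,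
      QuotientGroup.ker_mk']
    exact h.fix_le
  obtain ⟨k, hk⟩ := exists_inv (V := P ⧸ commutator P)
    ((Subgroup.Normal.quotient_commutative_iff_commutator_le).2 le_rfl) (fun v => by
      obtain ⟨v, rfl⟩ := QuotientGroup.mk_surjective v
      rw [← QuotientGroup.mk_pow, QuotientGroup.eq_one_iff,
        ← frattini_eq_commutator_of_maxClass hn hc]
      exact pow_mem_frattini h.pg v) (index_commutator_of_maxClass hn hc) _ h.cop hfix
  have h1 := act_lcs (φ k).toMonoidHom (fun g => by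
    rw [← QuotientGroup.eq_one_iff, QuotientGroup.mk_mul]
    have := hk g
    rw [quotHom_mk] at this
    change ((φ k g : P) : P ⧸ commutator P) * _ = 1
    rw [this, inv_mul_cancel]) (n + 1) x (by
      rw [← eq_lowerCentralSeries_of_maxClass hn hc (center P) (r := n)]
      · exact h.cen
      · have := (center P).index_mul_card
        rw [card_center_of_maxClass hn hc, hn, pow_succ] at this
        omega)
  have := h.pg.isNilpotent
  have h2 : (⊤ : Subgroup P).lowerCentralSeries (n + 1 + 1) = ⊥ := by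
    rw [← Subgroup.lowerCentralSeries_nilpotencyClass (G := P), hc]
  rw [h2, mem_bot] at h1
  change _ * φ k x = 1 at h1
  rw [mem_actFixed.1 h.fix] at h1
  by_contra h3
  rw [Nat.not_even_iff_odd] at h3
  rw [(h3.add_even (by decide : Even 2)).neg_one_pow, zpow_neg, inv_inv, zpow_one] at h1
  have h4 := h.pow
  rw [pow_succ, pow_two, h1, one_mul] at h4
  exact h.ne h4

theorem St.main (h : St p φ x) (hm : ¬ IsMetacyclic P) :
    (Nat.card P = p ^ 3 ∧ ∀ y : P, y ^ p = 1) ∨
      (p = 3 ∧ ∃ k : ℕ, 2 ≤ k ∧ Nat.card P = 3 ^ (2 * k + 1) ∧ Group.nilpotencyClass P = 2 * k) := by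
  obtain ⟨n, hn⟩ := h.pg.exists_card_eq
  rcases S3888.result h.odd n hn h.rk with h1 | ⟨h1, a, b, z, hc, ha, -, hz, h2, h3, h4⟩ |
    ⟨h1, s, a, b, z, -, hc, ha, hb, hz, h2, h3, h4⟩ | ⟨rfl, h1, h2⟩
  · exact absurd h1 hm
  · have := h.fam_two hc ha (w := z ^ p ^ (n - 3))
      (by rw [← pow_mul, ← pow_succ, show n - 3 + 1 = n - 2 by omega, hz])
      (pow_mem (mem_center_of_gens hc h2 h3 rfl) _) h2 h3 h4
    exact Or.inl ⟨h.card_of_exp this, this⟩
  · have := h.fam_three hc ha hb (dvd_mul_of_dvd_right (dvd_pow_self p (by omega)) s)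
      (by rw [← pow_mul, mul_assoc, ← pow_succ, show n - 3 + 1 = n - 2 by omega, mul_comm, pow_mul,
        hz, one_pow]) h2 h3 h4
    exact Or.inl ⟨h.card_of_exp this, this⟩
  have hnil := h.pg.isNilpotent
  obtain ⟨m, rfl⟩ : ∃ m, n = m + 2 := ⟨n - 2, by omega⟩
  have h3 := nilpotencyClass_le_of_card hn
  have h4 : Group.nilpotencyClass P = m + 1 := by
    refine le_antisymm h3 (not_lt.1 fun h5 => h2 ?_)
    exact Subgroup.lowerCentralSeries_eq_bot_iff_nilpotencyClass_le.2 (by omega)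
  rcases m with _ | m
  · exact absurd (IsPGroup.isMulCommutative_of_card_eq_prime_sq hn) h.not_comm
  obtain ⟨k, rfl⟩ := h.odd_of_maxClass hn h4
  rcases k with _ | k
  · have h5 := card_center_of_maxClass hn h4
    have h6 : center P = zpowers x := (eq_of_le_of_card_ge (zpowers_le.2 h.cen)
      (by rw [h5, Nat.card_zpowers, orderOf_eq_prime h.pow h.ne])).symm
    have h7 : commutator P ≤ center P := by
      rw [eq_lowerCentralSeries_of_maxClass hn h4 (center P) (r := 0)]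
      · exact le_rfl
      · have := (center P).index_mul_card
        rw [h5, hn] at this
        omega
    exact Or.inl ⟨hn, h.exp_of_central (h6 ▸ zpowers_le.2 h.fix) h7 le_rfl
      (h6 ▸ (IsElementaryAbelian.zpowers h.pow).2)⟩
  · exact Or.inr ⟨rfl, k + 2, by omega, by rw [hn]; congr 1; omega, by omega⟩

end Cfsg.Agent.Loc.IsoRk
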