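import Mathlib
import Cfsg.Agent.Loc.IsoRkB
import Cfsg.Agent.Loc.Isolated
import Cfsg.Agent.Fus.EssSmall
import Cfsg.Agent.S1447

/-!
# Isolated elements in groups of `p`-rank two
-/

set_option autoImplicit false

universe u

namespace Cfsg.Agent.Loc.IsoRk

open Cfsg Cfsg.Agent.GT Cfsg.Agent.GT.PG Cfsg.Agent.GT.CopAct Cfsg.Agent.Loc.Mss Subgroup
open scoped commutatorElement

variable {G : Type u} [Group G] [Finite G] {p : ℕ} [hp' : Fact p.Prime]

theorem sylow_struct (hp : p ≠ 2) (hr : PRankLE p 2 G) (hG : commutator G = ⊤) (S : Sylow p G)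
    {y : G} (hy : y ∈ (S : Subgroup G)) (ho : orderOf y = p) (hi : IsIsolated y) :
    (IsExtraspecial p (S : Subgroup G) ∧ Nat.card (S : Subgroup G) = p ^ 3 ∧
      ∀ y ∈ (S : Subgroup G), y ^ p = 1) ∨
    (p = 3 ∧ ∃ k : ℕ, 2 ≤ k ∧ Nat.card (S : Subgroup G) = 3 ^ (2 * k + 1) ∧
      ∃ _ : Group.IsNilpotent (S : Subgroup G), Group.nilpotencyClass (S : Subgroup G) = 2 * k) := by
  obtain ⟨K, hK, hc, hSK⟩ := exists_compl hp hr hG S
  have hN := IsIsolated.normalizer_le hi S.isPGroup' hy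
  have st : St p (CopAct.conjHom hK) (⟨y, hy⟩ : (S : Subgroup G)) :=
    { odd := hp
      pg := S.isPGroup'
      rk := hr.subgroup _
      cop := hc
      comm := map_injective (S : Subgroup G).subtype_injective (by
        rw [map_actComm_conjHom, map_subtype_top, hSK])
      ne := fun h => hp'.out.one_lt.ne' (by rw [← ho, show y = 1 from congrArg Subtype.val h, orderOf_one])
      pow := Subtype.ext (orderOf_dvd_iff_pow_eq_one.1 ho.dvd)
      cen := mem_center_iff.2 fun g => Subtype.ext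
        (mem_centralizer_singleton_iff.1 (hN (le_normalizer g.2)))
      fix := mem_actFixed.2 fun k => Subtype.ext
        (mem_centralizer_singleton_iff_conj.1 (hN (hK k.2))) }
  have hm : ¬ IsMetacyclic (S : Subgroup G) := fun hm => by
    have := (S1447.result p hp S K S.isPGroup' hm hK hc).1
    rw [hSK] at this
    exact st.not_comm this
  rcases st.main hm with ⟨h1, h2⟩ | ⟨h1, k, h2, h3, h4⟩
  · exact Or.inl ⟨Fus.isExtraspecial_of_card_cube h1 st.not_comm, h1,
      fun y hy => congrArg Subtype.val (h2 ⟨y, hy⟩)⟩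
  · exact Or.inr ⟨h1, k, h2, h3, S.isPGroup'.isNilpotent, h4⟩

theorem isCyclic_of_not_mem (hp : p ≠ 2) (hr : PRankLE p 2 G) {F : Subgroup G} [hF : F.Normal]
    {x : G} (ho : orderOf x = p) (hi : IsIsolated x) (hx : x ∉ F) (P : Sylow p F) :
    IsCyclic (P : Subgroup F) := by
  have hP : IsPGroup p ((P : Subgroup F).map F.subtype) := P.isPGroup'.map _
  obtain ⟨T, hT, hT'⟩ := Syl.exists_ge (L := ⊤) hP le_top
  obtain ⟨g, -, hg⟩ := hT'.conj_le (isPGroup_zpowers_of_orderOf ⟨1, by rw [ho, pow_one]⟩) le_top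
  have h1 : g * x * g⁻¹ ∈ T := hg (conj_mem_cj (mem_zpowers x))
  have h2 := IsIsolated.le_centralizer (isIsolated_conj hi g) hT'.pg h1
  have h3 : g * x * g⁻¹ ∉ F := fun h => hx (by simpa [mul_assoc] using hF.conj_mem _ h g⁻¹)
  have h4 : (g * x * g⁻¹) ^ p = 1 := by rw [conj_pow, ← ho, pow_orderOf_eq_one]; group
  refine isCyclic_of_pRankLE_one_of_odd hp P.isPGroup' (PRankLE.of_mulEquiv
    (pRankLE_subgroup_iff.2 fun E hE hE' => ?_)
    ((P : Subgroup F).equivMapOfInjective F.subtype F.subtype_injective).symm)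
  have h5 : g * x * g⁻¹ ∈ 𝐂[E] := zpowers_le.1 (zpowers_le_centralizer_iff.2 ((hE.trans hT).trans h2))
  have h6 := hr.card_le (hE'.sup_zpowers h4 h5)
  rw [card_sup_zpowers hp'.out (cent_le_norm _ h5) (fun h => h3 (map_subtype_le _ (hE h)))
    (h4 ▸ one_mem _), pow_two] at h6
  rw [pow_one]
  exact Nat.le_of_mul_le_mul_left h6 hp'.out.pos

end Cfsg.Agent.Loc.IsoRk
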