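import Mathlib
import Cfsg.Agent.Loc.JCTwo
import Cfsg.Agent.Loc.CubicS4

/-! `ZN`-groups: the amalgam of two `J`-components (Kurzweil-Stellmacher 12.3.3, 12.3.4). -/

set_option autoImplicit false
open Cfsg Subgroup
open scoped commutatorElement

namespace Cfsg.Agent.Loc.JC
open Cfsg.Agent.GT Cfsg.Agent.Loc.Mss
open Cfsg.Agent.Loc.Am (omZ mem_omZ omZ_le omZ_le_centralizer le_centralizer_omZ)

variable {G : Type*} [Group G] [Finite G]

/-- both groups are `S₄`, or both are `C₂ × S₄`. -/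
def BothS4 (A B : Type*) [Group A] [Group B] : Prop :=
  (Nonempty (A ≃* Equiv.Perm (Fin 4)) ∧ Nonempty (B ≃* Equiv.Perm (Fin 4))) ∨
    (Nonempty (A ≃* Multiplicative (ZMod 2) × Equiv.Perm (Fin 4)) ∧
      Nonempty (B ≃* Multiplicative (ZMod 2) × Equiv.Perm (Fin 4)))

theorem BothS4.card {A B : Type*} [Group A] [Group B] (h : BothS4 A B) :
    Nat.card A = 24 ∨ Nat.card A = 48 := by
  rcases h with ⟨⟨e⟩, -⟩ | ⟨⟨e⟩, -⟩
  · left; rw [Nat.card_congr e.toEquiv, Nat.card_perm]; simp [Nat.factorial]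
  · right; rw [Nat.card_congr e.toEquiv, Nat.card_prod, Nat.card_perm]; simp [Nat.factorial]

theorem BothS4.symm {A B : Type*} [Group A] [Group B] (h : BothS4 A B) : BothS4 B A :=
  h.imp And.symm And.symm

theorem amalgam {P₁ P₂ T : Subgroup G} (hT : P₁ ⊓ P₂ = T) (hc : pCoreOf 2 (P₁ ⊔ P₂) = ⊥)
    (s1 : Syl 2 T P₁) (s2 : Syl 2 T P₂) (e1 : (pCoreOf 2 P₁).relIndex P₁ = 6)
    (e2 : (pCoreOf 2 P₂).relIndex P₂ = 6) (c1 : 𝐂[pCoreOf 2 P₁] ≤ pCoreOf 2 P₁)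
    (c2 : 𝐂[pCoreOf 2 P₂] ≤ pCoreOf 2 P₂) (n1 : ¬ P₁ ≤ 𝐂[omZ 2 T]) (n2 : ¬ P₂ ≤ 𝐂[omZ 2 T]) :
    BothS4 P₁ P₂ ∧ ∀ q ∈ pCoreOf 2 P₁, q * q = 1 := by
  set H := P₁ ⊔ P₂ with hH
  have l1 : P₁ ≤ H := le_sup_left
  have l2 : P₂ ≤ H := le_sup_right
  have e0 : P₁.subgroupOf H ⊓ P₂.subgroupOf H = T.subgroupOf H := by
    rw [← hT]; exact (comap_inf _ _ _).symm
  have k1 : ∀ P, P ≤ H → Syl 2 T P → Am.IsSylowOf 2 (T.subgroupOf H) (P.subgroupOf H) :=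
    fun P a b => Am.isSylowOf_of_not_dvd_relIndex (b.subgroupOf a).le (b.subgroupOf a).pg
      (b.subgroupOf a).nd
  have k2 : ∀ P, P ≤ H → (pCoreOf 2 P).relIndex P = 6 →
      (pCoreOf 2 (P.subgroupOf H)).relIndex (P.subgroupOf H) = 6 := fun P a b => by
    rwa [pCoreOf_subgroupOf_of_le a, relIndex_subgroupOf a]
  have k3 : ∀ P, P ≤ H → 𝐂[pCoreOf 2 P] ≤ pCoreOf 2 P → Am.IsCharP 2 (P.subgroupOf H) :=
    fun P a b => by
    refine inf_le_right.trans ?_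
    rw [pCoreOf_subgroupOf_of_le a, cent_subgroupOf ((pCoreOf_le P).trans a)]
    exact comap_mono b
  have k4 : ∀ P, P ≤ H → ¬ P ≤ 𝐂[omZ 2 T] → ¬ P.subgroupOf H ≤
      𝐂[omZ 2 (P₁.subgroupOf H ⊓ P₂.subgroupOf H)] := fun P a b c => b (by
    have := map_cent_le H.subtype c
    rwa [e0, FF.map_omZ_subtype, map_subgroupOf_eq_of_le a,
      map_subgroupOf_eq_of_le (s1.le.trans l1)] at this)
  have hC : Cub.CubicC (P₁.subgroupOf H) (P₂.subgroupOf H) :=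
    { Cub.cubic_of (by rw [← subgroupOf_sup l1 l2, subgroupOf_self]) (fun N h1 h2 => by
          rw [e0] at h1
          refine (map_eq_bot_iff_of_injective _ H.subtype_injective).mp (le_bot_iff.mp
            (hc ▸ Am.le_pCoreOf (map_subtype_le N) ?_
              (s1.pg.to_le (map_le_iff_le_comap.mpr h1))))
          simpa only [map_subtype_top] using map_norm_le H.subtype (norm_normal ⊤ N))
        (e0 ▸ k1 _ l1 s1) (e0 ▸ k1 _ l2 s2) (k2 _ l1 e1) (k2 _ l2 e2) with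
      char₁ := k3 _ l1 c1
      char₂ := k3 _ l2 c2 }
  have hN := hC.Nv_all (k4 _ l1 n1) (k4 _ l2 n2)
  refine ⟨(hC.iso_of_not_central (k4 _ l1 n1) (k4 _ l2 n2)).imp
    (fun ⟨⟨a⟩, ⟨b⟩⟩ => ⟨⟨(subgroupOfEquivOfLe l1).symm.trans a⟩,
      ⟨(subgroupOfEquivOfLe l2).symm.trans b⟩⟩)
    (fun ⟨⟨a⟩, ⟨b⟩⟩ => ⟨⟨(subgroupOfEquivOfLe l1).symm.trans a⟩,
      ⟨(subgroupOfEquivOfLe l2).symm.trans b⟩⟩), fun q hq => ?_⟩
  have := hC.one_sq (fun _ _ h => hC.all_edges hN h) (α := Sum.inl ((1 : H) : _ ⧸ _))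
    (q := ⟨q, l1 (pCoreOf_le _ hq)⟩) (by
      rw [Cub.Qv, vertexQ, cg_stabilizer_inl_one, pCoreOf_subgroupOf_of_le l1]; exact hq)
  exact congrArg Subtype.val this

namespace UQ
variable {T K L K' L' S E : Subgroup G} (h : UQ T K L)
include h

omit [Finite G] in
theorem sup_le : K ⊔ T ≤ L := _root_.sup_le h.le h.lp.syl.le

theorem core_le_core : pCoreOf 2 L ≤ pCoreOf 2 (K ⊔ T) :=
  Am.pCoreOf_le_pCoreOf h.sup_le (le_sup_of_le_right h.lp.core_le)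

theorem cent_core_le : 𝐂[pCoreOf 2 (K ⊔ T)] ≤ pCoreOf 2 (K ⊔ T) :=
  (cent_anti h.core_le_core).trans (h.lp.cent.trans h.core_le_core)

omit [Finite G] in
theorem syl_sup : Syl 2 T (K ⊔ T) := h.lp.syl.mono le_sup_right h.sup_le

theorem not_comm_le : ¬ ⁅K ⊔ T, K ⊔ T⁆ ≤ pCoreOf 2 (K ⊔ T) := fun hc =>
  h.jc.not_pg ((pg_core _).to_le (h.jc.comm.ge.trans ((commutator_mono le_sup_left
    (le_sup_of_le_right (thJ_le 2 T))).trans hc)))

theorem not_le_cent_omZ (e : omZ 2 T = omZ 2 (thJ 2 T)) : ¬ K ⊔ T ≤ 𝐂[omZ 2 T] := fun hc =>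
  ne_bot_of_card_two (h.jc.card_omZ_inf h.lp.pg_J) (le_bot_iff.mp ((le_inf inf_le_right
    (inf_le_left.trans (e ▸ cent_comm (le_sup_left.trans hc)))).trans h.jc.wOf_inf_cent.le))

theorem core_eq (hn : T ≤ 𝐍[K]) : pCoreOf 2 (K ⊔ T) = (K ⊔ T) ⊓ 𝐂[wOf K] := by
  have h1 : K ⊔ T ≤ 𝐍[wOf K] := norm_wOf (_root_.sup_le le_normalizer hn)
  refine le_antisymm (le_inf (pCoreOf_le _) (cent_comm ?_)) (Am.le_pCoreOf inf_le_left
    (norm_inf le_normalizer (norm_cent h1)) (pg_of_res_le (pg_core K) ((le_inf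
      ((res_mono inf_le_left).trans (h.jc.res_sup h.pg hn).le)
      ((res_le _).trans inf_le_right)).trans h.jc.inf_cent.le)))
  obtain ⟨x, x1, x2, x3, -⟩ := Am.exists_mem_omZ_of_normalized (pg_core (p := 2) (K ⊔ T))
    (elem_wOf K).isPGroup ((pCoreOf_le _).trans h1) h.jc.wOf_ne_bot
  exact ((h.jc.irr inf_le_left (norm_inf (norm_wOf le_normalizer) (norm_cent
    (le_sup_left.trans (le_norm_core _))))).resolve_left
      fun e => x2 (mem_bot.mp (e ▸ mem_inf.mpr ⟨x1, x3⟩))).ge.trans inf_le_right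

theorem relIndex_core (hn : T ≤ 𝐍[K]) : (pCoreOf 2 (K ⊔ T)).relIndex (K ⊔ T) = 6 := by
  have h1 : K ⊔ T ≤ 𝐍[wOf K] := norm_wOf (_root_.sup_le le_normalizer hn)
  rw [h.core_eq hn, inf_relIndex_left]
  have h2 := relIndex_cent_dvd_six (elem_wOf K) h.jc.card h1
  have h3 : ∀ x ∈ K ⊔ T, ∀ n, 𝐂[wOf K].relIndex (K ⊔ T) ∣ n → x ^ n ∈ 𝐂[wOf K] := by
    rintro x hx _ ⟨m, rfl⟩
    rw [pow_mul]
    exact pow_mem (pow_relIndex_mem (norm_cent h1) hx) m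
  have h4 : ¬ 𝐂[wOf K].relIndex (K ⊔ T) ∣ 2 ^ 1 := fun hc => h.jc.not_le_cent
    (h.jc.res.ge.trans (res_le_of_pow fun x hx => ⟨1, h3 x (mem_sup_left hx) _ hc⟩))
  have h5 : ¬ 𝐂[wOf K].relIndex (K ⊔ T) ∣ 3 := fun hc => h.jc.not_le_cent' fun x hx => by
    obtain ⟨k, hk⟩ := pg_iff.mp h.lp.pg_J x hx
    exact mem_of_pow_mem (p := 3) (k := 1) (((Nat.coprime_primes Nat.prime_two
      Nat.prime_three).mpr (by norm_num)).pow_left k |>.coprime_dvd_left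
        (orderOf_dvd_of_pow_eq_one hk)) (h3 x (mem_sup_right (thJ_le 2 T hx)) _ hc)
  have := Nat.le_of_dvd (by norm_num) h2
  interval_cases 𝐂[wOf K].relIndex (K ⊔ T) <;> omega

theorem relIndex_syl (hn : T ≤ 𝐍[K]) : T.relIndex (K ⊔ T) = 3 :=
  Cub.three_of_six (Am.isSylowOf_of_not_dvd_relIndex h.syl_sup.le h.pg h.syl_sup.nd)
    (h.relIndex_core hn)

theorem relIndex_core_syl (hn : T ≤ 𝐍[K]) : (pCoreOf 2 (K ⊔ T)).relIndex T = 2 := by
  have := relIndex_mul_relIndex _ _ _ h.syl_sup.core_le h.syl_sup.le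
  rw [h.relIndex_core hn, h.relIndex_syl hn] at this
  omega

theorem eq_sup (hn : T ≤ 𝐍[K]) (he : ∀ q ∈ pCoreOf 2 (K ⊔ T), q * q = 1)
    (hc : Nat.card (K ⊔ T : Subgroup G) ≤ 48) : L = K ⊔ T := by
  have h1 : pCoreOf 2 (K ⊔ T) ≤ 𝐂[pCoreOf 2 (K ⊔ T)] := fun x hx => mem_cent.mpr fun y hy =>
    (Inv.commute_iff_mul_sq (he y hy) (he x hx)).mpr (he _ (mul_mem hy hx))
  have e1 : pCoreOf 2 L = pCoreOf 2 (K ⊔ T) := le_antisymm h.core_le_core
    (h1.trans ((cent_anti h.core_le_core).trans h.lp.cent))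
  have e2 : pCoreOf 2 L ≤ vv L := fun x hx => mem_omZ.mpr ⟨hx, e1 ▸ h1 (e1 ▸ hx),
    (sq x).trans (he x (e1 ▸ hx))⟩
  have c1 : Nat.card (vv L) ≤ 8 := by
    have := PG.relIndex_mul_card (pCoreOf_le (p := 2) (K ⊔ T))
    rw [h.relIndex_core hn, ← e1] at this
    have := card_le_of_le (vv_le L)
    omega
  have h2 : L ≤ 𝐍[K] := by
    have : comps (thJ 2 T) L = K := le_antisymm (comps_le fun B b1 b2 => by
      by_contra hc
      have k := CopAct.card_mul_card_le_of_le (h.lp.wOf_le_vv h.jc h.le) (h.lp.wOf_le_vv b1 b2)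
      rw [(h.lp.comp_cases h.jc h.le b1 b2 fun e => hc e.ge).2, h.jc.card, b1.card, card_bot] at k
      omega) (le_comps h.jc h.le)
    exact this ▸ h.lp.le_norm_comps
  obtain ⟨k1, k2⟩ := h.jc.split (FF.isElementaryAbelian_omZ _) (h.le.trans (norm_vv L))
    ((h.lp.comp_core_le h.jc h.le).trans (le_centralizer_omZ 2 _))
  rw [← h.lp.wOf_eq h.jc h.le] at k1 k2
  have h3 : L ≤ 𝐂[vv L ⊓ 𝐂[K]] := by
    have k := CopAct.card_mul_card_le_of_le (h.lp.wOf_le_vv h.jc h.le)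
      (inf_le_left : vv L ⊓ 𝐂[K] ≤ _)
    rw [le_bot_iff.mp ((inf_le_inf_left _ inf_le_right).trans k1.le), h.jc.card, card_bot] at k
    have : 0 < Nat.card (vv L ⊓ 𝐂[K] : Subgroup G) := Nat.card_pos
    by_cases k3 : Nat.card (vv L ⊓ 𝐂[K] : Subgroup G) = 1
    · rw [card_eq_one.mp k3, cent_bot]; exact le_top
    · exact le_cent_of_card_two (by omega) (norm_inf (norm_vv L) (norm_cent h2))
  have h4 : L ⊓ 𝐂[wOf K] = pCoreOf 2 L := le_antisymm (((le_cent_sup inf_le_right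
    (inf_le_left.trans h3)).trans (cent_anti (e2.trans k2.ge))).trans h.lp.cent)
    (le_inf (pCoreOf_le _) (e1.le.trans ((h.core_eq hn).le.trans inf_le_right)))
  have h5 := relIndex_cent_dvd_six (elem_wOf K) h.jc.card (norm_wOf h2)
  rw [← inf_relIndex_left, h4, e1, ← relIndex_mul_relIndex _ _ _ (pCoreOf_le _) h.sup_le,
    h.relIndex_core hn] at h5
  exact le_antisymm (relIndex_eq_one.mp (Nat.eq_one_of_dvd_one ((Nat.mul_dvd_mul_iff_left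
    (by norm_num : 0 < 6)).mp (h5.trans (mul_one 6).symm.dvd)))) h.sup_le

variable (h' : UQ T K' L') (hne : L ≠ L')
include h' hne

omit [Finite G] in
theorem core_sup_sup : pCoreOf 2 ((K ⊔ T) ⊔ (K' ⊔ T)) = ⊥ := by
  by_contra hc
  exact h.not_le_of_ne h' hne ((le_sup_left.trans (le_sup_right.trans (le_norm_core _))).trans
    (h.uq _ (Am.pCoreOf_isPGroup 2 _) hc ((sup_le_sup_left (thJ_le 2 T) K).trans
      (le_sup_left.trans (le_norm_core _)))))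

theorem le_norm' (hG : ZN G) : T ≤ 𝐍[K] := h.le_norm h'.jc (h.not_le_of_ne h' hne) hG

theorem omZ_eq' (hG : ZN G) : omZ 2 T = omZ 2 (thJ 2 T) :=
  h.omZ_eq h'.jc (h.not_le_of_ne h' hne) hG

theorem inf_eq (hG : ZN G) : (K ⊔ T) ⊓ (K' ⊔ T) = T := by
  refine le_antisymm ?_ (le_inf le_sup_right le_sup_right)
  by_contra hc
  have := sup_eq_of_relIndex_prime Nat.prime_three le_sup_right
    (h.relIndex_syl (h.le_norm' h' hne hG)) inf_le_left hc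
  exact h'.not_le_of_ne h hne.symm (le_sup_left.trans (this.ge.trans
    (_root_.sup_le h'.lp.syl.le (inf_le_right.trans h'.sup_le))))

theorem amalgam (hG : ZN G) : BothS4 (K ⊔ T : Subgroup G) (K' ⊔ T : Subgroup G) ∧
    ∀ q ∈ pCoreOf 2 (K ⊔ T), q * q = 1 :=
  JC.amalgam (h.inf_eq h' hne hG) (h.core_sup_sup h' hne) h.syl_sup h'.syl_sup
    (h.relIndex_core (h.le_norm' h' hne hG)) (h'.relIndex_core (h'.le_norm' h hne.symm hG))
    h.cent_core_le h'.cent_core_le (h.not_le_cent_omZ (h.omZ_eq' h' hne hG))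
    (h'.not_le_cent_omZ (h.omZ_eq' h' hne hG))

/-- Kurzweil-Stellmacher 12.3.4. -/
theorem eq_sup' (hG : ZN G) : L = K ⊔ T :=
  h.eq_sup (h.le_norm' h' hne hG) (h.amalgam h' hne hG).2 (by
    rcases (h.amalgam h' hne hG).1.card with e | e <;> omega)

end UQ

end Cfsg.Agent.Loc.JC
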