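import Mathlib
import Cfsg.Agent.Loc.JCAmalg

/-! `ZN`-groups: existence of the second `J`-component (Kurzweil-Stellmacher 12.3.3). -/

set_option autoImplicit false
open Cfsg Subgroup
open scoped commutatorElement

namespace Cfsg.Agent.Loc.JC
open Cfsg.Agent.GT Cfsg.Agent.Loc.Mss
open Cfsg.Agent.Loc.Am (omZ mem_omZ omZ_le omZ_le_centralizer le_centralizer_omZ)

variable {G : Type*} [Group G] [Finite G]

/-- `K T` is itself the maximal 2-local overgroup and its 2-core is elementary abelian. -/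
structure SF (T K : Subgroup G) : Prop where
  uq : UQ T K (K ⊔ T)
  nrm : T ≤ 𝐍[K]
  sq : ∀ q ∈ pCoreOf 2 (K ⊔ T), q * q = 1

theorem UQ.sf {T K L K' L' : Subgroup G} (h : UQ T K L) (h' : UQ T K' L') (hne : L ≠ L')
    (hG : ZN G) : SF T K :=
  ⟨h.eq_sup' h' hne hG ▸ h, h.le_norm' h' hne hG, (h.amalgam h' hne hG).2⟩

namespace SF
variable {T K S U V : Subgroup G} {s u : G} (h : SF T K)
include h

theorem Q_le : pCoreOf 2 (K ⊔ T) ≤ T := h.uq.lp.core_le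

omit [Finite G] in
theorem Q_comm : pCoreOf 2 (K ⊔ T) ≤ 𝐂[pCoreOf 2 (K ⊔ T)] := fun x hx => mem_cent.mpr fun y hy =>
  (Inv.commute_iff_mul_sq (h.sq y hy) (h.sq x hx)).mpr (h.sq _ (mul_mem hy hx))

theorem norm_Q : 𝐍[pCoreOf 2 (K ⊔ T)] = K ⊔ T :=
  eq_of_le_norm h.uq.max (pg_core _) (core_ne_bot h.uq.max.1) (le_norm_core _)

theorem idx : (pCoreOf 2 (K ⊔ T)).relIndex T = 2 := h.uq.relIndex_core_syl h.nrm

omit [Finite G] in
theorem vv_eq : vv (K ⊔ T) = pCoreOf 2 (K ⊔ T) := le_antisymm (vv_le _) fun x hx =>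
  mem_omZ.mpr ⟨hx, h.Q_comm hx, (_root_.sq x).trans (h.sq x hx)⟩

theorem sup_eq (hU : U ≤ T) (hn : ¬ U ≤ pCoreOf 2 (K ⊔ T)) : pCoreOf 2 (K ⊔ T) ⊔ U = T :=
  sup_eq_of_relIndex_prime Nat.prime_two h.Q_le h.idx hU hn

theorem J_eq : thJ 2 T = T := le_antisymm (thJ_le 2 T) ((h.sup_eq (thJ_le 2 T) h.uq.lp.nle).ge.trans
  (sup_le (h.vv_eq.ge.trans h.uq.lp.vv_le_J) le_rfl))

theorem wOf_le : wOf K ≤ pCoreOf 2 (K ⊔ T) :=
  (h.uq.lp.wOf_le_vv h.uq.jc h.uq.le).trans (vv_le _)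

theorem not_comm : ¬ T ≤ 𝐂[T] := fun hc =>
  h.uq.jc.not_le_cent' ((thJ_le 2 T).trans (hc.trans (cent_anti (h.wOf_le.trans h.Q_le))))

theorem mem_of_mem (hS : IsPGroup 2 S) (h1 : s ∈ S) (h2 : s ∈ 𝐍[T]) (h3 : s ∈ K ⊔ T) : s ∈ T :=
  h.uq.lp.syl.le_of_norm' (hS.to_le (zpowers_le.mpr h1)) (zpowers_le.mpr h3) (zpowers_le.mpr h2)
    (mem_zpowers s)

variable (hs : s ∈ 𝐍[T]) (hs' : s ∉ K ⊔ T)
include hs hs'

theorem sup_cj : pCoreOf 2 (K ⊔ T) ⊔ cj(s, pCoreOf 2 (K ⊔ T)) = T :=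
  h.sup_eq (cj_le_of_norm h.Q_le hs) fun hc => hs' (h.norm_Q.le (mem_norm_of_cj_le hc))

theorem inf_cj_le : pCoreOf 2 (K ⊔ T) ⊓ cj(s, pCoreOf 2 (K ⊔ T)) ≤ 𝐂[T] :=
  (le_cent_sup (inf_le_left.trans h.Q_comm) (inf_le_right.trans
    ((cj_mono s h.Q_comm).trans (cj_cent _ s).le))).trans (cent_anti (h.sup_cj hs hs').ge)

theorem mem_or (hu : u ∈ T) (h2 : u * u = 1) :
    u ∈ pCoreOf 2 (K ⊔ T) ∨ u ∈ cj(s, pCoreOf 2 (K ⊔ T)) := by
  have hQ := cj_le_of_norm h.Q_le hs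
  obtain ⟨a, ha, b, hb, rfl⟩ := (mem_sup_norm (hQ.trans (le_sup_right.trans (le_norm_core _)))).mp
    ((h.sup_cj hs hs').ge hu)
  have hb2 : b * b = 1 := by
    have := h.sq _ (mem_cj.mp hb)
    rwa [← mul_assoc, ← mul_assoc, mul_inv_cancel_right, mul_eq_one_iff_eq_inv, mul_assoc,
      mul_eq_left] at this
  have hab := (Inv.commute_iff_mul_sq (h.sq a ha) hb2).mpr h2
  by_contra hc
  push Not at hc
  have k1 : b ∉ pCoreOf 2 (K ⊔ T) := fun e => hc.1 (mul_mem ha e)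
  have k2 : a ∉ cj(s, pCoreOf 2 (K ⊔ T)) := fun e => hc.2 (mul_mem e hb)
  have k3 : zpowers a ≤ 𝐂[T] := zpowers_le.mpr (cent_anti (h.sup_eq (zpowers_le.mpr (hQ hb))
    (mt zpowers_le.mp k1)).ge (le_cent_sup (A := pCoreOf 2 (K ⊔ T)) (B := zpowers b)
      (zpowers_le.mpr (h.Q_comm ha)) (cent_comm (zpowers_le.mpr (mem_cent.mpr fun y hy => by
        obtain ⟨n, rfl⟩ := hy; exact (hab.zpow_left n).eq))) (mem_zpowers a)))
  have k4 : cj(s, pCoreOf 2 (K ⊔ T)) ⊔ zpowers a = T :=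
    sup_eq_of_relIndex_prime Nat.prime_two hQ (by
      have := Tr.relIndex_map_conj (pCoreOf 2 (K ⊔ T)) T s
      rwa [cj_of_norm hs, h.idx] at this) (zpowers_le.mpr (h.Q_le ha)) (mt zpowers_le.mp k2)
  refine h.not_comm (k4.ge.trans (sup_le (le_trans (le_cent_sup
    ((cj_mono s h.Q_comm).trans (cj_cent _ s).le) (hQ.trans (cent_comm k3))) (cent_anti k4.ge)) k3))

theorem le_omZ (hU : U ≤ T) (h2 : ∀ u ∈ U, u * u = 1) (hsU : s ∈ 𝐍[U]) : U ≤ omZ 2 T := by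
  have k1 : U ≤ pCoreOf 2 (K ⊔ T) ↔ U ≤ cj(s, pCoreOf 2 (K ⊔ T)) := by
    conv_rhs => rw [← cj_of_norm hsU, cj_le_cj]
  have k2 : U ≤ pCoreOf 2 (K ⊔ T) := by
    by_contra hc
    obtain ⟨x, hx, hx'⟩ := SetLike.not_le_iff_exists.mp hc
    obtain ⟨y, hy, hy'⟩ := SetLike.not_le_iff_exists.mp (mt k1.mpr hc)
    have a := (h.mem_or hs hs' (hU hx) (h2 x hx)).resolve_left hx'
    have b := (h.mem_or hs hs' (hU hy) (h2 y hy)).resolve_right hy'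
    rcases h.mem_or hs hs' (hU (mul_mem hx hy)) (h2 _ (mul_mem hx hy)) with e | e
    · exact hx' ((mul_mem_cancel_right b).mp e)
    · exact hy' ((mul_mem_cancel_left a).mp e)
  exact fun x hx => mem_omZ.mpr ⟨hU hx, h.inf_cj_le hs hs' ⟨k2 hx, k1.mp k2 hx⟩,
    (_root_.sq x).trans (h2 x hx)⟩

omit hs hs' in
theorem normal_le_omZ (hS : IsPGroup 2 S) (hT : T < S) (hV : V ≤ S) (hn : S ≤ 𝐍[V])
    (h2 : ∀ v ∈ V, v * v = 1) : V ≤ omZ 2 T := by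
  obtain ⟨s, hs, hsT⟩ := SetLike.exists_of_lt (Tr.lt_inf_normalizer hS hT)
  have k1 : V ⊓ T ≤ omZ 2 T := h.le_omZ hs.2 (fun e => hsT (h.mem_of_mem hS hs.1 hs.2 e))
    inf_le_right (fun u hu => h2 u hu.1) (norm_inf (X := S ⊓ 𝐍[T]) (inf_le_left.trans hn)
      inf_le_right hs)
  refine le_trans (le_inf le_rfl ?_) k1
  by_contra hc
  obtain ⟨x, hx, hxT⟩ := SetLike.exists_of_lt (Tr.lt_inf_normalizer
    (hS.to_le (sup_le hV hT.le)) (right_lt_sup.mpr hc))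
  obtain ⟨v, hv, t, ht, rfl⟩ := (mem_sup_norm (hT.le.trans hn)).mp hx.1
  have k2 : v ∈ 𝐍[T] := (mul_mem_cancel_right (le_normalizer ht)).mp hx.2
  have k3 : ⁅pCoreOf 2 (K ⊔ T), zpowers v⁆ ≤ pCoreOf 2 (K ⊔ T) :=
    (le_inf ((commutator_mono le_rfl (zpowers_le.mpr hv)).trans
      (comm_le_right (h.Q_le.trans (hT.le.trans hn)))) ((commutator_mono h.Q_le le_rfl).trans
        (comm_le_left (zpowers_le.mpr k2)))).trans (k1.trans (h.uq.omZ_le_J.trans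
          ((omZ_le_centralizer 2 _).trans ((cent_anti (h.Q_le.trans h.J_eq.ge)).trans
            h.uq.lp.cent))))
  exact hxT (mul_mem (h.mem_of_mem hS (hV hv) k2
    (h.norm_Q.le (norm_of_comm_le le_rfl k3 (mem_zpowers v)))) ht)

end SF

namespace UQ
variable {T K L M : Subgroup G} (h : UQ T K L)
include h

theorem cj_not_le' {g : G} (hg : g ∈ 𝐍[thJ 2 T]) (hL : g ∉ L) : ¬ cj(g, K) ≤ L := fun hc =>
  hL ((inv_mem_iff.mp ((maxLocal_norm_eq h.max).le (mem_norm_of_cj_le (h.local_le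
    (twoLocal_cj h.max.1 g⁻¹) (cj_le_iff_le_inv.mp (by
      rw [cj_sup, cj_of_norm hg]; exact _root_.sup_le hc h.lp.J_le)))))))

theorem exists_other_of (hG : ZN G)
    (H : Syl 2 T ⊤ → 𝐍[thJ 2 T] ≤ L → ∃ U, IsTwoLocal U ∧ T ≤ U ∧ ¬ U ≤ L) :
    ∃ K' L', UQ T K' L' ∧ L ≠ L' := by
  by_cases hN : 𝐍[T] ≤ L
  · have hS : Syl 2 T ⊤ := Syl.of_norm h.pg le_top fun P p1 p2 _ p4 =>
      h.lp.syl.ge_of_le p1 p2 (p4.trans hN)
    have hJ : 𝐍[thJ 2 T] ≤ L := fun g hg => by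
      by_contra hc
      have e := h.omZ_eq (h.jc.cj_norm hg) (h.cj_not_le' hg hc) hG
      have e2 : pCoreOf 2 𝐂[omZ 2 T] = T := le_antisymm
        (hS.mono (le_centralizer_omZ 2 T) le_top).core_le
        (Am.le_pCoreOf (le_centralizer_omZ 2 T) (hG.cent_omZ_le hS) h.pg)
      exact hc (hN (e2 ▸ norm_core (norm_cent (e ▸ norm_omZ le_rfl)) hg))
    obtain ⟨U, h1, h2, h3⟩ := H hS hJ
    obtain ⟨K', L', k1, k2⟩ := (mx_of_syl hS hJ (fun e => core_ne_bot h.max.1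
      (le_bot_iff.mp (e ▸ h.lp.core_le))) h1 h2 h3).exists_uq hG
    exact ⟨K', L', k1, fun e => k2 (e ▸ k1.le)⟩
  · obtain ⟨g, h1, h2⟩ := SetLike.not_le_iff_exists.mp hN
    exact ⟨_, _, h.cj hG h1, fun e => h2 ((maxLocal_norm_eq h.max).le (cj_eq_iff.mp e.symm))⟩

end UQ

/-- a maximal 2-local subgroup containing `N(J(S))` but with `J(S) ≰ O₂` is not the only maximal
2-local overgroup of the Sylow subgroup `S`. -/
theorem ZN.exists_local_not_le (hG : ZN G) (hO : pCore 2 G = ⊥) {S L : Subgroup G}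
    (hS : Syl 2 S ⊤) (hL : IsMaximalTwoLocal L) (hJ : 𝐍[thJ 2 S] ≤ L)
    (hn : ¬ thJ 2 S ≤ pCoreOf 2 L) : ∃ U, IsTwoLocal U ∧ S ≤ U ∧ ¬ U ≤ L := by
  by_contra hc
  push Not at hc
  have hSL := hS.mono ((le_normalizer_thJ 2 S).trans hJ) le_top
  have hp := hG.lp hSL hn (hG.cent_le hL.1)
  have hV : vv L ≠ ⊥ := Am.omZ_ne_bot (pg_core L) (core_ne_bot hL.1)
  rcases (straddlingTwoSubgroups L).eq_empty_or_nonempty with h0 | h0
  · have hE := (stronglyEmbedded_iff hO hL.1).mpr h0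
    obtain ⟨⟨z, hz⟩, hz1⟩ := ne_bot_iff_exists_ne_one.mp hV
    refine hn (thJ_le_iff.mpr fun A hA a ha => ?_)
    by_cases h1 : a = 1
    · exact h1 ▸ one_mem _
    obtain ⟨g, hg, rfl⟩ := hE.exists_conj_mem ((vv_le L).trans (pCoreOf_le L) hz)
      (orderOf_eq_prime (mem_omZ.mp hz).2.2 fun e => hz1 (Subtype.ext e))
      (hSL.le (abFam_le hA ha)) (orderOf_eq_prime (abFam_pow hA a ha) h1)
    exact conj_mem_of_norm (le_norm_core L hg) (vv_le L hz)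
  obtain ⟨T, hT⟩ := exists_mem_max h0
  obtain ⟨P, rfl⟩ := hS.exists_sylow_top
  have hx := mx_of_mem P ((thompsonSubgroupOf_eq 2 (P : Subgroup G)).symm ▸ hJ) hT
  obtain ⟨g, hg, h1⟩ := hSL.le_conj hx.pg hx.le
  have h2 : T < cj(g, (P : Subgroup G)) := lt_of_le_of_ne h1 fun e => by
    obtain ⟨U, u1, u2, u3⟩ := hx.out
    exact u3 (cj_le_cj.mp ((hc _ (twoLocal_cj u1 g⁻¹) (cj_le_iff_le_inv.mp (e ▸ u2))).trans
      (cj_of_mem (inv_mem hg)).ge))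
  obtain ⟨K, L₁, k1, k2⟩ := hx.exists_uq hG
  obtain ⟨K', L₂, k3, k4⟩ := k1.exists_other_of hG fun _ _ => ⟨L, hL.1, hx.le, fun e =>
    k2 (hL.2 _ k1.max.1 e ▸ k1.le)⟩
  have k5 := ((k1.sf k3 k4 hG).normal_le_omZ (pg_cj hS.pg g) h2
    ((vv_le L).trans (hSL.cj_mem hg).core_le) ((hSL.cj_mem hg).le.trans (norm_vv L))
    fun v hv => (sq v).symm.trans (mem_omZ.mp hv).2.2).trans k1.omZ_le_J
  obtain ⟨B, b1, b2⟩ := hp.exists_comp'
  refine hp.comp_not_le_cent b1 b2 ?_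
  by_cases e : Nat.card (vv L) = 2
  · exact le_cent_of_card_two e (b2.trans (norm_vv L))
  rcases k1.card_omZ k3.jc (k1.not_le_of_ne k3 k4) with c | c
  · exact absurd ((congrArg (fun X : Subgroup G => Nat.card X) (le_antisymm k5
      (le_of_card_two c ((inf_eq_right.mpr k5).symm ▸ hV)))).trans c) e
  have e2 : vv L = omZ 2 (thJ 2 T) := by
    by_contra e2
    exact e (card_eq_two_of_lt c k5 hV e2)
  have k6 := (k1.relIndex_cent (hS.cj_mem (mem_top g)) h2 c).2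
  rw [← e2] at k6
  refine b1.res.ge.trans (res_le_of_pow fun x hx' => ⟨1, ?_⟩)
  have := pow_relIndex_mem (norm_cent le_rfl) (norm_vv L (b2 hx'))
  rwa [k6] at this

/-- Kurzweil-Stellmacher 12.3.3. -/
theorem UQ.exists_other {T K L : Subgroup G} (h : UQ T K L) (hG : ZN G) (hO : pCore 2 G = ⊥) :
    ∃ K' L', UQ T K' L' ∧ L ≠ L' :=
  h.exists_other_of hG fun h1 h2 => hG.exists_local_not_le hO h1 h.max h2 h.lp.nle

end Cfsg.Agent.Loc.JC
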