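import Mathlib
import Cfsg.Agent.Loc.JCPair
import Cfsg.Agent.GT.TransferCocycle
import Cfsg.Agent.GT.TransferPNilp

/-! `ZN`-groups: the transfer argument at the end of the `ZN`-theorem. -/

set_option autoImplicit false
open Cfsg Subgroup
open scoped commutatorElement

namespace Cfsg.Agent.Loc.JC
open Cfsg.Agent.GT Cfsg.Agent.Loc.Mss
open Cfsg.Agent.Loc.Am (omZ mem_omZ omZ_le omZ_le_centralizer le_centralizer_omZ)

variable {G : Type*} [Group G] [Finite G]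

/-- Thompson transfer for an involution outside `S'`, with an extremal conjugate. -/
theorem exists_extremal {S C : Subgroup G} (hS : Syl 2 S ⊤) {y : G} (hyS : y ∈ S)
    (hy : y ∉ ⁅S, S⁆) (h2 : y ^ 2 = 1) (hH : y ∈ pResidual 2 G) (hC : IsPGroup 2 C)
    (hCy : ∀ x ∈ C, x * y = y * x) :
    ∃ V : Subgroup G, ⁅S, S⁆ ≤ V ∧ y ∉ V ∧ ∃ t : G, t * y * t⁻¹ ∈ V ∧ cj(t, C) ≤ S := by
  have h1 : Abelianization.of (⟨y, hyS⟩ : S) ≠ 1 := fun e => hy (by
    rw [← map_subtype_commutator]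
    exact ⟨_, (QuotientGroup.eq_one_iff _).mp e, rfl⟩)
  obtain ⟨φ, hφ⟩ := CommGroup.exists_apply_ne_one_of_hasEnoughRootsOfUnity _ ℂ h1
  set ψ := (φ.comp Abelianization.of).rangeRestrict with hψ
  have hA : IsPGroup 2 (φ.comp Abelianization.of).range :=
    hS.pg.of_surjective ψ (MonoidHom.rangeRestrict_surjective _)
  obtain ⟨t, ht, k1, k2⟩ := Tr.thompson_transfer ψ (relIndex_top_right S ▸ hS.nd)
    (fun a b ha hb a1 b1 => by
      have key : ∀ c : (φ.comp Abelianization.of).range, c ^ 2 = 1 → c ≠ 1 → ((c : ℂˣ) : ℂ) = -1 :=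
        fun c hc c1 => (sq_eq_one_iff.mp (by
          simpa only [SubmonoidClass.coe_pow, Units.val_pow_eq_pow_val, OneMemClass.coe_one,
            Units.val_one] using
            congrArg (fun x : (φ.comp Abelianization.of).range => ((x : ℂˣ) : ℂ)) hc)).resolve_left
          fun e => c1 (Subtype.ext (Units.ext e))
      exact Subtype.ext (Units.ext ((key a ha a1).trans (key b hb b1).symm))) h2
    (Tr.pResidual_le_ker hA _ hH) hC hCy
  refine ⟨ψ.ker.map S.subtype, ?_, ?_, t⁻¹, ⟨_, k1, by simp⟩, cj_le_iff.mpr (by simpa using k2)⟩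
  · rw [← map_subtype_commutator]
    exact map_mono (Abelianization.commutator_subset_ker ψ)
  · rintro ⟨z, hz, rfl⟩
    exact hφ (congrArg Subtype.val hz)

omit [Finite G] in
theorem comm_self_le {V S U : Subgroup G} {s : G} (e : V ⊔ zpowers s = S) (hn : S ≤ 𝐍[U])
    (h : ⁅V, S⁆ ≤ U) : ⁅S, S⁆ ≤ U := by
  have h1 : V ≤ 𝐍[U] := le_sup_left.trans (e.le.trans hn)
  have h2 : zpowers s ≤ 𝐍[U] := le_sup_right.trans (e.le.trans hn)
  refine (commutator_mono e.ge le_rfl).trans (sup_comm_le h1 h2 h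
    ((commutator_mono le_rfl e.ge).trans (comm_sup_le h1 h2 ((commutator_comm _ _).le.trans
      ((commutator_mono le_rfl (le_sup_right.trans e.le)).trans h)) ?_)))
  exact (comm_eq_bot_iff.mpr (le_centralizer_iff_isMulCommutative.mpr inferInstance)).le.trans
    bot_le

omit [Finite G] in
theorem exists_sup_zpowers {V S : Subgroup G} (h : V ≤ S) (hi : V.relIndex S ∣ 2) :
    ∃ s, V ⊔ zpowers s = S := by
  by_cases hc : S ≤ V
  · exact ⟨1, by rw [zpowers_one_eq_bot, sup_bot_eq, le_antisymm h hc]⟩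
  obtain ⟨s, h1, h2⟩ := SetLike.not_le_iff_exists.mp hc
  exact ⟨s, sup_eq_of_relIndex_prime Nat.prime_two h (((Nat.dvd_prime Nat.prime_two).mp
    hi).resolve_left (mt relIndex_eq_one.mp hc)) (zpowers_le.mpr h1) (mt zpowers_le.mp h2)⟩

omit [Finite G] in
theorem card_eq_mul_of_sup {X Y D H : Subgroup G} (e : Y ⊔ D = X) (hY : Y ≤ H) (hn : X ≤ 𝐍[D])
    (hD : D ⊓ H = ⊥) : Nat.card X = Nat.card (X ⊓ H : Subgroup G) * Nat.card D := by
  rw [← PG.card_sup_of_inf_eq_bot (inf_le_left.trans hn) (le_bot_iff.mp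
    ((le_inf inf_le_right (inf_le_left.trans inf_le_right)).trans hD.le)), le_antisymm
      (sup_le inf_le_left (le_sup_right.trans e.le)) (e.ge.trans (sup_le_sup_right
        (le_inf (le_sup_left.trans e.le) hY) _))]

namespace SF
variable {T K K' S R : Subgroup G} (h : SF T K)
include h

theorem le_cent_omZ : T ≤ 𝐂[omZ 2 (thJ 2 T)] := h.J_eq.ge.trans (le_centralizer_omZ 2 _)

theorem omZ_le_Q : omZ 2 (thJ 2 T) ≤ pCoreOf 2 (K ⊔ T) :=
  (cent_comm (h.Q_le.trans h.le_cent_omZ)).trans h.uq.lp.cent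

theorem le_cent_dd : K ⊔ T ≤ 𝐂[dd T K] :=
  sup_le (cent_comm inf_le_right) (h.le_cent_omZ.trans (cent_anti inf_le_left))

omit [Finite G] in
theorem norm_wOf : 𝐍[wOf K] = K ⊔ T :=
  le_antisymm h.uq.norm_wOf_le (JC.norm_wOf (sup_le le_normalizer h.nrm))

theorem Q_eq (hc : Nat.card (K ⊔ T : Subgroup G) ≤ 48) :
    wOf K ⊔ dd T K = pCoreOf 2 (K ⊔ T) := by
  refine le_antisymm (sup_le h.wOf_le (inf_le_left.trans h.omZ_le_Q)) ?_
  obtain ⟨k1, k2⟩ := h.uq.jc.split (FF.isElementaryAbelian_omZ _) (h.uq.le.trans (norm_vv _))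
    ((h.uq.lp.comp_core_le h.uq.jc h.uq.le).trans (le_centralizer_omZ 2 _))
  rw [← h.uq.lp.wOf_eq h.uq.jc h.uq.le] at k1 k2
  refine h.vv_eq.ge.trans (k2.ge.trans (sup_le_sup_left (le_inf ?_ inf_le_right) _))
  have h3 : T ≤ 𝐂[vv (K ⊔ T) ⊓ 𝐂[K]] := by
    have k := CopAct.card_mul_card_le_of_le h.wOf_le (inf_le_left.trans (vv_le _) :
      vv (K ⊔ T) ⊓ 𝐂[K] ≤ _)
    rw [le_bot_iff.mp ((inf_le_inf_left _ inf_le_right).trans k1.le), h.uq.jc.card, card_bot] at k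
    have c1 := PG.relIndex_mul_card (pCoreOf_le (p := 2) (K ⊔ T))
    rw [h.uq.relIndex_core h.nrm] at c1
    have : 0 < Nat.card (vv (K ⊔ T) ⊓ 𝐂[K] : Subgroup G) := Nat.card_pos
    by_cases k3 : Nat.card (vv (K ⊔ T) ⊓ 𝐂[K] : Subgroup G) = 1
    · rw [card_eq_one.mp k3, cent_bot]; exact le_top
    · exact le_cent_of_card_two (by omega) (norm_inf (le_sup_right.trans (norm_vv _))
        (norm_cent h.nrm))
  exact fun x hx => mem_omZ.mpr ⟨h.uq.lp.vv_le_J hx.1, cent_comm ((thJ_le 2 T).trans h3) hx,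
    (mem_omZ.mp hx.1).2.2⟩

theorem card_Q (hc : Nat.card (K ⊔ T : Subgroup G) ≤ 48) :
    Nat.card (pCoreOf 2 (K ⊔ T)) = 4 * Nat.card (dd T K) := by
  have := PG.card_sup_of_inf_eq_bot (H := wOf K) (N := dd T K) ((JC.wOf_le K).trans
    (le_sup_left.trans (norm_of_cent h.le_cent_dd))) ((inf_comm _ _).trans h.uq.jc.dd_inf)
  rwa [h.Q_eq hc, h.uq.jc.card] at this

theorem comm_eq (hc : Nat.card (K ⊔ T : Subgroup G) ≤ 48) :
    ⁅T, T⁆ = omZ 2 (thJ 2 T) ⊓ wOf K := by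
  have c1 := h.uq.jc.card_omZ_inf h.uq.lp.pg_J
  have n1 : T ≤ 𝐍[omZ 2 (thJ 2 T) ⊓ wOf K] :=
    norm_of_cent (h.le_cent_omZ.trans (cent_anti inf_le_left))
  have h1 : ⁅T, T⁆ ≤ omZ 2 (thJ 2 T) ⊓ wOf K := by
    obtain ⟨s, hs⟩ := exists_sup_zpowers h.Q_le h.idx.dvd
    refine comm_self_le hs n1 ?_
    rw [← h.Q_eq hc]
    refine sup_comm_le ((h.wOf_le.trans h.Q_le).trans n1) ((inf_le_left.trans (h.omZ_le_Q.trans
      h.Q_le)).trans n1) (comm_le_of_relIndex_two inf_le_right ((h.wOf_le.trans h.Q_le).trans n1)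
        ?_ (JC.norm_wOf h.nrm) n1)
      ((comm_eq_bot_iff'.mpr (le_sup_right.trans h.le_cent_dd)).le.trans bot_le)
    have := PG.relIndex_mul_card (inf_le_right : omZ 2 (thJ 2 T) ⊓ wOf K ≤ _)
    rw [c1, h.uq.jc.card] at this
    omega
  exact le_antisymm h1 (le_of_card_two c1 ((inf_eq_right.mpr h1).symm ▸ fun e =>
    h.not_comm (comm_eq_bot_iff.mp e)))

theorem inf_cent_le (hd : Nat.card (dd T K) = 2) (hR : IsPGroup 2 R) (hn : R ≤ 𝐍[T]) :
    𝐂[omZ 2 (thJ 2 T)] ⊓ R ≤ T := fun _ hx =>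
  h.mem_of_mem hR hx.2 (hn hx.2) (h.uq.norm_le le_rfl (ne_bot_of_card_two hd)
    (cent_le_norm _ (cent_anti inf_le_left hx.1)))

theorem thJ_eq (hc : Nat.card (K ⊔ T : Subgroup G) ≤ 48) (hd : Nat.card (dd T K) = 2)
    (hR : IsPGroup 2 R) (hT : T ≤ R) (hn : R ≤ 𝐍[T]) : thJ 2 R = T := by
  refine (thJ_eq_of_le (thJ_le_iff.mpr fun A hA a ha => ?_) hT).symm.trans h.J_eq
  by_contra hc'
  have hAR := abFam_le hA
  have c1 := h.uq.jc.card_omZ h.uq.lp.pg_J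
  have c2 := h.card_Q hc
  have c3 := abFam_card_le hA (h.Q_le.trans hT) (le_centralizer_iff_isMulCommutative.mp h.Q_comm)
    fun q hq => (_root_.sq q).trans (h.sq q hq)
  have c4 := Nat.le_of_dvd two_pos (relIndex_cent_dvd_two (FF.isElementaryAbelian_omZ _)
    (by omega : Nat.card (omZ 2 (thJ 2 T)) = 4) (norm_omZ (norm_thJ (hAR.trans hn)))
      (hR.to_le hAR))
  have c5 := PG.relIndex_mul_card_inf 𝐂[omZ 2 (thJ 2 T)] A
  have k1 : 𝐂[omZ 2 (thJ 2 T)] ⊓ A ≤ omZ 2 (thJ 2 T) := (le_inf inf_le_right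
    ((inf_le_inf_left _ hAR).trans (h.inf_cent_le hd hR hn))).trans ((h.le_omZ (hn (hAR ha))
      (fun e => hc' (h.mem_of_mem hR (hAR ha) (hn (hAR ha)) e)) inf_le_right
      (fun u hu => (_root_.sq u).symm.trans (abFam_pow hA u hu.1))
      (norm_inf (X := A) le_normalizer (hAR.trans hn) ha)).trans h.uq.omZ_le_J)
  have k2 := PG.eq_of_le_of_card_le k1 (by nlinarith)
  exact hc' (h.inf_cent_le hd hR hn ⟨cent_anti (k2.ge.trans inf_le_right)
    (le_centralizer_iff_isMulCommutative.mpr (abFam_comm hA) ha), hAR ha⟩)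

theorem le_norm_of_le (hc : Nat.card (K ⊔ T : Subgroup G) ≤ 48) (hd : Nat.card (dd T K) = 2)
    (hS : IsPGroup 2 S) (hT : T ≤ S) : S ≤ 𝐍[T] :=
  ((Syl.of_norm (T := S ⊓ 𝐍[T]) hS.to_inf_left inf_le_left fun _ _ _ p3 p4 => le_inf p3
    (h.thJ_eq hc hd hS.to_inf_left (le_inf hT le_normalizer) inf_le_right ▸
      norm_thJ p4)).ge_of_le hS inf_le_left le_rfl).trans inf_le_right

variable (h' : SF T K') (hne : K ⊔ T ≠ K' ⊔ T) (hc : Nat.card (K ⊔ T : Subgroup G) ≤ 48)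
  (hc' : Nat.card (K' ⊔ T : Subgroup G) ≤ 48)
include h' hne

theorem not_le_Q (hc' : Nat.card (K' ⊔ T : Subgroup G) ≤ 48) : ¬ wOf K' ≤ pCoreOf 2 (K ⊔ T) := by
  intro e
  have h1 := PG.relIndex_mul_card h.Q_le
  have h2 := PG.relIndex_mul_card h'.Q_le
  rw [h.idx] at h1
  rw [h'.idx] at h2
  refine hne (h.norm_Q.symm.trans (Eq.trans ?_ h'.norm_Q))
  rw [PG.eq_of_le_of_card_le ((h'.Q_eq hc').ge.trans (sup_le e (inf_le_left.trans h.omZ_le_Q)))
    (by omega)]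

include hc hc'

theorem sup_sup_eq : (wOf K ⊔ wOf K') ⊔ dd T K = T := by
  rw [sup_right_comm, h.Q_eq hc, h.sup_eq (h'.wOf_le.trans h'.Q_le) (h.not_le_Q h' hne hc')]

theorem cj_wOf_eq (hG : ZN G) (hd : Nat.card (dd T K) = 2) {s : G} (hs : s ∈ 𝐍[T])
    (hs' : s ∉ K ⊔ T) : cj(s, wOf K) = wOf K' := by
  have c1 := h.uq.jc.card_omZ h.uq.lp.pg_J
  have c2 := h'.uq.jc.card_omZ h'.uq.lp.pg_J
  have c3 := h.uq.jc.card_omZ_inf h.uq.lp.pg_J
  have hd' : Nat.card (dd T K') = 2 := by omega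
  have hJ : s ∈ 𝐍[thJ 2 T] := norm_thJ le_rfl hs
  have k1 : ∀ B, SF T B → Nat.card (B ⊔ T : Subgroup G) ≤ 48 → dd T B ≠ ⁅T, T⁆ := fun B b1 b2 e =>
    b1.not_comm (comm_eq_bot_iff.mp (le_bot_iff.mp ((le_inf e.ge
      ((b1.comm_eq b2).le.trans inf_le_right)).trans b1.uq.jc.dd_inf.le)))
  have k2 : cj(s, dd T K) = dd T K' := by
    rcases three_of_four (X := cj(s, dd T K)) (by omega : Nat.card (omZ 2 (thJ 2 T)) = 4)
      inf_le_left inf_le_left ((h.comm_eq hc).le.trans inf_le_left)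
      (cj_le_of_norm inf_le_left (norm_omZ le_rfl hJ)) hd hd' (h.comm_eq hc ▸ c3)
      ((card_cj _ s).trans hd) (fun e => ne_bot_of_card_two hd ((inf_eq_left.mpr e.le).symm.trans
        (h.uq.dd_inf_dd (h.uq.not_le_of_ne h'.uq hne)))) (k1 K h hc) (k1 K' h' hc') with e | e | e
    · exact absurd (h.uq.norm_le le_rfl (ne_bot_of_card_two hd) (cj_eq_iff.mp e)) hs'
    · exact e
    · exact absurd (cj_eq_cj.mp (e.trans (cj_of_norm (norm_comm le_rfl le_rfl hs)).symm)) (k1 K h hc)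
  have k3 : K' ⊔ T = cj(s, K ⊔ T) := (h.uq.cj hG hs).eq_max h'.uq.max (sup_le
    ((norm_of_cent (cent_comm ((k2.symm.trans (cj_dd K hJ)).le.trans inf_le_right))).trans
      (h'.uq.norm_le le_rfl (ne_bot_of_card_two hd'))) h'.uq.lp.J_le)
  rw [cj_wOf, ← h.uq.jc.res_sup h.uq.pg h.nrm, cj_res, ← k3, h'.uq.jc.res_sup h'.uq.pg h'.nrm]

theorem dd_inf_res (hG : ZN G) : dd T K ⊓ pResidual 2 G = ⊥ := by
  rcases h.uq.card_dd h'.uq.jc (h.uq.not_le_of_ne h'.uq hne) with hd | hd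
  · rw [card_eq_one.mp hd, bot_inf_eq]
  by_contra hH
  have c1 := h.uq.jc.card_omZ h.uq.lp.pg_J
  have c2 := h'.uq.jc.card_omZ h'.uq.lp.pg_J
  have c3 := h.uq.jc.card_omZ_inf h.uq.lp.pg_J
  have c4 : Nat.card (omZ 2 (thJ 2 T)) = 4 := by omega
  obtain ⟨S, hT, hS⟩ := Syl.exists_ge (L := ⊤) h.uq.pg le_top
  have n1 := h.le_norm_of_le hc hd hS.pg hT
  have n2 : S ≤ 𝐍[wOf K ⊔ wOf K'] := fun s hs => by
    by_cases e : s ∈ T
    · exact norm_sup (JC.norm_wOf h.nrm) (JC.norm_wOf h'.nrm) e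
    rw [← cj_eq_iff, cj_sup, h.cj_wOf_eq h' hne hc hc' hG hd (n1 hs)
      (fun e' => e (h.mem_of_mem hS.pg hs (n1 hs) e')), h'.cj_wOf_eq h hne.symm hc' hc hG
        (by omega) (n1 hs) (fun e' => e (h'.mem_of_mem hS.pg hs (n1 hs) e')), sup_comm]
  have n3 : S ≤ 𝐍[omZ 2 (thJ 2 T)] := norm_omZ (norm_thJ n1)
  have k1 : ⁅S, S⁆ ≤ wOf K ⊔ wOf K' := by
    obtain ⟨s, hs⟩ := exists_sup_zpowers hT (by
      have := relIndex_cent_dvd_two (FF.isElementaryAbelian_omZ _) c4 n3 hS.pg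
      rwa [← inf_relIndex_right, le_antisymm (h.inf_cent_le hd hS.pg n1)
        (le_inf h.le_cent_omZ hT)] at this)
    refine comm_self_le hs n2 ((commutator_mono (h.sup_sup_eq h' hne hc hc').ge le_rfl).trans
      (sup_comm_le le_normalizer ((le_sup_right.trans (h.sup_sup_eq h' hne hc hc').le).trans
        (hT.trans n2)) (comm_le_left n2) ((commutator_mono inf_le_left le_rfl).trans
          ((comm_le_of_relIndex_two (U := omZ 2 (thJ 2 T) ⊓ wOf K) inf_le_left ?_ ?_ n3 ?_).trans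
            (le_sup_of_le_left inf_le_right)))))
    · exact norm_of_cent ((omZ_le_centralizer 2 _).trans (cent_anti
        (inf_le_left.trans (omZ_le 2 _))))
    · have := PG.relIndex_mul_card (inf_le_left : omZ 2 (thJ 2 T) ⊓ wOf K ≤ _)
      rw [c3, c4] at this
      omega
    · exact h.comm_eq hc ▸ norm_comm n1 n1
  have k2 : ¬ dd T K ≤ wOf K ⊔ wOf K' := fun e => by
    have a1 := PG.card_sup_mul_card_inf ((h.wOf_le.trans h.Q_le).trans (JC.norm_wOf h'.nrm))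
    have a2 := card_le_of_le (le_inf inf_le_right ((h.comm_eq hc).ge.trans
      ((h'.comm_eq hc').le.trans inf_le_right)) : omZ 2 (thJ 2 T) ⊓ wOf K ≤ _)
    have a3 := h.card_Q hc
    rw [h.uq.jc.card, h'.uq.jc.card] at a1
    exact h.not_le_Q h' hne hc' (le_sup_right.trans (PG.eq_of_le_of_card_le
      ((h.Q_eq hc).ge.trans (sup_le le_sup_left e)) (by nlinarith)).ge)
  obtain ⟨⟨z, hz, hzH⟩, hz1⟩ := ne_bot_iff_exists_ne_one.mp hH
  have hz1' : z ≠ 1 := fun e => hz1 (Subtype.ext e)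
  have k3 : ∀ (V : Subgroup G) (t : G), t * z * t⁻¹ ∈ V → cj(t, dd T K) ≤ V := fun V t ht =>
    le_of_card_two ((card_cj _ t).trans hd) fun e => hz1' (by
      simpa using mem_bot.mp (e.le (mem_inf.mpr ⟨conj_mem_cj hz, ht⟩)))
  obtain ⟨V, v1, v2, t, v3, v4⟩ := exists_extremal hS (hT (thJ_le 2 T (omZ_le 2 _ hz.1)))
    (fun e => k2 (by simpa only [cj_one] using k3 _ 1 (by simpa using k1 e)))
    (mem_omZ.mp hz.1).2.2 hzH h.uq.pg fun x hx => (mem_cent.mp (h.le_cent_omZ hx) z hz.1).symm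
  have k4 : t ∈ 𝐍[T] := by
    have := thJ_cj_eq_of_le ((h.thJ_eq hc hd hS.pg hT n1).trans h.J_eq.symm)
      ((thJ_le 2 _).trans v4)
    rwa [← cj_thJ, h.J_eq, cj_eq_iff] at this
  refine v2 ((sup_eq_of_four c4 (cj_le_of_norm inf_le_left (norm_omZ (norm_thJ le_rfl) k4))
    inf_le_left ((card_cj _ t).trans hd) c3 fun e => ?_).ge.trans (sup_le (k3 V t v3)
      ((h.comm_eq hc).ge.trans ((commutator_mono hT hT).trans v1))) hz.1)
  rw [← h.comm_eq hc, ← cj_of_norm (norm_comm le_rfl le_rfl k4), cj_eq_cj, h.comm_eq hc] at e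
  exact ne_bot_of_card_two hd ((inf_eq_left.mpr (e.le.trans inf_le_right)).symm.trans
    h.uq.jc.dd_inf)

end SF

end Cfsg.Agent.Loc.JC
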