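import Mathlib
import Cfsg.Agent.Loc.NatA7b
import Cfsg.Agent.GT.CoprimeGen
import Cfsg.Agent.Inv.BrauerFowler
import Cfsg.Agent.S2553

/-! The dichotomy: `SL₂(F)` is normal, or `|F| = 4` and the group is `A₇`. -/

set_option autoImplicit false

namespace Cfsg.Agent.Loc.NatA7

open Matrix Matrix.SpecialLinearGroup
open scoped MatrixGroups Pointwise

variable {p : ℕ} {G : Type*} [Group G] {F : Type*} [Field F] [DistribMulAction G (Fin 2 → F)]

namespace Hyp

variable {σ : SL(2, F) →* G} {S : Subgroup G} (H : Hyp p σ S)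
include H

omit H [DistribMulAction G (Fin 2 → F)] in
/-- A subgroup containing all conjugates of the root group contains every conjugate of `SL₂(F)`. -/
theorem gen {K : Subgroup G} (hK : ∀ (g : G) (t : F), g * σ (uu t) * g⁻¹ ∈ K) (g : G) (m : SL(2, F)) :
    g * σ m * g⁻¹ ∈ K := by
  induction m using Cl.sl_transvection_induction with
  | h1 => simp
  | htr i j h c =>
    fin_cases i <;> fin_cases j
    · exact absurd rfl h
    · exact hK g c
    · change g * σ (ll c) * g⁻¹ ∈ K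
      have := hK (g * σ ww) (-c)
      rw [ll_eq, map_mul, map_mul, map_inv]
      convert this using 1; group
    · exact absurd rfl h
  | hmul A B hA hB =>
    have := mul_mem hA hB
    rw [map_mul]
    convert this using 1; group

theorem trans {y : Fin 2 → F} (hy : y ≠ 0) : ∃ m, σ m • (![1, 0] : Fin 2 → F) = y := by
  obtain ⟨m, hm⟩ := exists_mulVec_eq hy
  exact ⟨m, by rw [H.act, hm]⟩

variable [hp : Fact p.Prime] [CharP F p] [Finite F]

theorem normal_of_ti (h : ∀ g g' : G, g • W0 F ≠ g' • W0 F → g • W0 F ⊓ g' • W0 F = ⊥) :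
    σ.range.Normal := by
  refine ⟨?_⟩
  rintro _ ⟨m, rfl⟩ g
  refine gen (fun g t => ?_) g m
  have y0 : g • (![1, 0] : Fin 2 → F) ≠ 0 := by rw [Ne, smul_eq_zero_iff_eq]; simp
  obtain ⟨l, hl⟩ := H.trans y0
  have e : g • W0 F = σ l • W0 F := by
    by_contra hne
    have : g • (![1, 0] : Fin 2 → F) ∈ g • W0 F ⊓ σ l • W0 F :=
      ⟨AddSubgroup.smul_mem_pointwise_smul_iff.2 (by simp [mem_W0]),
        hl ▸ AddSubgroup.smul_mem_pointwise_smul_iff.2 (by simp [mem_W0])⟩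
    rw [h _ _ hne] at this
    exact y0 this
  obtain ⟨s, hs⟩ := H.mem_Q_iff.1 (e ▸ conj_mem_Q (H.uu_mem_Q t) g)
  rw [hs]
  exact ⟨l * uu s * l⁻¹, by simp⟩

omit H hp [CharP F p] in
theorem not_le {g g' : G} (h : g • W0 F ≠ g' • W0 F) : ∃ w ∈ g • W0 F, w ∉ g' • W0 F := by
  by_contra hc
  push Not at hc
  exact h (AddSubgroup.eq_of_le_of_card_ge hc (by rw [card_smul, card_smul]))

/-- The maximal-intersection argument. -/
theorem max_pair {g1 g2 : G} (hne : g1 • W0 F ≠ g2 • W0 F)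
    (hmax : ∀ g g' : G, g • W0 F ≠ g' • W0 F →
      Nat.card ↥(g • W0 F ⊓ g' • W0 F) ≤ Nat.card ↥(g1 • W0 F ⊓ g2 • W0 F))
    {d : Fin 2 → F} (hd : d ∈ g1 • W0 F ⊓ g2 • W0 F) (d0 : d ≠ 0) :
    Nat.card F = 4 ∧ ∀ d' ∈ g1 • W0 F ⊓ g2 • W0 F, d' ≠ 0 → d' = d := by
  set Y1 := g1 • W0 F with hY1
  set Y2 := g2 • W0 F with hY2
  obtain ⟨w, w1, w2⟩ := not_le hne
  have L1 : ∀ x ∈ Q G Y2, x • w - w ∈ Y1 → ∀ y ∈ Y1, x • y - y ∈ Y1 ⊓ Y2 := fun x hx hw y hy => by
    have e : x • Y1 = Y1 := by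
      by_contra hc
      have hm := hmax (x * g1) g1 (by rwa [mul_smul])
      rw [mul_smul, ← hY1] at hm
      have le : Y1 ⊓ Y2 ≤ x • Y1 ⊓ Y1 := fun v hv =>
        ⟨by rw [← hx.1 v hv.2]; exact AddSubgroup.smul_mem_pointwise_smul_iff.2 hv.1, hv.1⟩
      have e := AddSubgroup.eq_of_le_of_card_ge le hm
      have m1 : x • w ∈ x • Y1 ⊓ Y1 := ⟨AddSubgroup.smul_mem_pointwise_smul_iff.2 w1, by
        have := add_mem hw w1
        rwa [sub_add_cancel] at this⟩
      rw [← e] at m1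
      have := Y2.sub_mem m1.2 (hx.2 w)
      rw [sub_sub_cancel] at this
      exact w2 this
    refine ⟨Y1.sub_mem ?_ hy, hx.2 y⟩
    rw [← e]
    exact AddSubgroup.smul_mem_pointwise_smul_iff.2 hy
  have l1 : Y1 ⊓ Y2 ≤ Y1 := inf_le_left
  have l2 : Y1 ≤ Y1 ⊔ Y2 := le_sup_left
  have inP : ∀ x ∈ Q G Y2, x • w - w ∈ Y1 → x ∈ St G l1 l2 := fun x hx hw => by
    refine ⟨fun d hd => hx.1 d hd.2, L1 x hx hw, fun z hz => ?_, fun v => le_sup_right (a := Y1) (hx.2 v)⟩
    obtain ⟨a, ha, b, hb, rfl⟩ := AddSubgroup.mem_sup.1 hz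
    rw [smul_add, hx.1 b hb, add_sub_add_right_eq_sub]
    exact (L1 x hx hw a ha).1
  have hP : IsPGroup p ((St G l1 l2).map (MulAut.conj g1⁻¹).toMonoidHom) :=
    (isPGroup_St p_smul H.faith l1 l2).map _
  obtain ⟨h, hW, hh⟩ := H.conjS hP fun t =>
    ⟨_, Q_le_St l1 l2 (conj_mem_Q (H.uu_mem_Q t) g1), by simp [mul_assoc]⟩
  set k := h * g1⁻¹ with hk
  have kS : ∀ x ∈ St G l1 l2, k * x * k⁻¹ ∈ S := fun x hx => by
    have := hh _ ⟨x, hx, rfl⟩
    convert this using 1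
    simp [hk, mul_assoc]
  have kY : k • Y1 = W0 F := by rw [hk, hY1, mul_smul, inv_smul_smul, hW]
  have nU : ∀ x ∈ Q G Y2, x ≠ 1 → ¬ ∃ a, k * x * k⁻¹ = σ (uu a) := by
    rintro x hx x1 ⟨a, ha⟩
    have hQ : x ∈ Q G Y1 := by
      have := conj_mem_Q (ha ▸ H.uu_mem_Q a) k⁻¹
      rw [← kY, inv_smul_smul] at this
      simpa [mul_assoc] using this
    exact w2 (H.mem_of_fix hx x1 (hQ.1 w w1))
  have L2 : ∀ x ∈ Q G Y2, ∀ x' ∈ Q G Y2, x • w - w ∈ Y1 → x' • w - w ∈ Y1 → x ≠ 1 → x' ≠ 1 → x = x' :=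
    fun x hx x' hx' hw hw' x1 x1' => by
      by_contra hc
      have := H.small (Y := k • Y2) (y := k • d) (AddSubgroup.smul_mem_pointwise_smul_iff.2 hd.2)
        (by rwa [Ne, smul_eq_zero_iff_eq]) (conj_mem_Q hx k) (conj_mem_Q hx' k) (kS _ (inP x hx hw))
        (kS _ (inP x' hx' hw')) (nU x hx x1) (nU x' hx' x1')
      refine nU (x * x'⁻¹) (mul_mem hx (inv_mem hx')) (by rwa [Ne, mul_inv_eq_one]) ?_
      convert this using 3
      group
  have ex : ∀ d' ∈ Y1 ⊓ Y2, d' ≠ 0 → ∃ x ∈ Q G Y2, x • w - w = d' ∧ x ≠ 1 := fun d' hd' d0' => by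
    obtain ⟨x, hx, e⟩ := H.exists_comm w2 hd'.2
    exact ⟨x, hx, e, fun h => d0' (by rw [← e, h, one_smul, sub_self])⟩
  obtain ⟨s, hs, es, s1⟩ := ex d hd d0
  have uniq : ∀ d' ∈ Y1 ⊓ Y2, d' ≠ 0 → d' = d := fun d' hd' d0' => by
    obtain ⟨x, hx, e, x1⟩ := ex d' hd' d0'
    rw [← e, ← es, L2 x hx s hs (e ▸ hd'.1) (es ▸ hd.1) x1 s1]
  refine ⟨?_, uniq⟩
  have two : ∀ y ∈ Y1, s • y = y → y = 0 ∨ y = d := fun y hy e => by
    by_cases h0 : y = 0
    · exact Or.inl h0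
    · exact Or.inr (uniq y ⟨hy, H.mem_of_fix hs s1 e⟩ h0)
  have eqs : (Y1 : Set (Fin 2 → F)) = {0, d, w, w + d} := by
    ext y
    simp only [SetLike.mem_coe, Set.mem_insert_iff, Set.mem_singleton_iff]
    constructor
    · intro hy
      by_cases h0 : s • y - y = 0
      · rcases two y hy (sub_eq_zero.1 h0) with e | e <;> simp [e]
      · have e1 := uniq _ (L1 s hs (es ▸ hd.1) y hy) h0
        rcases two (y - w) (sub_mem hy w1) (by
          rw [smul_sub, sub_eq_iff_eq_add.1 e1, sub_eq_iff_eq_add.1 es]; abel) with e | e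
        · exact Or.inr (Or.inr (Or.inl (sub_eq_zero.1 e)))
        · exact Or.inr (Or.inr (Or.inr (by rw [← e]; abel)))
    · rintro (rfl | rfl | rfl | rfl)
      exacts [zero_mem _, hd.1, w1, add_mem w1 hd.1]
  have n1 : w ≠ 0 := fun h => w2 (h ▸ zero_mem _)
  have n2 : w ≠ d := fun h => w2 (h ▸ hd.2)
  have n3 : w + d ≠ 0 := fun h => w2 (by rw [eq_neg_of_add_eq_zero_left h]; exact neg_mem hd.2)
  rw [← card_W0, ← card_smul g1, ← hY1]
  change Nat.card (Y1 : Set (Fin 2 → F)) = 4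
  rw [eqs, Nat.card_coe_set_eq, Set.ncard_insert_of_notMem, Set.ncard_insert_of_notMem,
    Set.ncard_pair (by simpa using d0)]
  · simp [n2.symm, n1]
  · simp [d0.symm, n1.symm, n3.symm]

theorem dichotomy [Finite G] : σ.range.Normal ∨ (Nat.card F = 4 ∧ ∃ (g1 g2 : G) (d : Fin 2 → F),
    d ∈ g1 • W0 F ⊓ g2 • W0 F ∧ d ≠ 0 ∧ ∀ d' ∈ g1 • W0 F ⊓ g2 • W0 F, d' ≠ 0 → d' = d) := by
  by_cases h : ∀ g g' : G, g • W0 F ≠ g' • W0 F → g • W0 F ⊓ g' • W0 F = ⊥
  · exact Or.inl (H.normal_of_ti h)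
  right
  push Not at h
  obtain ⟨a, b, hab, hn⟩ := h
  obtain ⟨⟨g1, g2⟩, hne, hmax⟩ := Set.exists_max_image {x : G × G | x.1 • W0 F ≠ x.2 • W0 F}
    (fun x => Nat.card ↥(x.1 • W0 F ⊓ x.2 • W0 F)) (Set.toFinite _) ⟨(a, b), hab⟩
  have : g1 • W0 F ⊓ g2 • W0 F ≠ ⊥ := by
    intro e
    have := hmax (a, b) hab
    simp only [e, AddSubgroup.card_bot] at this
    exact hn (AddSubgroup.eq_bot_of_card_le _ this)
  obtain ⟨⟨d, hd⟩, d0⟩ := AddSubgroup.ne_bot_iff_exists_ne_zero.1 this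
  have d0 : d ≠ 0 := fun h => d0 (Subtype.ext h)
  obtain ⟨h4, u⟩ := H.max_pair hne (fun g g' h => hmax (g, g') h) hd d0
  exact ⟨h4, g1, g2, d, hd, d0, u⟩

theorem pcore_bot {N : Subgroup G} [hN : N.Normal] (h : IsPGroup p N) : N = ⊥ := by
  have hd : p ∣ Nat.card (Fin 2 → F) := by
    have := addOrderOf_dvd_natCard (![1, 0] : Fin 2 → F)
    rwa [addOrderOf_eq_prime (p_smul _) (by simp)] at this
  obtain ⟨w, hw, hw0⟩ := h.exists_fixed_point_of_prime_dvd_card_of_fixed_point (Fin 2 → F) hd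
    (a := 0) (fun s => smul_zero s)
  have hf : ∀ s ∈ N, s • w = w := fun s hs => hw ⟨s, hs⟩
  obtain ⟨l, hl⟩ := H.trans hw0.symm
  refine (Subgroup.eq_bot_iff_forall _).2 fun n hn => H.faith n fun v => ?_
  by_cases v0 : v = 0
  · rw [v0, smul_zero]
  obtain ⟨m, hm⟩ := H.trans v0
  have e : v = (σ m * (σ l)⁻¹) • w := by rw [← hl, mul_smul, inv_smul_smul, hm]
  have := hf _ (hN.conj_mem n hn (σ m * (σ l)⁻¹)⁻¹)
  rwa [inv_inv, mul_smul, mul_smul, inv_smul_eq_iff, ← e] at this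

omit H hp [CharP F p] [Finite F] in
theorem conj_mem_of_smul_eq {k : G} (hk : k • W0 F = W0 F) {x : G} (hx : x ∈ Q G (W0 F)) :
    k * x * k⁻¹ ∈ Q G (W0 F) := hk ▸ conj_mem_Q hx k

theorem card_U : Nat.card (Q G (W0 F)) = Nat.card F := by
  refine (Nat.card_congr (Equiv.ofBijective (fun t => (⟨_, H.uu_mem_Q t⟩ : Q G (W0 F))) ⟨fun s t e => ?_,
    fun x => ?_⟩)).symm
  · simpa [transvection_coe] using congrArg (fun m : SL(2, F) => m.1 0 1) (H.inj (congrArg Subtype.val e))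
  · obtain ⟨t, ht⟩ := H.mem_Q_W0 x.2
    exact ⟨t, Subtype.ext ht.symm⟩

theorem oddcore_bot [Finite G] (h4 : Nat.card F = 4) (h2 : (2 : F) = 0) {g1 g2 : G} {d : Fin 2 → F}
    (hd : d ∈ g1 • W0 F ⊓ g2 • W0 F) (d0 : d ≠ 0) (u : ∀ d' ∈ g1 • W0 F ⊓ g2 • W0 F, d' ≠ 0 → d' = d)
    {K : Subgroup G} [hK : K.Normal] (h : (Nat.card K).Coprime 2) : K = ⊥ := by
  have cop : (Nat.card (Q G (W0 F))).Coprime (Nat.card K) := by
    rw [H.card_U, h4]
    exact (Nat.Coprime.pow_right 2 h).symm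
  have el : IsElementaryAbelian 2 (Q G (W0 F)) := by
    refine ⟨⟨⟨fun a b => Subtype.ext ?_⟩⟩, fun a ha => ?_⟩
    · obtain ⟨s, hs⟩ := H.mem_Q_W0 a.2
      obtain ⟨t, ht⟩ := H.mem_Q_W0 b.2
      change (a : G) * b = b * a
      rw [hs, ht, ← map_mul, ← map_mul, ← uu_add, ← uu_add, add_comm]
    · obtain ⟨s, rfl⟩ := H.mem_Q_W0 ha
      rw [pow_two, ← map_mul, ← uu_add, ← two_mul, h2, zero_mul, uu_zero, map_one]
  have st : K ≤ MulAction.stabilizer G (W0 F) := by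
    refine GT.CopAct.le_of_centralizer_elt_le el.1
      (GT.CopAct.not_isCyclic_of_isElementaryAbelian el (by rw [H.card_U, h4]; rfl))
      (by rw [Subgroup.normalizer_eq_top]; exact le_top) cop fun a ha a1 k hk => ?_
    obtain ⟨t, rfl⟩ := H.mem_Q_W0 ha
    refine H.eq_of_conj_eq (t := t) (a := t) (fun h => a1 (by simp [h])) ?_
    rw [mul_inv_eq_iff_eq_mul]
    exact (hk.2 _ rfl).symm
  have c1 : ∀ k ∈ K, ∀ t, k * σ (uu t) = σ (uu t) * k := fun k hk t => by
    have m : k * σ (uu t) * k⁻¹ * (σ (uu t))⁻¹ ∈ Q G (W0 F) ⊓ K :=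
      ⟨(Q G (W0 F)).mul_mem (conj_mem_of_smul_eq (st hk) (H.uu_mem_Q t)) (inv_mem (H.uu_mem_Q t)), by
        have := mul_mem hk (hK.conj_mem _ (inv_mem hk) (σ (uu t)))
        simpa [mul_assoc] using this⟩
    rw [(Subgroup.disjoint_of_coprime_natCard cop).eq_bot, Subgroup.mem_bot, mul_inv_eq_one, mul_inv_eq_iff_eq_mul] at m
    exact m
  refine (Subgroup.eq_bot_iff_forall _).2 fun k hk => H.faith k fun v => ?_
  have c2 : ∀ (g : G) (t : F), g * σ (uu t) * g⁻¹ ∈ Subgroup.centralizer {k} := fun g t => by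
    rw [Subgroup.mem_centralizer_singleton_iff]
    have := c1 _ (hK.conj_mem k hk g⁻¹) t
    calc g * σ (uu t) * g⁻¹ * k = g * (σ (uu t) * (g⁻¹ * k * g⁻¹⁻¹)) * g⁻¹ := by group
      _ = _ := by rw [← this]; group
  have c3 : ∀ g : G, ∀ y ∈ g • W0 F, k • y ∈ g • W0 F := fun g y hy => by
    have := st (hK.conj_mem k hk g⁻¹)
    rw [MulAction.mem_stabilizer_iff, inv_inv, mul_smul, mul_smul, inv_smul_eq_iff] at this
    rw [← this]
    exact AddSubgroup.smul_mem_pointwise_smul_iff.2 hy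
  have kd : k • d = d := u _ ⟨c3 _ _ hd.1, c3 _ _ hd.2⟩ (by rwa [Ne, smul_eq_zero_iff_eq])
  by_cases v0 : v = 0
  · rw [v0, smul_zero]
  obtain ⟨l, hl⟩ := H.trans d0
  obtain ⟨m, hm⟩ := H.trans v0
  have e : v = σ (m * l⁻¹) • d := by rw [← hl, map_mul, map_inv, mul_smul, inv_smul_smul, hm]
  have := Subgroup.mem_centralizer_singleton_iff.1 (gen c2 1 (m * l⁻¹))
  rw [one_mul, inv_one, mul_one] at this
  rw [e, ← mul_smul, ← this, mul_smul, kd]

theorem card_S_dvd [Finite G] (h4 : Nat.card F = 4) (h2 : (2 : F) = 0) : Nat.card S ∣ 8 := by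
  have le : Q G (W0 F) ≤ S := fun x hx => by
    obtain ⟨t, rfl⟩ := H.mem_Q_W0 hx
    exact H.uS t
  have i : (Q G (W0 F)).relIndex S ∣ 2 := by
    rw [Subgroup.relIndex_dvd_two_iff]
    by_cases h : ∃ s ∈ S, ¬ ∃ t, s = σ (uu t)
    · obtain ⟨s, hs, hU⟩ := h
      refine ⟨s⁻¹, inv_mem hs, fun b hb => ?_⟩
      by_cases hb' : ∃ t, b = σ (uu t)
      · obtain ⟨t, rfl⟩ := hb'
        exact Or.inr (H.uu_mem_Q t)
      obtain ⟨φ, hφ, x, hx⟩ := H.exists_ne hs hU
      obtain ⟨ψ, hψ, y, hy⟩ := H.exists_ne hb hb'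
      obtain rfl := eq_of_card_four h4 h2 hx hy
      obtain ⟨t, ht⟩ := H.mem_U' (mul_mem hb (inv_mem hs)) (hψ.lin_of_eq hφ)
      exact Or.inl (ht ▸ H.uu_mem_Q t)
    · push Not at h
      refine ⟨1, one_mem _, fun b hb => ?_⟩
      obtain ⟨t, rfl⟩ := h b hb
      exact Or.inr (H.uu_mem_Q t)
  have e := ((Q G (W0 F)).subgroupOf S).card_mul_index
  rw [Nat.card_congr (Subgroup.subgroupOfEquivOfLe le).toEquiv, H.card_U, h4] at e
  rw [← e]
  exact Nat.mul_dvd_mul_left 4 i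

omit [CharP F p] [Finite F] in
theorem pow_dvd_card_S [Finite G] {n : ℕ} (h : p ^ n ∣ Nat.card G) : p ^ n ∣ Nat.card S := by
  obtain ⟨P, hP⟩ := Sylow.exists_subgroup_card_pow_prime p h
  obtain ⟨g, hg⟩ := H.syl P (IsPGroup.of_card hP)
  have le : P.map (MulAut.conj g).toMonoidHom ≤ S := by
    rintro _ ⟨x, hx, rfl⟩
    exact hg x hx
  have := Subgroup.card_dvd_of_le le
  rwa [Subgroup.card_map_of_injective (MulAut.conj g).injective, hP] at this

omit hp [CharP F p] in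
theorem exists_gl4 [CharP F 2] (h4 : Nat.card F = 4) :
    ∃ f : G →* GL (Fin 4) (ZMod 2), Function.Injective f := by
  let : Algebra (ZMod 2) F := ZMod.algebra F 2
  have hr : Module.finrank (ZMod 2) (Fin 2 → F) = 4 := by
    have := Module.natCard_eq_pow_finrank (K := ZMod 2) (V := Fin 2 → F)
    rw [Nat.card_fun, h4, Nat.card_zmod, Nat.card_eq_fintype_card, Fintype.card_fin] at this
    exact Nat.pow_right_injective le_rfl (show 2 ^ _ = 2 ^ 4 from this.symm)
  let b := Module.finBasisOfFinrankEq (ZMod 2) (Fin 2 → F) hr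
  let r : G →* Module.End (ZMod 2) (Fin 2 → F) :=
    { toFun := fun g => (DistribSMul.toAddMonoidHom (Fin 2 → F) g).toZModLinearMap 2
      map_one' := LinearMap.ext fun v => one_smul G v
      map_mul' := fun a b => LinearMap.ext fun v => mul_smul a b v }
  refine ⟨((LinearMap.toMatrixAlgEquiv b : _ →* _).comp r).toHomUnits, ?_⟩
  rw [injective_iff_map_eq_one]
  intro g hg
  refine H.faith g fun v => ?_
  have : LinearMap.toMatrixAlgEquiv b (r g) = 1 := congrArg Units.val hg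
  rw [map_eq_one_iff _ (LinearMap.toMatrixAlgEquiv b).injective] at this
  exact LinearMap.congr_fun this v

theorem main [Finite G] :
    σ.range.Normal ∨ (Nat.card F = 4 ∧ Nonempty (G ≃* alternatingGroup (Fin 7))) := by
  rcases H.dichotomy with h | ⟨h4, g1, g2, d, hd, d0, u⟩
  · exact Or.inl h
  by_cases hN : σ.range.Normal
  · exact Or.inl hN
  refine Or.inr ⟨h4, ?_⟩
  obtain rfl : p = 2 := by
    have := Fintype.ofFinite F
    have h1 : ((Fintype.card F : ℕ) : F) = 0 := FiniteField.cast_card_eq_zero F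
    rw [← Nat.card_eq_fintype_card, h4, CharP.cast_eq_zero_iff F p] at h1
    exact (Nat.prime_dvd_prime_iff_eq hp.out Nat.prime_two).1 (hp.out.dvd_of_dvd_pow (n := 2) h1)
  have h2 : (2 : F) = 0 := CharP.cast_eq_zero F 2
  obtain ⟨f, hf⟩ := H.exists_gl4 h4
  let e : G ≃* f.range := MonoidHom.ofInjective hf
  have cL : Nat.card σ.range = 60 := by
    rw [← Nat.card_congr (MonoidHom.ofInjective H.inj).toEquiv, Cl.card_sl_two, h4]; rfl
  have dL : 60 ∣ Nat.card G := cL ▸ Subgroup.card_subgroup_dvd_card _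
  have iL := σ.range.card_mul_index
  rw [cL] at iL
  have big : ¬ 2 ^ 4 ∣ Nat.card G := fun h => by
    have := (H.pow_dvd_card_S h).trans (H.card_S_dvd h4 h2)
    omega
  have bot : ∀ N : Subgroup f.range, N.comap e.toMonoidHom = ⊥ → N = ⊥ := fun N h => by
    rw [← Subgroup.map_comap_eq_self_of_surjective (f := e.toMonoidHom) e.surjective N, h, Subgroup.map_bot]
  rcases S2553.result f.range (fun h => by
      have := Nat.card_congr e.toEquiv
      rw [h, Subgroup.card_bot] at this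
      omega)
    (sSup_eq_bot.2 fun N ⟨_, hN⟩ => bot N (H.oddcore_bot h4 h2 hd d0 u (by
      rwa [Nat.card_congr (e.toEquiv.subtypeEquiv (p := (· ∈ N.comap e.toMonoidHom)) (q := (· ∈ N))
        fun _ => Iff.rfl)])))
    (sSup_eq_bot.2 fun N ⟨_, hN⟩ => bot N (H.pcore_bot (hN.comap_of_injective _ e.injective))) with
    ⟨n, h5, h8, ⟨i⟩⟩ | ⟨⟨i⟩⟩ | ⟨⟨i⟩⟩ | ⟨⟨i⟩⟩
  · have c := Nat.card_congr (e.trans i).toEquiv
    have : Nontrivial (Fin n) := Fin.nontrivial_iff_two_le.2 (by omega)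
    rw [nat_card_alternatingGroup, Nat.card_eq_fintype_card (α := Fin n), Fintype.card_fin] at c
    interval_cases n
    · norm_num [Nat.factorial] at c
      have : σ.range = ⊤ := Subgroup.index_eq_one.1 (by omega)
      exact absurd (this ▸ inferInstance) hN
    · exfalso
      norm_num [Nat.factorial] at c
      have := alternatingGroup.isSimpleGroup (α := Fin 6) (by simp)
      have : IsSimpleGroup G := (e.trans i).isSimpleGroup
      have nt : Subgroup.normalizer (σ.range : Set G) ≠ ⊤ := fun h => hN (Subgroup.normalizer_eq_top_iff.1 h)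
      have a1 := Inv.card_dvd_factorial_index nt
      have a2 := (Subgroup.normalizer (σ.range : Set G)).card_mul_index
      have a3 : 60 ∣ Nat.card (Subgroup.normalizer (σ.range : Set G)) :=
        cL ▸ Subgroup.card_dvd_of_le Subgroup.le_normalizer
      have a4 : 2 ^ 3 ∣ Nat.card (Subgroup.normalizer (σ.range : Set G)) :=
        (H.pow_dvd_card_S (by rw [c]; norm_num)).trans (Subgroup.card_dvd_of_le H.nS)
      rw [c] at a1 a2
      generalize Nat.card (Subgroup.normalizer (σ.range : Set G)) = a at *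
      generalize (Subgroup.normalizer (σ.range : Set G)).index = b at *
      obtain ⟨k, rfl⟩ : 120 ∣ a := by omega
      have hb : b ∣ 3 := ⟨k, by linarith⟩
      have := Nat.le_of_dvd (by norm_num) hb
      interval_cases b <;> simp [Nat.factorial] at a1 hb
    · exact ⟨e.trans i⟩
    · norm_num [Nat.factorial] at c
      exact absurd (by rw [c]; norm_num) big
  · have c := Nat.card_congr (e.trans i).toEquiv
    rw [Nat.card_perm, Nat.card_eq_fintype_card (α := Fin 5), Fintype.card_fin] at c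
    norm_num [Nat.factorial] at c
    exact absurd (Subgroup.normal_of_index_eq_two (by omega)) hN
  · have c := Nat.card_congr (e.trans i).toEquiv
    rw [Nat.card_perm, Nat.card_eq_fintype_card (α := Fin 6), Fintype.card_fin] at c
    norm_num [Nat.factorial] at c
    exact absurd (by rw [c]; norm_num) big
  · have c := Nat.card_congr (e.trans i).toEquiv
    rw [Cl.card_gl', Nat.card_zmod] at c
    norm_num [Finset.prod_range_succ] at c
    omega

end Hyp

end Cfsg.Agent.Loc.NatA7
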