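import Mathlib
import Cfsg.Prelude.Def_SylowControl
import Cfsg.Prelude.Def_SylowChains
import Cfsg.Agent.Loc.AmBasic
import Cfsg.Agent.GT.MinNormal
import Cfsg.Agent.GT.TransferSylow

/-! Control of Sylow intersections by a family of subgroups, in chain form
(`Relation.ReflTransGen`) and relative to a subgroup `M`. -/

set_option autoImplicit false
open Cfsg Subgroup Relation

namespace Cfsg.Agent.Loc.SC
open Cfsg.Agent.Loc.Am

theorem reflTransGen_iff_fin_chain {α : Type*} {r : α → α → Prop} {a b : α} :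
    ReflTransGen r a b ↔ ∃ (n : ℕ) (c : Fin (n + 1) → α), c 0 = a ∧ c (Fin.last n) = b ∧
      ∀ i : Fin n, r (c i.castSucc) (c i.succ) := by
  constructor
  · intro h
    induction h with
    | refl => exact ⟨0, fun _ => a, rfl, rfl, fun i => i.elim0⟩
    | @tail b d _ hbd ih =>
      obtain ⟨n, c, h0, hl, hs⟩ := ih
      refine ⟨n + 1, Fin.snoc c d, ?_, by simp, fun i => ?_⟩
      · rw [← h0, ← Fin.castSucc_zero, Fin.snoc_castSucc]
      · induction i using Fin.lastCases with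
        | last => rw [Fin.snoc_castSucc, Fin.succ_last, Fin.snoc_last, hl]; exact hbd
        | cast i => rw [Fin.snoc_castSucc, Fin.succ_castSucc, Fin.snoc_castSucc]; exact hs i
  · rintro ⟨n, c, rfl, rfl, hs⟩
    have : ∀ i : Fin (n + 1), ReflTransGen r (c 0) (c i) := by
      intro i
      induction i using Fin.induction with
      | zero => exact ReflTransGen.refl
      | succ i ih => exact ih.tail (hs i)
    exact this _

theorem rtg_lift {α β : Type*} {r : α → α → Prop} {s : β → β → Prop} {a b : α}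
    (h : ReflTransGen r a b) (f : α → β) (hf : ∀ a b, r a b → s (f a) (f b)) :
    ReflTransGen s (f a) (f b) := by
  induction h with
  | refl => exact ReflTransGen.refl
  | tail _ hbd ih => exact ih.tail (hf _ _ hbd)

theorem rtg_mono {α : Type*} {r s : α → α → Prop} {a b : α}
    (h : ReflTransGen r a b) (hf : ∀ a b, r a b → s a b) : ReflTransGen s a b :=
  rtg_lift h id hf

variable {G : Type*} [Group G] {p : ℕ}

theorem inf_subgroupOf (A B M : Subgroup G) :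
    (A ⊓ B).subgroupOf M = A.subgroupOf M ⊓ B.subgroupOf M := comap_inf _ _ _

theorem isSylowOf_map_iff {H : Type*} [Group H] {f : G →* H} (hf : Function.Injective f)
    {A X : Subgroup G} : IsSylowOf p (A.map f) (X.map f) ↔ IsSylowOf p A X := by
  constructor
  · intro h
    refine ⟨(map_le_map_iff_of_injective hf).mp h.le,
      h.isPGroup.of_equiv (equivMapOfInjective A f hf).symm, fun R hR h1 h2 => ?_⟩
    exact map_injective hf (h.max _ (hR.map f) (map_mono h1) (map_mono h2))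
  · intro h
    refine ⟨map_mono h.le, h.isPGroup.map f, fun R hR h1 h2 => ?_⟩
    have hR' : (R.comap f).map f = R := map_comap_eq_self (h2.trans (map_le_range _ _))
    have := h.max (R.comap f) (hR.comap_of_injective f hf) (map_le_iff_le_comap.mp h1)
      (by rw [← comap_map_eq_self_of_injective hf X]; exact comap_mono h2)
    rw [← hR', this]

theorem isSylowOf_subgroupOf_iff {M A X : Subgroup G} (hA : A ≤ M) (hX : X ≤ M) :
    IsSylowOf p (A.subgroupOf M) (X.subgroupOf M) ↔ IsSylowOf p A X := by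
  rw [← isSylowOf_map_iff M.subtype_injective, subgroupOf_map_subtype, subgroupOf_map_subtype,
    inf_eq_left.mpr hA, inf_eq_left.mpr hX]

theorem mem_sylowMembers {𝓕 : Set (Subgroup G)} {S X : Subgroup G} :
    X ∈ sylowMembers p 𝓕 S ↔ X ∈ 𝓕 ∧ IsSylowOf p (S ⊓ X) X := by
  refine and_congr_right fun _ => ⟨?_, fun h => ⟨h.toSylow, h.map_toSylow⟩⟩
  rintro ⟨P, hP⟩
  exact hP ▸ isSylowOf_map_subtype P

theorem subgroupConjRight_eq (g : G) (X : Subgroup G) : subgroupConjRight g X = cj g⁻¹ X := rfl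

theorem IsNormalSet.cj_mem {𝓕 : Set (Subgroup G)} (h : IsNormalSet 𝓕) {X : Subgroup G}
    (hX : X ∈ 𝓕) (g : G) : cj g X ∈ 𝓕 := by
  have := h X hX g⁻¹
  rwa [subgroupConjRight_eq, inv_inv] at this

/-- One link of a chain of Sylow subgroups of `M`, all containing `D`. -/
def SStep (p : ℕ) (𝓕 : Set (Subgroup G)) (M D A B : Subgroup G) : Prop :=
  IsSylowOf p A M ∧ IsSylowOf p B M ∧ ∃ X ∈ 𝓕, IsSylowOf p (A ⊓ X) X ∧ IsSylowOf p (B ⊓ X) X ∧
    (∃ x ∈ X, cj x A = B) ∧ D ≤ A ∧ D ≤ B ∧ D ≤ X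

/-- `𝓕` controls Sylow intersections in the subgroup `M`. -/
def RelControl (p : ℕ) (𝓕 : Set (Subgroup G)) (M : Subgroup G) : Prop :=
  ∀ S T : Subgroup G, IsSylowOf p S M → IsSylowOf p T M → S ⊓ T ≠ ⊥ →
    ReflTransGen (SStep p 𝓕 M (S ⊓ T)) S T

theorem SStep.anti {𝓕 : Set (Subgroup G)} {M D D' A B : Subgroup G} (h : SStep p 𝓕 M D A B)
    (hD : D' ≤ D) : SStep p 𝓕 M D' A B := by
  obtain ⟨h1, h2, X, hX, h3, h4, h5, h6, h7, h8⟩ := h
  exact ⟨h1, h2, X, hX, h3, h4, h5, hD.trans h6, hD.trans h7, hD.trans h8⟩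

theorem chain_anti {𝓕 : Set (Subgroup G)} {M D D' A B : Subgroup G}
    (h : ReflTransGen (SStep p 𝓕 M D) A B) (hD : D' ≤ D) : ReflTransGen (SStep p 𝓕 M D') A B :=
  rtg_mono h fun _ _ h => h.anti hD

theorem controls_iff_relControl {𝓕 : Set (Subgroup G)} :
    ControlsSylowIntersections p 𝓕 ↔ RelControl p 𝓕 ⊤ := by
  constructor
  · intro h S T hS hT hne
    obtain ⟨S, rfl⟩ := hS.exists_sylow_top
    obtain ⟨T, rfl⟩ := hT.exists_sylow_top
    by_cases hST : S = T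
    · subst hST; exact ReflTransGen.refl
    obtain ⟨n, c, X, x, h0, hl, hs⟩ := h S T hST hne
    have : ∀ i : Fin (n + 1), (S : Subgroup G) ⊓ T ≤ c i ∧
        ReflTransGen (SStep p 𝓕 ⊤ ((S : Subgroup G) ⊓ T)) S (c i) := by
      intro i
      induction i using Fin.induction with
      | zero => rw [h0]; exact ⟨inf_le_left, ReflTransGen.refl⟩
      | succ i ih =>
        obtain ⟨a1, a2, a3, a4, a5⟩ := hs i
        rw [mem_sylowMembers] at a1 a2
        refine ⟨a5.trans inf_le_left, ih.2.tail ⟨isSylowOf_top _, isSylowOf_top _, X i, a1.1,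
          a1.2, a2.2, ⟨x i, a3, ?_⟩, ih.1, a5.trans inf_le_left, a5.trans inf_le_right⟩⟩
        rw [← a4, subgroupConjRight_eq, cj_cj_inv]
    exact hl ▸ (this (Fin.last n)).2
  · intro h S T _ hne
    have key : ∀ B : Subgroup G, ReflTransGen (SStep p 𝓕 ⊤ ((S : Subgroup G) ⊓ T)) S B →
        ∀ Q : Sylow p G, (Q : Subgroup G) = B → ReflTransGen
          (fun A B : Sylow p G => SStep p 𝓕 ⊤ ((S : Subgroup G) ⊓ T) A B) S Q := by
      intro B hB
      induction hB with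
      | refl => intro Q hQ; rw [Sylow.ext hQ]
      | tail _ hbd ih =>
        intro Q hQ
        obtain ⟨P, rfl⟩ := hbd.1.exists_sylow_top
        exact (ih P rfl).tail (hQ ▸ hbd)
    obtain ⟨n, c, h0, hl, hs⟩ := reflTransGen_iff_fin_chain.mp
      (key T (h S T (isSylowOf_top S) (isSylowOf_top T) hne) T rfl)
    have hs' : ∀ i : Fin n, ∃ (X : Subgroup G) (x : G),
        X ∈ sylowMembers p 𝓕 (c i.castSucc : Subgroup G) ∧
        X ∈ sylowMembers p 𝓕 (c i.succ : Subgroup G) ∧ x ∈ X ∧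
        subgroupConjRight x (c i.succ : Subgroup G) = (c i.castSucc : Subgroup G) ∧
        (S : Subgroup G) ⊓ (T : Subgroup G) ≤ (c i.succ : Subgroup G) ⊓ X := by
      intro i
      obtain ⟨-, -, X, hX, h3, h4, ⟨x, hx, h5⟩, -, h7, h8⟩ := hs i
      refine ⟨X, x, mem_sylowMembers.mpr ⟨hX, h3⟩, mem_sylowMembers.mpr ⟨hX, h4⟩, hx, ?_,
        le_inf h7 h8⟩
      rw [← h5, subgroupConjRight_eq, cj_inv_cj]
    choose X x hXx using hs'
    exact ⟨n, c, X, x, h0, hl, hXx⟩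

theorem cj_subgroupOf {M A : Subgroup G} (x : M) :
    cj x (A.subgroupOf M) = (cj (x : G) A).subgroupOf M := by
  ext y
  simp only [mem_cj, mem_subgroupOf, coe_mul, coe_inv]

theorem relControl_subgroupOf_iff {𝓕 : Set (Subgroup G)} {M : Subgroup G}
    (h𝓕 : ∀ X ∈ 𝓕, X ≤ M) :
    RelControl p ((fun X : Subgroup G => X.subgroupOf M) '' 𝓕) ⊤ ↔ RelControl p 𝓕 M := by
  have htop : (⊤ : Subgroup M) = M.subgroupOf M := (subgroupOf_self M).symm
  have hback : ∀ A : Subgroup M, (A.map M.subtype).subgroupOf M = A := fun A =>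
    comap_map_eq_self_of_injective M.subtype_injective A
  have hfwd : ∀ A : Subgroup G, A ≤ M → (A.subgroupOf M).map M.subtype = A := fun A hA => by
    rw [subgroupOf_map_subtype, inf_eq_left.mpr hA]
  have step : ∀ D A B : Subgroup G, D ≤ M → A ≤ M → B ≤ M →
      (SStep p ((fun X : Subgroup G => X.subgroupOf M) '' 𝓕) ⊤ (D.subgroupOf M)
        (A.subgroupOf M) (B.subgroupOf M) ↔ SStep p 𝓕 M D A B) := by
    intro D A B hD hA hB
    have hle : ∀ Y : Subgroup G, D.subgroupOf M ≤ Y.subgroupOf M ↔ D ≤ Y := fun Y =>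
      ⟨fun h d hd => h (show (⟨d, hD hd⟩ : M) ∈ D.subgroupOf M from hd), fun h => comap_mono h⟩
    unfold SStep
    rw [htop, isSylowOf_subgroupOf_iff hA le_rfl, isSylowOf_subgroupOf_iff hB le_rfl]
    refine and_congr_right fun _ => and_congr_right fun _ => ⟨?_, ?_⟩
    · rintro ⟨_, ⟨X, hX, rfl⟩, h3, h4, ⟨x, hx, h5⟩, h6, h7, h8⟩
      simp only [← inf_subgroupOf] at h3 h4
      rw [isSylowOf_subgroupOf_iff (inf_le_right.trans (h𝓕 X hX)) (h𝓕 X hX)] at h3 h4
      refine ⟨X, hX, h3, h4, ⟨x, hx, ?_⟩, (hle _).mp h6, (hle _).mp h7, (hle _).mp h8⟩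
      rw [cj_subgroupOf] at h5
      have hA' : cj (x : G) A ≤ M := (cj_mono _ hA).trans (cj_eq_of_mem x.2).le
      rw [← hfwd _ hA', h5, hfwd _ hB]
    · rintro ⟨X, hX, h3, h4, ⟨x, hx, h5⟩, h6, h7, h8⟩
      refine ⟨_, ⟨X, hX, rfl⟩, ?_, ?_, ⟨⟨x, h𝓕 X hX hx⟩, hx, ?_⟩, (hle _).mpr h6,
        (hle _).mpr h7, (hle _).mpr h8⟩
      · simp only [← inf_subgroupOf]
        rwa [isSylowOf_subgroupOf_iff (inf_le_right.trans (h𝓕 X hX)) (h𝓕 X hX)]
      · simp only [← inf_subgroupOf]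
        rwa [isSylowOf_subgroupOf_iff (inf_le_right.trans (h𝓕 X hX)) (h𝓕 X hX)]
      · rw [cj_subgroupOf, h5]
  constructor
  · intro h S T hS hT hne
    have h1 := h (S.subgroupOf M) (T.subgroupOf M)
      (htop ▸ (isSylowOf_subgroupOf_iff hS.le le_rfl).mpr hS)
      (htop ▸ (isSylowOf_subgroupOf_iff hT.le le_rfl).mpr hT) (by
        rw [← inf_subgroupOf]
        intro h0
        apply hne
        rw [← hfwd _ (inf_le_left.trans hS.le), h0, Subgroup.map_bot])
    have h2 := rtg_lift h1 (s := SStep p 𝓕 M (S ⊓ T)) (fun A => A.map M.subtype) (fun A B hAB => by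
      rw [← step _ _ _ (inf_le_left.trans hS.le) (map_subtype_le _) (map_subtype_le _), hback,
        hback, inf_subgroupOf]
      exact hAB)
    rwa [hfwd _ hS.le, hfwd _ hT.le] at h2
  · intro h S T hS hT hne
    have h1 := h (S.map M.subtype) (T.map M.subtype)
      (by rw [← isSylowOf_subgroupOf_iff (map_subtype_le _) le_rfl, hback, ← htop]; exact hS)
      (by rw [← isSylowOf_subgroupOf_iff (map_subtype_le _) le_rfl, hback, ← htop]; exact hT) (by
        rw [← map_inf _ _ _ M.subtype_injective, Ne, map_eq_bot_iff_of_injective _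
          M.subtype_injective]
        exact hne)
    have h2 := rtg_lift h1 (s := SStep p ((fun X : Subgroup G => X.subgroupOf M) '' 𝓕) ⊤ (S ⊓ T))
      (fun A => A.subgroupOf M) (fun A B hAB => by
        have := (step _ _ _ (inf_le_left.trans (map_subtype_le _)) hAB.1.le hAB.2.1.le).mpr hAB
        rwa [inf_subgroupOf, hback, hback] at this)
    rwa [hback, hback] at h2

theorem mem_functorFamily {f : Subgroup G → Set (Subgroup G)} {M X : Subgroup G} :
    X ∈ functorFamily p f M ↔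
      ∃ P, IsSylowOf p P M ∧ ∃ F ∈ f P, X = M ⊓ normalizer (F : Set G) := by
  constructor
  · rintro ⟨P, F, hF, rfl⟩
    exact ⟨_, isSylowOf_map_subtype P, F, hF, rfl⟩
  · rintro ⟨P, hP, F, hF, rfl⟩
    exact ⟨hP.toSylow, F, by rwa [hP.map_toSylow], rfl⟩

theorem isFunctorRegular_iff {f : Subgroup G → Set (Subgroup G)} {M : Subgroup G} :
    IsFunctorRegular p f M ↔ RelControl p (functorFamily p f M) M := by
  rw [IsFunctorRegular, controls_iff_relControl, relControl_subgroupOf_iff]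
  rintro X ⟨P, F, -, rfl⟩
  exact inf_le_left

theorem SStep.cj {𝓕 𝓕' : Set (Subgroup G)} {M D A B : Subgroup G} (h : SStep p 𝓕 M D A B)
    (g : G) (h𝓕 : ∀ X ∈ 𝓕, cj g X ∈ 𝓕') :
    SStep p 𝓕' (cj g M) (cj g D) (cj g A) (cj g B) := by
  obtain ⟨h1, h2, X, hX, h3, h4, ⟨x, hx, h5⟩, h6, h7, h8⟩ := h
  refine ⟨h1.cj g, h2.cj g, _, h𝓕 X hX, cj_inf g A X ▸ h3.cj g, cj_inf g B X ▸ h4.cj g,
    ⟨_, conj_mem_cj g hx, ?_⟩, cj_mono g h6, cj_mono g h7, cj_mono g h8⟩
  rw [← h5, ← cj_mul, ← cj_mul, inv_mul_cancel_right]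

theorem RelControl.cj {𝓕 𝓕' : Set (Subgroup G)} {M : Subgroup G} (h : RelControl p 𝓕 M)
    (g : G) (h𝓕 : ∀ X ∈ 𝓕, cj g X ∈ 𝓕') : RelControl p 𝓕' (cj g M) := by
  intro S T hS hT hne
  have h1 := h (Am.cj g⁻¹ S) (Am.cj g⁻¹ T) (cj_inv_cj g M ▸ hS.cj g⁻¹) (cj_inv_cj g M ▸ hT.cj g⁻¹)
    (by rwa [← cj_inf, Ne, cj_eq_bot_iff])
  have h2 := rtg_lift h1 (s := SStep p 𝓕' (Am.cj g M) (S ⊓ T)) (fun A => Am.cj g A) (fun A B hAB => by
    have := hAB.cj g h𝓕
    rwa [cj_inf, cj_cj_inv, cj_cj_inv] at this)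
  simpa only [cj_cj_inv] using h2

theorem cj_mem_functorFamily {f : Subgroup G → Set (Subgroup G)} (hf : IsNormalizerFunctor p f)
    {M X : Subgroup G} (hX : X ∈ functorFamily p f M) (g : G) :
    cj g X ∈ functorFamily p f (cj g M) := by
  obtain ⟨P, hP, F, hF, rfl⟩ := mem_functorFamily.mp hX
  refine mem_functorFamily.mpr ⟨_, hP.cj g, cj g F, ?_, by rw [cj_inf, cj_normalizer]⟩
  rw [(hf P hP.isPGroup).2 g]
  exact ⟨F, hF, rfl⟩

/-- One link of a factorisation of a fusing element through `𝓕(S)`. -/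
def FStep (p : ℕ) (𝓕 : Set (Subgroup G)) (S : Subgroup G) (A : Set G) (w w' : G) : Prop :=
  ∃ Y ∈ sylowMembers p 𝓕 S, w⁻¹ * w' ∈ Y ∧ conjRight w' A ⊆ (S : Set G) ∩ (Y : Set G)

theorem conjRight_subset_iff {g : G} {A : Set G} {H : Subgroup G} :
    conjRight g A ⊆ (H : Set G) ↔ A ⊆ (cj g H : Set G) := by
  constructor
  · intro h a ha
    exact mem_cj.mpr (h ⟨a, ha, rfl⟩)
  · rintro h _ ⟨a, ha, rfl⟩
    exact mem_cj.mp (h ha)

theorem exists_fchain_of_chain {𝓕 : Set (Subgroup G)} (h𝓕 : IsNormalSet 𝓕) {M D S T : Subgroup G}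
    {A : Set G} (hA : A ⊆ D) (h : ReflTransGen (SStep p 𝓕 M D) S T) :
    ∃ w, ReflTransGen (FStep p 𝓕 S A) 1 w ∧ cj w S = T := by
  induction h with
  | refl => exact ⟨1, ReflTransGen.refl, cj_one S⟩
  | @tail B C _ hBC ih =>
    obtain ⟨w, hw, rfl⟩ := ih
    obtain ⟨-, -, X, hX, h3, -, ⟨x, hx, rfl⟩, -, h7, h8⟩ := hBC
    refine ⟨x * w, hw.tail ⟨cj w⁻¹ X, mem_sylowMembers.mpr ⟨IsNormalSet.cj_mem h𝓕 hX _, ?_⟩,
      ?_, ?_⟩, cj_mul _ _ _⟩
    · have := h3.cj w⁻¹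
      rwa [cj_inf, cj_inv_cj] at this
    · rw [mem_cj]; simpa [mul_assoc] using hx
    · rw [← coe_inf, conjRight_subset_iff, cj_inf, cj_mul, cj_mul, cj_cj_inv, cj_eq_of_mem hx]
      exact fun a ha => ⟨h7 (hA ha), h8 (hA ha)⟩

theorem chain_of_fchain {𝓕 : Set (Subgroup G)} (h𝓕 : IsNormalSet 𝓕) {D S : Subgroup G}
    (hS : IsSylowOf p S ⊤) (hD : D ≤ S) {w : G} (h : ReflTransGen (FStep p 𝓕 S D) 1 w) :
    D ≤ cj w S ∧ ReflTransGen (SStep p 𝓕 ⊤ D) S (cj w S) := by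
  induction h with
  | refl => rw [cj_one]; exact ⟨hD, ReflTransGen.refl⟩
  | @tail w w' _ hww ih =>
    obtain ⟨Y, hY, h1, h2⟩ := hww
    rw [mem_sylowMembers] at hY
    rw [← coe_inf, conjRight_subset_iff, cj_inf] at h2
    have e : cj w' Y = cj w Y := by
      rw [← mul_inv_cancel_left w w', cj_mul, cj_eq_of_mem h1]
    have h3 : D ≤ cj w' S := fun a ha => (h2 ha).1
    refine ⟨h3, ih.2.tail ⟨hS.cj_of_mem (mem_top _), hS.cj_of_mem (mem_top _), cj w Y,
      IsNormalSet.cj_mem h𝓕 hY.1 _, cj_inf w S Y ▸ hY.2.cj w, ?_, ⟨w' * w⁻¹, ?_, ?_⟩, ih.1, h3,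
      fun a ha => e ▸ (h2 ha).2⟩⟩
    · rw [← e, ← cj_inf]; exact hY.2.cj w'
    · rw [mem_cj]; simpa [mul_assoc] using h1
    · rw [← cj_mul, inv_mul_cancel_right]

theorem fchain_iff_list {𝓕 : Set (Subgroup G)} {S : Subgroup G} {A : Set G} {w : G} :
    ReflTransGen (FStep p 𝓕 S A) 1 w ↔ ∃ (n : ℕ) (Y : Fin n → Subgroup G) (y : Fin n → G),
      (∀ i : Fin n, Y i ∈ sylowMembers p 𝓕 S ∧ y i ∈ Y i) ∧ w = (List.ofFn y).prod ∧
      ∀ i : Fin n, conjRight (((List.ofFn y).take (i.val + 1)).prod) A ⊆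
        (S : Set G) ∩ (Y i : Set G) := by
  have hsucc : ∀ (n : ℕ) (y : Fin n → G) (i : Fin n), ((List.ofFn y).take (i.val + 1)).prod =
      ((List.ofFn y).take i.val).prod * y i := by
    intro n y i
    rw [List.prod_take_succ _ _ (by simp)]
    simp
  rw [reflTransGen_iff_fin_chain]
  constructor
  · rintro ⟨n, c, h0, hl, hs⟩
    choose Y hY hy hA using hs
    have key : ∀ i : Fin (n + 1),
        ((List.ofFn fun j : Fin n => (c j.castSucc)⁻¹ * c j.succ).take i.val).prod = c i := by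
      intro i
      induction i using Fin.induction with
      | zero => simp [h0]
      | succ i ih =>
        rw [Fin.val_succ, hsucc, ← Fin.val_castSucc, ih, mul_inv_cancel_left]
    refine ⟨n, Y, fun j => (c j.castSucc)⁻¹ * c j.succ, fun i => ⟨hY i, hy i⟩, ?_, fun i => ?_⟩
    · rw [← hl, ← key, Fin.val_last, List.take_of_length_le (by simp)]
    · rw [← Fin.val_succ, key]; exact hA i
  · rintro ⟨n, Y, y, h1, rfl, h2⟩
    refine ⟨n, fun i => ((List.ofFn y).take i.val).prod, by simp, ?_, fun i => ?_⟩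
    · simp only [Fin.val_last]
      rw [List.take_of_length_le (by simp)]
    · refine ⟨Y i, (h1 i).1, ?_, h2 i⟩
      simp only [Fin.val_succ, Fin.val_castSucc]
      rw [hsucc, inv_mul_cancel_left]
      exact (h1 i).2

theorem mem_iSup_of_fchain {𝓕 : Set (Subgroup G)} {S : Subgroup G} {A : Set G} {w : G}
    (h : ReflTransGen (FStep p 𝓕 S A) 1 w) : w ∈ ⨆ X ∈ sylowMembers p 𝓕 S, X := by
  induction h with
  | refl => exact one_mem _
  | @tail w w' _ hww ih =>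
    obtain ⟨Y, hY, h1, -⟩ := hww
    rw [← mul_inv_cancel_left w w']
    exact mul_mem ih (le_iSup₂_of_le (f := fun X (_ : X ∈ sylowMembers p 𝓕 S) => X) Y hY le_rfl h1)

variable [Finite G] [Fact p.Prime]

/-- a Sylow subgroup of `M` meeting `X ≤ M` in a Sylow subgroup lies in `X` as soon as `X`
contains a Sylow subgroup of `M`. -/
theorem le_of_isSylowOf_inf {M X P A : Subgroup G} (hP : IsSylowOf p P M) (hPX : P ≤ X)
    (hXM : X ≤ M) (hA : IsSylowOf p A M) (hAX : IsSylowOf p (A ⊓ X) X) : A ≤ X := by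
  have h1 := (hP.mono hPX hXM).card_eq_card hAX
  have h2 := hP.card_eq_card hA
  have : A ⊓ X = A := eq_of_le_of_card_ge inf_le_left (by omega)
  exact this ▸ inf_le_right

theorem exists_sylow_between {S G₁ G₂ : Subgroup G} (hS : IsSylowOf p S ⊤) (h1 : S ≤ G₁)
    (h2 : S ≤ G₂) (hfact : ∀ g : G, ∃ g₁ ∈ G₁, ∃ g₂ ∈ G₂, g = g₁ * g₂) (g : G) :
    ∃ U, IsSylowOf p U ⊤ ∧ S ⊓ cj g S ≤ U ∧ U ≤ G₁ ⊓ cj g G₂ := by
  obtain ⟨g₁, hg₁, g₂, hg₂, rfl⟩ := hfact g
  obtain ⟨U, hU, hle⟩ := exists_isSylowOf_ge (p := p) (R := S ⊓ cj (g₁ * g₂) S)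
    (H := G₁ ⊓ cj (g₁ * g₂) G₂) (hS.isPGroup.to_le inf_le_left)
    (inf_le_inf h1 (cj_mono _ h2))
  refine ⟨U, ?_, hle, hU.le⟩
  have h3 : IsSylowOf p (cj g₁ S) ⊤ := hS.cj_of_mem (mem_top _)
  have h4 : cj g₁ S ≤ G₁ ⊓ cj (g₁ * g₂) G₂ := by
    rw [cj_mul, cj_eq_of_mem hg₂]
    exact le_inf ((cj_mono _ h1).trans (cj_eq_of_mem hg₁).le) (cj_mono _ h2)
  exact h3.of_card_eq le_top (hU.card_eq_card (h3.mono h4 le_top))

/-- a link in a subgroup `M` containing a Sylow subgroup of `G` is a link in `G`. -/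
theorem SStep.functor_top {f : Subgroup G → Set (Subgroup G)} (hf : IsNormalizerFunctor p f)
    {M D A B : Subgroup G} (h : SStep p (functorFamily p f M) M D A B) (hA : IsSylowOf p A ⊤) :
    SStep p (functorFamily p f ⊤) ⊤ D A B := by
  obtain ⟨h1, h2, X, hX, h3, h4, ⟨x, hx, h5⟩, h6, h7, h8⟩ := h
  obtain ⟨P, hP, F, hF, rfl⟩ := mem_functorFamily.mp hX
  have hPF : P ≤ normalizer (F : Set G) := le_normalizer.trans ((hf P hP.isPGroup).1 F hF).2
  have hAX := le_of_isSylowOf_inf hP (le_inf hP.le hPF) inf_le_left h1 h3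
  have hBX := le_of_isSylowOf_inf hP (le_inf hP.le hPF) inf_le_left h2 h4
  have hB : IsSylowOf p B ⊤ := hA.of_card_eq le_top (h2.card_eq_card h1)
  have hP' : IsSylowOf p P ⊤ := hA.of_card_eq le_top (hP.card_eq_card h1)
  have hA' : A ≤ ⊤ ⊓ normalizer (F : Set G) := le_inf le_top (hAX.trans inf_le_right)
  have hB' : B ≤ ⊤ ⊓ normalizer (F : Set G) := le_inf le_top (hBX.trans inf_le_right)
  refine ⟨hA, hB, _, mem_functorFamily.mpr ⟨P, hP', F, hF, rfl⟩, ?_, ?_,
    ⟨x, ⟨mem_top _, hx.2⟩, h5⟩, h6, h7, le_inf le_top (h8.trans inf_le_right)⟩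
  · rw [inf_eq_left.mpr hA']; exact hA.mono hA' le_top
  · rw [inf_eq_left.mpr hB']; exact hB.mono hB' le_top

theorem chain_functor_top {f : Subgroup G → Set (Subgroup G)} (hf : IsNormalizerFunctor p f)
    {M D A B : Subgroup G} (h : ReflTransGen (SStep p (functorFamily p f M) M D) A B)
    (hA : IsSylowOf p A ⊤) (hAM : A ≤ M) :
    ReflTransGen (SStep p (functorFamily p f ⊤) ⊤ D) A B :=
  rtg_mono h fun _ _ h => h.functor_top hf
    (hA.of_card_eq le_top (h.1.card_eq_card (hA.mono hAM le_top)))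

end Cfsg.Agent.Loc.SC
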