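import Mathlib
import Cfsg.Agent.Loc.TICountA
import Cfsg.Agent.Perm.ZassField

/-!
# Bender's involution count: the Zassenhaus case `|C(z) : C_{N(M)}(z)| = 2`
-/

set_option autoImplicit false

namespace Cfsg.Agent.Loc.H78

open Cfsg.Agent.Perm.Zass MulAction
open scoped MatrixGroups

variable {G : Type*} [Group G]

namespace TIH

variable {M : Subgroup G} {z : G} (h : TIH M z) [Finite G]
include h

theorem free {t x : G} (htz : t * z = z * t) (ht : t * t = 1)
    (htN : t ∉ Subgroup.normalizer (M : Set G)) (hx : x ∈ M)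
    (e : t * x * t ∈ Subgroup.normalizer (M : Set G)) : x = 1 := by
  have hti : t⁻¹ = t := inv_eq_self_of_mul_self ht
  have hw : t * x * t * z * (t * x * t * z) = 1 := by
    calc t * x * t * z * (t * x * t * z) = t * x * (t * z) * t * x * (t * z) := by group
      _ = t * x * z * (t * t) * x * z * t := by rw [htz]; group
      _ = t * (x * z * (x * z)) * t := by rw [ht]; group
      _ = 1 := by rw [h.xz_sq hx, mul_one, ht]
  have hw1 : t * x * t * z ≠ 1 := fun e1 => by
    have : x * z = 1 := by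
      calc x * z = t⁻¹ * (t * x * (z * t)) * t⁻¹ := by group
        _ = t⁻¹ * (t * x * t * z) * t⁻¹ := by rw [← htz]; group
        _ = (t * t)⁻¹ := by rw [e1]; group
        _ = 1 := by rw [ht, inv_one]
    exact h.xz_ne hx this
  have h1 := h.mul_z_mem hw hw1 (mul_mem e h.zN)
  rw [mul_assoc _ z z, h.zz, mul_one] at h1
  by_contra hx1
  exact htN (h.ti t x hx hx1 (by rwa [hti]))

omit [Finite G] in
theorem eq_one_of_mem_comm {k : G} (hk : k ∈ M) (hkz : k * z = z * k) : k = 1 :=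
  h.eq_one_of_comm hk h.zz h.z1 hkz.symm

section CaseA

variable (hs : Star M) {t : G} (htz : t * z = z * t) (htN : t ∉ Subgroup.normalizer (M : Set G))
  (hA : ∀ s : G, s * z = z * s → s ∉ Subgroup.normalizer (M : Set G) →
    t * s ∈ Subgroup.normalizer (M : Set G))
include hs htz htN hA

theorem bruhat {g : G} (hg : g ∉ Subgroup.normalizer (M : Set G)) :
    ∃ u ∈ M, ∃ n ∈ Subgroup.normalizer (M : Set G), g = u * t * n := by
  have ht := h.sq_of_comm hs htN htz
  obtain ⟨x, hx, e⟩ := hs g hg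
  have h1 : g * x ∉ Subgroup.normalizer (M : Set G) := fun e' => hg (by
    simpa using mul_mem e' (inv_mem (Subgroup.le_normalizer hx)))
  obtain ⟨y, hy, e2⟩ := h.exists_conj_comm hs e h1
  have h2 := Subgroup.le_normalizer hy
  have h3 : y⁻¹ * (g * x) * y ∉ Subgroup.normalizer (M : Set G) := fun e' => h1 (by
    simpa [mul_assoc] using mul_mem (mul_mem h2 e') (inv_mem h2))
  refine ⟨y, hy, _, mul_mem (mul_mem (hA _ e2 h3) (inv_mem h2))
    (inv_mem (Subgroup.le_normalizer hx)), ?_⟩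
  calc g = y * (t * t) * y⁻¹ * g := by rw [ht]; group
    _ = _ := by group

omit hA in
theorem conj_K {k : G} (hkz : k * z = z * k) (hkN : k ∈ Subgroup.normalizer (M : Set G)) :
    k * t = t * k⁻¹ := by
  have ht := h.sq_of_comm hs htN htz
  rw [← h.inverts_K hs htz htN hkz hkN]
  calc k * t = (t * t) * k * t⁻¹ * (t * t) := by rw [ht]; simp [inv_eq_self_of_mul_self ht]
    _ = t * (t * k * t⁻¹) * (t * t) := by group
    _ = _ := by rw [ht, mul_one]

omit hA in
theorem K_comm {k l : G} (hkz : k * z = z * k) (hkN : k ∈ Subgroup.normalizer (M : Set G))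
    (hlz : l * z = z * l) (hlN : l ∈ Subgroup.normalizer (M : Set G)) : k * l = l * k := by
  have h1 := h.inverts_K hs htz htN hkz hkN
  have h2 := h.inverts_K hs htz htN hlz hlN
  have h3 := h.inverts_K hs htz htN (k := k * l) (by rw [mul_assoc, hlz, ← mul_assoc, hkz, mul_assoc])
    (mul_mem hkN hlN)
  have : (k * l)⁻¹ = (l * k)⁻¹ := by
    rw [← h3, mul_inv_rev, ← h1, ← h2]; group
  exact inv_injective this

/-- `C_{N(M)}(z)` acts fixed-point-freely on `M`. -/
theorem K_fpf {k y : G} (hkz : k * z = z * k) (hkN : k ∈ Subgroup.normalizer (M : Set G))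
    (hy : y ∈ M) (hy1 : y ≠ 1) (hc : k * y = y * k) : k = 1 := by
  have ht := h.sq_of_comm hs htN htz
  obtain ⟨u, hu, n, hn, e⟩ := h.bruhat hs htz htN hA (g := t * y * t)
    (fun e => hy1 (h.free htz ht htN hy e))
  obtain ⟨v, hv, l, hl, hlz, rfl⟩ := h.fac n hn
  have e1 := h.conj_K hs htz htN hkz hkN
  have e1' : t * k = k⁻¹ * t := by
    calc t * k = k⁻¹ * (k * t) * k := by group
      _ = _ := by rw [e1]; group
  have e2 : k * (t * y * t) * k⁻¹ = t * y * t := by
    calc k * (t * y * t) * k⁻¹ = (k * t) * y * (t * k⁻¹) := by group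
      _ = t * k⁻¹ * y * (k * t) := by rw [e1]
      _ = t * k⁻¹ * (y * k) * t := by group
      _ = _ := by rw [← hc]; group
  have hlk := h.K_comm hs htz htN hlz hl hkz hkN
  have e3 : k * u * k⁻¹ * t * ((k⁻¹ * v * k) * (l * (k * k)⁻¹)) = u * t * (v * l) := by
    rw [← e, ← e2, e]
    calc k * u * k⁻¹ * t * ((k⁻¹ * v * k) * (l * (k * k)⁻¹))
        = k * u * (k⁻¹ * t) * k⁻¹ * v * (k * l) * k⁻¹ * k⁻¹ := by group
      _ = _ := by rw [← e1', ← hlk]; group
  have hu' := ti_conj_mem hkN hu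
  have hv' := ti_conj_mem' hkN hv
  have hn' : (k⁻¹ * v * k) * (l * (k * k)⁻¹) ∈ Subgroup.normalizer (M : Set G) :=
    mul_mem (Subgroup.le_normalizer hv') (mul_mem hl (inv_mem (mul_mem hkN hkN)))
  have e4 : u⁻¹ * (k * u * k⁻¹) = 1 := by
    refine h.free htz ht htN (mul_mem (inv_mem hu) hu') ?_
    have : t * (u⁻¹ * (k * u * k⁻¹)) * t =
        (t * t) * (v * l) * ((k⁻¹ * v * k) * (l * (k * k)⁻¹))⁻¹ := by
      calc t * (u⁻¹ * (k * u * k⁻¹)) * t = t * u⁻¹ * (k * u * k⁻¹ * t *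
            ((k⁻¹ * v * k) * (l * (k * k)⁻¹))) * ((k⁻¹ * v * k) * (l * (k * k)⁻¹))⁻¹ := by group
        _ = _ := by rw [e3]; group
    rw [this, ht, one_mul]
    exact mul_mem hn (inv_mem hn')
  rw [← inv_mul_eq_one.1 e4] at e3
  have e5 : (k⁻¹ * v * k) * (l * (k * k)⁻¹) = v * l := mul_left_cancel e3
  have e6 : l * (k * k) * l⁻¹ = v⁻¹ * (k⁻¹ * v * k) := by
    calc l * (k * k) * l⁻¹ = v⁻¹ * (v * l) * (k * k) * l⁻¹ := by group
      _ = _ := by rw [← e5]; group
  have e7 : l * (k * k) * l⁻¹ = k * k := by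
    calc l * (k * k) * l⁻¹ = (l * k) * k * l⁻¹ := by group
      _ = k * (l * k) * l⁻¹ := by rw [hlk]; simp only [mul_assoc, hlk]
      _ = _ := by rw [hlk]; group
  have e8 : k * k = 1 := h.eq_one_of_mem_comm (by rw [← e7, e6]; exact mul_mem (inv_mem hv) hv') (by
    rw [mul_assoc, hkz, ← mul_assoc, hkz, mul_assoc])
  exact (h.odd y hy k e8 hc).resolve_left hy1

theorem exists_smul {c : G ⧸ Subgroup.normalizer (M : Set G)}
    (hc : c ≠ ((1 : G) : G ⧸ Subgroup.normalizer (M : Set G))) :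
    ∃ u ∈ M, u • ((t : G) : G ⧸ Subgroup.normalizer (M : Set G)) = c := by
  obtain ⟨g, rfl⟩ := QuotientGroup.mk_surjective c
  obtain ⟨u, hu, n, hn, rfl⟩ := h.bruhat hs htz htN hA (g := g) (fun e => hc (by
    rw [QuotientGroup.eq]; simpa using e))
  refine ⟨u, hu, ?_⟩
  rw [MulAction.Quotient.smul_mk, QuotientGroup.eq]
  simpa [mul_assoc] using hn

omit hA in
theorem smul_inj {u v : G} (hu : u ∈ M) (hv : v ∈ M)
    (e : u • ((t : G) : G ⧸ Subgroup.normalizer (M : Set G)) =
      v • ((t : G) : G ⧸ Subgroup.normalizer (M : Set G))) : u = v := by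
  have ht := h.sq_of_comm hs htN htz
  rw [MulAction.Quotient.smul_mk, MulAction.Quotient.smul_mk, QuotientGroup.eq] at e
  refine inv_mul_eq_one.1 (h.free htz ht htN (mul_mem (inv_mem hu) hv) ?_)
  simpa [mul_assoc, inv_eq_self_of_mul_self ht] using e

omit h hs htz htN hA [Finite G] in
theorem smul_one_iff {g : G} : g • ((1 : G) : G ⧸ Subgroup.normalizer (M : Set G)) =
    ((1 : G) : G ⧸ Subgroup.normalizer (M : Set G)) ↔ g ∈ Subgroup.normalizer (M : Set G) := by
  rw [MulAction.Quotient.smul_mk, QuotientGroup.eq]; simp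

omit hA in
theorem comm_of_fix {g : G} (h1 : g ∈ Subgroup.normalizer (M : Set G))
    (h2 : g • ((t : G) : G ⧸ Subgroup.normalizer (M : Set G)) =
      ((t : G) : G ⧸ Subgroup.normalizer (M : Set G))) : g * z = z * g := by
  have ht := h.sq_of_comm hs htN htz
  obtain ⟨x, hx, k, hk, hkz, rfl⟩ := h.fac g h1
  have e1 : k • ((t : G) : G ⧸ Subgroup.normalizer (M : Set G)) =
      ((t : G) : G ⧸ Subgroup.normalizer (M : Set G)) := by
    rw [MulAction.Quotient.smul_mk, smul_eq_mul, h.conj_K hs htz htN hkz hk, QuotientGroup.eq]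
    simpa using hk
  rw [mul_smul, e1] at h2
  have := h.smul_inj hs htz htN hx (one_mem M) (by rw [h2, one_smul])
  rw [this, one_mul, hkz]

omit h hs htz hA [Finite G] in
theorem one_ne_t : ((1 : G) : G ⧸ Subgroup.normalizer (M : Set G)) ≠
    ((t : G) : G ⧸ Subgroup.normalizer (M : Set G)) := fun e => htN (by
  rw [QuotientGroup.eq] at e; simpa using e)

theorem exists_base {p q : G ⧸ Subgroup.normalizer (M : Set G)} (hpq : p ≠ q) :
    ∃ g : G, g • ((1 : G) : G ⧸ Subgroup.normalizer (M : Set G)) = p ∧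
      g • ((t : G) : G ⧸ Subgroup.normalizer (M : Set G)) = q := by
  obtain ⟨g, rfl⟩ := QuotientGroup.mk_surjective p
  have e : g • ((1 : G) : G ⧸ Subgroup.normalizer (M : Set G)) = (g : G ⧸ _) := by
    rw [MulAction.Quotient.smul_mk]; simp
  obtain ⟨u, hu, e2⟩ := h.exists_smul hs htz htN hA (c := g⁻¹ • q) (fun e' => hpq (by
    rw [← e, ← e', smul_inv_smul]))
  refine ⟨g * u, ?_, ?_⟩
  · rw [mul_smul, smul_one_iff.2 (Subgroup.le_normalizer hu), e]
  · rw [mul_smul, e2, smul_inv_smul]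

theorem isZT : IsZT G (G ⧸ Subgroup.normalizer (M : Set G)) := by
  refine ⟨fun hab hcd => ?_, fun {g a b c} hab hbc hac ha hb hc => ?_, fun p q => ?_, ⟨((1 : G) : _)⟩⟩
  · obtain ⟨g, h1, h2⟩ := h.exists_base hs htz htN hA hab
    obtain ⟨g', h3, h4⟩ := h.exists_base hs htz htN hA hcd
    exact ⟨g' * g⁻¹, by rw [← h1, mul_smul, inv_smul_smul, h3],
      by rw [← h2, mul_smul, inv_smul_smul, h4]⟩
  · obtain ⟨w, rfl, rfl⟩ := h.exists_base hs htz htN hA hab
    have h1 : w⁻¹ * g * w ∈ Subgroup.normalizer (M : Set G) :=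
      smul_one_iff.1 (by rw [mul_smul, mul_smul, ha, inv_smul_smul])
    have h2 : (w⁻¹ * g * w) • ((t : G) : G ⧸ Subgroup.normalizer (M : Set G)) =
        ((t : G) : G ⧸ Subgroup.normalizer (M : Set G)) := by
      rw [mul_smul, mul_smul, hb, inv_smul_smul]
    have h3 := h.comm_of_fix hs htz htN h1 h2
    obtain ⟨y, hy, e⟩ := h.exists_smul hs htz htN hA (c := w⁻¹ • c) (fun e' => hac (by
      rw [← e', smul_inv_smul]))
    have hy1 : y ≠ 1 := by
      rintro rfl
      exact hbc (by rw [one_smul] at e; rw [e, smul_inv_smul])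
    set k := w⁻¹ * g * w with hk
    have h4 : (k * y * k⁻¹) • ((t : G) : G ⧸ Subgroup.normalizer (M : Set G)) =
        y • ((t : G) : G ⧸ Subgroup.normalizer (M : Set G)) := by
      rw [mul_smul, mul_smul, inv_smul_eq_iff.2 h2.symm, e, hk, mul_smul, mul_smul, smul_inv_smul, hc]
    have h5 := h.smul_inj hs htz htN (ti_conj_mem h1 hy) hy h4
    have h6 := h.K_fpf hs htz htN hA h3 h1 hy hy1 (by
      rw [← mul_inv_eq_iff_eq_mul]; exact h5)
    calc g = w * k * w⁻¹ := by rw [hk]; group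
      _ = 1 := by rw [h6]; group
  · obtain ⟨y, hy, hy1⟩ := h.exists_ne_one
    have h1 := one_ne_t htN
    have h2 : ((t : G) : G ⧸ Subgroup.normalizer (M : Set G)) ≠
        y • ((t : G) : G ⧸ Subgroup.normalizer (M : Set G)) := fun e =>
      hy1 (h.smul_inj hs htz htN hy (one_mem M) (by rw [← e, one_smul]))
    have h3 : ((1 : G) : G ⧸ Subgroup.normalizer (M : Set G)) ≠
        y • ((t : G) : G ⧸ Subgroup.normalizer (M : Set G)) := fun e => h1 (by
      rw [← inv_smul_eq_iff, smul_one_iff.2 (inv_mem (Subgroup.le_normalizer hy))] at e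
      exact e)
    by_contra hc
    push Not at hc
    have e1 := hc ((1 : G) : G ⧸ Subgroup.normalizer (M : Set G))
    have e2 := hc ((t : G) : G ⧸ Subgroup.normalizer (M : Set G))
    have e3 := hc (y • ((t : G) : G ⧸ Subgroup.normalizer (M : Set G)))
    generalize ((1 : G) : G ⧸ Subgroup.normalizer (M : Set G)) = a at *
    generalize y • ((t : G) : G ⧸ Subgroup.normalizer (M : Set G)) = c at *
    generalize ((t : G) : G ⧸ Subgroup.normalizer (M : Set G)) = b at *
    by_cases f1 : a = p <;> by_cases f2 : b = p <;> by_cases f3 : c = p <;> simp_all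

theorem isKer : IsKer ((1 : G) : G ⧸ Subgroup.normalizer (M : Set G)) M := by
  refine (h.isZT hs htz htN hA).isKer_of_reg
    (fun u hu => smul_one_iff.2 (Subgroup.le_normalizer hu)) (fun p q hp hq => ?_)
  obtain ⟨x, hx, rfl⟩ := h.exists_smul hs htz htN hA hp
  obtain ⟨y, hy, rfl⟩ := h.exists_smul hs htz htN hA hq
  refine ⟨⟨y * x⁻¹, mul_mem hy (inv_mem hx)⟩, by simp [mul_smul], fun u hu => Subtype.ext ?_⟩
  simp only [← mul_smul] at hu
  have := h.smul_inj hs htz htN (mul_mem u.2 hx) hy hu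
  simp [← this]

theorem caseA : ∃ (F : Type) (_ : Field F) (_ : Fintype F) (p : ℕ) (_ : Fact p.Prime) (_ : CharP F p),
    Fintype.card F = Nat.card M ∧ (∀ a ∈ M, a ^ p = 1) ∧
      (Nonempty (G ≃* PGL(2, F)) ∨ (Fintype.card F % 4 = 1 ∧ Nonempty (G ≃* PSL(2, F)))) := by
  have hZ := h.isZT hs htz htN hA
  have hK := h.isKer hs htz htN hA
  have hab := one_ne_t htN
  have ht := h.sq_of_comm hs htN htz
  have hzs : z ∈ stabilizer G ((1 : G) : G ⧸ Subgroup.normalizer (M : Set G)) ⊓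
      stabilizer G ((t : G) : G ⧸ Subgroup.normalizer (M : Set G)) := by
    refine mem_stab2.2 ⟨smul_one_iff.2 h.zN, ?_⟩
    rw [MulAction.Quotient.smul_mk, smul_eq_mul, ← htz, QuotientGroup.eq]
    simpa using h.zN
  have he : Even (Nat.card ↥(stabilizer G ((1 : G) : G ⧸ Subgroup.normalizer (M : Set G)) ⊓
      stabilizer G ((t : G) : G ⧸ Subgroup.normalizer (M : Set G)))) := by
    rw [even_iff_two_dvd, ← orderOf_eq_two_iff'.2 ⟨h.zz, h.z1⟩]
    exact Subgroup.orderOf_dvd_natCard _ hzs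
  have hle0 := hZ.card_le_of_even hab he
  rw [← hK.card_add_one hZ] at hle0
  have hle : Nat.card M - 1 ≤ 2 * Nat.card ↥(stabilizer G ((1 : G) : G ⧸ Subgroup.normalizer (M : Set G)) ⊓
      stabilizer G ((t : G) : G ⧸ Subgroup.normalizer (M : Set G))) := by omega
  obtain ⟨p, f, hp, hpM, hcard⟩ := hK.exists_prime_of_le hZ hab.symm hle
  obtain ⟨F, i1, i2, hF, hiso⟩ := hK.exists_iso hZ hab hle ht
    (by rw [MulAction.Quotient.smul_mk]; simp)
    (by rw [MulAction.Quotient.smul_mk, smul_eq_mul, ht])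
    (fun x hx => by
      have h1 := smul_one_iff.1 (mem_stab2.1 hx).1
      exact h.inverts_K hs htz htN (h.comm_of_fix hs htz htN h1 (mem_stab2.1 hx).2) h1)
  have hchar : CharP F p := by
    obtain ⟨r, hr, n, hr', hn⟩ := FiniteField.card' F
    have h3 := h.three_le_card
    have hf : f ≠ 0 := by
      rintro rfl
      rw [pow_zero] at hcard
      omega
    have : p ∣ r ^ (n : ℕ) := by
      rw [← hn, hF, hcard]; exact dvd_pow_self p hf
    have : p = r := (Nat.prime_dvd_prime_iff_eq hp hr').1 (hp.dvd_of_dvd_pow this)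
    exact this ▸ hr
  refine ⟨F, i1, i2, p, ⟨hp⟩, hchar, hF, hpM, ?_⟩
  rcases hiso with ⟨-, h1, -⟩ | ⟨h1, -, h2⟩
  · exact Or.inl h1
  · refine Or.inr ⟨?_, h2⟩
    obtain ⟨k, hk⟩ := he
    have h3 := h.three_le_card
    omega

end CaseA

end TIH

end Cfsg.Agent.Loc.H78
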