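import Mathlib
import Cfsg.Agent.Loc.TICountB
import Cfsg.Agent.Loc.TICountC
import Cfsg.Agent.GT.FrobeniusComplement
import Cfsg.Agent.Inv.Dihedral

/-!
# Bender's involution count: the case `2^{2d} : D_{2(2^d+1)}`
-/

set_option autoImplicit false

namespace Cfsg.Agent.Loc.H78

open Cfsg.Agent.Perm.Zass

variable {G : Type*} [Group G]

namespace TIH

variable {M : Subgroup G} {z : G} (h : TIH M z) [Finite G]
include h

omit [Finite G] in
theorem card_commConj (hK : SmallK M z) [Finite G] :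
    Nat.card {w : G // IsConj z w ∧ w * z = z * w} = nConj M z + 1 := by
  rw [ti_card_split _ (fun t => t ∈ Subgroup.normalizer (M : Set G)), add_comm]
  congr 1
  · exact ti_card_congr (fun t => ⟨fun ht => ⟨⟨ht.1.2, ht.2⟩, ht.1.1⟩, fun ht => ⟨⟨ht.2, ht.1.1⟩, ht.1.2⟩⟩)
  · rw [ti_card_congr (Q := fun t => t = z) (fun t => ⟨fun ht => ?_, ?_⟩)]
    · simp
    · exact (hK t ht.1.2 ht.2).resolve_left (h.conj_sq ht.1.1).2
    · rintro rfl
      exact ⟨⟨IsConj.refl _, rfl⟩, h.zN⟩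

variable (hs : Star M) (hK : SmallK M z) (h0 : nNon M z = nConj M z) (hm : Nat.card M = nConj M z + 2)
include hs hK h0 hm

theorem dichotomy0 {w : G} (hw : IsConj z w) :
    w * z = z * w ∨ ∃ g : G, ∃ x ∈ M, x ≠ 1 ∧ z * w = g * x * g⁻¹ := by
  classical
  have := Fintype.ofFinite G
  set B : Finset G := Finset.univ.filter (fun w => IsConj z w ∧ ¬ w * z = z * w) with hB
  set D : Finset (G × G) := (Finset.univ.filter (fun s => s * z = z * s)) ×ˢ
    ((Finset.univ.filter (fun x => x ∈ M)).erase 1) with hD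
  have memD : ∀ p : G × G, p ∈ D ↔ p.1 * z = z * p.1 ∧ p.2 ≠ 1 ∧ p.2 ∈ M := by
    intro p; simp [hD]
  set f : G × G → G := fun p => z * (p.1 * p.2 * p.1⁻¹) with hf
  have hBc : B.card = (nConj M z + 1) * (nConj M z + 1) := by
    have e1 := ti_card_split (fun w => IsConj z w) (fun w => w * z = z * w)
    rw [h.card_class hs, h.card_commConj hK, hm] at e1
    have e2 : Nat.card {w : G // IsConj z w ∧ ¬ w * z = z * w} = B.card := by
      rw [Nat.card_eq_fintype_card, Fintype.card_subtype]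
    rw [e2] at e1
    nlinarith
  have hDc : D.card = 2 * ((nConj M z + 1) * (nConj M z + 1)) := by
    have e1 : (Finset.univ.filter (fun s => s * z = z * s)).card = nOut M z + 2 := by
      rw [← h.card_C hK, ti_card_congr (fun _ => Subgroup.mem_centralizer_singleton_iff),
        Nat.card_eq_fintype_card, Fintype.card_subtype]
    have e2 : (Finset.univ.filter (fun x => x ∈ M)).card = nConj M z + 2 := by
      rw [← hm, Nat.card_eq_fintype_card, Fintype.card_subtype]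
    rw [hD, Finset.card_product, Finset.card_erase_of_mem (by simp), e1, e2, nOut_eq, h0]
    simp only [Nat.add_succ_sub_one]
    ring
  have hsub : D.image f ⊆ B := by
    intro w hw
    obtain ⟨⟨s, x⟩, hp, rfl⟩ := Finset.mem_image.1 hw
    obtain ⟨h1, h2, h3⟩ := (memD _).1 hp
    simp only at h1 h2 h3
    have e : f (s, x) = s * (x⁻¹ * z) * s⁻¹ := by
      simp only [hf]
      rw [← h.zx h3]
      calc z * (s * x * s⁻¹) = (z * s) * x * s⁻¹ := by group
        _ = _ := by rw [← h1]; group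
    obtain ⟨y, hy, e2⟩ := h.exists_conj_xz (inv_mem h3)
    refine Finset.mem_filter.2 ⟨Finset.mem_univ _, ?_, fun hc => h2 ?_⟩
    · exact isConj_iff.2 ⟨s * y, by rw [e, ← e2]; group⟩
    · simp only [hf] at hc
      refine h.eq_one_of_comm h3 h.zz h.z1 ?_
      have e3 : s * x * s⁻¹ * z = z * (s * x * s⁻¹) := mul_left_cancel (a := z) (by rw [← hc]; group)
      have h1' : s⁻¹ * z = z * s⁻¹ := by
        calc s⁻¹ * z = s⁻¹ * (z * s) * s⁻¹ := by group
          _ = _ := by rw [← h1]; group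
      calc z * x = s⁻¹ * ((s * z) * x * s⁻¹) * s := by group
        _ = s⁻¹ * (s * x * s⁻¹ * z) * s := by rw [h1, e3]; group
        _ = x * (s⁻¹ * (z * s)) := by group
        _ = _ := by rw [← h1]; group
  have hfib : ∀ a ∈ D.image f, (D.filter (fun p => f p = a)).card ≤ 2 := by
    intro a ha
    obtain ⟨⟨s0, x0⟩, hp, rfl⟩ := Finset.mem_image.1 ha
    obtain ⟨h1, h2, h3⟩ := (memD _).1 hp
    simp only at h1 h2 h3
    refine le_trans (Finset.card_le_card (t := {(s0, x0), (s0 * z, x0⁻¹)}) ?_) Finset.card_le_two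
    rintro ⟨s, x⟩ hq
    obtain ⟨hq1, hq2⟩ := Finset.mem_filter.1 hq
    obtain ⟨h4, h5, h6⟩ := (memD _).1 hq1
    simp only at h4 h5 h6
    have e : s * x * s⁻¹ = s0 * x0 * s0⁻¹ := mul_left_cancel hq2
    have e2 : s0⁻¹ * s * x * (s0⁻¹ * s)⁻¹ = x0 := by
      calc s0⁻¹ * s * x * (s0⁻¹ * s)⁻¹ = s0⁻¹ * (s * x * s⁻¹) * s0 := by group
        _ = _ := by rw [e]; group
    have h7 := h.ti _ x h6 h5 (e2 ▸ h3)
    have h8 : s0⁻¹ * s * z = z * (s0⁻¹ * s) := by
      calc s0⁻¹ * s * z = s0⁻¹ * (s * z) := by group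
        _ = s0⁻¹ * (z * s0) * s0⁻¹ * s := by rw [h4]; group
        _ = _ := by rw [← h1]; group
    rcases hK _ h8 h7 with e3 | e3
    · rw [e3] at e2
      have e4 : s = s0 := (inv_mul_eq_one.1 e3).symm
      have e5 : x = x0 := by simpa using e2
      simp [e4, e5]
    · rw [e3, h.inverts h.zz h.z1 h.zN h6] at e2
      have e4 : s = s0 * z := by rw [← e3]; group
      have e5 : x = x0⁻¹ := by rw [← e2, inv_inv]
      simp [e4, e5]
  have hle := Finset.card_le_mul_card_image D 2 hfib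
  have heq := Finset.eq_of_subset_of_card_le hsub (by omega)
  by_cases hc : w * z = z * w
  · exact Or.inl hc
  · have : w ∈ D.image f := heq ▸ Finset.mem_filter.2 ⟨Finset.mem_univ _, hw, hc⟩
    obtain ⟨⟨s, x⟩, hp, rfl⟩ := Finset.mem_image.1 this
    obtain ⟨-, h2, h3⟩ := (memD _).1 hp
    exact Or.inr ⟨s, x, h3, h2, by simp only [hf]; rw [← mul_assoc, h.zz, one_mul]⟩

theorem dichotomy {v w : G} (hv : IsConj z v) (hw : IsConj z w) :
    w * v = v * w ∨ ∃ g : G, ∃ x ∈ M, x ≠ 1 ∧ v * w = g * x * g⁻¹ := by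
  obtain ⟨u, rfl⟩ := isConj_iff.1 hv
  rcases h.dichotomy0 hs hK h0 hm (w := u⁻¹ * w * u) (hw.trans (isConj_iff.2 ⟨u⁻¹, by group⟩)) with
    e | ⟨g, x, hx, hx1, e⟩
  · left
    calc w * (u * z * u⁻¹) = u * (u⁻¹ * w * u * z) * u⁻¹ := by group
      _ = _ := by rw [e]; group
  · refine Or.inr ⟨u * g, x, hx, hx1, ?_⟩
    calc u * z * u⁻¹ * w = u * (z * (u⁻¹ * w * u)) * u⁻¹ := by group
      _ = _ := by rw [e]; group

omit h0 hm in
theorem exists_E : ∃ E : Subgroup G, E.Normal ∧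
    ∀ g, g ∈ E ↔ ∀ w, IsConj z w → w * (g * w * g⁻¹) = g * w * g⁻¹ * w := by
  have hc : ∀ g w, IsConj z w → IsConj z (g * w * g⁻¹) := fun g w hw => hw.trans (isConj_iff.2 ⟨g, rfl⟩)
  refine ⟨⟨⟨⟨{g | ∀ w, IsConj z w → w * (g * w * g⁻¹) = g * w * g⁻¹ * w}, ?_⟩, ?_⟩, ?_⟩, ⟨?_⟩,
    fun g => Iff.rfl⟩
  · intro a b ha hb w hw
    have e : a * b * w * (a * b)⁻¹ = a * (b * w * b⁻¹) * a⁻¹ := by group
    rw [e]
    exact h.comm_conj hs hK (hc b w hw) (hb w hw) (ha _ (hc b w hw)).symm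
  · intro w _
    simp
  · intro a ha w hw
    have := ha _ (hc a⁻¹ w hw)
    have e : a * (a⁻¹ * w * a⁻¹⁻¹) * a⁻¹ = w := by group
    rw [e] at this
    exact this.symm
  · intro a ha g w hw
    have := ha _ (hc g⁻¹ w hw)
    calc w * (g * a * g⁻¹ * w * (g * a * g⁻¹)⁻¹)
        = g * (g⁻¹ * w * g⁻¹⁻¹ * (a * (g⁻¹ * w * g⁻¹⁻¹) * a⁻¹)) * g⁻¹ := by group
      _ = _ := by rw [this]; group

theorem mem_E {s : G} (hs1 : s * s = 1) (hsc : ¬ IsConj z s) {w : G} (hw : IsConj z w) :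
    w * (s * w * s⁻¹) = s * w * s⁻¹ * w := by
  rcases h.dichotomy hs hK h0 hm hw (hw.trans (isConj_iff.2 ⟨s, rfl⟩)) with e | ⟨g, x, hx, hx1, e⟩
  · exact e.symm
  exfalso
  have hw2 := (h.conj_sq hw).1
  have hsi := inv_eq_self_of_mul_self hs1
  have hwi := inv_eq_self_of_mul_self hw2
  have e1 : g⁻¹ * s * g * x * (g⁻¹ * s * g)⁻¹ = x⁻¹ := by
    calc g⁻¹ * s * g * x * (g⁻¹ * s * g)⁻¹ = g⁻¹ * (s * (g * x * g⁻¹) * s⁻¹) * g := by group
      _ = g⁻¹ * (s * w * s * w * (s * s)⁻¹) * g := by rw [← e]; group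
      _ = g⁻¹ * (w * (s * w * s⁻¹))⁻¹ * g := by
        rw [hs1]; simp only [mul_inv_rev, hsi, hwi, mul_assoc, inv_one, one_mul]
      _ = _ := by rw [e]; group
  have h1 := h.ti _ x hx hx1 (e1 ▸ inv_mem hx)
  have hs0 : s ≠ 1 := by
    rintro rfl
    rw [one_mul, inv_one, mul_one, hw2] at e
    exact conj_ne_one hx1 e.symm
  have h2 := h.isConj_of_mem (t := g⁻¹ * s * g) (by simpa using conj_mul_self (g := g⁻¹) hs1)
    (by simpa using conj_ne_one (g := g⁻¹) hs0) h1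
  exact hsc (h2.trans (isConj_iff.2 ⟨g, by group⟩))

omit hs h0 hm in
theorem eq_one_of_E {n : G} (hn : n ∈ Subgroup.normalizer (M : Set G))
    (hE : ∀ w, IsConj z w → w * (n * w * n⁻¹) = n * w * n⁻¹ * w) : n = 1 := by
  have key : ∀ x ∈ M, z * (x * z * x⁻¹) = x * z * x⁻¹ * z → x = 1 := fun x hx e => by
    rw [h.conj_z hx] at e
    exact h.eq_one_of_sq hx (h.eq_one_of_comm (mul_mem hx hx) h.zz h.z1
      (mul_right_cancel (b := z) (by rw [← e]; group)))
  obtain ⟨x, hx, k, hk, hkz, rfl⟩ := h.fac n hn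
  have e0 : x * k * z * (x * k)⁻¹ = x * z * x⁻¹ := by
    calc x * k * z * (x * k)⁻¹ = x * (k * z) * k⁻¹ * x⁻¹ := by group
      _ = _ := by rw [hkz]; group
  have hx1 := key x hx (by have := hE z (IsConj.refl _); rwa [e0] at this)
  subst hx1
  rcases hK k hkz hk with rfl | e
  · simp
  exfalso
  subst e
  obtain ⟨y, hy, hy1⟩ := h.exists_ne_one
  have := hE (y * k * y⁻¹) (isConj_iff.2 ⟨y, rfl⟩)
  have e1 : 1 * k * (y * k * y⁻¹) * (1 * k)⁻¹ = y⁻¹ * k * y := by
    calc 1 * k * (y * k * y⁻¹) * (1 * k)⁻¹ = (k * y * k⁻¹) * k * (k * y * k⁻¹)⁻¹ := by group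
      _ = _ := by rw [h.inverts h.zz h.z1 h.zN hy]; group
  rw [e1] at this
  refine hy1 (h.eq_one_of_sq hy (key _ (mul_mem hy hy) ?_))
  calc k * (y * y * k * (y * y)⁻¹) = y * (y⁻¹ * k * y * (y * k * y⁻¹)) * y⁻¹ := by group
    _ = _ := by rw [← this]; group

omit hK in
theorem card_non : Nat.card {s : G // s * s = 1 ∧ ¬ IsConj z s} = (nConj M z + 1) * (nConj M z + 1) := by
  rw [ti_card_split _ (fun t => t ∈ Subgroup.normalizer (M : Set G))]
  have e1 : Nat.card {s : G // (s * s = 1 ∧ ¬ IsConj z s) ∧ s ∈ Subgroup.normalizer (M : Set G)} = 1 := by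
    rw [ti_card_congr (Q := fun t => t = 1) (fun t => ⟨fun ht => ?_, ?_⟩)]
    · simp
    · by_contra hc
      exact ht.1.2 (h.isConj_of_mem ht.1.1 hc ht.2)
    · rintro rfl
      exact ⟨⟨by simp, fun hc => (h.conj_sq hc).2 rfl⟩, one_mem _⟩
  have e2 := h.card_out hs (fun t => ¬ IsConj z t)
    (fun x _ g hg hc => hg (hc.trans (isConj_iff.2 ⟨x⁻¹, by group⟩)))
  have e3 : Nat.card {s : G // (s * s = 1 ∧ ¬ IsConj z s) ∧ ¬ s ∈ Subgroup.normalizer (M : Set G)} =
      Nat.card M * nNon M z := by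
    rw [nNon, ← e2]
    exact ti_card_congr (fun t => ⟨fun ht => ⟨⟨ht.1.1, ht.2⟩, ht.1.2⟩, fun ht => ⟨⟨ht.1.1, ht.2⟩, ht.1.2⟩⟩)
  rw [e1, e3, h0, hm]
  ring

theorem caseB2 : ∃ (d : ℕ) (E : Subgroup G), 1 ≤ d ∧ E.Normal ∧
    (IsMulCommutative E ∧ ∀ a ∈ E, a ^ 2 = 1) ∧ Nat.card E = 2 ^ (2 * d) ∧
    E ⊓ Subgroup.normalizer (M : Set G) = ⊥ ∧ E ⊔ Subgroup.normalizer (M : Set G) = ⊤ ∧
    Nonempty (↥(Subgroup.normalizer (M : Set G)) ≃* DihedralGroup (2 ^ d + 1)) := by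
  have : Fact (Nat.Prime 2) := ⟨Nat.prime_two⟩
  obtain ⟨E, hEn, hE⟩ := h.exists_E hs hK
  obtain ⟨e, he⟩ := IsPGroup.iff_card.1 (h.isPGroup_C hs hK)
  have h3 := h.three_le_card
  rw [h.card_C hK, nOut_eq, h0] at he
  obtain ⟨d, rfl⟩ : ∃ d, e = d + 1 := by
    rcases e with _ | d
    · omega
    · exact ⟨d, rfl⟩
  have ha : nConj M z + 1 = 2 ^ d := by rw [pow_succ] at he; omega
  have hd : 1 ≤ d := by
    rcases d with _ | d
    · omega
    · omega
  have hinf : E ⊓ Subgroup.normalizer (M : Set G) = ⊥ := (Subgroup.eq_bot_iff_forall _).2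
    fun n hn => h.eq_one_of_E hK (Subgroup.mem_inf.1 hn).2 ((hE n).1 (Subgroup.mem_inf.1 hn).1)
  let μ : E × Subgroup.normalizer (M : Set G) → G := fun p => p.1 * p.2
  have hμ : Function.Injective μ := by
    rintro ⟨a, n⟩ ⟨b, m⟩ e
    have e : (a : G) * n = b * m := e
    have h1 : (b : G)⁻¹ * a = m * (n : G)⁻¹ := by
      calc (b : G)⁻¹ * a = (b : G)⁻¹ * (a * n) * (n : G)⁻¹ := by group
        _ = _ := by rw [e]; group
    have h2 : (b : G)⁻¹ * a ∈ E ⊓ Subgroup.normalizer (M : Set G) :=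
      Subgroup.mem_inf.2 ⟨mul_mem (inv_mem b.2) a.2, h1 ▸ mul_mem m.2 (inv_mem n.2)⟩
    rw [hinf, Subgroup.mem_bot] at h2
    have h4 : a = b := Subtype.ext (inv_mul_eq_one.1 h2).symm
    subst h4
    exact Prod.ext rfl (Subtype.ext (mul_left_cancel e))
  have hG : Nat.card G = (nConj M z + 1) * (nConj M z + 1) * (2 * Nat.card M) := by
    rw [h.card_G hs hK, nOut_eq, h0, hm]; ring
  have hle : Nat.card E ≤ (nConj M z + 1) * (nConj M z + 1) := by
    have := Nat.card_le_card_of_injective μ hμ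
    rw [Nat.card_prod, h.card_N hK, hG] at this
    exact Nat.le_of_mul_le_mul_right this (by omega)
  let ι : {s : G // s * s = 1 ∧ ¬ IsConj z s} → E := fun s =>
    ⟨s, (hE s).2 fun w hw => h.mem_E hs hK h0 hm s.2.1 s.2.2 hw⟩
  have hι : Function.Injective ι := fun a b e => Subtype.ext (congrArg (fun x : E => (x : G)) e)
  have hcE : Nat.card E = (nConj M z + 1) * (nConj M z + 1) :=
    le_antisymm hle (h.card_non hs h0 hm ▸ Nat.card_le_card_of_injective ι hι)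
  have hιs : Function.Surjective ι :=
    ((Nat.bijective_iff_injective_and_card ι).2 ⟨hι, by rw [hcE, h.card_non hs h0 hm]⟩).2
  have hsq : ∀ a ∈ E, a * a = 1 := fun a ha => by
    obtain ⟨s, hs'⟩ := hιs ⟨a, ha⟩
    have : (s : G) = a := congrArg (fun x : E => (x : G)) hs'
    exact this ▸ s.2.1
  have hμs : Function.Surjective μ :=
    ((Nat.bijective_iff_injective_and_card μ).2 ⟨hμ, by rw [Nat.card_prod, h.card_N hK, hG, hcE]⟩).2
  have hcyc : IsCyclic M := by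
    have : IsMulCommutative M := ⟨⟨fun a b => Subtype.ext (h.comm a.2 b.2)⟩⟩
    refine GT.Frob.HasFpfAction.isCyclic_of_comm (GT.Frob.hasFpfAction_of_fpf (K := E) ?_ ?_ ?_)
    · rw [← Subgroup.one_lt_card_iff_ne_bot, hcE]; nlinarith
    · rw [Subgroup.normalizer_eq_top_iff.2 hEn]; exact le_top
    · intro x hx hx1
      refine (Subgroup.eq_bot_iff_forall _).2 fun a ha => ?_
      exact (h.odd x hx a (hsq a (Subgroup.mem_inf.1 ha).1)
        (Subgroup.mem_centralizer_singleton_iff.1 (Subgroup.mem_inf.1 ha).2)).resolve_left hx1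
  refine ⟨d, E, hd, hEn, ⟨⟨⟨fun a b => Subtype.ext (ti_comm_of_sq (hsq a a.2) (hsq b b.2)
    (hsq _ (mul_mem a.2 b.2)))⟩⟩, fun a ha => by rw [pow_two]; exact hsq a ha⟩,
    by rw [hcE, ha, two_mul, pow_add], hinf, ?_, ?_⟩
  · refine eq_top_iff.2 fun g _ => ?_
    obtain ⟨⟨a, n⟩, rfl⟩ := hμs g
    exact Subgroup.mul_mem_sup a.2 n.2
  · obtain ⟨c, hc⟩ := (Subgroup.isCyclic_iff_exists_zpowers_eq_top M).1 hcyc
    have hcM : c ∈ M := hc ▸ Subgroup.mem_zpowers c
    obtain ⟨φ⟩ := Inv.nonempty_closure_equiv_dihedral (c := c) (t := z) (n := 2 ^ d + 1) h.zz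
      (h.inverts h.zz h.z1 h.zN hcM) (hc ▸ h.z_not_mem) (by
        rw [← Nat.card_zpowers, hc, hm, ← ha])
    have : Subgroup.closure {c, z} = Subgroup.normalizer (M : Set G) := by
      refine le_antisymm ((Subgroup.closure_le _).2 ?_) fun n hn => ?_
      · rintro _ (rfl | rfl)
        · exact Subgroup.le_normalizer hcM
        · exact h.zN
      · have hM : M ≤ Subgroup.closure {c, z} := by
          rw [← hc, Subgroup.zpowers_le]; exact Subgroup.subset_closure (by simp)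
        obtain ⟨x, hx, k, hk, hkz, rfl⟩ := h.fac n hn
        rcases hK k hkz hk with rfl | rfl
        · simpa using hM hx
        · exact mul_mem (hM hx) (Subgroup.subset_closure (by simp))
    exact ⟨(MulEquiv.subgroupCongr this.symm).trans φ⟩

end TIH

end Cfsg.Agent.Loc.H78
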