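import Mathlib
import Cfsg.Agent.Loc.TurTow
import Cfsg.Agent.GT.Frattini

/-!
Minimal towers, and the bound on the Fitting height by that of the fixed points of a coprime
operator group of prime order.
-/

set_option autoImplicit false

namespace Cfsg.Agent.Loc.H78

open Cfsg Cfsg.Agent.FT Cfsg.Agent.GT Cfsg.Agent.FG.H93
open scoped commutatorElement

variable {G : Type*} [Group G]

structure GTow (H A : Subgroup G) (m : ℕ) (Q F : ℕ → Subgroup G) (p : ℕ → ℕ) : Prop where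
  le : ∀ i ≤ m, Q i ≤ H
  prime : ∀ i ≤ m, (p i).Prime
  sec : ∀ i ≤ m, Sec (p i) (Q i) (F i) A
  nn : ∀ i j, i ≤ j → j ≤ m → Q j ≤ 𝐍(Q i) ⊓ 𝐍(F i)
  ne : ∀ i < m, p (i + 1) ≠ p i
  c0 : ∀ i, i + 1 = m → F (i + 1) ≤ cent2 (Q i) (F i)
  c1 : ∀ i < m, ⁅F (i + 1), Q (i + 1)⁆ ≤ cent2 (Q i) (F i)
  c2 : ∀ i, i + 2 ≤ m → ⁅F (i + 1), Q (i + 2)⁆ ≤ cent2 (Q i) (F i)
  comm : ∀ i < m, Q i ≤ ⁅Q i, Q (i + 1)⁆
  lt : ∀ i ≤ m, ¬ Q i ≤ F i
  max : ∀ i ≤ m, ∀ Z ≤ Q i, A ≤ 𝐍(Z) → (∀ j, i < j → j ≤ m → Q j ≤ 𝐍(Z)) → ¬ Q i ≤ Z → Z ≤ F i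

/-- The elements normalising `T` that centralise `B` modulo `T`. -/
def cent3 (B T : Subgroup G) : Subgroup G := ⨅ y ∈ B, cent1 y T

variable {H A B Z : Subgroup G} {m : ℕ} {Q F : ℕ → Subgroup G} {p : ℕ → ℕ}

theorem mem_inf_cent3 {P T : Subgroup G} (hP : P ≤ 𝐍(T)) {x : G} :
    x ∈ P ⊓ cent3 B T ↔ x ∈ P ∧ ∀ y ∈ B, ⁅x, y⁆ ∈ T := by
  simp only [cent3, Subgroup.mem_inf, Subgroup.mem_iInf]
  exact and_congr_right fun hx => forall₂_congr fun y _ =>
    ⟨fun e => comm_mem_symm e.2, fun e => ⟨hP hx, comm_mem_symm e⟩⟩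

theorem Tow.update (h : Tow H A ⊥ m Q p) {i : ℕ} (hi : i ≤ m) (hZ : Z ≤ Q i) (hA : A ≤ 𝐍(Z))
    (hQ : ∀ j, i < j → j ≤ m → Q j ≤ 𝐍(Z))
    (top : ¬ Function.update Q i Z m ≤ towK (Function.update Q i Z) ⊥ m) :
    Tow H A ⊥ m (Function.update Q i Z) p := by
  have e : ∀ j, Function.update Q i Z j ≤ Q j := fun j => by
    rcases eq_or_ne j i with rfl | hj
    · simpa using hZ
    · simp [hj]
  refine ⟨fun j hj => (e j).trans (h.le j hj), h.prime, fun j hj => (h.pG j hj).to_le (e j),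
    fun j hj => ?_, fun j l hjl hl => ?_, h.ne, top⟩
  · rcases eq_or_ne j i with rfl | hj'
    · simpa using hA
    · simpa [hj'] using h.hA j hj
  · rcases eq_or_ne j i with rfl | hj'
    · rcases eq_or_ne l j with rfl | hl'
      · exact Subgroup.le_normalizer
      · simpa [hl'] using hQ l (by omega) hl
    · simpa [hj'] using (e l).trans (h.nn j l hjl hl)

variable [Finite G]

theorem Tow.exists_min (h : Tow H A ⊥ m Q p) : ∃ Q, Tow H A ⊥ m Q p ∧ ∀ i ≤ m, ∀ Z ≤ Q i,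
    A ≤ 𝐍(Z) → (∀ j, i < j → j ≤ m → Q j ≤ 𝐍(Z)) → ¬ Q i ≤ Z →
      Function.update Q i Z m ≤ towK (Function.update Q i Z) ⊥ m := by
  obtain ⟨Q, hQ, hmin⟩ := exists_minimalFor_of_wellFoundedLT (fun Q => Tow H A ⊥ m Q p)
    (fun Q => ∑ i ∈ Finset.range (m + 1), Nat.card (Q i)) ⟨Q, h⟩
  refine ⟨Q, hQ, fun i hi Z hZ hA hn hne => by_contra fun e => ?_⟩
  have h1 : ∑ j ∈ Finset.range (m + 1), Nat.card (Function.update Q i Z j) <
      ∑ j ∈ Finset.range (m + 1), Nat.card (Q j) := by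
    refine Finset.sum_lt_sum (fun j _ => ?_) ⟨i, Finset.mem_range.2 (by omega), ?_⟩
    · rcases eq_or_ne j i with rfl | hj
      · simpa using Subgroup.card_le_of_le hZ
      · simp [hj]
    · rw [Function.update_self]
      exact (Subgroup.card_le_of_le hZ).lt_of_ne fun e' =>
        hne (Subgroup.eq_of_le_of_card_ge hZ e'.ge).ge
  exact h1.not_ge (hmin (hQ.update hi hZ hA hn e) h1.le)

theorem Tow.norm_towK (h : Tow H A ⊥ m Q p) {i j : ℕ} (hij : i ≤ j + 1) (hj : j ≤ m) :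
    Q j ≤ 𝐍(towK Q ⊥ i) :=
  le_norm_towK i Subgroup.le_normalizer_of_normal fun l hl => h.nn l j (by omega) hj

theorem Tow.normA (h : Tow H A ⊥ m Q p) {i : ℕ} (hi : i ≤ m) : A ≤ 𝐍(towK Q ⊥ i) :=
  le_norm_towK i Subgroup.le_normalizer_of_normal fun l hl => h.hA l (by omega)

omit [Finite G] in
theorem Tow.not_le (h : Tow H A ⊥ m Q p) {i : ℕ} (hi : i ≤ m) : ¬ Q i ≤ towK Q ⊥ i := by
  induction hi using Nat.decreasingInduction with
  | self => exact h.top
  | of_succ j hj ih => exact fun e => ih fun x hx =>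
      ⟨h.nn j (j + 1) j.le_succ hj hx, fun y hy =>
        e (comm_mem_of_norm (h.nn j (j + 1) j.le_succ hj hx) hy)⟩

theorem Tow.cop (h : Tow H A ⊥ m Q p) {i : ℕ} (hi : i < m) :
    (Nat.card (Q (i + 1))).Coprime (Nat.card (Q i)) :=
  have := Fact.mk (h.prime i hi.le)
  have := Fact.mk (h.prime (i + 1) hi)
  IsPGroup.coprime_card_of_ne _ _ (h.ne i hi) _ _ (h.pG _ hi) (h.pG i hi.le)

theorem Tow.comm (h : Tow H A ⊥ m Q p) (hmin : ∀ i ≤ m, ∀ Z ≤ Q i,
    A ≤ 𝐍(Z) → (∀ j, i < j → j ≤ m → Q j ≤ 𝐍(Z)) → ¬ Q i ≤ Z →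
      Function.update Q i Z m ≤ towK (Function.update Q i Z) ⊥ m) {i : ℕ} (hi : i < m) :
    Q i ≤ ⁅Q i, Q (i + 1)⁆ := by
  by_contra e
  have hn := h.nn i (i + 1) i.le_succ hi
  have h1 := hmin i hi.le _ (CopAct.commutator_le_of_le_normalizer hn)
    (CopAct.le_normalizer_commutator (h.hA i hi.le) (h.hA _ hi))
    (fun j h1 h2 => CopAct.le_normalizer_commutator (h.nn i j h1.le h2) (h.nn _ j h1 h2)) e
  have h2 : ∀ j, i + 1 ≤ j → Q j ⊓ towK (Function.update Q i ⁅Q i, Q (i + 1)⁆) ⊥ j ≤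
      towK Q ⊥ j := fun j hj => by
    induction hj with
    | refl =>
      rintro x ⟨hx, hx'⟩
      rw [towK, Function.update_self, towK_congr i fun l hl => Function.update_of_ne hl.ne ..]
        at hx'
      have hB : Subgroup.zpowers x ≤ Q (i + 1) := Subgroup.zpowers_le.2 hx
      refine le_cent2_of_comm_le (hB.trans hn) ?_ (Subgroup.mem_zpowers x)
      rw [← CopAct.commutator_commutator_eq (hB.trans hn)
        (CopAct.coprime_mono (h.cop hi) hB le_rfl)]
      exact (Subgroup.commutator_mono (Subgroup.commutator_mono le_rfl hB) le_rfl).trans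
        (Subgroup.commutator_le.2 fun y hy b hb =>
          comm_mem_symm ((Subgroup.zpowers_le.2 hx' hb).2 y hy))
    | @step j hj ih =>
      rintro x ⟨-, hx'⟩
      rw [towK, Function.update_of_ne (show j ≠ i from (Nat.lt_of_succ_le hj).ne')] at hx'
      exact ⟨hx'.1, fun y hy => ih ⟨comm_mem_of_norm hx'.1 hy, hx'.2 y hy⟩⟩
  rw [Function.update_of_ne hi.ne'] at h1
  exact h.top ((le_inf le_rfl h1).trans (h2 m hi))

theorem Tow.exists_good (h : Tow H A ⊥ m Q p) (hc : (Nat.card A).Coprime (Nat.card H)) :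
    ∃ Q F, GTow H A m Q F p := by
  obtain ⟨Q, h, hmin⟩ := h.exists_min
  have hcomm := fun i (hi : i < m) => h.comm hmin hi
  let F : ℕ → Subgroup G := fun i =>
    Q i ⊓ if i < m then cent3 (Q (i + 1)) (towK Q ⊥ i) else towK Q ⊥ i
  have f1 : ∀ i < m, ∀ x, x ∈ F i ↔ x ∈ Q i ∧ ∀ y ∈ Q (i + 1), ⁅x, y⁆ ∈ towK Q ⊥ i :=
    fun i hi x => by
      simp only [F, if_pos hi]
      exact mem_inf_cent3 (h.norm_towK i.le_succ hi.le)
  have f2 : F m = Q m ⊓ towK Q ⊥ m := by simp [F]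
  have f3 : ∀ i, F i ≤ Q i := fun i => inf_le_left
  have f4 : ∀ i < m, ⁅F i, Q (i + 1)⁆ ≤ towK Q ⊥ i := fun i hi =>
    Subgroup.commutator_le.2 fun x hx => ((f1 i hi x).1 hx).2
  have lt : ∀ i ≤ m, ¬ Q i ≤ F i := fun i hi e => h.not_le hi (by
    rcases hi.lt_or_eq with hi | rfl
    · exact (hcomm i hi).trans ((Subgroup.commutator_mono e le_rfl).trans (f4 i hi))
    · exact e.trans (f2.le.trans inf_le_right))
  have max : ∀ i ≤ m, ∀ Z ≤ Q i, A ≤ 𝐍(Z) → (∀ j, i < j → j ≤ m → Q j ≤ 𝐍(Z)) → ¬ Q i ≤ Z →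
      Z ≤ F i := fun i hi Z hZ hA hn hne => by
    have h1 := hmin i hi Z hZ hA hn hne
    have h2 := towK_congr (M := ⊥) (Q := Q) (Q' := Function.update Q i Z) i
      fun l hl => Function.update_of_ne hl.ne ..
    rcases hi.lt_or_eq with hi | rfl
    · have h3 : ∀ j ≤ m, i < j → Q j ≤ towK (Function.update Q i Z) ⊥ j := fun j hj => by
        induction hj using Nat.decreasingInduction with
        | self => exact fun _ => by rwa [Function.update_of_ne hi.ne'] at h1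
        | of_succ j hj ih =>
          intro hij
          have h4 := ih (by omega)
          rw [towK, Function.update_of_ne hij.ne'] at h4
          exact (hcomm j hj).trans
            (Subgroup.commutator_le.2 fun x hx y hy => comm_mem_symm ((h4 hy).2 x hx))
      have h4 := h3 (i + 1) hi i.lt_succ_self
      rw [towK, Function.update_self, h2] at h4
      exact fun x hx => (f1 i hi x).2 ⟨hZ hx, fun y hy => comm_mem_symm ((h4 hy).2 x hx)⟩
    · rw [Function.update_self, h2] at h1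
      exact f2 ▸ le_inf hZ h1
  have nF : ∀ i ≤ m, ∀ B : Subgroup G, B ≤ 𝐍(Q i) → (i < m → B ≤ 𝐍(Q (i + 1))) →
      B ≤ 𝐍(towK Q ⊥ i) → B ≤ 𝐍(F i) := fun i hi B h1 h2 h3 => by
    rcases hi.lt_or_eq with hi | rfl
    · refine le_norm_of_conj_mem fun b hb x hx => (f1 i hi _).2
        ⟨CopAct.conj_mem h1 hb (f3 i hx), fun y hy => ?_⟩
      convert CopAct.conj_mem h3 hb (((f1 i hi x).1 hx).2 _ (CopAct.conj_mem' (h2 hi) hb hy))
        using 1
      simp only [commutatorElement_def]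
      group
    · exact f2 ▸ CopAct.le_normalizer_inf h1 h3
  have fr : ∀ i ≤ m, (frattini (Q i)).map (Q i).subtype ≤ F i := fun i hi =>
    max i hi _ (Subgroup.map_subtype_le _)
      (CopAct.le_normalizer_map_subtype_of_characteristic (h.hA i hi) _)
      (fun j h1 h2 => CopAct.le_normalizer_map_subtype_of_characteristic (h.nn i j h1.le h2) _)
      fun e => by
        have := (Subgroup.nontrivial_iff_ne_bot (Q i)).2 fun e' => lt i hi (e' ▸ bot_le)
        refine PG.frattini_ne_top (G := Q i) (eq_top_iff.2 fun x _ => ?_)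
        obtain ⟨y, hy, e'⟩ := e x.2
        rwa [← show y = x from Subtype.ext e']
  have der : ∀ i ≤ m, ⁅Q i, Q i⁆ ≤ F i := fun i hi => by
    have := Fact.mk (h.prime i hi)
    have := (h.pG i hi).isNilpotent
    exact (commutator_self_le_map_frattini (Q i)).trans (fr i hi)
  have nn : ∀ i j, i ≤ j → j ≤ m → Q j ≤ 𝐍(F i) := fun i j hij hj => by
    rcases hij.lt_or_eq with hij | rfl
    · exact nF i (by omega) _ (h.nn i j hij.le hj) (fun _ => h.nn _ j hij hj)
        (h.norm_towK (by omega) hj)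
    · exact norm_of_der (f3 i) (der i hj)
  have tk : ∀ i < m, towK Q ⊥ (i + 1) ≤ cent2 (Q i) (F i) := fun i hi x hx =>
    ⟨hx.1, fun y hy => max i hi.le (Q i ⊓ towK Q ⊥ i) inf_le_left
      (CopAct.le_normalizer_inf (h.hA i hi.le) (h.normA hi.le))
      (fun j h1 h2 => CopAct.le_normalizer_inf (h.nn i j h1.le h2) (h.norm_towK (by omega) h2))
      (fun e => h.not_le hi.le (e.trans inf_le_right)) ⟨comm_mem_of_norm hx.1 hy, hx.2 y hy⟩⟩
  refine ⟨Q, F, h.le, h.prime, fun i hi => ⟨h.pG i hi, f3 i, der i hi, fun x hx => ?_, h.hA i hi,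
    nF i hi A (h.hA i hi) (fun hi' => h.hA _ hi') (h.normA hi), ?_⟩,
    fun i j hij hj => le_inf (h.nn i j hij hj) (nn i j hij hj), h.ne, fun i hi => ?_,
    fun i hi => le_trans ?_ (tk i hi), fun i hi => (f4 _ hi).trans (tk i (by omega)), hcomm, lt,
    max⟩
  · have := Fact.mk (h.prime i hi)
    exact fr i hi ⟨⟨x, hx⟩ ^ p i, PG.pow_mem_frattini (h.pG i hi) _, rfl⟩
  · have := Fact.mk (h.prime i hi)
    obtain ⟨n, hn⟩ := (h.pG i hi).exists_card_eq
    have h1 := CopAct.coprime_mono hc le_rfl (h.le i hi)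
    refine h1.coprime_dvd_right (hn ▸ dvd_pow_self _ fun e => lt i hi ?_)
    rw [e, pow_zero, Subgroup.card_eq_one] at hn
    exact hn ▸ bot_le
  · subst hi
    exact (f2.le.trans inf_le_right).trans (tk i i.lt_succ_self)
  · have hT := h.norm_towK (i := i + 1) (j := i + 1) (by omega) hi
    rcases (show i + 1 ≤ m from hi).lt_or_eq with hi' | rfl
    · rw [Subgroup.commutator_comm]
      refine (Subgroup.commutator_mono (hcomm _ hi') le_rfl).trans
        (three_subgroups_of_le_normalizer hT (h.norm_towK (by omega) hi') ((f3 _).trans hT)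
          ((Subgroup.commutator_mono ((Subgroup.commutator_comm _ _).trans_le (f4 _ hi')) le_rfl).trans
            (CopAct.commutator_le_of_le_normalizer hT))
          ((Subgroup.commutator_mono (CopAct.commutator_le_of_le_normalizer
            (nn _ _ le_rfl hi)) le_rfl).trans (f4 _ hi')))
    · exact (Subgroup.commutator_mono (f2.le.trans inf_le_right) le_rfl).trans
        (CopAct.commutator_le_of_le_normalizer hT)

theorem GTow.tri (h : GTow H A m Q F p) (hA : (Nat.card A).Prime) {i : ℕ} (hi : i + 2 ≤ m) :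
    Tri (p (i + 2)) (p (i + 1)) (p i) (Q (i + 2)) (F (i + 2)) (Q (i + 1)) (F (i + 1)) (Q i) (F i)
      A := by
  have hn := fun j (h1 : i ≤ j) (h2 : j ≤ m) => le_norm_cent2
    ((h.nn i j h1 h2).trans inf_le_left) ((h.nn i j h1 h2).trans inf_le_right)
  refine ⟨hA, h.sec _ hi, h.sec _ (by omega), h.sec _ (by omega), h.ne _ hi, h.ne _ (by omega),
    h.nn _ _ (by omega) hi, h.nn _ _ (by omega) hi, h.nn _ _ (by omega) (by omega), h.c1 _ hi,
    h.c1 _ (by omega), h.c2 _ hi, h.max _ (by omega) _ inf_le_left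
      (CopAct.le_normalizer_inf (h.sec _ (by omega)).hAP
        (le_norm_cent2 (h.sec _ (by omega)).hAP (h.sec _ (by omega)).hAF))
      (fun j h1 h2 => CopAct.le_normalizer_inf ((h.nn _ j h1.le h2).trans inf_le_left)
        (hn j (by omega) h2)) fun e => h.lt i (by omega) ((h.comm i (by omega)).trans ?_)⟩
  exact Subgroup.commutator_le.2 fun x hx y hy => comm_mem_symm ((e hy).2.2 x hx)

theorem comm_le_iterRes {C D : Subgroup G} {a : ℕ} (hZ : Z ≤ C) (hD : D ≤ iterRes a C) :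
    ⁅Z, D⁆ ≤ iterRes a C := by
  rw [Subgroup.commutator_comm]
  exact (Subgroup.commutator_mono hD le_rfl).trans
    (CopAct.commutator_le_of_le_normalizer (hZ.trans (le_normalizer_iterRes a C)))

theorem GTow.chain (h : GTow H A m Q F p) (hA : (Nat.card A).Prime) (i : ℕ) : ∀ (a : ℕ)
    (D : Subgroup G), i < m → D ≤ Q (i + 1) ⊓ 𝐂(A) → D ≤ iterRes a (H ⊓ 𝐂(A)) →
    iterRes (a + i + 1) (H ⊓ 𝐂(A)) = ⊥ → TStar (Q i) (F i) (Q (i + 1)) A D := by
  have key : ∀ i a D, i < m → D ≤ Q (i + 1) ⊓ 𝐂(A) → D ≤ iterRes a (H ⊓ 𝐂(A)) →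
      ⁅⁅Q i, ⁅Q (i + 1), A⁆⁆ ⊓ 𝐂(A), D⁆ ≤ (Q i ⊓ 𝐂(A)) ⊓ iterRes (a + 1) (H ⊓ 𝐂(A)) := by
    intro i a D hi hD hD'
    have := Fact.mk (h.prime i hi.le)
    have := Fact.mk (h.prime (i + 1) hi)
    have hn := (h.nn i (i + 1) i.le_succ hi).trans inf_le_left
    have h1 : ⁅Q i, ⁅Q (i + 1), A⁆⁆ ⊓ 𝐂(A) ≤ Q i ⊓ 𝐂(A) := inf_le_inf_right _
      (CopAct.commutator_le_of_le_normalizer
        ((CopAct.commutator_le_of_le_normalizer (h.sec _ hi).hAP).trans hn))
    have h2 : D ≤ 𝐍(⁅Q i, ⁅Q (i + 1), A⁆⁆ ⊓ 𝐂(A)) := CopAct.le_normalizer_inf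
      ((hD.trans inf_le_left).trans (CopAct.le_normalizer_commutator hn
        (Subgroup.normalizer_commutator_ge_left ..)))
      ((hD.trans inf_le_right).trans Subgroup.le_normalizer)
    exact le_inf ((CopAct.commutator_le_of_le_normalizer h2).trans h1) (le_nilRes
      (comm_le_iterRes (h1.trans (inf_le_inf_right _ (h.le i hi.le))) hD') hD'
      (CopAct.commutator_commutator_eq h2 (CopAct.coprime_mono (IsPGroup.coprime_card_of_ne _ _
        (h.ne i hi) _ _ (h.sec _ hi).pP (h.sec i hi.le).pP) (hD.trans inf_le_left)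
        (h1.trans inf_le_left))).ge)
  induction i with
  | zero =>
    exact fun a D hi hD hD' e => ((key 0 a D hi hD hD').trans inf_le_right).trans (e ▸ bot_le)
  | succ i ih =>
    intro a D hi hD hD' e
    have := Fact.mk (h.prime i (by omega))
    have := Fact.mk (h.prime (i + 1) hi.le)
    have := Fact.mk (h.prime (i + 2) hi)
    have h1 := key (i + 1) a D hi hD hD'
    exact (h.tri hA hi).step hD (ih (a + 1) _ (by omega) (h1.trans inf_le_left)
      (h1.trans inf_le_right) (by rw [← e]; congr 1; omega))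

theorem GTow.le_iterRes (h : GTow H A m Q F p) (a : ℕ) : ∀ j, j + a = m →
    (∀ l, j ≤ l → l ≤ m → Q l ≤ 𝐂(A)) → Q j ≤ iterRes a (H ⊓ 𝐂(A)) := by
  induction a with
  | zero => exact fun j hj hc => le_inf (h.le j (by omega)) (hc j le_rfl (by omega))
  | succ a ih =>
    intro j hj hc
    have h1 := ih (j + 1) (by omega) fun l h1 h2 => hc l (by omega) h2
    have h2 := h.comm j (by omega)
    exact le_nilRes (h2.trans (comm_le_iterRes
      (le_inf (h.le j (by omega)) (hc j le_rfl (by omega))) h1)) h1 h2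

theorem GTow.false {e : ℕ} (h : GTow H A (e + 2) Q F p) (hA : (Nat.card A).Prime)
    (h0 : iterRes e (H ⊓ 𝐂(A)) = ⊥) : False := by
  classical
  have h0' : ∀ n, e ≤ n → iterRes n (H ⊓ 𝐂(A)) = ⊥ := fun n hn =>
    le_bot_iff.1 ((iterRes_anti hn).trans h0.le)
  by_cases hall : ∀ l, 2 ≤ l → l ≤ e + 2 → Q l ≤ 𝐂(A)
  · exact h.lt 2 (by omega) ((h.le_iterRes e 2 (by omega) hall).trans (h0 ▸ bot_le))
  push Not at hall
  obtain ⟨l, hl, hl', hl''⟩ := hall
  have k1 := Nat.findGreatest_spec (P := fun l => ¬ Q l ≤ 𝐂(A)) hl' hl''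
  have k2 := Nat.le_findGreatest (P := fun l => ¬ Q l ≤ 𝐂(A)) hl' hl''
  have k3 := Nat.findGreatest_le (P := fun l => ¬ Q l ≤ 𝐂(A)) (e + 2)
  have k4 : ∀ j, Nat.findGreatest (fun l => ¬ Q l ≤ 𝐂(A)) (e + 2) < j → j ≤ e + 2 → Q j ≤ 𝐂(A) :=
    fun j h1 h2 => not_not.1 (Nat.findGreatest_is_greatest h1 h2)
  obtain ⟨i, hi⟩ := Nat.exists_eq_add_of_le' (hl.trans k2)
  rw [hi] at k1 k3 k4
  have := Fact.mk (h.prime i (by omega))
  have := Fact.mk (h.prime (i + 1) (by omega))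
  have := Fact.mk (h.prime (i + 2) k3)
  have T := h.tri hA k3
  have nL := fun j (h1 : i + 2 < j) (h2 : j ≤ e + 2) => (h.nn _ j h1.le h2).trans inf_le_left
  have hLA := CopAct.commutator_le_of_le_normalizer T.sL.hAP
  have LA : Q (i + 2) ≤ ⁅Q (i + 2), A⁆ := by
    by_contra e'
    refine h.lt _ k3 fun x hx => ?_
    obtain ⟨c, hc, z, hz, rfl⟩ := CopAct.exists_eq_centralizer_mul_commutator T.sL.hAP T.sL.copA
      (Or.inr T.sL.sol) hx
    exact mul_mem (h.max _ k3 _ inf_le_left (CopAct.le_normalizer_inf T.sL.hAP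
      (CopAct.le_normalizer_centralizer Subgroup.le_normalizer)) (fun j h1 h2 =>
        CopAct.le_normalizer_inf (nL j h1 h2) ((k4 j h1 h2).trans Subgroup.le_normalizer))
      (fun e => k1 (e.trans inf_le_right)) hc)
      (h.max _ k3 _ hLA (CopAct.le_normalizer_commutator T.sL.hAP Subgroup.le_normalizer)
        (fun j h1 h2 => CopAct.le_normalizer_commutator (nL j h1 h2)
          ((k4 j h1 h2).trans (Subgroup.centralizer_le_normalizer _))) e' hz)
  have D : Duo (p (i + 2)) (p (i + 1)) (Q (i + 2)) (F (i + 2)) (Q (i + 1)) (F (i + 1)) A :=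
    ⟨hA, T.sL, T.sP, T.tp, T.LP, T.cL, LA, h.comm _ k3, h.lt _ (by omega)⟩
  have eP : ⁅Q (i + 1), ⁅Q (i + 2), A⁆⁆ = Q (i + 1) := by
    rw [le_antisymm hLA LA]
    exact le_antisymm (CopAct.commutator_le_of_le_normalizer (T.LP.trans inf_le_left)) D.PL
  have cP : Q (i + 1) ⊓ 𝐂(A) ≤ H ⊓ 𝐂(A) := inf_le_inf_right _ (h.le _ (by omega))
  have cL : Q (i + 2) ⊓ 𝐂(A) ≤ H ⊓ 𝐂(A) := inf_le_inf_right _ (h.le _ k3)
  rcases k3.lt_or_eq with k5 | k5
  swap
  · refine D.zero (h.c0 _ k5) ?_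
    have := T.zero (h.chain hA i 0 _ (by omega) (by rw [eP]) (by rw [eP]; exact cP)
      (h0' _ (by omega)))
    rwa [eP] at this
  have := Fact.mk (h.prime (i + 3) k5)
  obtain ⟨a, ha⟩ := Nat.exists_eq_add_of_le (show i + 3 ≤ e + 2 from k5)
  have hDA := k4 (i + 3) (by omega) k5
  have hDL := h.nn (i + 2) (i + 3) (by omega) k5
  have hDP := h.nn (i + 1) (i + 3) (by omega) k5
  have t1 := T.top hDA (hDL.trans inf_le_left) hDP (h.sec _ k5).copA.symm (h.comm _ k5) LA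
    (hDL.trans inf_le_right) (h.c2 _ k5) (h.chain hA i a _ (by omega)
      (by rw [eP]; exact comm_cent_le (hDP.trans inf_le_left) hDA)
      (by rw [eP]; exact comm_le_iterRes cP (h.le_iterRes a _ ha.symm fun l h1 h2 =>
        k4 l (by omega) h2)) (h0' _ (by omega)))
  rw [TStar, eP] at t1
  have b := D.bas (h.sec _ k5).pP (h.ne _ k5) (h.sec _ k5).cop hDA hDL hDP (h.c2 _ k5)
    (h.comm _ k5) t1
  rcases a with _ | a
  · refine D.one (h.sec _ k5).pP b ?_
    have := h.chain hA (i + 1) 0 _ (by omega) le_rfl cL (h0' _ (by omega))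
    rwa [TStar, eP] at this
  · have k6 : i + 4 ≤ e + 2 := by omega
    have hBA := k4 (i + 4) (by omega) k6
    have hBL := h.nn (i + 2) (i + 4) (by omega) k6
    refine D.two (h.sec _ k5).pP b hBA ((h.nn (i + 3) (i + 4) (by omega) k6).trans inf_le_left) hBL
      (h.nn (i + 1) (i + 4) (by omega) k6) (h.comm _ k6) ?_
    have := h.chain hA (i + 1) a _ (by omega) (comm_cent_le (hBL.trans inf_le_left) hBA)
      (comm_le_iterRes cL (h.le_iterRes a _ (by omega) fun l h1 h2 => k4 l (by omega) h2))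
      (h0' _ (by omega))
    rwa [TStar, eP] at this

theorem iterRes_add_two_eq_bot (hs : Group.IsSolvable H) (hA : (Nat.card A).Prime)
    (hc : (Nat.card A).Coprime (Nat.card H)) (hAH : A ≤ 𝐍(H)) {n : ℕ}
    (h : iterRes n (H ⊓ 𝐂(A)) = ⊥) : iterRes (n + 2) H = ⊥ := by
  classical
  by_contra hne
  have hex := exists_iterRes_eq_bot hs
  have h1 : n + 3 ≤ Nat.find hex := by
    by_contra e
    exact hne (le_bot_iff.1 ((iterRes_anti (by omega)).trans (Nat.find_spec hex).le))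
  obtain ⟨e, he⟩ := Nat.exists_eq_add_of_le' (show 3 ≤ Nat.find hex by omega)
  obtain ⟨Q, p, hT⟩ := exists_tow_bot (m := e + 2) hs hc hAH (he ▸ Nat.find_spec hex)
    (Nat.find_min hex (by omega))
  obtain ⟨Q, F, hG⟩ := hT.exists_good hc
  exact hG.false hA (le_bot_iff.1 ((iterRes_anti (by omega)).trans h.le))

end Cfsg.Agent.Loc.H78
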