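import Mathlib
import Cfsg.Agent.Cl.PSL2Dickson
import Cfsg.Agent.Cl.PSL2Solv

/-!
Points of the projective line fixed by elements of large order of a `p'`-subgroup of `PGL₂`.
-/

set_option autoImplicit false

namespace Cfsg.Agent.Loc.H78

open Cfsg.Agent.Cl.L2 Matrix
open scoped MatrixGroups

theorem perm_four_pow : ∀ g : Equiv.Perm (Fin 4), g ^ 3 = 1 ∨ g ^ 4 = 1 := by decide +kernel

theorem perm_four_even : ∀ g : Equiv.Perm (Fin 4), Equiv.Perm.sign g = 1 →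
    g ^ 3 = 1 ∨ g ^ 2 = 1 := by decide +kernel

theorem perm_five_even : ∀ g : Equiv.Perm (Fin 5), Equiv.Perm.sign g = 1 →
    g ^ 3 = 1 ∨ g ^ 2 = 1 ∨ g ^ 5 = 1 := by decide +kernel

theorem perm_four_count :
    (Finset.univ.filter fun g : Equiv.Perm (Fin 4) => g ^ 3 ≠ 1 ∧ g ^ 2 ≠ 1).card = 6 := by
  decide +kernel

theorem orderOf_alt_four (g : alternatingGroup (Fin 4)) : orderOf g ∣ 3 ∨ orderOf g ∣ 2 := by
  simp only [orderOf_dvd_iff_pow_eq_one, Subtype.ext_iff]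
  exact perm_four_even g (Equiv.Perm.mem_alternatingGroup.1 g.2)

theorem orderOf_alt_five (g : alternatingGroup (Fin 5)) :
    orderOf g ∣ 3 ∨ orderOf g ∣ 2 ∨ orderOf g ∣ 5 := by
  simp only [orderOf_dvd_iff_pow_eq_one, Subtype.ext_iff]
  exact perm_five_even g (Equiv.Perm.mem_alternatingGroup.1 g.2)

variable {F : Type*} [Field F] [Finite F] (p : ℕ) [Fact p.Prime] [CharP F p]

theorem card_le_two_or_small (H : Subgroup PGL(2, F)) [Finite H] (hH : ¬ p ∣ Nat.card H)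
    (S : Finset (P1 F)) (hS : ∀ s ∈ S, ∃ h ∈ H, h • s = s ∧ 3 ≤ orderOf h) :
    S.card ≤ 2 ∨ Nonempty (H ≃* alternatingGroup (Fin 4)) ∨ Nonempty (H ≃* Equiv.Perm (Fin 4)) ∨
      Nonempty (H ≃* alternatingGroup (Fin 5)) := by
  have hreg : ∀ h ∈ H, h ≠ 1 → tau h ≠ 4 := fun h hh h1 ht => by
    obtain ⟨x, hx⟩ := exists_mem_uni ht
    exact hH (orderOf_of_mem_uni p hx h1 ▸ H.orderOf_dvd_natCard hh)
  have key : ∀ g : PGL(2, F), g ≠ 1 → (∀ h ∈ H, 3 ≤ orderOf h → h ∈ tor g) → S.card ≤ 2 :=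
    fun g hg h => card_le_two_of_fix hg S fun s hs => by
      obtain ⟨k, hk, h1, h2⟩ := hS s hs
      refine (smul_eq_iff_of_mem_tor hg (h k hk h2) ?_).1 h1
      rintro rfl
      simp at h2
  rcases dickson_regular H hreg with ⟨x, hx⟩ | ⟨g, -, hg, hle⟩ | h
  · left
    rcases S.eq_empty_or_nonempty with rfl | ⟨s, hs⟩
    · simp
    obtain ⟨g, hg, -, h2⟩ := hS s hs
    have hg1 : g ≠ 1 := by rintro rfl; simp at h2
    refine key g hg1 fun h hh _ => ?_
    have h3 : h * g * h⁻¹ * g⁻¹ = 1 := by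
      by_contra h4
      exact hreg _ (mul_mem (mul_mem (mul_mem hh hg) (inv_mem hh)) (inv_mem hg)) h4
        (commutator_mem_uni (hx h hh) (hx g hg)).2
    rcases mem_tor_or_of_comm (g := g) (c := h) (by
      rw [mul_inv_eq_one, mul_inv_eq_iff_eq_mul] at h3; exact h3) with h5 | ⟨h5, -⟩
    · exact h5
    · have := orderOf_le_of_pow_eq_one (x := g) two_pos (by rw [sq]; exact mul_self_eq_one_of_tau h5)
      omega
  · exact Or.inl (key g (ne_one_of_tau hg) fun h hh h3 =>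
      mem_tor_of_orderOf hg (hle hh) (by omega))
  · exact Or.inr h

theorem card_le_two_of_six (H : Subgroup PGL(2, F)) [Finite H] (hH : ¬ p ∣ Nat.card H)
    (S : Finset (P1 F)) (hS : ∀ s ∈ S, ∃ h ∈ H, h • s = s ∧ 6 ≤ orderOf h) : S.card ≤ 2 := by
  rcases S.eq_empty_or_nonempty with rfl | ⟨s, hs⟩
  · simp
  obtain ⟨h, hh, -, h6⟩ := hS s hs
  rw [← Subgroup.orderOf_mk h hh] at h6
  rcases card_le_two_or_small p H hH S (fun s hs => (hS s hs).imp fun h h1 =>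
    ⟨h1.1, h1.2.1, by omega⟩) with h1 | ⟨⟨e⟩⟩ | ⟨⟨e⟩⟩ | ⟨⟨e⟩⟩
  · exact h1
  all_goals rw [← e.orderOf_eq] at h6
  · rcases orderOf_alt_four (e ⟨h, hh⟩) with h2 | h2 <;>
      have := Nat.le_of_dvd (by norm_num) h2 <;> omega
  · rcases perm_four_pow (e ⟨h, hh⟩) with h2 | h2 <;>
      have := orderOf_le_of_pow_eq_one (by norm_num) h2 <;> omega
  · rcases orderOf_alt_five (e ⟨h, hh⟩) with h2 | h2 | h2 <;>
      have := Nat.le_of_dvd (by norm_num) h2 <;> omega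

theorem card_le_twelve_of_four (H : Subgroup PGL(2, F)) [Finite H] (hH : ¬ p ∣ Nat.card H)
    (S : Finset (P1 F)) (hS : ∀ s ∈ S, ∃ h ∈ H, h • s = s ∧ 4 ∣ orderOf h) : S.card ≤ 12 := by
  classical
  rcases S.eq_empty_or_nonempty with rfl | ⟨s, hs⟩
  · simp
  obtain ⟨h, hh, -, h6⟩ := hS s hs
  rw [← Subgroup.orderOf_mk h hh] at h6
  rcases card_le_two_or_small p H hH S (fun s hs => (hS s hs).imp fun h h1 =>
    ⟨h1.1, h1.2.1, by
      have := Nat.le_of_dvd (Subgroup.orderOf_mk h h1.1 ▸ orderOf_pos _) h1.2.2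
      omega⟩) with h1 | ⟨⟨e⟩⟩ | ⟨⟨e⟩⟩ | ⟨⟨e⟩⟩
  · omega
  · rw [← e.orderOf_eq] at h6
    rcases orderOf_alt_four (e ⟨h, hh⟩) with h2 | h2 <;> have := h6.trans h2 <;> omega
  · let T := Finset.univ.filter fun g : Equiv.Perm (Fin 4) => g ^ 3 ≠ 1 ∧ g ^ 2 ≠ 1
    have h1 : S ⊆ T.biUnion fun g => S.filter fun s => (e.symm g : PGL(2, F)) • s = s := by
      intro s hs
      obtain ⟨k, hk, h2, h3⟩ := hS s hs
      rw [← Subgroup.orderOf_mk k hk, ← e.orderOf_eq] at h3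
      refine Finset.mem_biUnion.2 ⟨e ⟨k, hk⟩, Finset.mem_filter.2 ⟨Finset.mem_univ _, ?_, ?_⟩,
        Finset.mem_filter.2 ⟨hs, by simpa using h2⟩⟩ <;> intro h4 <;>
        have := h3.trans (orderOf_dvd_of_pow_eq_one h4) <;> omega
    refine (Finset.card_le_card h1).trans ((Finset.card_biUnion_le_card_mul T _ 2 ?_).trans ?_)
    · intro g hg
      refine card_le_two_of_fix (g := (e.symm g : PGL(2, F))) ?_ _
        fun w hw => (Finset.mem_filter.1 hw).2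
      intro h2
      have : g = 1 := by simpa using h2
      exact (Finset.mem_filter.1 hg).2.1 (by rw [this, one_pow])
    · rw [perm_four_count]
  · rw [← e.orderOf_eq] at h6
    rcases orderOf_alt_five (e ⟨h, hh⟩) with h2 | h2 | h2 <;> have := h6.trans h2 <;> omega

end Cfsg.Agent.Loc.H78
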