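import Mathlib
import Cfsg.Agent.Loc.XP3Pgl
import Cfsg.Agent.Loc.FpfRep
import Cfsg.Agent.GT.PGroupExtraspecial
import Cfsg.Agent.GT.TransferSylow
import Cfsg.Agent.GT.CoprimeAct
import Cfsg.Agent.FG.H93CycMod

/-!
Planes with `SL₂(p)` automizer in an extraspecial Sylow subgroup of order `p ^ 3`.
-/

set_option autoImplicit false

namespace Cfsg.Agent.Loc.H78

open Cfsg Cfsg.Agent.FT Cfsg.Agent.GT Cfsg.Agent.GT.PG Cfsg.Agent.Cl.L2 Matrix
open scoped commutatorElement MatrixGroups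

variable {G : Type*} [Group G] {p : ℕ} [hp : Fact p.Prime]

/-- Powers with exponent in `ZMod p`. -/
def zp (x : G) (i : ZMod p) : G := x ^ i.val

theorem zp_add {x : G} (hx : x ^ p = 1) (i j : ZMod p) : zp x (i + j) = zp x i * zp x j := by
  rw [zp, zp, zp, ZMod.val_add, ← pow_eq_pow_mod _ hx, pow_add]

theorem zp_mul {x : G} (hx : x ^ p = 1) (i j : ZMod p) : zp x (i * j) = zp (zp x i) j := by
  rw [zp, zp, zp, ZMod.val_mul, ← pow_eq_pow_mod _ hx, pow_mul]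

theorem zp_zero (x : G) : zp x (0 : ZMod p) = 1 := by simp [zp]

theorem zp_one (x : G) : zp x (1 : ZMod p) = x := by simp [zp, ZMod.val_one]

theorem zp_neg_one {x : G} (hx : x ^ p = 1) : zp x (-1 : ZMod p) = x⁻¹ := by
  rw [eq_inv_iff_mul_eq_one]
  conv_lhs => enter [2]; rw [← zp_one (p := p) x]
  rw [← zp_add hx, neg_add_cancel, zp_zero]

omit hp in
theorem conj_zp (g x : G) (i : ZMod p) : g * zp x i * g⁻¹ = zp (g * x * g⁻¹) i := by
  rw [zp, zp, conj_pow]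

omit hp in
theorem mul_zp {x y : G} (h : Commute x y) (i : ZMod p) : zp (x * y) i = zp x i * zp y i :=
  h.mul_pow _

omit hp in
theorem zp_mem {x : G} {H : Subgroup G} (h : x ∈ H) (i : ZMod p) : zp x i ∈ H := pow_mem h _

theorem zp_injective {x : G} (hx : orderOf x = p) : Function.Injective (zp (p := p) x) :=
  fun i j h => ZMod.val_injective p
    (pow_injOn_Iio_orderOf (hx ▸ i.val_lt) (hx ▸ j.val_lt) h)

/-- The matrix `!![a, b; c, d]` is induced on `⟨x, z⟩` by conjugation. -/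
def Ind (x z : G) (a b c d : ZMod p) : Prop :=
  ∃ g : G, g * x * g⁻¹ = zp x a * zp z c ∧ g * z * g⁻¹ = zp x b * zp z d

section Ind

variable {x z : G} (hx : x ^ p = 1) (hz : z ^ p = 1) (hc : Commute x z)
include hx hz hc

theorem conj_zp_mul_zp {a b c d : ZMod p} {g : G} (h1 : g * x * g⁻¹ = zp x a * zp z c)
    (h2 : g * z * g⁻¹ = zp x b * zp z d) (i j : ZMod p) :
    g * (zp x i * zp z j) * g⁻¹ = zp x (a * i + b * j) * zp z (c * i + d * j) := by
  have hc' : ∀ i j : ZMod p, Commute (zp x i) (zp z j) := fun i j => hc.pow_pow _ _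
  rw [← MulAut.conj_apply, map_mul, MulAut.conj_apply, MulAut.conj_apply, conj_zp, conj_zp, h1, h2,
    mul_zp (hc' _ _), mul_zp (hc' _ _), ← zp_mul hx, ← zp_mul hx, ← zp_mul hz, ← zp_mul hz,
    zp_add hx, zp_add hz, mul_assoc, mul_assoc, ← mul_assoc (zp z _), ← (hc' _ _).eq, mul_assoc]

theorem Ind.mul {a b c d a' b' c' d' : ZMod p} (h : Ind x z a b c d) (h' : Ind x z a' b' c' d') :
    Ind x z (a * a' + b * c') (a * b' + b * d') (c * a' + d * c') (c * b' + d * d') := by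
  obtain ⟨g, h1, h2⟩ := h
  obtain ⟨g', h3, h4⟩ := h'
  refine ⟨g * g', ?_, ?_⟩
  · rw [← conj_zp_mul_zp hx hz hc h1 h2, ← h3]; group
  · rw [← conj_zp_mul_zp hx hz hc h1 h2, ← h4]; group

theorem Ind.up {s : ZMod p} (hs : s ≠ 0) (h : Ind x z 1 s 0 1) (t : ZMod p) : Ind x z 1 t 0 1 := by
  have key : ∀ n : ℕ, Ind x z 1 ((n : ZMod p) * s) 0 1 := by
    intro n
    induction n with
    | zero => exact ⟨1, by simp [zp_zero, zp_one], by simp [zp_zero, zp_one]⟩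
    | succ n ih => convert ih.mul hx hz hc h using 1 <;> push_cast <;> ring
  simpa [hs] using key (t * s⁻¹).val

theorem Ind.lo {s : ZMod p} (hs : s ≠ 0) (h : Ind x z 1 0 s 1) (t : ZMod p) : Ind x z 1 0 t 1 := by
  have key : ∀ n : ℕ, Ind x z 1 0 ((n : ZMod p) * s) 1 := by
    intro n
    induction n with
    | zero => exact ⟨1, by simp [zp_zero, zp_one], by simp [zp_zero, zp_one]⟩
    | succ n ih => convert ih.mul hx hz hc h using 1 <;> push_cast <;> ring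
  simpa [hs] using key (t * s⁻¹).val

theorem Ind.diag {s t : ZMod p} (hs : s ≠ 0) (ht : t ≠ 0) (h : Ind x z 1 s 0 1)
    (h' : Ind x z 1 0 t 1) {l : ZMod p} (hl : l ≠ 0) : Ind x z l 0 0 l⁻¹ := by
  have w : ∀ l : ZMod p, l ≠ 0 → Ind x z 0 l (-l⁻¹) 0 := fun l hl => by
    convert ((h.up hx hz hc hs l).mul hx hz hc (h'.lo hx hz hc ht (-l⁻¹))).mul hx hz hc
      (h.up hx hz hc hs l) using 1 <;> field_simp <;> ring
  convert (w l hl).mul hx hz hc (w (-1) (by simp)) using 1 <;> simp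

end Ind

variable [Finite G] {P : Subgroup G} {z : G}

theorem mem_norm_zpowers {t x : G} (h : t * x * t⁻¹ ∈ Subgroup.zpowers x) :
    t ∈ 𝐍(Subgroup.zpowers x) :=
  Tr.mem_normalizer_of_conj_mem (by
    rintro _ ⟨k, rfl⟩
    rw [← conj_zpow]
    exact zpow_mem h k)

theorem exists_torus (h : ESZ p P z) (hP : ¬ p ∣ P.index) {x : G} (hx : x ∈ P)
    (hxz : x ∉ Subgroup.zpowers z) (hxp : x ^ p = 1) {s : ZMod p} (hs : s ≠ 0)
    (hb : Ind x z 1 s 0 1) {l : ZMod p} (hl : l ≠ 0) :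
    ∃ n ∈ 𝐍(P), (∃ c ∈ Subgroup.zpowers z, n * x * n⁻¹ = c * zp x l) ∧
      n * z * n⁻¹ = zp z l⁻¹ := by
  obtain ⟨y, hy, hxy⟩ := h.exists_commutator_eq hx hxz
  have ha : Ind x z (1 : ZMod p) 0 (-1) 1 := ⟨y, by
    rw [zp_one, zp_neg_one h.z_pow, (h.commute_z hx).inv_right.eq, ← hxy, commutatorElement_def]
    group, by rw [zp_zero, zp_one, (h.commute_z hy).eq]; group⟩
  obtain ⟨t, h1, h2⟩ := hb.diag hxp h.z_pow (h.commute_z hx) hs (by simp) ha hl
  rw [zp_zero, mul_one] at h1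
  rw [zp_zero, one_mul] at h2
  set Z := Subgroup.zpowers z
  have htZ : Subgroup.zpowers t ≤ 𝐍(Z) := Subgroup.zpowers_le.2
    (mem_norm_zpowers (h2 ▸ zp_mem (Subgroup.mem_zpowers z) _))
  have htE : Subgroup.zpowers t ≤ 𝐍(Subgroup.zpowers x ⊔ Z) := CopAct.le_normalizer_sup
    (Subgroup.zpowers_le.2 (mem_norm_zpowers (h1 ▸ zp_mem (Subgroup.mem_zpowers x) _))) htZ
  have hEP : Subgroup.zpowers x ⊔ Z ≤ P := sup_le (Subgroup.zpowers_le.2 hx) h.zpowers_le
  have hPK : P ≤ cent2 (Subgroup.zpowers x ⊔ Z) Z ⊓ 𝐂(Z) := fun u hu =>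
    ⟨⟨h.le_normalizer_of_zpowers_le le_sup_right hEP hu, fun v hv => h.comm_mem u hu v (hEP hv)⟩,
      Subgroup.le_centralizer_iff.1 h.zpowers_le_centralizer hu⟩
  obtain ⟨m, hm, k, hk, rfl⟩ := Tr.frattini_sylowIn h.isPGroup hPK
    (fun hd => hP (hd.trans (Subgroup.relIndex_dvd_index_of_le hPK)))
    (CopAct.le_normalizer_inf (le_norm_cent2 htE htZ) (CopAct.le_normalizer_centralizer htZ)
      (Subgroup.mem_zpowers t))
  refine ⟨k, hk, ⟨⁅m⁻¹, zp x l⁆, (inv_mem hm).1.2 _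
    (Subgroup.mem_sup_left (zp_mem (Subgroup.mem_zpowers x) _)), ?_⟩, ?_⟩
  · rw [commutatorElement_def, ← h1]; group
  · have := hm.2 _ (zp_mem (Subgroup.mem_zpowers z) l⁻¹)
    rw [← mul_inv_eq_iff_eq_mul, ← h2] at this
    calc k * z * k⁻¹ = m⁻¹ * (m * k * z * (m * k)⁻¹) * m := by group
      _ = _ := by rw [h2, mul_assoc, hm.2 _ (zp_mem (Subgroup.mem_zpowers z) l⁻¹)]; group

theorem ind_of_conj (h : ESZ p P z) (hP : ¬ p ∣ P.index) {g : G} (hx : g * z * g⁻¹ ∈ P)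
    (hxz : g * z * g⁻¹ ∉ Subgroup.zpowers z) : Ind (g * z * g⁻¹) z (1 : ZMod p) (-1) 0 1 := by
  set x := g * z * g⁻¹ with hxdef
  have h' : ESZ p (P.map (MulAut.conj g).toMonoidHom) x := h.map (MulAut.conj g).injective
  have hle : P.map (MulAut.conj g).toMonoidHom ≤ 𝐂[x] := fun u hu =>
    Subgroup.mem_centralizer_singleton_iff.2 (h'.commute_z hu).eq
  obtain ⟨c, hc, h1⟩ := Tr.exists_conj_le_sylowIn h'.isPGroup
    (fun hd => hP (Tr.index_map_conj P g ▸ hd.trans (Subgroup.relIndex_dvd_index_of_le hle)))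
    (h.isPGroup.to_le h.zpowers_le) (Subgroup.zpowers_le.2
      (Subgroup.mem_centralizer_singleton_iff.2 (h.commute_z hx).eq.symm))
  have hcx : c * x * c⁻¹ = x := by
    rw [Subgroup.mem_centralizer_singleton_iff.1 hc]; group
  obtain ⟨y, hy, hxy⟩ := h'.exists_commutator_eq (h1 z (Subgroup.mem_zpowers z)) (by
    intro h2
    have h3 : z ∈ Subgroup.zpowers x := by
      have := Tr.inv_conj_mem_of_mem_normalizer (mem_norm_zpowers (t := c) (by
        rw [hcx]; exact Subgroup.mem_zpowers x)) h2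
      simpa [mul_assoc] using this
    exact hxz (h'.zpowers_eq_of_mem h3 h.z_ne_one ▸ Subgroup.mem_zpowers x))
  refine ⟨c⁻¹ * y * c, ?_, ?_⟩
  · rw [zp_one, zp_zero, mul_one]
    calc _ = c⁻¹ * (y * (c * x * c⁻¹) * y⁻¹) * c := by group
      _ = c⁻¹ * (c * x * c⁻¹) * c := by rw [hcx, (h'.commute_z hy).eq]; group
      _ = x := by group
  · rw [zp_one, zp_neg_one h'.z_pow]
    calc _ = c⁻¹ * (⁅c * z * c⁻¹, y⁆⁻¹ * (c * z * c⁻¹)) * c := by
          rw [commutatorElement_def]; group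
      _ = c⁻¹ * ((c * x * c⁻¹)⁻¹ * (c * z * c⁻¹)) * c := by rw [hxy, hcx]
      _ = _ := by group

/-- Coordinates on `P / Z(P)`. -/
structure Coord (P : Subgroup G) (z : G) (Φ : 𝐍(P) →* PGL(2, ZMod p))
    (c : G → Fin 2 → ZMod p) : Prop where
  mul : ∀ u ∈ P, ∀ v ∈ P, c (u * v) = c u + c v
  eq_zero : ∀ u ∈ P, c u = 0 ↔ u ∈ Subgroup.zpowers z
  surj : ∀ v, ∃ u ∈ P, c u = v
  mat : ∀ n : 𝐍(P), ∃ M : M2 (ZMod p), M.det ≠ 0 ∧ Φ n = pm M ∧
    ∀ u ∈ P, c (n * u * (n : G)⁻¹) = M *ᵥ c u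

theorem exists_coord (h : ESZ p P z) (hcard : Nat.card P = p ^ 3) :
    ∃ Φ c, Coord (p := p) P z Φ c := by
  classical
  set Z := (Subgroup.zpowers z).subgroupOf P
  have hZ : Z.Normal := Subgroup.normal_subgroupOf_of_le_normalizer
    (h.le_normalizer_of_zpowers_le le_rfl h.zpowers_le)
  obtain ⟨e⟩ := nonempty_mulEquiv_pi_zmod (G := P ⧸ Z) (p := p) (n := 2) ⟨⟨fun a b => by
    induction a using QuotientGroup.induction_on with | H a => ?_
    induction b using QuotientGroup.induction_on with | H b => ?_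
    rw [← commutatorElement_eq_one_iff_mul_comm]
    exact (QuotientGroup.eq_one_iff ⁅a, b⁆).2 (h.comm_mem a a.2 b b.2)⟩⟩ (fun a => by
    induction a using QuotientGroup.induction_on with | H a => ?_
    exact (QuotientGroup.eq_one_iff (a ^ p)).2 (h.pow_mem a a.2)) (by
    have := Subgroup.card_eq_card_quotient_mul_card_subgroup Z
    rw [hcard, Nat.card_congr (Subgroup.subgroupOfEquivOfLe h.zpowers_le).toEquiv, h.card_zpowers,
      pow_succ] at this
    exact (Nat.eq_of_mul_eq_mul_right hp.out.pos this).symm)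
  have hinv : CopAct.ActInv (Subgroup.normalizerMonoidHom P) Z := fun n u hu => by
    have h1 : 𝐍(P) ≤ 𝐍(Subgroup.zpowers z) := h.center_eq ▸ CopAct.le_normalizer_inf le_rfl
      (CopAct.le_normalizer_centralizer le_rfl)
    exact CopAct.conj_mem h1 n.2 hu
  let M : 𝐍(P) →* M2 (ZMod p) := (LinearMap.toMatrixAlgEquiv' (R := ZMod p)
    (n := Fin 2)).toMonoidHom.comp ((FG.H93.linOf e).comp (CopAct.quotHom _ Z hinv))
  have hM : ∀ n, (M n).det ≠ 0 := fun n =>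
    ((isUnit_iff_isUnit_det _).1 ((Group.isUnit n).map M)).ne_zero
  refine ⟨⟨⟨fun n => pm (M n), by rw [map_one, pm_one]⟩, fun a b => by
    simp only [map_mul, pm_mul (hM a) (hM b)]⟩,
    fun u => if hu : u ∈ P then (e (⟨u, hu⟩ : P)).toAdd else 0, fun u hu v hv => ?_,
    fun u hu => ?_, fun v => ?_, fun n => ⟨M n, hM n, rfl, fun u hu => ?_⟩⟩
  · rw [dif_pos hu, dif_pos hv, dif_pos (mul_mem hu hv), ← toAdd_mul, ← map_mul]; rfl
  · rw [dif_pos hu, toAdd_eq_zero, EmbeddingLike.map_eq_one_iff, QuotientGroup.eq_one_iff]; rfl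
  · obtain ⟨u, hu⟩ := FG.H93.exists_toAdd e v
    induction u using QuotientGroup.induction_on with | H u => ?_
    exact ⟨u, u.2, by rw [dif_pos u.2]; exact hu⟩
  · rw [dif_pos hu, dif_pos (CopAct.conj_mem le_rfl n.2 hu)]
    exact ((LinearMap.toMatrix'_mulVec _ _).trans 
      (FG.H93.linOf_apply e (CopAct.quotHom _ Z hinv n) ((⟨u, hu⟩ : P) : P ⧸ Z))).symm

namespace Coord

variable {Φ : 𝐍(P) →* PGL(2, ZMod p)} {c : G → Fin 2 → ZMod p} (hc : Coord P z Φ c)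
include hc

omit [Finite G] in
theorem pow {u : G} (hu : u ∈ P) (k : ℕ) : c (u ^ k) = (k : ZMod p) • c u := by
  induction k with
  | zero => simpa using (hc.eq_zero 1 P.one_mem).2 (one_mem _)
  | succ k ih => rw [pow_succ, hc.mul _ (pow_mem hu k) _ hu, ih, Nat.cast_succ, add_smul, one_smul]

omit [Finite G] in
theorem zp {u : G} (hu : u ∈ P) (d : ZMod p) : c (zp u d) = d • c u := by
  rw [H78.zp, hc.pow hu, ZMod.natCast_zmod_val]

omit [Finite G] in
theorem exists_eq_of_eq {u v : G} (hu : u ∈ P) (hv : v ∈ P) (h : c u = c v) :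
    ∃ w ∈ Subgroup.zpowers z, u = v * w := by
  refine ⟨v⁻¹ * u, (hc.eq_zero _ (mul_mem (inv_mem hv) hu)).1 ?_, by group⟩
  have := hc.mul v hv _ (mul_mem (inv_mem hv) hu)
  rw [mul_inv_cancel_left, h] at this
  simpa using this

omit [Finite G] in
theorem not_dvd_card (h : ESZ p P z) (hP : ¬ p ∣ P.index) : ¬ p ∣ Nat.card Φ.range := by
  have h1 : P.subgroupOf 𝐍(P) ≤ Φ.ker := fun n hn => by
    obtain ⟨M, h1, h2, h3⟩ := hc.mat n
    have h4 : M = 1 := Matrix.ext_iff_mulVec.2 fun v => by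
      obtain ⟨u, hu, rfl⟩ := hc.surj v
      have h5 := h.comm_mem n hn u hu
      rw [← h3 u hu, one_mulVec, show (n : G) * u * (n : G)⁻¹ = ⁅(n : G), u⁆ * u by
        rw [commutatorElement_def]; group, hc.mul _ (h.zpowers_le h5) _ hu,
        (hc.eq_zero _ (h.zpowers_le h5)).2 h5, zero_add]
    rw [MonoidHom.mem_ker, h2, h4, pm_one]
  rw [← Subgroup.index_ker]
  exact fun hd => hP ((hd.trans (Subgroup.index_dvd_of_le h1)).trans
    (Subgroup.relIndex_dvd_index_of_le Subgroup.le_normalizer))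

omit [Finite G] in
theorem torus (h : ESZ p P z) {x : G} (hx : x ∈ P) (hxz : x ∉ Subgroup.zpowers z) {l : ZMod p}
    (hl : l ≠ 0) {n : G} (hn : n ∈ 𝐍(P))
    (h1 : ∃ w ∈ Subgroup.zpowers z, n * x * n⁻¹ = w * H78.zp x l)
    (h2 : n * z * n⁻¹ = H78.zp z l⁻¹) (h0 : c x ≠ 0) :
    Φ ⟨n, hn⟩ • Projectivization.mk (ZMod p) (c x) h0 = Projectivization.mk (ZMod p) (c x) h0 ∧
      l ^ (3 * orderOf (Φ ⟨n, hn⟩)) = 1 := by
  obtain ⟨M, m1, m2, m3⟩ := hc.mat ⟨n, hn⟩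
  obtain ⟨w, hw, h1⟩ := h1
  have e1 : M *ᵥ c x = l • c x := by
    rw [← m3 x hx, h1, hc.mul _ (h.zpowers_le hw) _ (zp_mem hx l),
      (hc.eq_zero _ (h.zpowers_le hw)).2 hw, zero_add, hc.zp hx]
  refine ⟨by
    rw [m2, pm_smul_mk m1, Projectivization.mk_eq_mk_iff']
    exact ⟨l, e1.symm⟩, ?_⟩
  set k := orderOf (Φ ⟨n, hn⟩)
  have e2 : ∀ k : ℕ, c (n ^ k * x * (n ^ k)⁻¹) = l ^ k • c x := by
    intro k
    induction k with
    | zero => simp
    | succ k ih =>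
      have := m3 _ (CopAct.conj_mem le_rfl (pow_mem hn k) hx)
      rw [ih, mulVec_smul, e1, smul_smul, ← pow_succ] at this
      rw [← this, pow_succ']
      congr 1
      simp [mul_assoc]
  have e3 : ∀ k : ℕ, n ^ k * z * (n ^ k)⁻¹ = H78.zp z (l⁻¹ ^ k) := by
    intro k
    induction k with
    | zero => simp [zp_one]
    | succ k ih =>
      rw [pow_succ', pow_succ', zp_mul h.z_pow, ← h2, ← conj_zp, ← ih]
      group
  obtain ⟨N, n1, n2, n3⟩ := hc.mat (⟨n, hn⟩ ^ k)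
  rw [map_pow, pow_orderOf_eq_one, eq_comm, pm_eq_one_iff' n1] at n2
  obtain ⟨d, rfl⟩ := n2
  simp only [smul_mulVec, one_mulVec, SubmonoidClass.mk_pow] at n3
  obtain rfl : d = l ^ k := smul_left_injective _ h0 ((n3 x hx).symm.trans (e2 k))
  obtain ⟨y, hy, hxy⟩ := h.exists_commutator_eq hx hxz
  have hnk := pow_mem hn k
  obtain ⟨a, ha, e4⟩ := hc.exists_eq_of_eq (CopAct.conj_mem le_rfl hnk hx) (zp_mem hx (l ^ k))
    ((n3 x hx).trans (hc.zp hx _).symm)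
  obtain ⟨b, hb, e5⟩ := hc.exists_eq_of_eq (CopAct.conj_mem le_rfl hnk hy) (zp_mem hy (l ^ k))
    ((n3 y hy).trans (hc.zp hy _).symm)
  have e6 := e3 k
  have hx' := zp_mem hx (l ^ k)
  have hy' := zp_mem hy (l ^ k)
  conv_lhs at e6 => rw [← hxy, conjugate_commutatorElement, e4, e5,
    h.commutator_mul_left hx' (h.zpowers_le ha) (mul_mem hy' (h.zpowers_le hb)),
    h.commutator_mul_right hx' hy' (h.zpowers_le hb),
    (h.commute_of_mem_zpowers hx' hb).commutator_eq,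
    (h.commute_of_mem_zpowers (mul_mem hy' (h.zpowers_le hb)) ha).symm.commutator_eq,
    mul_one, mul_one, H78.zp, H78.zp, ← zpow_natCast x, ← zpow_natCast y,
    h.commutator_zpow_left hx (zpow_mem hy _), h.commutator_zpow_right hx hy, hxy,
    zpow_natCast, zpow_natCast]
  have e7 := zp_injective h.orderOf_z ((zp_mul h.z_pow _ _).trans e6)
  rw [show l ^ (3 * k) = l ^ k * l ^ k * l ^ k by ring, e7, ← mul_pow, inv_mul_cancel₀ hl, one_pow]

end Coord

/-- The point of a plane with `SL₂(p)` automizer is fixed by an element whose order `k` satisfies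
`p - 1 ∣ 3 k`. -/
theorem Coord.exists_fix {Φ : 𝐍(P) →* PGL(2, ZMod p)} {c : G → Fin 2 → ZMod p}
    (hc : Coord P z Φ c) (h : ESZ p P z) (hP : ¬ p ∣ P.index) {x : G} (hx : x ∈ P)
    (hxp : x ^ p = 1) {s : ZMod p} (hs : s ≠ 0) (hb : Ind x z 1 s 0 1) (h0 : c x ≠ 0) :
    ∃ g ∈ Φ.range, g • Projectivization.mk (ZMod p) (c x) h0 =
      Projectivization.mk (ZMod p) (c x) h0 ∧ p - 1 ∣ 3 * orderOf g ∧ 0 < orderOf g := by
  have hxz := mt (hc.eq_zero x hx).2 h0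
  obtain ⟨l, hl⟩ := IsCyclic.exists_ofOrder_eq_natCard (α := (ZMod p)ˣ)
  obtain ⟨n, hn, h1, h2⟩ := exists_torus h hP hx hxz hxp hs hb l.ne_zero
  obtain ⟨h3, h4⟩ := hc.torus h hx hxz l.ne_zero hn h1 h2 h0
  refine ⟨_, ⟨_, rfl⟩, h3, ?_, (Φ.isOfFinOrder (isOfFinOrder_of_finite _)).orderOf_pos⟩
  rw [Nat.card_eq_fintype_card, ZMod.card_units] at hl
  rw [← hl, orderOf_dvd_iff_pow_eq_one]
  exact Units.ext (by simpa using h4)

end Cfsg.Agent.Loc.H78
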